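import Mathlib

set_option autoImplicit false

namespace Cfsg.Agent.Helper9

/-- The Frattini subgroup of a finite elementary abelian `p`-group is trivial. -/
theorem frattini_eq_bot_of_elementary {A : Type*} [CommGroup A] [Finite A] {p : ℕ}
    [hp : Fact p.Prime] (hexp : ∀ a : A, a ^ p = 1) : frattini A = ⊥ := by
  rw [eq_bot_iff]
  intro a ha
  rw [Subgroup.mem_bot]
  by_contra ha1
  have hfin : {M : Subgroup A | a ∉ M}.Finite := Set.toFinite _
  have hbot : (⊥ : Subgroup A) ∈ {M : Subgroup A | a ∉ M} := by
    simp only [Set.mem_setOf_eq, Subgroup.mem_bot]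
    exact ha1
  obtain ⟨M, -, hM, hMmax⟩ := hfin.exists_le_maximal hbot
  have haM : a ∉ M := hM
  have hcoatom : IsCoatom M := by
    refine ⟨fun h => haM (h ▸ Subgroup.mem_top a), ?_⟩
    intro N hMN
    have haN : a ∈ N := by
      by_contra h
      exact absurd (hMmax h hMN.le) (not_le_of_gt hMN)
    rw [eq_top_iff]
    intro x _
    by_cases hxM : x ∈ M
    · exact hMN.le hxM
    · have hlt : M < M ⊔ Subgroup.zpowers x := by
        refine lt_of_le_of_ne le_sup_left ?_
        intro h
        apply hxM
        rw [h]
        exact (le_sup_right : Subgroup.zpowers x ≤ _) (Subgroup.mem_zpowers x)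
      have haS : a ∈ M ⊔ Subgroup.zpowers x := by
        by_contra h
        exact absurd (hMmax h hlt.le) (not_le_of_gt hlt)
      obtain ⟨m, hm, y, hy, hmy⟩ := Subgroup.mem_sup.mp haS
      obtain ⟨k, rfl⟩ := Subgroup.mem_zpowers_iff.mp hy
      -- x ^ k = m⁻¹ * a ∈ N
      have hxkN : x ^ k ∈ N := by
        have : x ^ k = m⁻¹ * a := by rw [← hmy, inv_mul_cancel_left]
        rw [this]
        exact N.mul_mem (N.inv_mem (hMN.le hm)) haN
      have hxkM : x ^ k ∉ M := by
        intro h
        apply haM
        rw [← hmy]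
        exact M.mul_mem hm h
      have hpk : ¬ (p : ℤ) ∣ k := by
        rintro ⟨j, rfl⟩
        apply hxkM
        rw [zpow_mul, zpow_natCast, hexp, one_zpow]
        exact M.one_mem
      have hcop : IsCoprime k (p : ℤ) := by
        have hpp : Prime (p : ℤ) := Nat.prime_iff_prime_int.mp hp.out
        exact ((hpp.coprime_iff_not_dvd).mpr hpk).symm
      obtain ⟨u, v, huv⟩ := hcop
      -- u * k + v * p = 1
      have hx : x = (x ^ k) ^ u := by
        have h1 : x ^ (u * k + v * (p : ℤ)) = x := by rw [huv, zpow_one]
        rw [zpow_add, zpow_mul x v, zpow_natCast, hexp, mul_one] at h1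
        rw [← zpow_mul, mul_comm k u]
        exact h1.symm
      rw [hx]
      exact N.zpow_mem hxkN u
  exact haM (frattini_le_coatom hcoatom ha)

/-- The Frattini subgroup lies in the kernel of every homomorphism into an abelian group of
prime exponent. -/
theorem frattini_le_ker_of_elementary {P A : Type*} [Group P] [Group A] [Finite P] {p : ℕ}
    [hp : Fact p.Prime] (φ : P →* A) (hcomm : ∀ a b : A, a * b = b * a)
    (hexp : ∀ a : A, a ^ p = 1) : frattini P ≤ φ.ker := by
  have hfin : Finite φ.range := Finite.of_surjective φ.rangeRestrict φ.rangeRestrict_surjective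
  letI : CommGroup φ.range :=
    { (inferInstance : Group φ.range) with
      mul_comm := fun a b => Subtype.ext (hcomm a b) }
  have hexp' : ∀ a : φ.range, a ^ p = 1 := fun a => Subtype.ext (by simpa using hexp a)
  have h1 : frattini φ.range = ⊥ := frattini_eq_bot_of_elementary hexp'
  have h2 := frattini_le_comap_frattini_of_surjective (φ := φ.rangeRestrict)
    φ.rangeRestrict_surjective
  rw [h1] at h2
  intro x hx
  have h3 := h2 hx
  rw [Subgroup.mem_comap, Subgroup.mem_bot] at h3
  rw [MonoidHom.mem_ker]
  have := congrArg Subtype.val h3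
  simpa using this

end Cfsg.Agent.Helper9
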