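import Mathlib
import Cfsg.Prelude.Def_CaseTheorems
import Cfsg.Prelude.Def_Local
import Cfsg.Agent.Lib.Helper22.PPrimeCore
import Cfsg.Agent.Lib.Helper15.PCore

set_option autoImplicit false

namespace Cfsg.Agent.Helper9

open Cfsg

universe u

/-- A subnormal subgroup of order prime to `p` of a finite group lies in `O_{p'}`. -/
theorem subnormal_pPrime_le_pPrimeCore_aux (p : ℕ) : ∀ (n : ℕ) (G : Type u) [Group G] [Finite G],
    Nat.card G = n → ∀ H : Subgroup G, H.IsSubnormal → (Nat.card H).Coprime p →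
      H ≤ pPrimeCore p G := by
  intro n
  induction n using Nat.strong_induction_on with
  | _ n ih =>
  intro G _ _ hn H hH hcop
  by_cases hHt : H = ⊤
  · subst hHt
    exact Cfsg.Agent.Helper22.le_pPrimeCore p ⊤ inferInstance hcop
  obtain ⟨N, hNn, hHN, hNt⟩ := hH.exists_normal_and_le_and_lt_top_of_ne hHt
  have hcard : Nat.card N < n := by
    rw [← hn]
    apply lt_of_le_of_ne N.card_le_card_group
    intro h
    exact hNt.ne (Subgroup.eq_top_of_card_eq N h)
  have hcop' : (Nat.card (H.subgroupOf N)).Coprime p := by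
    rw [Nat.card_congr (Subgroup.subgroupOfEquivOfLe hHN).toEquiv]
    exact hcop
  have h1 := ih _ hcard N rfl (H.subgroupOf N) hH.subgroupOf hcop'
  have h2 := Subgroup.map_mono (f := N.subtype) h1
  rw [Subgroup.map_subgroupOf_eq_of_le hHN] at h2
  exact h2.trans (Cfsg.Agent.Helper22.pPrimeCore_subgroup_le p N)

theorem subnormal_pPrime_le_pPrimeCore {G : Type u} [Group G] [Finite G] (p : ℕ) (H : Subgroup G)
    (hH : H.IsSubnormal) (hcop : (Nat.card H).Coprime p) : H ≤ pPrimeCore p G :=
  subnormal_pPrime_le_pPrimeCore_aux p _ G rfl H hH hcop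

/-- `O_{p'}(X / O_{p'}(X)) = 1` for a finite group `X`. -/
theorem pPrimeCore_quotient_eq_bot {X : Type u} [Group X] [Finite X] (p : ℕ) [hp : Fact p.Prime] :
    pPrimeCore p (X ⧸ pPrimeCore p X) = ⊥ := by
  rw [eq_bot_iff]
  have hM : (Nat.card (pPrimeCore p (X ⧸ pPrimeCore p X))).Coprime p :=
    Cfsg.Agent.Helper22.card_pPrimeCore_coprime p
  have hO : (Nat.card (pPrimeCore p X)).Coprime p := Cfsg.Agent.Helper22.card_pPrimeCore_coprime p
  have hcomap : (pPrimeCore p (X ⧸ pPrimeCore p X)).comap (QuotientGroup.mk' (pPrimeCore p X)) ≤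
      pPrimeCore p X := by
    apply Cfsg.Agent.Helper22.le_pPrimeCore
    · exact Subgroup.Normal.comap inferInstance _
    · rw [Nat.coprime_comm, Nat.Prime.coprime_iff_not_dvd hp.out]
      intro hdvd
      obtain ⟨x, hx⟩ := exists_prime_orderOf_dvd_card' p hdvd
      have hxmem : QuotientGroup.mk' (pPrimeCore p X) (x : X) ∈ pPrimeCore p (X ⧸ pPrimeCore p X) :=
        x.2
      -- the image of x has order dividing p and coprime to p
      have hxo : orderOf (x : X) = p := (Subgroup.orderOf_coe x).trans hx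
      have h1 : orderOf (QuotientGroup.mk' (pPrimeCore p X) (x : X)) ∣ p := by
        have := orderOf_map_dvd (QuotientGroup.mk' (pPrimeCore p X)) (x : X)
        rwa [hxo] at this
      have h2 : orderOf (QuotientGroup.mk' (pPrimeCore p X) (x : X)) ∣
          Nat.card (pPrimeCore p (X ⧸ pPrimeCore p X)) := by
        have := orderOf_dvd_natCard (⟨_, hxmem⟩ : pPrimeCore p (X ⧸ pPrimeCore p X))
        rwa [Subgroup.orderOf_mk] at this
      have h3 : orderOf (QuotientGroup.mk' (pPrimeCore p X) (x : X)) = 1 :=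
        Nat.eq_one_of_dvd_coprimes hM h2 h1
      rw [orderOf_eq_one_iff, QuotientGroup.mk'_apply, QuotientGroup.eq_one_iff] at h3
      -- so x ∈ O_{p'}(X), of order p
      have h4 : p ∣ Nat.card (pPrimeCore p X) := by
        have := orderOf_dvd_natCard (⟨(x : X), h3⟩ : pPrimeCore p X)
        rwa [Subgroup.orderOf_mk, hxo] at this
      have h5 : p ∣ 1 := by
        have := Nat.dvd_gcd h4 (dvd_refl p)
        rwa [hO] at this
      exact hp.out.one_lt.ne' (Nat.dvd_one.mp h5)
  intro y hy
  obtain ⟨x, rfl⟩ := QuotientGroup.mk'_surjective (pPrimeCore p X) y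
  have : x ∈ pPrimeCore p X := hcomap hy
  rw [Subgroup.mem_bot, QuotientGroup.mk'_apply, QuotientGroup.eq_one_iff]
  exact this

/-- The centre of a component of `X / O_{p'}(X)` is a `p`-group. -/
theorem center_component_isPGroup {X : Type u} [Group X] [Finite X] (p : ℕ) [hp : Fact p.Prime]
    (K : Subgroup (X ⧸ pPrimeCore p X)) (hK : IsComponent K) :
    IsPGroup p (Subgroup.center ↥K) := by
  apply Cfsg.Agent.Helper15.isPGroup_of_forall_coprime_eq_one
  intro c hc hcop
  have hn : (Subgroup.zpowers c).Normal := by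
    constructor
    intro n hn g
    have hcen : n ∈ Subgroup.center ↥K := by
      obtain ⟨k, rfl⟩ := Subgroup.mem_zpowers_iff.mp hn
      exact Subgroup.zpow_mem _ hc k
    have h1 : g * n * g⁻¹ = n := by
      rw [Subgroup.mem_center_iff.mp hcen g, mul_inv_cancel_right]
    rw [h1]; exact hn
  have hsn : ((Subgroup.zpowers c).map K.subtype).IsSubnormal :=
    Subgroup.IsSubnormal.trans' hn.isSubnormal hK.1
  have hcard : (Nat.card ((Subgroup.zpowers c).map K.subtype)).Coprime p := by
    rw [Subgroup.card_map_of_injective K.subtype_injective, Nat.card_zpowers]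
    exact hcop
  have hle := subnormal_pPrime_le_pPrimeCore p _ hsn hcard
  rw [pPrimeCore_quotient_eq_bot] at hle
  have h2 : (c : X ⧸ pPrimeCore p X) ∈ (Subgroup.zpowers c).map K.subtype :=
    ⟨c, Subgroup.mem_zpowers c, rfl⟩
  have h3 := hle h2
  rw [Subgroup.mem_bot] at h3
  exact Subtype.ext h3

/-- A quotient `K / Z(K)` of a subgroup `K` of `X / O` is a section of `X`. -/
theorem exists_section_equiv {X : Type u} [Group X] (O : Subgroup X) [O.Normal]
    (K : Subgroup (X ⧸ O)) :
    ∃ (H : Subgroup X) (N : Subgroup H) (_ : N.Normal),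
      Nonempty (H ⧸ N ≃* ↥K ⧸ Subgroup.center ↥K) := by
  obtain ⟨ψ, hψ⟩ : ∃ ψ : K.comap (QuotientGroup.mk' O) →* ↥K, Function.Surjective ψ := by
    refine ⟨((QuotientGroup.mk' O).comp (K.comap (QuotientGroup.mk' O)).subtype).codRestrict K
      (fun h => h.2), ?_⟩
    rintro ⟨k, hk⟩
    obtain ⟨x, rfl⟩ := QuotientGroup.mk'_surjective O k
    exact ⟨⟨x, hk⟩, rfl⟩
  have hφ : Function.Surjective ((QuotientGroup.mk' (Subgroup.center ↥K)).comp ψ) :=
    (QuotientGroup.mk'_surjective _).comp hψ
  exact ⟨_, ((QuotientGroup.mk' (Subgroup.center ↥K)).comp ψ).ker, inferInstance,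
    ⟨QuotientGroup.quotientKerEquivOfSurjective _ hφ⟩⟩

end Cfsg.Agent.Helper9
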