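import Mathlib
import Cfsg.Agent.Lib.Helper9.Basic

set_option autoImplicit false

namespace Cfsg.Agent.Helper9

open scoped Pointwise

/-- Any `p`-subgroup can be conjugated into a given Sylow `p`-subgroup. -/
theorem exists_conj_le_sylow {H : Type*} [Group H] [Finite H] {p : ℕ} [Fact p.Prime]
    (R : Sylow p H) (Q : Subgroup H) (hQ : IsPGroup p Q) :
    ∃ c : H, ∀ q ∈ Q, c * q * c⁻¹ ∈ R := by
  obtain ⟨R₁, hR₁⟩ := hQ.exists_le_sylow
  obtain ⟨c, hc⟩ := MulAction.exists_smul_eq H R₁ R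
  refine ⟨c, fun q hq => ?_⟩
  have h1 : q ∈ (R₁ : Subgroup H) := hR₁ hq
  have h2 : MulAut.conj c • q ∈ MulAut.conj c • (R₁ : Subgroup H) :=
    Subgroup.smul_mem_pointwise_smul _ _ _ h1
  have h3 : (MulAut.conj c • (R₁ : Subgroup H)) = ((c • R₁ : Sylow p H) : Subgroup H) := by
    rw [Sylow.smul_def]; rfl
  rw [h3, hc] at h2
  have h4 : c * q * c⁻¹ ∈ (R : Subgroup H) := by
    simpa [MulAut.smul_def, MulAut.conj_apply] using h2
  exact h4

/-- An element of `p`-power order can be conjugated into a given Sylow `p`-subgroup. -/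
theorem exists_conj_mem_sylow {H : Type*} [Group H] [Finite H] {p : ℕ} [Fact p.Prime]
    (R : Sylow p H) (y : H) (hy : ∃ k : ℕ, orderOf y = p ^ k) :
    ∃ c : H, c * y * c⁻¹ ∈ R := by
  obtain ⟨k, hk⟩ := hy
  have hp : IsPGroup p (Subgroup.zpowers y) := by
    apply IsPGroup.of_card (n := k)
    rw [Nat.card_zpowers, hk]
  obtain ⟨c, hc⟩ := exists_conj_le_sylow R _ hp
  exact ⟨c, hc y (Subgroup.mem_zpowers y)⟩

end Cfsg.Agent.Helper9
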