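import Mathlib
import Cfsg.Prelude.Def_CaseTheorems

set_option autoImplicit false

namespace Cfsg.Agent.Helper9

open Cfsg
open scoped Pointwise

universe u

section basic

variable {G : Type*} [Group G]

theorem pCore_isPGroup' (p : ℕ) (G : Type*) [Group G] : IsPGroup p (pCore p G) :=
  Sylow.sSup_of_normal _ (fun _ h => h.2) (fun _ h => h.1)

theorem le_pCore' {p : ℕ} {N : Subgroup G} (hN : N.Normal) (hp : IsPGroup p N) : N ≤ pCore p G :=
  le_sSup ⟨hN, hp⟩

theorem pCore_characteristic (p : ℕ) : (pCore p G).Characteristic := by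
  rw [Subgroup.characteristic_iff_map_le]
  intro φ
  rw [Subgroup.map_le_iff_le_comap]
  unfold pCore
  apply sSup_le
  rintro N ⟨hNn, hN⟩
  rw [← Subgroup.map_le_iff_le_comap]
  apply le_sSup
  exact ⟨hNn.map φ.toMonoidHom φ.surjective, hN.map _⟩

/-- `O_p` of a normal subgroup lies in `O_p`. -/
theorem map_subtype_pCore_le (p : ℕ) (N : Subgroup G) [N.Normal] :
    (pCore p ↥N).map N.subtype ≤ pCore p G := by
  have : (pCore p ↥N).Characteristic := pCore_characteristic p
  have : ((pCore p ↥N).map N.subtype).Normal := ConjAct.normal_of_characteristic_of_normal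
  exact le_pCore' inferInstance ((pCore_isPGroup' p ↥N).map _)

end basic

/-- A subnormal `p`-subgroup of a finite group lies in `O_p`. -/
theorem subnormal_pGroup_le_pCore_aux (p : ℕ) : ∀ (n : ℕ) (G : Type u) [Group G] [Finite G],
    Nat.card G = n → ∀ H : Subgroup G, H.IsSubnormal → IsPGroup p H → H ≤ pCore p G := by
  intro n
  induction n using Nat.strong_induction_on with
  | _ n ih =>
  intro G _ _ hn H hH hp
  by_cases hHt : H = ⊤
  · subst hHt
    exact le_pCore' inferInstance hp
  obtain ⟨N, hNn, hHN, hNt⟩ := hH.exists_normal_and_le_and_lt_top_of_ne hHt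
  have hcard : Nat.card N < n := by
    rw [← hn]
    apply lt_of_le_of_ne N.card_le_card_group
    intro h
    exact hNt.ne (Subgroup.eq_top_of_card_eq N h)
  have h1 := ih _ hcard N rfl (H.subgroupOf N) hH.subgroupOf hp.comap_subtype
  have h2 := Subgroup.map_mono (f := N.subtype) h1
  rw [Subgroup.map_subgroupOf_eq_of_le hHN] at h2
  exact h2.trans (map_subtype_pCore_le p N)

theorem subnormal_pGroup_le_pCore {G : Type u} [Group G] [Finite G] (p : ℕ) (H : Subgroup G)
    (hH : H.IsSubnormal) (hp : IsPGroup p H) : H ≤ pCore p G :=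
  subnormal_pGroup_le_pCore_aux p _ G rfl H hH hp

/-- Lemma Q: if `u` (of `p`-power order) normalizes `B`, `b ∈ B` and `u * b` is a `p'`-element,
then `u * b ∈ B`. -/
theorem mul_mem_of_coprime_of_normalizes {G : Type*} [Group G] [Finite G] {p : ℕ}
    (B : Subgroup G) (u b : G)
    (hb : b ∈ B) (hnorm : ∀ x ∈ B, u⁻¹ * x * u ∈ B) (k : ℕ) (hu : u ^ (p ^ k) = 1)
    (hcop : (orderOf (u * b)).Coprime p) : u * b ∈ B := by
  have hpow : ∀ n : ℕ, ∃ b' ∈ B, (u * b) ^ n = u ^ n * b' := by
    intro n
    induction n with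
    | zero => exact ⟨1, B.one_mem, by simp⟩
    | succ n ih =>
      obtain ⟨b', hb', h⟩ := ih
      refine ⟨u⁻¹ * b' * u * b, B.mul_mem (hnorm b' hb') hb, ?_⟩
      rw [pow_succ, h, pow_succ]
      group
  obtain ⟨b', hb', h⟩ := hpow (p ^ k)
  rw [hu, one_mul] at h
  have hmem : (u * b) ^ (p ^ k) ∈ B := h ▸ hb'
  by_cases h1 : orderOf (u * b) = 1
  · rw [orderOf_eq_one_iff] at h1
    rw [h1]; exact B.one_mem
  · have hcop' : (p ^ k).Coprime (orderOf (u * b)) := (hcop.pow_right k).symm
    have hpos : 0 < orderOf (u * b) := orderOf_pos _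
    have hlt : 1 < orderOf (u * b) := by omega
    obtain ⟨j, -, hj⟩ := Nat.exists_mul_mod_eq_one_of_coprime hcop' hlt
    have h2 : ((u * b) ^ (p ^ k)) ^ j = u * b := by
      rw [← pow_mul, ← pow_mod_orderOf, hj, pow_one]
    rw [← h2]
    exact B.pow_mem hmem j

/-- Lemma ML: a normal `p`-subgroup `P` of a finite group normalizes every subnormal subgroup `B`
generated by `p'`-elements. -/
theorem normal_pGroup_normalizes_aux (p : ℕ) : ∀ (n : ℕ) (G : Type u) [Group G] [Finite G],
    Nat.card G = n → ∀ P B : Subgroup G, P.Normal → IsPGroup p P → B.IsSubnormal →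
      B ≤ Subgroup.closure {g : G | g ∈ B ∧ (orderOf g).Coprime p} →
      ∀ u ∈ P, ∀ x ∈ B, u * x * u⁻¹ ∈ B := by
  intro n
  induction n using Nat.strong_induction_on with
  | _ n ih =>
  intro G _ _ hn P B hPn hPp hBsn hBgen
  -- transfer of the generation hypothesis to a subgroup containing B
  have hgen_sub : ∀ X : Subgroup G, B ≤ X →
      B.subgroupOf X ≤ Subgroup.closure {g : X | g ∈ B.subgroupOf X ∧ (orderOf g).Coprime p} := by
    intro X hBX
    have hcl : Subgroup.closure {g : G | g ∈ B ∧ (orderOf g).Coprime p} ≤ B :=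
      (Subgroup.closure_le _).mpr (fun g hg => hg.1)
    have key : ∀ g (hg : g ∈ Subgroup.closure {g : G | g ∈ B ∧ (orderOf g).Coprime p}),
        (⟨g, hBX (hcl hg)⟩ : X) ∈
          Subgroup.closure {g : X | g ∈ B.subgroupOf X ∧ (orderOf g).Coprime p} := by
      intro g hg
      induction hg using Subgroup.closure_induction with
      | mem x hx =>
        apply Subgroup.subset_closure
        refine ⟨by rw [Subgroup.mem_subgroupOf]; exact hx.1, ?_⟩
        rw [Subgroup.orderOf_mk]; exact hx.2
      | one => exact Subgroup.one_mem _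
      | mul x y hx hy ihx ihy =>
        have := Subgroup.mul_mem _ ihx ihy
        exact this
      | inv x hx ihx =>
        have := Subgroup.inv_mem _ ihx
        exact this
    intro b hb
    rw [Subgroup.mem_subgroupOf] at hb
    exact key (b : G) (hBgen hb)
  by_cases hX : P ⊔ B = ⊤
  · by_cases hBt : B = ⊤
    · intro u _ x _
      rw [hBt]; exact Subgroup.mem_top _
    · obtain ⟨N, hNn, hBN, hNt⟩ := hBsn.exists_normal_and_le_and_lt_top_of_ne hBt
      have hcard : Nat.card N < n := by
        rw [← hn]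
        apply lt_of_le_of_ne N.card_le_card_group
        intro h
        exact hNt.ne (Subgroup.eq_top_of_card_eq N h)
      have hIH := ih _ hcard N rfl (P.subgroupOf N) (B.subgroupOf N) (hPn.subgroupOf N)
        hPp.comap_subtype hBsn.subgroupOf (hgen_sub N hBN)
      have hPN : ∀ u ∈ P, u ∈ N → ∀ x ∈ B, u * x * u⁻¹ ∈ B := by
        intro u hu huN x hx
        have := hIH ⟨u, huN⟩ (by rw [Subgroup.mem_subgroupOf]; exact hu) ⟨x, hBN hx⟩
          (by rw [Subgroup.mem_subgroupOf]; exact hx)
        rw [Subgroup.mem_subgroupOf] at this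
        exact this
      have hclaim : ∀ g ∈ N, (orderOf g).Coprime p → g ∈ B := by
        intro g hgN hcop
        have hg : g ∈ ((P ⊔ B : Subgroup G) : Set G) := by rw [hX]; trivial
        rw [Subgroup.normal_mul] at hg
        obtain ⟨u, hu, b, hb, rfl⟩ := Set.mem_mul.mp hg
        have huN : u ∈ N := by
          have : u = u * b * b⁻¹ := by group
          rw [this]
          exact N.mul_mem hgN (N.inv_mem (hBN hb))
        obtain ⟨k, hk⟩ := hPp ⟨u, hu⟩
        have hk' : u ^ (p ^ k) = 1 := by
          have := congrArg Subtype.val hk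
          simpa using this
        apply mul_mem_of_coprime_of_normalizes B u b hb _ k hk' hcop
        intro x hx
        have := hPN u⁻¹ (P.inv_mem hu) (N.inv_mem huN) x hx
        rwa [inv_inv] at this
      intro u _ x hx
      have hx' := hBgen hx
      induction hx' using Subgroup.closure_induction with
      | mem s hs =>
        apply hclaim
        · exact hNn.conj_mem s (hBN hs.1) u
        · rw [← (SemiconjBy.conj_mk u s).orderOf_eq u]
          exact hs.2
      | one => simp [B.one_mem]
      | mul a b _ _ iha ihb =>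
        have hcl : Subgroup.closure {g : G | g ∈ B ∧ (orderOf g).Coprime p} ≤ B :=
          (Subgroup.closure_le _).mpr (fun g hg => hg.1)
        have e : u * (a * b) * u⁻¹ = (u * a * u⁻¹) * (u * b * u⁻¹) := by group
        rw [e]
        exact B.mul_mem (iha (hcl ‹_›)) (ihb (hcl ‹_›))
      | inv a _ iha =>
        have hcl : Subgroup.closure {g : G | g ∈ B ∧ (orderOf g).Coprime p} ≤ B :=
          (Subgroup.closure_le _).mpr (fun g hg => hg.1)
        have e : u * a⁻¹ * u⁻¹ = (u * a * u⁻¹)⁻¹ := by group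
        rw [e]
        exact B.inv_mem (iha (hcl ‹_›))
  · have hXlt : P ⊔ B < ⊤ := lt_top_iff_ne_top.mpr hX
    have hcard : Nat.card (P ⊔ B : Subgroup G) < n := by
      rw [← hn]
      apply lt_of_le_of_ne (Subgroup.card_le_card_group _)
      intro h
      exact hX (Subgroup.eq_top_of_card_eq _ h)
    have hIH := ih _ hcard (P ⊔ B : Subgroup G) rfl (P.subgroupOf (P ⊔ B)) (B.subgroupOf (P ⊔ B))
      (hPn.subgroupOf _) hPp.comap_subtype hBsn.subgroupOf (hgen_sub _ le_sup_right)
    intro u hu x hx
    have := hIH ⟨u, (le_sup_left : P ≤ P ⊔ B) hu⟩ (by rw [Subgroup.mem_subgroupOf]; exact hu)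
      ⟨x, (le_sup_right : B ≤ P ⊔ B) hx⟩ (by rw [Subgroup.mem_subgroupOf]; exact hx)
    rw [Subgroup.mem_subgroupOf] at this
    exact this

theorem normal_pGroup_normalizes {G : Type u} [Group G] [Finite G] (p : ℕ) (P B : Subgroup G)
    (hPn : P.Normal) (hPp : IsPGroup p P) (hBsn : B.IsSubnormal)
    (hBgen : B ≤ Subgroup.closure {g : G | g ∈ B ∧ (orderOf g).Coprime p}) :
    ∀ u ∈ P, ∀ x ∈ B, u * x * u⁻¹ ∈ B :=
  normal_pGroup_normalizes_aux p _ G rfl P B hPn hPp hBsn hBgen

end Cfsg.Agent.Helper9
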