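import Mathlib
import Cfsg.Prelude.Def_PLocal
import Cfsg.Agent.Lib.Helper9.Basic
import Cfsg.Agent.Lib.Helper15.CentrallyLarge

set_option autoImplicit false

namespace Cfsg.Agent.Helper9

open Subgroup

variable {G : Type*} [Group G]

theorem card_eq_card_mul_relIndex {H K : Subgroup G} (h : H ≤ K) :
    Nat.card K = Nat.card H * H.relIndex K := by
  have h1 := (H.subgroupOf K).card_mul_index
  rw [← h1, Subgroup.relIndex, Nat.card_congr (Subgroup.subgroupOfEquivOfLe h).toEquiv]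

/-- an injection of coset spaces from a map with the fibre property -/
theorem relIndex_le_relIndex_of_map [Finite G] (A M A' : Subgroup G) (σ : G → G)
    (hσM : ∀ a ∈ A, σ a ∈ M)
    (hσ : ∀ a ∈ A, ∀ a' ∈ A, (σ a)⁻¹ * σ a' ∈ A' → a⁻¹ * a' ∈ A') :
    A'.relIndex A ≤ A'.relIndex M := by
  classical
  unfold Subgroup.relIndex Subgroup.index
  let f : (A ⧸ A'.subgroupOf A) → (M ⧸ A'.subgroupOf M) := fun q =>
    QuotientGroup.mk ⟨σ (q.out : A), hσM _ (q.out : A).2⟩
  apply Nat.card_le_card_of_injective f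
  intro q q' h
  have h1 := QuotientGroup.eq.mp h
  rw [Subgroup.mem_subgroupOf] at h1
  have h2 := hσ _ (q.out).2 _ (q'.out).2 (by simpa using h1)
  rw [← QuotientGroup.out_eq' q, ← QuotientGroup.out_eq' q']
  apply QuotientGroup.eq.mpr
  rw [Subgroup.mem_subgroupOf]
  simpa using h2

/-- the subgroup generated by the commutators of `x` with the elements of `A` -/
def commSub (A : Subgroup G) (x : G) : Subgroup G :=
  closure {y | ∃ a ∈ A, y = a * x * a⁻¹ * x⁻¹}

theorem commSub_le {A B : Subgroup G} (hnorm : ∀ a ∈ A, ∀ b ∈ B, a * b * a⁻¹ ∈ B) {x : G}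
    (hx : x ∈ B) : commSub A x ≤ B := by
  unfold commSub
  rw [closure_le]
  rintro y ⟨a, ha, rfl⟩
  exact B.mul_mem (hnorm a ha x hx) (B.inv_mem hx)

theorem mem_commSub {A : Subgroup G} {x a : G} (ha : a ∈ A) : a * x * a⁻¹ * x⁻¹ ∈ commSub A x :=
  Subgroup.subset_closure ⟨a, ha, rfl⟩

/-- The core of Thompson's replacement theorem: for `A` abelian of largest order normalizing the
abelian subgroup `B` and `x ∈ B`, the subgroup `[x, A] C_A([x, A])` is again abelian of largest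
order. -/
theorem thompson_replacement_core [Finite G] {A : Subgroup G}
    (hA : A ∈ Cfsg.maxAbelianSubgroups G)
    (B : Subgroup G) (hB : ∀ b ∈ B, ∀ b' ∈ B, b * b' = b' * b)
    (hnorm : ∀ a ∈ A, ∀ b ∈ B, a * b * a⁻¹ ∈ B) (x : G) (hx : x ∈ B) :
    A ⊓ B ≤ A ⊓ centralizer (commSub A x : Set G) ∧
    (commSub A x ⊔ (A ⊓ centralizer (commSub A x : Set G))) ∈ Cfsg.maxAbelianSubgroups G := by
  classical
  set M := commSub A x with hM
  set C := A ⊓ centralizer (M : Set G) with hC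
  have hAc : ∀ a ∈ A, ∀ a' ∈ A, a * a' = a' * a := fun a ha a' ha' =>
    congrArg Subtype.val (hA.1.is_comm.comm ⟨a, ha⟩ ⟨a', ha'⟩)
  have hMB : M ≤ B := commSub_le hnorm hx
  have hMM : M ≤ centralizer (M : Set G) := by
    intro m hm
    rw [mem_centralizer_iff]
    intro m' hm'
    exact hB m' (hMB hm') m (hMB hm)
  have hxM : x ∈ centralizer (M : Set G) := by
    rw [mem_centralizer_iff]
    intro m hm
    exact hB m (hMB hm) x hx
  have hABC : A ⊓ B ≤ C := by
    intro z hz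
    refine Subgroup.mem_inf.mpr ⟨hz.1, ?_⟩
    rw [mem_centralizer_iff]
    intro m hm
    exact hB m (hMB hm) z hz.2
  refine ⟨hABC, ?_⟩
  -- the conjugate of A by x
  set A' := A.map (MulAut.conj x).toMonoidHom with hA'
  have hmemA' : ∀ y, y ∈ A' ↔ x⁻¹ * y * x ∈ A := fun y => mem_map_conj
  have hconjA' : ∀ a ∈ A, x * a * x⁻¹ ∈ A' := fun a ha => conj_mem_map_conj ha
  have hA'c : ∀ y ∈ A', ∀ y' ∈ A', y * y' = y' * y := by
    intro y hy y' hy'
    rw [hmemA'] at hy hy'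
    have h1 := hAc _ hy _ hy'
    calc y * y' = x * ((x⁻¹ * y * x) * (x⁻¹ * y' * x)) * x⁻¹ := by group
      _ = x * ((x⁻¹ * y' * x) * (x⁻¹ * y * x)) * x⁻¹ := by rw [h1]
      _ = y' * y := by group
  have hAA'C : A ⊓ A' ≤ C := by
    intro c hc
    refine Subgroup.mem_inf.mpr ⟨hc.1, ?_⟩
    rw [hM, commSub, centralizer_closure, mem_centralizer_iff]
    rintro y ⟨a, ha, rfl⟩
    have h1 : a * c = c * a := hAc a ha c hc.1
    have h2 : (x * a⁻¹ * x⁻¹) * c = c * (x * a⁻¹ * x⁻¹) :=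
      hA'c _ (hconjA' _ (A.inv_mem ha)) c hc.2
    calc a * x * a⁻¹ * x⁻¹ * c = a * ((x * a⁻¹ * x⁻¹) * c) := by group
      _ = a * (c * (x * a⁻¹ * x⁻¹)) := by rw [h2]
      _ = (a * c) * (x * a⁻¹ * x⁻¹) := by group
      _ = (c * a) * (x * a⁻¹ * x⁻¹) := by rw [h1]
      _ = c * (a * x * a⁻¹ * x⁻¹) := by group
  -- the fibre property
  have hfib : ∀ a ∈ A, ∀ a' ∈ A,
      (a * x * a⁻¹ * x⁻¹)⁻¹ * (a' * x * a'⁻¹ * x⁻¹) ∈ A' → a⁻¹ * a' ∈ A' := by
    intro a ha a' ha' h
    have e : a⁻¹ * a' = (x * a * x⁻¹)⁻¹ * ((a * x * a⁻¹ * x⁻¹)⁻¹ * (a' * x * a'⁻¹ * x⁻¹))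
        * (x * a'⁻¹ * x⁻¹)⁻¹ := by group
    rw [e]
    exact A'.mul_mem (A'.mul_mem (A'.inv_mem (hconjA' a ha)) h)
      (A'.inv_mem (hconjA' _ (A.inv_mem ha')))
  have h4 : A'.relIndex A ≤ A'.relIndex M :=
    relIndex_le_relIndex_of_map A M A' (fun a => a * x * a⁻¹ * x⁻¹)
      (fun a ha => mem_commSub ha) hfib
  have hne : ∀ H K : Subgroup G, H.relIndex K ≠ 0 := by
    intro H K
    unfold Subgroup.relIndex
    exact Subgroup.index_ne_zero_of_finite
  have hCA : C ≤ A := inf_le_left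
  have h1 : Nat.card A = Nat.card C * C.relIndex A := card_eq_card_mul_relIndex hCA
  have h2 : C.relIndex A ≤ (A ⊓ A').relIndex A := relIndex_le_of_le_left hAA'C (hne _ _)
  have h3 : (A ⊓ A').relIndex A = A'.relIndex A := by
    rw [inf_comm]; exact inf_relIndex_right _ _
  have h5 : A'.relIndex M = A.relIndex M := by
    have hMx : M.map (MulAut.conj x).toMonoidHom = M :=
      map_conj_eq_self_of_mem_normalizer (Subgroup.centralizer_le_normalizer _ hxM)
    conv_lhs => rw [← hMx]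
    exact relIndex_map_map_of_injective A M (MulAut.conj x).injective
  have h6 : A.relIndex M ≤ C.relIndex M := relIndex_le_of_le_left hCA (hne _ _)
  have h7 : C.relIndex M ≤ C.relIndex (M ⊔ C) := relIndex_le_of_le_right le_sup_left (hne _ _)
  have h8 : Nat.card ↥(M ⊔ C) = Nat.card C * C.relIndex (M ⊔ C) :=
    card_eq_card_mul_relIndex le_sup_right
  have hcard : Nat.card A ≤ Nat.card ↥(M ⊔ C) := by
    rw [h1, h8]
    apply Nat.mul_le_mul_left
    calc C.relIndex A ≤ (A ⊓ A').relIndex A := h2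
      _ = A'.relIndex A := h3
      _ ≤ A'.relIndex M := h4
      _ = A.relIndex M := h5
      _ ≤ C.relIndex M := h6
      _ ≤ C.relIndex (M ⊔ C) := h7
  have hcomm : IsMulCommutative ↥(M ⊔ C) := by
    apply Cfsg.Agent.Helper15.isMulCommutative_sup hMM
    · exact hCA.trans ((Cfsg.Agent.Helper15.MaxAbelian.le_centralizer hA).trans
        (Subgroup.centralizer_le hCA))
    · rw [le_centralizer_iff]; exact inf_le_right
  exact ⟨hcomm, fun B' hB' => (hA.2 B' hB').trans hcard⟩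

/-- In a nilpotent group, if `A` normalizes `B` and `B ≰ N`, some `x ∈ B \ N` has all its
commutators with `A` inside `N`. -/
theorem exists_commutator_mem_of_not_le [Group.IsNilpotent G] (A B N : Subgroup G)
    (hnorm : ∀ a ∈ A, ∀ b ∈ B, a * b * a⁻¹ ∈ B) (hN : ¬ B ≤ N) :
    ∃ x ∈ B, x ∉ N ∧ ∀ a ∈ A, a * x * a⁻¹ * x⁻¹ ∈ N := by
  classical
  let D : ℕ → Subgroup G := fun i => Nat.rec B (fun _ X => ⁅X, A⁆) i
  have hD0 : D 0 = B := rfl
  have hDs : ∀ i, D (i + 1) = ⁅D i, A⁆ := fun i => rfl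
  have hDB : ∀ i, D i ≤ B := by
    intro i
    induction i with
    | zero => exact le_rfl
    | succ i ih =>
      rw [hDs, commutator_le]
      intro g hg a ha
      have hgB := ih hg
      rw [commutatorElement_def]
      have e : g * a * g⁻¹ * a⁻¹ = g * (a * g⁻¹ * a⁻¹) := by group
      rw [e]; exact B.mul_mem hgB (hnorm a ha _ (B.inv_mem hgB))
  have hDl : ∀ i, D i ≤ Subgroup.lowerCentralSeries (⊤ : Subgroup G) i := by
    intro i
    induction i with
    | zero => exact le_top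
    | succ i ih => rw [hDs, Subgroup.lowerCentralSeries_succ]; exact commutator_mono ih le_top
  obtain ⟨n, hn⟩ := Subgroup.nilpotent_iff_lowerCentralSeries.mp ‹Group.IsNilpotent G›
  have hDn : D n ≤ N := by
    have : D n = ⊥ := eq_bot_iff.mpr (hn ▸ hDl n)
    rw [this]; exact bot_le
  have hex : ∀ m, D m ≤ N → ∃ j, ¬ D j ≤ N ∧ D (j + 1) ≤ N := by
    intro m
    induction m with
    | zero => intro h; rw [hD0] at h; exact absurd h hN
    | succ m ih =>
      intro h
      rcases Classical.em (D m ≤ N) with hm | hm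
      · exact ih hm
      · exact ⟨m, hm, h⟩
  obtain ⟨j, hj, hj1⟩ := hex n hDn
  obtain ⟨x, hxD, hxN⟩ := SetLike.not_le_iff_exists.mp hj
  refine ⟨x, hDB j hxD, hxN, ?_⟩
  intro a ha
  have h1 : x * a * x⁻¹ * a⁻¹ ∈ D (j + 1) := by
    rw [hDs, ← commutatorElement_def]
    exact commutator_mem_commutator hxD ha
  have e : a * x * a⁻¹ * x⁻¹ = (x * a * x⁻¹ * a⁻¹)⁻¹ := by group
  rw [e]
  exact N.inv_mem (hj1 h1)

/-- In a finite group, an element conjugating a subgroup into itself normalizes it. -/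
theorem mem_normalizer_of_conj_mem [Finite G] {A : Subgroup G} {x : G}
    (h : ∀ a ∈ A, x * a * x⁻¹ ∈ A) : x ∈ normalizer (A : Set G) := by
  apply mem_normalizer_of_map_conj_eq_self
  apply Subgroup.eq_of_le_of_card_ge
  · rintro y ⟨a, ha, rfl⟩
    simpa [MulAut.conj_apply] using h a ha
  · rw [card_map_conj]

/-- **Thompson's replacement theorem.** -/
theorem thompson_replacement [Finite G] [Group.IsNilpotent G] {A : Subgroup G}
    (hA : A ∈ Cfsg.maxAbelianSubgroups G)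
    (B : Subgroup G) (hB : ∀ b ∈ B, ∀ b' ∈ B, b * b' = b' * b)
    (hnorm : ∀ a ∈ A, ∀ b ∈ B, a * b * a⁻¹ ∈ B) (hBA : ¬ B ≤ normalizer (A : Set G)) :
    ∃ Astar ∈ Cfsg.maxAbelianSubgroups G, A ⊓ B < Astar ⊓ B ∧ Astar ≤ normalizer (A : Set G) := by
  have hN : ¬ B ≤ B ⊓ normalizer (A : Set G) := fun h => hBA (h.trans inf_le_right)
  obtain ⟨x, hxB, hxN, hx⟩ := exists_commutator_mem_of_not_le A B _ hnorm hN
  obtain ⟨h1, h2⟩ := thompson_replacement_core hA B hB hnorm x hxB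
  refine ⟨_, h2, ?_, ?_⟩
  · have hMB : commSub A x ≤ B := commSub_le hnorm hxB
    have hle : A ⊓ B ≤ (commSub A x ⊔ (A ⊓ centralizer (commSub A x : Set G))) ⊓ B :=
      le_inf (h1.trans le_sup_right) inf_le_right
    refine lt_of_le_of_ne hle ?_
    intro heq
    apply hxN
    refine Subgroup.mem_inf.mpr ⟨hxB, ?_⟩
    apply mem_normalizer_of_conj_mem
    intro a ha
    have h3 : a⁻¹ * x * a⁻¹⁻¹ * x⁻¹ ∈ A ⊓ B := by
      rw [heq]
      exact Subgroup.mem_inf.mpr ⟨le_sup_left (a := commSub A x) (mem_commSub (A.inv_mem ha)),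
        hMB (mem_commSub (A.inv_mem ha))⟩
    have e : x * a * x⁻¹ = a * (a⁻¹ * x * a⁻¹⁻¹ * x⁻¹) := by group
    rw [e]
    exact A.mul_mem ha h3.1
  · apply sup_le
    · unfold commSub
      rw [closure_le]
      rintro y ⟨a, ha, rfl⟩
      exact (hx a ha).2
    · exact inf_le_left.trans le_normalizer

end Cfsg.Agent.Helper9
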