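import Mathlib
import Cfsg.Prelude.Def_ClassificationK
import Cfsg.Agent.Lib.Helper9.Basic
import Cfsg.Agent.Lib.Helper9.SylowLemmas

set_option autoImplicit false

namespace Cfsg.Agent.Helper9

/-- a nontrivial finite `p`-subgroup does not have `p`-rank at most zero -/
theorem not_pRankLE_zero_of_ne_bot {G : Type*} [Group G] [Finite G] {p : ℕ} [Fact p.Prime]
    (Q : Subgroup G) (hQ : IsPGroup p Q) (hne : Q ≠ ⊥) : ¬ Cfsg.PRankLE p 0 Q := by
  intro hrank
  have hdvd : p ∣ Nat.card Q := by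
    obtain ⟨n, hn⟩ := hQ.exists_card_eq
    rcases Nat.eq_zero_or_pos n with h0 | h0
    · exfalso
      apply hne
      rw [h0, pow_zero] at hn
      exact Subgroup.card_eq_one.mp hn
    · rw [hn]
      exact dvd_pow_self p (by omega)
  obtain ⟨x, hx⟩ := exists_prime_orderOf_dvd_card' p hdvd
  have h1 := hrank (Subgroup.zpowers x) inferInstance (by
    intro a ha
    obtain ⟨k, rfl⟩ := Subgroup.mem_zpowers_iff.mp ha
    rw [← zpow_natCast, ← zpow_mul, mul_comm, zpow_mul, zpow_natCast, ← hx, pow_orderOf_eq_one,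
      one_zpow])
  rw [Nat.card_zpowers, hx, pow_zero] at h1
  have := (Fact.out : p.Prime).one_lt
  omega

/-- a subgroup which does not have `p`-rank at most zero is nontrivial -/
theorem ne_bot_of_not_pRankLE_zero {G : Type*} [Group G] {p : ℕ}
    (Q : Subgroup G) (h : ¬ Cfsg.PRankLE p 0 Q) : Q ≠ ⊥ := by
  rintro rfl
  apply h
  intro A _ _
  rw [pow_zero]
  have : Subsingleton (⊥ : Subgroup G) := inferInstance
  have : Subsingleton A := inferInstance
  exact le_of_eq Nat.card_unique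

section SE

variable {G : Type*} [Group G] [Finite G] {p : ℕ} [Fact p.Prime]

/-- the Sylow subgroup defining a strongly `p`-embedded subgroup lies in it -/
theorem sylow_le_of_core_le (M : Subgroup G) (P : Sylow p G)
    (hΓ : Cfsg.kGeneratedCore p 1 (P : Subgroup G) ≤ M) (hdvd : p ∣ Nat.card G) :
    (P : Subgroup G) ≤ M := by
  have hPne : (P : Subgroup G) ≠ ⊥ := P.ne_bot_of_dvd_card hdvd
  have hrank : ¬ Cfsg.PRankLE p (1 - 1) (P : Subgroup G) :=
    not_pRankLE_zero_of_ne_bot _ P.2 hPne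
  have h1 : Subgroup.normalizer ((P : Subgroup G) : Set G) ≤ Cfsg.kGeneratedCore p 1 (P : Subgroup G) := by
    unfold Cfsg.kGeneratedCore
    exact le_iSup (fun Q : {Q : Subgroup G // Q ≤ (P : Subgroup G) ∧ ¬ Cfsg.PRankLE p (1 - 1) Q} =>
      Subgroup.normalizer ((Q : Subgroup G) : Set G)) ⟨(P : Subgroup G), le_rfl, hrank⟩
  exact Subgroup.le_normalizer.trans (h1.trans hΓ)

/-- a strongly `p`-embedded subgroup contains the normalizer of each of its nontrivial
`p`-subgroups -/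
theorem normalizer_le_of_core_le (M : Subgroup G) (P : Sylow p G)
    (hΓ : Cfsg.kGeneratedCore p 1 (P : Subgroup G) ≤ M) (hdvd : p ∣ Nat.card G)
    (Q : Subgroup G) (hQM : Q ≤ M) (hQ : IsPGroup p Q) (hne : Q ≠ ⊥) :
    Subgroup.normalizer (Q : Set G) ≤ M := by
  have hPM := sylow_le_of_core_le M P hΓ hdvd
  have hQ' : IsPGroup p (Q.subgroupOf M) := hQ.comap_subtype
  obtain ⟨c, hc⟩ := exists_conj_le_sylow (P.subtype hPM) (Q.subgroupOf M) hQ'
  have hcP : ∀ q ∈ Q, (c : G) * q * (c : G)⁻¹ ∈ (P : Subgroup G) := by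
    intro q hq
    have h1 : c * ⟨q, hQM hq⟩ * c⁻¹ ∈ ((P.subtype hPM : Sylow p M) : Subgroup M) :=
      hc ⟨q, hQM hq⟩ (by rw [Subgroup.mem_subgroupOf]; exact hq)
    rw [Sylow.coe_subtype, Subgroup.mem_subgroupOf] at h1
    exact h1
  obtain ⟨Q₂, hQ₂⟩ : ∃ Q₂ : Subgroup G, Q₂ = Q.map (MulAut.conj (c : G)).toMonoidHom := ⟨_, rfl⟩
  have hQ₂P : Q₂ ≤ (P : Subgroup G) := by
    rw [hQ₂]
    rintro _ ⟨q, hq, rfl⟩
    exact hcP q hq
  have hQ₂ne : Q₂ ≠ ⊥ := by
    rw [hQ₂]
    intro h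
    apply hne
    exact (Subgroup.map_eq_bot_iff_of_injective Q (MulAut.conj (c : G)).injective).mp h
  have hrank : ¬ Cfsg.PRankLE p (1 - 1) Q₂ :=
    not_pRankLE_zero_of_ne_bot _ (P.2.to_le hQ₂P) hQ₂ne
  have h1 : Subgroup.normalizer (Q₂ : Set G) ≤ M := by
    refine le_trans ?_ hΓ
    unfold Cfsg.kGeneratedCore
    exact le_iSup (fun Q : {Q : Subgroup G // Q ≤ (P : Subgroup G) ∧ ¬ Cfsg.PRankLE p (1 - 1) Q} =>
      Subgroup.normalizer ((Q : Subgroup G) : Set G)) ⟨Q₂, hQ₂P, hrank⟩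
  intro n hn
  have h2 : (c : G) * n * (c : G)⁻¹ ∈ Subgroup.normalizer (Q₂ : Set G) := by
    rw [Subgroup.mem_normalizer_iff'']
    intro h
    rw [hQ₂, mem_map_conj, mem_map_conj]
    have := Subgroup.mem_normalizer_iff''.mp hn ((c : G)⁻¹ * h * (c : G))
    rw [this]
    have e : ((c : G) * n * (c : G)⁻¹)⁻¹ * h * ((c : G) * n * (c : G)⁻¹) =
        (c : G) * (n⁻¹ * ((c : G)⁻¹ * h * (c : G)) * n) * (c : G)⁻¹ := by group
    rw [e]
    have e2 : (c : G)⁻¹ * ((c : G) * (n⁻¹ * ((c : G)⁻¹ * h * (c : G)) * n) * (c : G)⁻¹) * (c : G) =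
        n⁻¹ * ((c : G)⁻¹ * h * (c : G)) * n := by group
    rw [e2]
  have h3 := h1 h2
  have h4 : (c : G)⁻¹ * ((c : G) * n * (c : G)⁻¹) * (c : G) ∈ M :=
    M.mul_mem (M.mul_mem (M.inv_mem c.2) h3) c.2
  have e3 : (c : G)⁻¹ * ((c : G) * n * (c : G)⁻¹) * (c : G) = n := by group
  rwa [e3] at h4

/-- centralizers of elements of order `p` of a strongly `p`-embedded subgroup lie in it -/
theorem centralizer_le_of_core_le (M : Subgroup G) (P : Sylow p G)
    (hΓ : Cfsg.kGeneratedCore p 1 (P : Subgroup G) ≤ M) (hdvd : p ∣ Nat.card G)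
    (t : G) (htM : t ∈ M) (ht : orderOf t = p) {g : G} (hg : g * t = t * g) : g ∈ M := by
  have hne : Subgroup.zpowers t ≠ ⊥ := by
    intro h
    rw [Subgroup.zpowers_eq_bot] at h
    rw [h, orderOf_one] at ht
    exact (Fact.out : p.Prime).one_lt.ne ht
  have hpg : IsPGroup p (Subgroup.zpowers t) := by
    apply IsPGroup.of_card (n := 1)
    rw [Nat.card_zpowers, ht, pow_one]
  apply normalizer_le_of_core_le M P hΓ hdvd (Subgroup.zpowers t)
    ((Subgroup.zpowers_le).mpr htM) hpg hne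
  rw [Subgroup.mem_normalizer_iff]
  intro h
  have hcomm : Commute g t := hg
  constructor
  · intro hh
    obtain ⟨k, rfl⟩ := Subgroup.mem_zpowers_iff.mp hh
    have : g * t ^ k * g⁻¹ = t ^ k := by
      rw [(hcomm.zpow_right k).eq, mul_inv_cancel_right]
    rw [this]
    exact hh
  · intro hh
    obtain ⟨k, hk⟩ := Subgroup.mem_zpowers_iff.mp hh
    have : h = t ^ k := by
      have h1 : h = g⁻¹ * (g * h * g⁻¹) * g := by group
      rw [h1, ← hk, mul_assoc, ← (hcomm.zpow_right k).eq, inv_mul_cancel_left]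
    rw [this]
    exact Subgroup.zpow_mem_zpowers t k

end SE

/-- a nontrivial finite `p`-subgroup has a central element of order `p` -/
theorem exists_central_order_p {G : Type*} [Group G] [Finite G] {p : ℕ} [Fact p.Prime]
    (S : Subgroup G) (hS : IsPGroup p S) (hne : S ≠ ⊥) :
    ∃ z ∈ S, orderOf z = p ∧ ∀ s ∈ S, s * z = z * s := by
  have : Nontrivial S := (Subgroup.nontrivial_iff_ne_bot S).mpr hne
  have : Nontrivial (Subgroup.center S) := hS.center_nontrivial
  have hZ : IsPGroup p (Subgroup.center S) := hS.to_subgroup _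
  have hdvd : p ∣ Nat.card (Subgroup.center S) := by
    obtain ⟨n, hn⟩ := hZ.exists_card_eq
    rcases Nat.eq_zero_or_pos n with h0 | h0
    · exfalso
      rw [h0, pow_zero] at hn
      have := (Finite.one_lt_card_iff_nontrivial (α := Subgroup.center S)).mpr inferInstance
      omega
    · rw [hn]
      exact dvd_pow_self p (by omega)
  obtain ⟨z, hz⟩ := exists_prime_orderOf_dvd_card' p hdvd
  refine ⟨((z : S) : G), (z : S).2, ?_, ?_⟩
  · rw [← hz, Subgroup.orderOf_coe, Subgroup.orderOf_coe]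
  · intro s hs
    have := Subgroup.mem_center_iff.mp z.2 ⟨s, hs⟩
    exact congrArg Subtype.val this

end Cfsg.Agent.Helper9
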