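import Mathlib
import Cfsg.Prelude.Def_Local
import Cfsg.Agent.Lib.Helper14.PReduced
import Cfsg.Agent.Lib.Helper15.PCore
import Cfsg.Agent.Lib.Helper22.PPrimeCore
import Cfsg.Agent.Lib.Helper9.PCoreSub

set_option autoImplicit false

namespace Cfsg.Agent.Helper9

open Cfsg Subgroup
open Cfsg.Agent.Helper14 (PowCond powCond_iff_isPGroup_map exists_mul_of_powCond powCond_of_isPGroup)

variable {N : Type*} [Group N]

/-- A normal subgroup acting as a `p`-group modulo `C` lies in the preimage of `O_p(N/C)`. -/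
theorem le_comap_pCore_of_powCond {p : ℕ} (C : Subgroup N) [C.Normal] {D : Subgroup N}
    (hD : D.Normal) (h : PowCond p D C) :
    D ≤ (pCore p (N ⧸ C)).comap (QuotientGroup.mk' C) := by
  rw [powCond_iff_isPGroup_map] at h
  have hn : (D.map (QuotientGroup.mk' C)).Normal :=
    Subgroup.Normal.map hD _ (QuotientGroup.mk'_surjective C)
  rw [← Subgroup.map_le_iff_le_comap]
  exact le_pCore' hn h

/-- The preimage of `O_p(N/C)` acts as a `p`-group modulo `C`. -/
theorem powCond_comap_pCore (p : ℕ) (C : Subgroup N) [C.Normal] :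
    PowCond p ((pCore p (N ⧸ C)).comap (QuotientGroup.mk' C)) C := by
  intro d hd
  have hd' : QuotientGroup.mk' C d ∈ pCore p (N ⧸ C) := hd
  obtain ⟨k, hk⟩ := pCore_isPGroup' p (N ⧸ C) ⟨_, hd'⟩
  refine ⟨k, ?_⟩
  have hk' : (QuotientGroup.mk' C d) ^ (p ^ k) = 1 := by
    have := congrArg Subtype.val hk
    simpa using this
  rw [← map_pow] at hk'
  exact (QuotientGroup.eq_one_iff _).mp hk'

theorem comap_pCore_normal (p : ℕ) (C : Subgroup N) [C.Normal] :
    ((pCore p (N ⧸ C)).comap (QuotientGroup.mk' C)).Normal := by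
  have : (pCore p (N ⧸ C)).Characteristic := pCore_characteristic p
  have : (pCore p (N ⧸ C)).Normal := inferInstance
  exact Subgroup.Normal.comap this _

theorem le_comap_pCore (p : ℕ) (C : Subgroup N) [C.Normal] :
    C ≤ (pCore p (N ⧸ C)).comap (QuotientGroup.mk' C) := by
  intro c hc
  show QuotientGroup.mk' C c ∈ pCore p (N ⧸ C)
  have : QuotientGroup.mk' C c = 1 := (QuotientGroup.eq_one_iff c).mpr hc
  rw [this]
  exact one_mem _

/-- **Burnside**: a normal subgroup `C` with a central Sylow `p`-subgroup `Z` acts as a `p`-group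
modulo `O_{p'}(N)`. -/
theorem powCond_pPrimeCore_of_central_sylow [Finite N] {p : ℕ} [Fact p.Prime]
    (C : Subgroup N) [C.Normal] (Z : Subgroup N) (hZC : Z ≤ C)
    (hZc : Z ≤ centralizer (C : Set N)) (hZp : IsPGroup p Z) (hidx : ¬ p ∣ Z.relIndex C) :
    PowCond p C (pPrimeCore p N) := by
  classical
  have hZ'p : IsPGroup p (Z.subgroupOf C) := hZp.comap_subtype
  let PC : Sylow p ↥C := hZ'p.toSylow hidx
  have hPC : (PC : Subgroup ↥C) = Z.subgroupOf C := rfl
  have hcentral : ∀ z ∈ (PC : Subgroup ↥C), ∀ c : ↥C, c * z = z * c := by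
    intro z hz c
    rw [hPC, mem_subgroupOf] at hz
    have := (mem_centralizer_iff.mp (hZc hz)) c c.2
    exact Subtype.ext this
  have hP : normalizer ((PC : Subgroup ↥C) : Set ↥C) ≤ centralizer ((PC : Subgroup ↥C) : Set ↥C) := by
    intro c _
    rw [mem_centralizer_iff]
    intro z hz
    exact (hcentral z hz c).symm
  have hcompl := MonoidHom.ker_transferSylow_isComplement' PC hP
  set K₁ := (MonoidHom.transferSylow PC hP).ker with hK₁
  have hcard : Nat.card K₁ * Nat.card (PC : Subgroup ↥C) = Nat.card ↥C := hcompl.card_mul_card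
  have hK₁cop : (Nat.card K₁).Coprime p := by
    have h1 : Nat.card K₁ = (PC : Subgroup ↥C).index := by
      have h2 := (PC : Subgroup ↥C).card_mul_index
      rw [← hcard, mul_comm (Nat.card K₁)] at h2
      exact (Nat.eq_of_mul_eq_mul_left Nat.card_pos h2).symm
    rw [h1]
    exact (Nat.Coprime.symm ((Nat.Prime.coprime_iff_not_dvd Fact.out).mpr PC.not_dvd_index))
  have hK₁le : K₁ ≤ pPrimeCore p ↥C :=
    Cfsg.Agent.Helper22.le_pPrimeCore p K₁ inferInstance hK₁cop
  have hmap : (pPrimeCore p ↥C).map C.subtype ≤ pPrimeCore p N :=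
    Cfsg.Agent.Helper22.pPrimeCore_subgroup_le p C
  intro c hc
  obtain ⟨⟨k₁, z⟩, hkz, -⟩ := (isComplement'_def.mp hcompl).existsUnique (⟨c, hc⟩ : ↥C)
  simp only at hkz
  obtain ⟨k, hk⟩ := PC.2 z
  refine ⟨k, ?_⟩
  have hcomm : Commute (k₁ : ↥C) (z : ↥C) := (hcentral z z.2 k₁)
  have h1 : (⟨c, hc⟩ : ↥C) ^ (p ^ k) = (k₁ : ↥C) ^ (p ^ k) := by
    rw [← hkz, hcomm.mul_pow]
    have : (z : ↥C) ^ (p ^ k) = 1 := by
      have := congrArg Subtype.val hk
      simpa using this
    rw [this, mul_one]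
  have h2 : (k₁ : ↥C) ^ (p ^ k) ∈ pPrimeCore p ↥C := hK₁le (K₁.pow_mem k₁.2 _)
  have h3 : C.subtype ((⟨c, hc⟩ : ↥C) ^ (p ^ k)) ∈ pPrimeCore p N := by
    apply hmap
    rw [h1]
    exact Subgroup.mem_map_of_mem _ h2
  simpa using h3

/-- In `N/K` an element congruent to a `p`-element has a `p`-power in `K`. -/
theorem exists_pow_mem_of_mul {p : ℕ} (K : Subgroup N) [K.Normal] {l u k : N} (hl : l = u * k)
    (hk : k ∈ K) {j : ℕ} (hu : u ^ (p ^ j) = 1) : l ^ (p ^ j) ∈ K := by
  rw [← QuotientGroup.eq_one_iff]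
  have h1 : (QuotientGroup.mk l : N ⧸ K) = QuotientGroup.mk u := by
    rw [hl, QuotientGroup.mk_mul, (QuotientGroup.eq_one_iff k).mpr hk, mul_one]
  rw [QuotientGroup.mk_pow, h1, ← QuotientGroup.mk_pow, hu, QuotientGroup.mk_one]

/-- The abstract form of the centric-radical criterion: for a normal `p`-subgroup `H` of `N`
contained in the Sylow `p`-subgroup `P`, with `C = C_N(H)` and `L` the preimage of `O_p(N/C)`:
`H` is a Sylow `p`-subgroup of `L` iff `C_P(H) ≤ H` and `O_{p',p}(N) = H C`. -/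
theorem centric_radical_iff [Finite N] {p : ℕ} [Fact p.Prime] (H : Subgroup N) [hHn : H.Normal]
    (hH : IsPGroup p H) (P : Sylow p N) (hHP : H ≤ P) (C : Subgroup N) [hC : C.Normal]
    (hCdef : C = centralizer (H : Set N)) :
    (H ≤ (pCore p (N ⧸ C)).comap (QuotientGroup.mk' C) ∧
      ¬ p ∣ H.relIndex ((pCore p (N ⧸ C)).comap (QuotientGroup.mk' C))) ↔
    ((P : Subgroup N) ⊓ C ≤ H ∧ pPrimePCore p N = H ⊔ C) := by
  classical
  have hpp : p.Prime := Fact.out
  set L := (pCore p (N ⧸ C)).comap (QuotientGroup.mk' C) with hL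
  set K := pPrimeCore p N with hK
  have hKn : K.Normal := inferInstance
  have hLn : L.Normal := comap_pCore_normal p C
  have hCL : C ≤ L := le_comap_pCore p C
  have hHL : H ≤ L := le_comap_pCore_of_powCond C hHn (powCond_of_isPGroup hH C)
  have hLpow : PowCond p L C := powCond_comap_pCore p C
  have hKcop : (Nat.card K).Coprime p := Cfsg.Agent.Helper22.card_pPrimeCore_coprime p
  have hOn : (pPrimePCore p N).Normal := comap_pCore_normal p K
  have hOpow : PowCond p (pPrimePCore p N) K := powCond_comap_pCore p K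
  -- K ≤ C
  have hKC : K ≤ C := by
    rw [hCdef]
    intro k hk
    rw [mem_centralizer_iff]
    intro h hh
    have h1 : h * k * h⁻¹ * k⁻¹ ∈ K := K.mul_mem (hKn.conj_mem k hk h) (K.inv_mem hk)
    have h2 : h * k * h⁻¹ * k⁻¹ ∈ H := by
      have e : h * k * h⁻¹ * k⁻¹ = h * (k * h⁻¹ * k⁻¹) := by group
      rw [e]; exact H.mul_mem hh (hHn.conj_mem _ (H.inv_mem hh) k)
    have h3 : h * k * h⁻¹ * k⁻¹ = 1 := by
      apply Cfsg.Agent.Helper15.eq_one_of_isPGroup_of_coprime hH h2
      exact Nat.Coprime.coprime_dvd_left (Subgroup.orderOf_dvd_natCard K h1) hKcop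
    calc h * k = (h * k * h⁻¹ * k⁻¹) * (k * h) := by group
      _ = k * h := by rw [h3, one_mul]
  have hKL : K ≤ L := hKC.trans hCL
  have hOL : pPrimePCore p N ≤ L :=
    le_comap_pCore_of_powCond C hOn (hOpow.mono_right hKC)
  have hHO : H ≤ pPrimePCore p N :=
    le_comap_pCore_of_powCond K hHn (powCond_of_isPGroup hH K)
  have hHC : H ⊔ C ≤ L := sup_le hHL hCL
  constructor
  · rintro ⟨-, hidx⟩
    -- P ⊓ L ≤ H
    have hTH : (P : Subgroup N) ⊓ L ≤ H := by
      set T := (P : Subgroup N) ⊓ L with hT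
      have hHT : H ≤ T := le_inf hHP hHL
      have hmul := Subgroup.relIndex_mul_relIndex H T L hHT inf_le_right
      have hTp : IsPGroup p T := P.2.to_le inf_le_left
      obtain ⟨j, hj⟩ := hTp.exists_card_eq
      have hdvd : H.relIndex T ∣ p ^ j := hj ▸ Subgroup.relIndex_dvd_card H T
      obtain ⟨i, -, hi⟩ := (Nat.dvd_prime_pow hpp).mp hdvd
      rcases Nat.eq_zero_or_pos i with h0 | hpos
      · rw [h0, pow_zero] at hi
        exact Subgroup.relIndex_eq_one.mp hi
      · exfalso
        apply hidx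
        rw [← hmul, hi]
        exact Dvd.dvd.mul_right (dvd_pow_self p hpos.ne') _
    have hLeq : L = H ⊔ C := by
      apply le_antisymm _ hHC
      intro l hl
      obtain ⟨t, ht, c, hc, rfl⟩ := exists_mul_of_powCond P hLn hLpow l hl
      have htL : t ∈ L := by
        have e : t = (t * c) * c⁻¹ := by group
        rw [e]; exact L.mul_mem hl (L.inv_mem (hCL hc))
      exact Subgroup.mul_mem_sup (hTH (Subgroup.mem_inf.mpr ⟨ht, htL⟩)) hc
    refine ⟨(inf_le_inf_left _ hCL).trans hTH, ?_⟩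
    apply le_antisymm (hOL.trans hLeq.le)
    apply sup_le hHO
    apply le_comap_pCore_of_powCond K hC
    apply powCond_pPrimeCore_of_central_sylow C (H ⊓ C) inf_le_right
    · intro z hz
      rw [mem_centralizer_iff]
      intro c hc
      rw [hCdef] at hc
      exact ((mem_centralizer_iff.mp hc) z hz.1).symm
    · exact hH.to_le inf_le_left
    · have e1 : (H ⊓ C).relIndex C = H.relIndex C := Subgroup.inf_relIndex_right H C
      have e2 : H.relIndex (C ⊔ H) = H.relIndex C := Subgroup.relIndex_sup_right C H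
      rw [e1, ← e2, sup_comm, ← hLeq]
      exact hidx
  · rintro ⟨h1, h2⟩
    refine ⟨hHL, ?_⟩
    have hCO : C ≤ pPrimePCore p N := h2 ▸ le_sup_right
    -- C ≤ H ⊔ K
    have hCHK : C ≤ H ⊔ K := by
      intro c hc
      obtain ⟨t, ht, k, hk, rfl⟩ :=
        exists_mul_of_powCond P hC (hOpow.mono_left hCO) c hc
      have htC : t ∈ C := by
        have e : t = (t * k) * k⁻¹ := by group
        rw [e]; exact C.mul_mem hc (C.inv_mem (hKC hk))
      exact Subgroup.mul_mem_sup (h1 (Subgroup.mem_inf.mpr ⟨ht, htC⟩)) hk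
    -- L acts as a p-group mod K
    have hLK : PowCond p L K := by
      intro l hl
      obtain ⟨t, ht, c, hc, rfl⟩ := exists_mul_of_powCond P hLn hLpow l hl
      have hc' := hCHK hc
      rw [Subgroup.mem_sup_of_normal_right] at hc'
      obtain ⟨h, hh, k, hk, rfl⟩ := hc'
      have hth : t * h ∈ (P : Subgroup N) := (P : Subgroup N).mul_mem ht (hHP hh)
      obtain ⟨j, hj⟩ := P.2 ⟨t * h, hth⟩
      have hj' : (t * h) ^ (p ^ j) = 1 := by
        have := congrArg Subtype.val hj
        simpa using this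
      exact ⟨j, exists_pow_mem_of_mul K (by group : t * (h * k) = (t * h) * k) hk hj'⟩
    have hLO : L ≤ pPrimePCore p N := le_comap_pCore_of_powCond K hLn hLK
    have hLeq : L = K ⊔ H := by
      apply le_antisymm
      · rw [sup_comm]
        exact (hLO.trans h2.le).trans (sup_le le_sup_left hCHK)
      · exact sup_le hKL hHL
    rw [hLeq, Subgroup.relIndex_sup_right K H]
    intro hdvd
    have h3 : p ∣ Nat.card K := hdvd.trans (Subgroup.relIndex_dvd_card H K)
    exact Cfsg.Agent.Helper22.not_dvd_card_pPrimeCore p hpp h3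

end Cfsg.Agent.Helper9
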