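import Mathlib
import Cfsg.Agent.Lib.Helper26.CG3Defs

/-!
Piece CG3-G6PAIR (S3412): in a group of order `48`, two involutions `a`, `b` such that `a` inverts
no element of order `3` generate a `2`-group (a dihedral group of order dividing `32`).
-/

set_option autoImplicit false

namespace Cfsg.Agent.Helper26.CG3

universe u

/-- G6-PAIR (generic) -/
theorem pair_pgroup {G : Type u} [Group G] [Finite G] (hG : Nat.card G = 48) (a b : G)
    (ha : orderOf a = 2) (hb : orderOf b = 2)
    (hno : ∀ r : G, orderOf r = 3 → a * r * a⁻¹ ≠ r⁻¹) :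
    IsPGroup 2 ↥(Subgroup.closure ({a, b} : Set G)) := by
  have haa : a * a = 1 := by
    have h := pow_orderOf_eq_one a
    rwa [ha, pow_two] at h
  have hbb : b * b = 1 := by
    have h := pow_orderOf_eq_one b
    rwa [hb, pow_two] at h
  have hai : a⁻¹ = a := inv_eq_of_mul_eq_one_right haa
  have hbi : b⁻¹ = b := inv_eq_of_mul_eq_one_right hbb
  have hconj : a * (a * b) * a⁻¹ = (a * b)⁻¹ := by
    rw [mul_inv_rev, hai, hbi, ← mul_assoc, haa, one_mul]
  have hconjz : ∀ i : ℤ, a * (a * b) ^ i * a⁻¹ = ((a * b) ^ i)⁻¹ := by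
    intro i
    have h := map_zpow (MulAut.conj a) (a * b) i
    rw [MulAut.conj_apply, MulAut.conj_apply, hconj, inv_zpow] at h
    exact h
  have hswap : ∀ i : ℤ, a * (a * b) ^ i = (a * b) ^ (-i) * a := by
    intro i
    have h := hconjz i
    rw [zpow_neg, ← h, hai, mul_assoc, mul_assoc, haa, mul_one]
  -- the order of `a * b`
  have h16 : (a * b) ^ 16 = 1 := by
    have hm48 : orderOf (a * b) ∣ 48 := by
      rw [← hG]
      exact orderOf_dvd_natCard (a * b)
    have hm0 : orderOf (a * b) ≠ 0 := (orderOf_pos (a * b)).ne'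
    have h3 : ¬ 3 ∣ orderOf (a * b) := by
      intro h3
      have ho : orderOf ((a * b) ^ (orderOf (a * b) / 3)) = 3 := orderOf_pow_orderOf_div hm0 h3
      apply hno _ ho
      have h := hconjz ((orderOf (a * b) / 3 : ℕ) : ℤ)
      rw [zpow_natCast] at h
      exact h
    have hcop : Nat.Coprime (orderOf (a * b)) 3 :=
      (Nat.coprime_comm.mp ((Nat.Prime.coprime_iff_not_dvd Nat.prime_three).mpr h3))
    have h48 : (48 : ℕ) = 16 * 3 := by norm_num
    rw [h48] at hm48
    have hm16 : orderOf (a * b) ∣ 16 := hcop.dvd_of_dvd_mul_right hm48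
    exact orderOf_dvd_iff_pow_eq_one.mp hm16
  -- the elements of the closure
  have hform : ∀ x ∈ Subgroup.closure ({a, b} : Set G),
      ∃ i : ℤ, x = (a * b) ^ i ∨ x = (a * b) ^ i * a := by
    intro x hx
    induction hx using Subgroup.closure_induction with
    | mem x hx =>
      rcases hx with rfl | hx
      · exact ⟨0, Or.inr (by rw [zpow_zero, one_mul])⟩
      · rw [Set.mem_singleton_iff] at hx
        refine ⟨-1, Or.inr ?_⟩
        rw [hx, zpow_neg, zpow_one, mul_inv_rev, inv_mul_cancel_right, hbi]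
    | one => exact ⟨0, Or.inl (zpow_zero _).symm⟩
    | mul x y _ _ ihx ihy =>
      obtain ⟨i, hi | hi⟩ := ihx <;> obtain ⟨j, hj | hj⟩ := ihy
      · exact ⟨i + j, Or.inl (by rw [hi, hj, zpow_add])⟩
      · exact ⟨i + j, Or.inr (by rw [hi, hj, zpow_add, mul_assoc])⟩
      · refine ⟨i + -j, Or.inr ?_⟩
        rw [hi, hj, mul_assoc, hswap, zpow_add, mul_assoc]
      · refine ⟨i + -j, Or.inl ?_⟩
        rw [hi, hj, mul_assoc, ← mul_assoc a, hswap, mul_assoc, haa, mul_one, zpow_add]
    | inv x _ ih =>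
      obtain ⟨i, hi | hi⟩ := ih
      · exact ⟨-i, Or.inl (by rw [hi, zpow_neg])⟩
      · refine ⟨i, Or.inr ?_⟩
        rw [hi, mul_inv_rev, hai, ← zpow_neg, hswap, neg_neg]
  rintro ⟨x, hx⟩
  obtain ⟨i, hi | hi⟩ := hform x hx
  · refine ⟨4, ?_⟩
    apply Subtype.ext
    rw [Subgroup.coe_pow, Subgroup.coe_one, Subgroup.coe_mk, hi]
    have e : ((a * b) ^ i) ^ 2 ^ 4 = ((a * b) ^ 16) ^ i := by
      rw [← zpow_natCast, ← zpow_mul, mul_comm, zpow_mul, zpow_natCast]
      norm_num
    rw [e, h16, one_zpow]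
  · refine ⟨1, ?_⟩
    apply Subtype.ext
    rw [Subgroup.coe_pow, Subgroup.coe_one, Subgroup.coe_mk, hi, pow_one, pow_two, mul_assoc,
      ← mul_assoc a, hswap, mul_assoc, haa, mul_one, ← zpow_add, add_neg_cancel, zpow_zero]

end Cfsg.Agent.Helper26.CG3
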