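import Mathlib
import Cfsg.Prelude.Def_PLocal
import Cfsg.Prelude.Def_TwoFusion
import Cfsg.Agent.Lib.Helper9.Basic
import Cfsg.Agent.Lib.Helper9.ThompsonRepl
import Cfsg.Agent.Lib.Helper9.PCoreSub
import Cfsg.Agent.Lib.Helper14.PReduced
import Cfsg.Agent.Lib.Helper19.SylowNormal

set_option autoImplicit false

/-! Glauberman's ZJ-theorem in an abstract form: a conjugation-equivariant family operator
on subgroups with the replacement property, a strongly closed subgroup of a Sylow subgroup,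
and stability of the action on normal `p`-subgroups. -/

namespace Cfsg.Agent.Helper9.ZJ

open Subgroup Cfsg.Agent.Helper9
open scoped commutatorElement

variable {G : Type*} [Group G]

/-- Axioms for the family operator. -/
structure FamAx (p : ℕ) (Fam : Subgroup G → Set (Subgroup G)) : Prop where
  le : ∀ {R A : Subgroup G}, A ∈ Fam R → A ≤ R
  comm : ∀ {R A : Subgroup G}, A ∈ Fam R → ∀ x ∈ A, ∀ y ∈ A, x * y = y * x
  nonempty : ∀ R : Subgroup G, (Fam R).Nonempty
  map : ∀ {R A : Subgroup G} (φ : G ≃* G), A ∈ Fam R →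
    A.map φ.toMonoidHom ∈ Fam (R.map φ.toMonoidHom)
  mono : ∀ {R R' A : Subgroup G}, R' ≤ R → A ∈ Fam R → A ≤ R' → A ∈ Fam R' ∧ Fam R' ⊆ Fam R
  repl : ∀ {R B : Subgroup G}, IsPGroup p R → B ≤ R → R ≤ normalizer (B : Set G) →
    ⁅⁅B, B⁆, B⁆ = ⊥ → (∃ U ∈ Fam R, ⁅B, B⁆ ≤ U ∧ ¬ B ≤ U) →
    ∃ A ∈ Fam R, ⁅B, B⁆ ≤ A ∧ ¬ B ≤ A ∧ B ≤ normalizer (A : Set G)

/-- Stability of the action on normal `p`-subgroups, in ambient form. -/
def Stab (p : ℕ) (G : Type*) [Group G] : Prop :=
  ∀ B : Subgroup G, B.Normal → IsPGroup p B → ∀ a : G,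
    ⁅⁅B, zpowers a⁆, zpowers a⁆ = ⊥ →
    ∃ T : Subgroup G, T.Normal ∧ a ∈ T ∧
      Cfsg.Agent.Helper14.PowCond p T (centralizer (B : Set G))

theorem card_lt_of_lt [Finite G] {H K : Subgroup G} (h : H < K) : Nat.card H < Nat.card K := by
  by_contra hcon
  rw [not_lt] at hcon
  exact h.ne (Subgroup.eq_of_le_of_card_ge h.le hcon)

theorem mem_normalizer_inf {Z B : Subgroup G} {g : G} (hZ : g ∈ normalizer (Z : Set G))
    (hB : g ∈ normalizer (B : Set G)) : g ∈ normalizer ((Z ⊓ B : Subgroup G) : Set G) := by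
  rw [mem_normalizer_iff] at hZ hB ⊢
  intro h
  rw [mem_inf, mem_inf, ← hZ h, ← hB h]

theorem normalizer_le_normalizer_sInf [Finite G] {p : ℕ} {Fam : Subgroup G → Set (Subgroup G)}
    (ax : FamAx p Fam) (R : Subgroup G) :
    normalizer (R : Set G) ≤ normalizer ((sInf (Fam R) : Subgroup G) : Set G) := by
  intro g hg
  apply mem_normalizer_of_conj_mem
  intro x hx
  rw [mem_sInf]
  intro A hA
  have hg' : g⁻¹ ∈ normalizer (R : Set G) := inv_mem hg
  have h1 := ax.map (MulAut.conj g⁻¹) hA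
  rw [map_conj_eq_self_of_mem_normalizer hg'] at h1
  have h2 := mem_sInf.1 hx _ h1
  rw [mem_map_conj] at h2
  simpa using h2

theorem normalizer_inf_le_of_stronglyClosed [Finite G] {P D : Subgroup G}
    (hD : Cfsg.IsStronglyClosed D P) (L : Subgroup G) :
    normalizer ((P ⊓ L : Subgroup G) : Set G) ≤ normalizer ((D ⊓ L : Subgroup G) : Set G) := by
  intro g hg
  apply mem_normalizer_of_conj_mem
  intro x hx
  obtain ⟨hxD, hxL⟩ := mem_inf.1 hx
  have h1 : x ∈ P ⊓ L := mem_inf.2 ⟨hD.1 hxD, hxL⟩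
  have h2 : g * x * g⁻¹ ∈ P ⊓ L := (mem_normalizer_iff.1 hg x).1 h1
  exact mem_inf.2 ⟨hD.2 x hxD g (mem_inf.1 h2).1, (mem_inf.1 h2).2⟩


/-- Commutators of a normal subgroup `B` with the normal closure of `Z₁` lie in a normal
subgroup `Z₂` as soon as the commutators with `Z₁` do. -/
theorem commutator_normalClosure_mem {B Z₁ Z₂ : Subgroup G} [hB : B.Normal] [hZ₂ : Z₂.Normal]
    (h : ∀ b ∈ B, ∀ z ∈ Z₁, ⁅b, z⁆ ∈ Z₂) :
    ∀ y ∈ normalClosure (Z₁ : Set G), ∀ b ∈ B, ⁅b, y⁆ ∈ Z₂ := by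
  intro y hy
  rw [normalClosure] at hy
  induction hy using Subgroup.closure_induction with
  | mem y hy =>
    intro b hb
    rw [Group.mem_conjugatesOfSet_iff] at hy
    obtain ⟨z, hz, hzy⟩ := hy
    rw [isConj_iff] at hzy
    obtain ⟨g, rfl⟩ := hzy
    have h1 : ⁅g⁻¹ * b * g, z⁆ ∈ Z₂ := by
      apply h _ _ z hz
      have := hB.conj_mem b hb g⁻¹
      simpa using this
    have h2 := hZ₂.conj_mem _ h1 g
    have e : g * ⁅g⁻¹ * b * g, z⁆ * g⁻¹ = ⁅b, g * z * g⁻¹⁆ := by
      simp only [commutatorElement_def]; group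
    rwa [e] at h2
  | one =>
    intro b _
    rw [commutatorElement_one_right]; exact one_mem _
  | mul y₁ y₂ _ _ ih₁ ih₂ =>
    intro b hb
    have e : ⁅b, y₁ * y₂⁆ = ⁅b, y₁⁆ * (y₁ * ⁅b, y₂⁆ * y₁⁻¹) := by
      simp only [commutatorElement_def]; group
    rw [e]
    exact mul_mem (ih₁ b hb) (hZ₂.conj_mem _ (ih₂ b hb) y₁)
  | inv y _ ih =>
    intro b hb
    have e : ⁅b, y⁻¹⁆ = y⁻¹ * (⁅b, y⁆)⁻¹ * y⁻¹⁻¹ := by
      simp only [commutatorElement_def]; group
    rw [e]
    exact hZ₂.conj_mem _ (inv_mem (ih b hb)) y⁻¹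


theorem commutator_lt_of_isPGroup [Finite G] {p : ℕ} [Fact p.Prime] {B : Subgroup G}
    (hBp : IsPGroup p B) (hB : B ≠ ⊥) : ⁅B, B⁆ < B := by
  haveI : Group.IsNilpotent ↥B := hBp.isNilpotent
  haveI : Nontrivial ↥B := (Subgroup.nontrivial_iff_ne_bot B).2 hB
  have h1 : _root_.commutator ↥B < ⊤ := Group.IsSolvable.commutator_lt_top_of_nontrivial ↥B
  have h2 := (Subgroup.map_lt_map_iff_of_injective B.subtype_injective).2 h1
  rwa [Subgroup.map_subtype_commutator, ← MonoidHom.range_eq_map, Subgroup.range_subtype] at h2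

/-- The main induction for the ZJ-theorem. -/
theorem zj_aux [Finite G] {p : ℕ} [Fact p.Prime] (P : Sylow p G) {D : Subgroup G}
    (hD : Cfsg.IsStronglyClosed D (P : Subgroup G)) {Fam : Subgroup G → Set (Subgroup G)}
    (ax : FamAx p Fam) (hst : Stab p G) :
    ∀ (n : ℕ) (L B : Subgroup G), L.Normal → B.Normal → IsPGroup p B → B ≤ L →
      Nat.card L + Nat.card B ≤ n → (sInf (Fam (D ⊓ L)) ⊓ B).Normal := by
  intro n
  induction n with
  | zero =>
    intro L B _ _ _ _ h
    have : 0 < Nat.card L := Nat.card_pos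
    omega
  | succ n ih =>
    intro L B hLn hBn hBp hBL hcard
    have := hLn
    have := hBn
    have hDP : D ≤ P := hD.1
    have hBP : B ≤ P := hBp.le_sylow_of_normal P
    obtain ⟨A₀, hA₀⟩ := ax.nonempty (D ⊓ L)
    set Z := sInf (Fam (D ⊓ L)) with hZdef
    set Z₁ := Z ⊓ B with hZ₁def
    have hZR : Z ≤ D ⊓ L := (sInf_le hA₀).trans (ax.le hA₀)
    have hZcomm : ∀ x ∈ Z, ∀ y ∈ Z, x * y = y * x :=
      fun x hx y hy => ax.comm hA₀ x (sInf_le hA₀ hx) y (sInf_le hA₀ hy)
    have hNZ : normalizer ((P ⊓ L : Subgroup G) : Set G) ≤ normalizer (Z : Set G) :=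
      (normalizer_inf_le_of_stronglyClosed hD L).trans (normalizer_le_normalizer_sInf ax _)
    have hNZ₁ : normalizer ((P ⊓ L : Subgroup G) : Set G) ≤ normalizer (Z₁ : Set G) := by
      intro g hg
      exact mem_normalizer_inf (hNZ hg) (by rw [normalizer_eq_top]; exact mem_top g)
    have hPN : (P : Subgroup G) ≤ normalizer ((P ⊓ L : Subgroup G) : Set G) :=
      le_normalizer.trans (Cfsg.Agent.Helper19.le_normalizer_inf_normal _ L)
    -- Step 1: reduce to `B` the normal closure of `Z₁`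
    have hle : normalClosure (Z₁ : Set G) ≤ B :=
      normalClosure_le_normal (N := B) (fun x hx => (inf_le_right : Z₁ ≤ B) hx)
    by_cases hBB : normalClosure (Z₁ : Set G) = B
    swap
    · have hlt := card_lt_of_lt (lt_of_le_of_ne hle hBB)
      have h1 : (Z ⊓ normalClosure (Z₁ : Set G)).Normal :=
        ih L _ hLn normalClosure_normal (hBp.to_le hle) (hle.trans hBL) (by omega)
      have heq : Z ⊓ normalClosure (Z₁ : Set G) = Z₁ :=
        le_antisymm (inf_le_inf_left _ hle) (le_inf inf_le_left le_normalClosure)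
      rwa [heq] at h1
    -- Step 2: `B ≤ D`
    have hBD : B ≤ D := by
      have h1 : normalClosure (Z₁ : Set G) ≤ D := by
        rw [normalClosure, closure_le]
        intro y hy
        rw [Group.mem_conjugatesOfSet_iff] at hy
        obtain ⟨z, hz, hzy⟩ := hy
        rw [isConj_iff] at hzy
        obtain ⟨g, rfl⟩ := hzy
        have hzD : z ∈ D := (hZR ((inf_le_left : Z₁ ≤ Z) hz)).1
        have hzB : z ∈ B := (inf_le_right : Z₁ ≤ B) hz
        exact hD.2 z hzD g (hBP (hBn.conj_mem z hzB g))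
      rwa [hBB] at h1
    -- Step 3: the trivial case, and the derived subgroup
    by_cases hBbot : B = ⊥
    · have : Z₁ = ⊥ := by rw [hZ₁def, hBbot, inf_bot_eq]
      rw [this]; infer_instance
    have hB'lt : ⁅B, B⁆ < B := commutator_lt_of_isPGroup hBp hBbot
    have hB'n : (⁅B, B⁆).Normal := inferInstance
    have hZ₂n : (Z ⊓ ⁅B, B⁆).Normal :=
      ih L _ hLn hB'n (hBp.to_le hB'lt.le) (hB'lt.le.trans hBL)
        (by have := card_lt_of_lt hB'lt; omega)
    haveI := hZ₂n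
    -- Step 4
    have h4 : ∀ b ∈ B, ∀ z ∈ Z₁, ⁅b, z⁆ ∈ Z ⊓ ⁅B, B⁆ := by
      intro b hb z hz
      have hzZ : z ∈ Z := (inf_le_left : Z₁ ≤ Z) hz
      have hzB : z ∈ B := (inf_le_right : Z₁ ≤ B) hz
      refine mem_inf.2 ⟨?_, commutator_mem_commutator hb hzB⟩
      have hbN : b ∈ normalizer (Z : Set G) := hNZ (hPN (hBP hb))
      have h1 : b * z * b⁻¹ ∈ Z := (mem_normalizer_iff.1 hbN z).1 hzZ
      rw [commutatorElement_def]
      exact mul_mem h1 (inv_mem hzZ)
    have h5 : ⁅B, B⁆ ≤ Z ⊓ ⁅B, B⁆ := by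
      rw [commutator_le]
      intro b hb y hy
      have hy' : y ∈ normalClosure (Z₁ : Set G) := by rw [hBB]; exact hy
      exact commutator_normalClosure_mem h4 y hy' b hb
    have hB'Z : ⁅B, B⁆ ≤ Z := h5.trans inf_le_left
    -- Step 5: class at most two
    have h6 : B ≤ centralizer ((⁅B, B⁆ : Subgroup G) : Set G) := by
      have hZ₁c : (Z₁ : Set G) ⊆ centralizer ((⁅B, B⁆ : Subgroup G) : Set G) := by
        intro z hz
        rw [SetLike.mem_coe, mem_centralizer_iff]
        intro c hc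
        exact hZcomm c (hB'Z hc) z ((inf_le_left : Z₁ ≤ Z) hz)
      have := normalClosure_le_normal hZ₁c
      rwa [hBB] at this
    have hcl2 : ⁅⁅B, B⁆, B⁆ = ⊥ := by
      rw [commutator_eq_bot_iff_le_centralizer]
      exact le_centralizer_iff.1 h6
    -- Step 6
    by_cases hall : ∀ A ∈ Fam (D ⊓ L), B ≤ A
    · have : Z₁ = B := le_antisymm inf_le_right (le_inf (le_sInf hall) le_rfl)
      rw [this]; exact hBn
    obtain ⟨U, hU'⟩ := not_forall.1 hall
    obtain ⟨hU, hBU⟩ := Classical.not_imp.1 hU'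
    have hRp : IsPGroup p (D ⊓ L : Subgroup G) := P.isPGroup'.to_le (inf_le_left.trans hDP)
    have hBR : B ≤ D ⊓ L := le_inf hBD hBL
    obtain ⟨A, hA, hB'A, hBA, hBNA⟩ := ax.repl hRp hBR
      (by rw [normalizer_eq_top]; exact le_top) hcl2 ⟨U, hU, hB'Z.trans (sInf_le hU), hBU⟩
    -- Step 7
    have hAL₁ : A ≤ (normalizer (Z₁ : Set G)).normalCore ⊓ L := by
      intro a ha
      have hza : zpowers a ≤ A := (zpowers_le).2 ha
      have hq : ⁅⁅B, zpowers a⁆, zpowers a⁆ = ⊥ := by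
        have h1 : ⁅B, zpowers a⁆ ≤ A := by
          rw [commutator_le]
          intro b hb y hy
          have hbN := hBNA hb
          have h2 : b * y * b⁻¹ ∈ A := (mem_normalizer_iff.1 hbN y).1 (hza hy)
          rw [commutatorElement_def]
          exact mul_mem h2 (inv_mem (hza hy))
        rw [commutator_eq_bot_iff_le_centralizer]
        intro x hx
        rw [mem_centralizer_iff]
        intro y hy
        exact ax.comm hA y (hza hy) x (h1 hx)
      obtain ⟨T, hTn, haT, hTpow⟩ := hst B hBn hBp a hq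
      haveI := hTn
      have hTN : T ≤ normalizer (Z₁ : Set G) := by
        intro d hd
        obtain ⟨t, ht, c, hc, rfl⟩ :=
          Cfsg.Agent.Helper14.exists_mul_of_powCond P hTn hTpow d hd
        apply mul_mem (hNZ₁ (hPN ht))
        exact centralizer_le_normalizer _
          (centralizer_le (fun x hx => (inf_le_right : Z₁ ≤ B) hx) hc)
      exact mem_inf.2 ⟨normal_le_normalCore.2 hTN haT, (ax.le hA ha).2⟩
    -- Step 8
    by_cases hLL : (normalizer (Z₁ : Set G)).normalCore ⊓ L = L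
    · have hLN : L ≤ normalizer (Z₁ : Set G) := by
        rw [← hLL]; exact inf_le_left.trans (normalCore_le _)
      have hF := Cfsg.Agent.Helper19.normalizer_inf_sup_eq_top P L
      have : normalizer (Z₁ : Set G) = ⊤ := by
        rw [eq_top_iff, ← hF]
        exact sup_le hNZ₁ hLN
      exact normalizer_eq_top_iff.1 this
    · exfalso
      have hL₁L : (normalizer (Z₁ : Set G)).normalCore ⊓ L ≤ L := inf_le_right
      have hL₁n : ((normalizer (Z₁ : Set G)).normalCore ⊓ L).Normal := inferInstance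
      have hBL₁ : B ≤ (normalizer (Z₁ : Set G)).normalCore ⊓ L :=
        le_inf (normal_le_normalCore.2 (hBP.trans (hPN.trans hNZ₁))) hBL
      have hlt := card_lt_of_lt (lt_of_le_of_ne hL₁L hLL)
      have hZ'n := ih _ B hL₁n hBn hBp hBL₁ (by omega)
      have hR'R : D ⊓ ((normalizer (Z₁ : Set G)).normalCore ⊓ L) ≤ D ⊓ L :=
        inf_le_inf_left _ hL₁L
      have hAR' : A ≤ D ⊓ ((normalizer (Z₁ : Set G)).normalCore ⊓ L) :=
        le_inf ((ax.le hA).trans inf_le_left) hAL₁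
      obtain ⟨hA', hsub⟩ := ax.mono hR'R hA hAR'
      have hZZ' : Z ≤ sInf (Fam (D ⊓ ((normalizer (Z₁ : Set G)).normalCore ⊓ L))) :=
        sInf_le_sInf hsub
      have h7 : (Z₁ : Set G) ⊆
          ((sInf (Fam (D ⊓ ((normalizer (Z₁ : Set G)).normalCore ⊓ L))) ⊓ B : Subgroup G) : Set G) :=
        fun z hz => mem_inf.2 ⟨hZZ' ((inf_le_left : Z₁ ≤ Z) hz), (inf_le_right : Z₁ ≤ B) hz⟩
      haveI := hZ'n
      have h8 := normalClosure_le_normal h7
      rw [hBB] at h8
      exact hBA (h8.trans (inf_le_left.trans (sInf_le hA')))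


/-- The abstract ZJ-theorem: the intersection of the family of `D` is normal. -/
theorem zj_normal [Finite G] {p : ℕ} [Fact p.Prime] (P : Sylow p G) {D : Subgroup G}
    (hD : Cfsg.IsStronglyClosed D (P : Subgroup G)) {Fam : Subgroup G → Set (Subgroup G)}
    (ax : FamAx p Fam) (hst : Stab p G)
    (hc : centralizer ((Cfsg.pCore p G : Subgroup G) : Set G) ≤ Cfsg.pCore p G) :
    (sInf (Fam D)).Normal := by
  have hQn : (Cfsg.pCore p G).Normal := by
    have := pCore_characteristic (G := G) p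
    infer_instance
  have hQp : IsPGroup p (Cfsg.pCore p G) := pCore_isPGroup' p G
  have hQP : Cfsg.pCore p G ≤ P := hQp.le_sylow_of_normal P
  have hmain := zj_aux P hD ax hst _ ⊤ (Cfsg.pCore p G) inferInstance hQn hQp le_top le_rfl
  rw [inf_top_eq] at hmain
  suffices h : sInf (Fam D) ≤ Cfsg.pCore p G by rwa [inf_eq_left.2 h] at hmain
  have hPZ : (P : Subgroup G) ≤ normalizer ((sInf (Fam D) : Subgroup G) : Set G) := by
    have h1 := normalizer_inf_le_of_stronglyClosed hD ⊤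
    rw [inf_top_eq, inf_top_eq] at h1
    exact le_normalizer.trans (h1.trans (normalizer_le_normalizer_sInf ax D))
  obtain ⟨A₀, hA₀⟩ := ax.nonempty D
  intro z hz
  have hzz : zpowers z ≤ sInf (Fam D) := (zpowers_le).2 hz
  have hq : ⁅⁅Cfsg.pCore p G, zpowers z⁆, zpowers z⁆ = ⊥ := by
    have h1 : ⁅Cfsg.pCore p G, zpowers z⁆ ≤ sInf (Fam D) := by
      rw [commutator_le]
      intro b hb y hy
      have hbN := hPZ (hQP hb)
      have h2 : b * y * b⁻¹ ∈ sInf (Fam D) := (mem_normalizer_iff.1 hbN y).1 (hzz hy)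
      rw [commutatorElement_def]
      exact mul_mem h2 (inv_mem (hzz hy))
    rw [commutator_eq_bot_iff_le_centralizer]
    intro x hx
    rw [mem_centralizer_iff]
    intro y hy
    exact ax.comm hA₀ y (sInf_le hA₀ (hzz hy)) x (sInf_le hA₀ (h1 hx))
  obtain ⟨T, hTn, hzT, hTpow⟩ := hst _ hQn hQp z hq
  have hTp : IsPGroup p T := by
    rintro ⟨t, ht⟩
    obtain ⟨k, hk⟩ := hTpow t ht
    obtain ⟨m, hm⟩ := hQp ⟨_, hc hk⟩
    refine ⟨k + m, ?_⟩
    apply Subtype.ext
    have hm' : (t ^ p ^ k) ^ p ^ m = 1 := congrArg Subtype.val hm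
    show t ^ p ^ (k + m) = 1
    rw [pow_add, pow_mul]
    exact hm'
  exact le_pCore' hTn hTp hzT

end Cfsg.Agent.Helper9.ZJ
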