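import Mathlib
import Cfsg.Prelude.Def_PLocal
import Cfsg.Prelude.Def_TwoFusion
import Cfsg.Agent.Lib.Helper9.ZJ
import Cfsg.Agent.Lib.Helper4.GlaubermanRepl2
import Cfsg.Agent.Lib.Helper4.Thompson
import Cfsg.Agent.Lib.Helper15.CentrallyLarge
import Cfsg.Agent.S0651
import Cfsg.Agent.S0652

set_option autoImplicit false

/-! Instances of the abstract ZJ-theorem: abelian subgroups of largest order and elementary
abelian subgroups of largest order. -/

namespace Cfsg.Agent.Helper9.ZJ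

open Subgroup Cfsg.Agent.Helper9
open scoped commutatorElement

variable {G : Type*} [Group G]

/-- The members of largest order of a class of subgroups, inside `R`. -/
def FamOf (good : Subgroup G → Prop) (R : Subgroup G) : Set (Subgroup G) :=
  {A | A ≤ R ∧ good A ∧ ∀ A' : Subgroup G, A' ≤ R → good A' → Nat.card A' ≤ Nat.card A}

theorem map_symm_map (φ : G ≃* G) (X : Subgroup G) :
    (X.map φ.toMonoidHom).map φ.symm.toMonoidHom = X := by
  rw [Subgroup.map_map]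
  convert Subgroup.map_id X
  ext x
  simp

theorem famAx_of [Finite G] {p : ℕ} (good : Subgroup G → Prop)
    (hcomm : ∀ A, good A → ∀ x ∈ A, ∀ y ∈ A, x * y = y * x) (hbot : good ⊥)
    (hmap : ∀ (φ : G ≃* G) (A : Subgroup G), good A → good (A.map φ.toMonoidHom))
    (hrepl : ∀ {R B : Subgroup G}, IsPGroup p R → B ≤ R → R ≤ normalizer (B : Set G) →
      ⁅⁅B, B⁆, B⁆ = ⊥ → (∃ U ∈ FamOf good R, ⁅B, B⁆ ≤ U ∧ ¬ B ≤ U) →
      ∃ A ∈ FamOf good R, ⁅B, B⁆ ≤ A ∧ ¬ B ≤ A ∧ B ≤ normalizer (A : Set G)) :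
    FamAx p (FamOf good) where
  le := fun h => h.1
  comm := fun h => hcomm _ h.2.1
  nonempty := by
    intro R
    have hfin : {A : Subgroup G | A ≤ R ∧ good A}.Finite := Set.toFinite _
    have hne : {A : Subgroup G | A ≤ R ∧ good A}.Nonempty := ⟨⊥, bot_le, hbot⟩
    obtain ⟨A, hA, hmax⟩ := Set.exists_max_image _ (fun A : Subgroup G => Nat.card A) hfin hne
    exact ⟨A, hA.1, hA.2, fun A' h1 h2 => hmax A' ⟨h1, h2⟩⟩
  map := by
    intro R A φ hA
    refine ⟨Subgroup.map_mono hA.1, hmap φ A hA.2.1, ?_⟩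
    intro A' hA'R hA'g
    have h1 : A'.map φ.symm.toMonoidHom ≤ R := by
      have := Subgroup.map_mono (f := φ.symm.toMonoidHom) hA'R
      rwa [map_symm_map] at this
    have h2 := hA.2.2 _ h1 (hmap φ.symm A' hA'g)
    have h3 : Nat.card (A'.map φ.symm.toMonoidHom) = Nat.card A' :=
      Subgroup.card_map_of_injective φ.symm.injective
    have h4 : Nat.card (A.map φ.toMonoidHom) = Nat.card A :=
      Subgroup.card_map_of_injective φ.injective
    omega
  mono := by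
    intro R R' A hR'R hA hAR'
    refine ⟨⟨hAR', hA.2.1, fun A' h1 h2 => hA.2.2 A' (h1.trans hR'R) h2⟩, ?_⟩
    intro X hX
    refine ⟨hX.1.trans hR'R, hX.2.1, fun A' h1 h2 => ?_⟩
    exact (hA.2.2 A' h1 h2).trans (hX.2.2 A hAR' hA.2.1)
  repl := hrepl

/-- Transport of a replacement property from the subgroup `R` as a group to the ambient
group. -/
theorem repl_transport [Finite G] {R B : Subgroup G} (hBR : B ≤ R)
    (hRB : R ≤ normalizer (B : Set G))
    (hB2 : ⁅⁅B, B⁆, B⁆ = ⊥) (F₀ : Set (Subgroup ↥R))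
    (h : ∀ (B' : Subgroup ↥R) [B'.Normal], ⁅⁅B', B'⁆, B'⁆ = ⊥ →
      (∃ U ∈ F₀, ⁅B', B'⁆ ≤ U ∧ ¬ B' ≤ U) →
      ∃ A ∈ F₀, ⁅B', B'⁆ ≤ A ∧ ¬ B' ≤ A ∧ B' ≤ normalizer (A : Set ↥R))
    (hU : ∃ U ∈ (fun A : Subgroup ↥R => A.map R.subtype) '' F₀, ⁅B, B⁆ ≤ U ∧ ¬ B ≤ U) :
    ∃ A ∈ (fun A : Subgroup ↥R => A.map R.subtype) '' F₀,
      ⁅B, B⁆ ≤ A ∧ ¬ B ≤ A ∧ B ≤ normalizer (A : Set G) := by
  obtain ⟨_, ⟨U₀, hU₀, rfl⟩, hBU, hnBU⟩ := hU
  have hB'map : (B.subgroupOf R).map R.subtype = B := Subgroup.map_subgroupOf_eq_of_le hBR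
  haveI : (B.subgroupOf R).Normal := Subgroup.normal_subgroupOf_of_le_normalizer hRB
  have hinj := R.subtype_injective
  have hcomm' : (⁅B.subgroupOf R, B.subgroupOf R⁆).map R.subtype = ⁅B, B⁆ := by
    rw [Subgroup.map_commutator, hB'map]
  have h1 : ⁅⁅B.subgroupOf R, B.subgroupOf R⁆, B.subgroupOf R⁆ = ⊥ := by
    apply Subgroup.map_injective hinj
    rw [Subgroup.map_commutator, hcomm', hB'map, hB2, Subgroup.map_bot]
  have h2 : ⁅B.subgroupOf R, B.subgroupOf R⁆ ≤ U₀ := by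
    rw [← Subgroup.map_le_map_iff_of_injective hinj, hcomm']; exact hBU
  have h3 : ¬ B.subgroupOf R ≤ U₀ := by
    rw [← Subgroup.map_le_map_iff_of_injective hinj, hB'map]; exact hnBU
  obtain ⟨A₀, hA₀, h4, h5, h6⟩ := h (B.subgroupOf R) h1 ⟨U₀, hU₀, h2, h3⟩
  refine ⟨A₀.map R.subtype, ⟨A₀, hA₀, rfl⟩, ?_, ?_, ?_⟩
  · rw [← hcomm']; exact Subgroup.map_mono h4
  · rw [← hB'map, Subgroup.map_le_map_iff_of_injective hinj]; exact h5
  · intro b hb
    apply mem_normalizer_of_conj_mem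
    rintro _ ⟨x₀, hx₀, rfl⟩
    have hbN := h6 (Subgroup.mem_subgroupOf.2 hb : (⟨b, hBR hb⟩ : ↥R) ∈ B.subgroupOf R)
    have := (mem_normalizer_iff.1 hbN x₀).1 hx₀
    exact ⟨_, this, by simp⟩


/-- The abelian subgroups of `R` of largest order, as subgroups of `G`. -/
def FamA (R : Subgroup G) : Set (Subgroup G) :=
  (fun A : Subgroup ↥R => A.map R.subtype) '' (Cfsg.maxAbelianSubgroups ↥R)

/-- The elementary abelian subgroups of `R` of largest order, as subgroups of `G`. -/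
def FamE (p : ℕ) (R : Subgroup G) : Set (Subgroup G) :=
  (fun A : Subgroup ↥R => A.map R.subtype) '' (Cfsg.maxElementaryAbelianSubgroups p ↥R)

theorem famA_eq [Finite G] (R : Subgroup G) :
    FamA R = FamOf (fun A : Subgroup G => IsMulCommutative A) R := by
  ext A
  exact Cfsg.Agent.Helper4.GR.mem_maxAbelian_image_iff R A

theorem famE_eq [Finite G] (p : ℕ) (R : Subgroup G) :
    FamE p R = FamOf (fun A : Subgroup G => Cfsg.IsElementaryAbelian p A) R := by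
  ext A
  exact Cfsg.Agent.Helper4.GR.mem_maxElementaryAbelian_image_iff p R A

theorem mem_image_top_iffA {S : Type*} [Group S] [Finite S] (X : Subgroup S) :
    X ∈ (fun A : Subgroup ↥(⊤ : Subgroup S) => A.map (⊤ : Subgroup S).subtype) ''
        (Cfsg.maxAbelianSubgroups ↥(⊤ : Subgroup S)) ↔ X ∈ Cfsg.maxAbelianSubgroups S := by
  rw [Cfsg.Agent.Helper4.GR.mem_maxAbelian_image_iff]
  constructor
  · rintro ⟨-, hc, hmax⟩
    exact ⟨hc, fun B hB => hmax B le_top hB⟩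
  · rintro ⟨hc, hmax⟩
    exact ⟨le_top, hc, fun B _ hB => hmax B hB⟩

theorem mem_image_top_iffE {S : Type*} [Group S] [Finite S] (p : ℕ) (X : Subgroup S) :
    X ∈ (fun A : Subgroup ↥(⊤ : Subgroup S) => A.map (⊤ : Subgroup S).subtype) ''
        (Cfsg.maxElementaryAbelianSubgroups p ↥(⊤ : Subgroup S)) ↔
      X ∈ Cfsg.maxElementaryAbelianSubgroups p S := by
  rw [Cfsg.Agent.Helper4.GR.mem_maxElementaryAbelian_image_iff]
  constructor
  · rintro ⟨-, hc, hmax⟩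
    exact ⟨hc, fun B hB => hmax B le_top hB⟩
  · rintro ⟨hc, hmax⟩
    exact ⟨le_top, hc, fun B _ hB => hmax B hB⟩

theorem replA [Finite G] {p : ℕ} [Fact p.Prime] (hp : p ≠ 2) {R B : Subgroup G}
    (hR : IsPGroup p R) (hBR : B ≤ R) (hRB : R ≤ normalizer (B : Set G))
    (hB2 : ⁅⁅B, B⁆, B⁆ = ⊥) (hU : ∃ U ∈ FamA R, ⁅B, B⁆ ≤ U ∧ ¬ B ≤ U) :
    ∃ A ∈ FamA R, ⁅B, B⁆ ≤ A ∧ ¬ B ≤ A ∧ B ≤ normalizer (A : Set G) := by
  apply repl_transport hBR hRB hB2 (Cfsg.maxAbelianSubgroups ↥R) _ hU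
  intro B' _ h1 h2
  have := Cfsg.Agent.S0651.result (S := ↥R) hR hp ⊤ B' h1
  simp only [mem_image_top_iffA] at this
  exact this h2

theorem replE [Finite G] {p : ℕ} [Fact p.Prime] (hp : p ≠ 2) {R B : Subgroup G}
    (hR : IsPGroup p R) (hBR : B ≤ R) (hRB : R ≤ normalizer (B : Set G))
    (hB2 : ⁅⁅B, B⁆, B⁆ = ⊥) (hU : ∃ U ∈ FamE p R, ⁅B, B⁆ ≤ U ∧ ¬ B ≤ U) :
    ∃ A ∈ FamE p R, ⁅B, B⁆ ≤ A ∧ ¬ B ≤ A ∧ B ≤ normalizer (A : Set G) := by
  apply repl_transport hBR hRB hB2 (Cfsg.maxElementaryAbelianSubgroups p ↥R) _ hU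
  intro B' _ h1 h2
  have := Cfsg.Agent.S0652.result (S := ↥R) hR hp ⊤ B' h1
  simp only [mem_image_top_iffE] at this
  exact this h2


theorem famAxA [Finite G] {p : ℕ} [Fact p.Prime] (hp : p ≠ 2) :
    FamAx p (FamA : Subgroup G → Set (Subgroup G)) := by
  have h : (FamA : Subgroup G → Set (Subgroup G)) =
      FamOf (fun A : Subgroup G => IsMulCommutative A) := funext famA_eq
  rw [h]
  apply famAx_of
  · intro A hA x hx y hy
    exact congrArg Subtype.val (hA.is_comm.comm ⟨x, hx⟩ ⟨y, hy⟩)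
  · exact Subgroup.le_centralizer_iff_isMulCommutative.1 bot_le
  · intro φ A hA
    have : IsMulCommutative ↥A := hA
    exact Subgroup.map_isMulCommutative A φ.toMonoidHom
  · intro R B hR hBR hRB hB2 hU
    rw [← famA_eq] at hU ⊢
    exact replA hp hR hBR hRB hB2 hU

theorem famAxE [Finite G] {p : ℕ} [Fact p.Prime] (hp : p ≠ 2) :
    FamAx p (FamE p : Subgroup G → Set (Subgroup G)) := by
  have h : (FamE p : Subgroup G → Set (Subgroup G)) =
      FamOf (fun A : Subgroup G => Cfsg.IsElementaryAbelian p A) := funext (famE_eq p)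
  rw [h]
  apply famAx_of
  · intro A hA x hx y hy
    exact congrArg Subtype.val (hA.1.is_comm.comm ⟨x, hx⟩ ⟨y, hy⟩)
  · exact Cfsg.Agent.Helper4.isElementaryAbelian_bot p
  · intro φ A hA
    have : IsMulCommutative ↥A := hA.1
    refine ⟨Subgroup.map_isMulCommutative A φ.toMonoidHom, ?_⟩
    rintro _ ⟨a, ha, rfl⟩
    rw [← map_pow, hA.2 a ha, map_one]
  · intro R B hR hBR hRB hB2 hU
    rw [← famE_eq] at hU ⊢
    exact replE hp hR hBR hRB hB2 hU

/-- `Z(J(D))` (abelian version) is the intersection of the abelian subgroups of `D` of largest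
order. -/
theorem centerThompsonAOf_eq [Finite G] (D : Subgroup G) :
    Cfsg.centerThompsonAOf D = sInf (FamA D) := by
  unfold Cfsg.centerThompsonAOf Cfsg.thompsonSubgroupAOf Cfsg.thompsonSubgroupA FamA
  apply le_antisymm
  · intro x hx
    obtain ⟨hxJ, hxC⟩ := mem_inf.1 hx
    obtain ⟨x₀, hx₀, rfl⟩ := hxJ
    rw [mem_sInf]
    rintro _ ⟨A₀, hA₀, rfl⟩
    have h1 : x₀ ∈ centralizer (A₀ : Set ↥D) := by
      rw [mem_centralizer_iff]
      intro a ha
      have haJ : (a : G) ∈ (sSup (Cfsg.maxAbelianSubgroups ↥D)).map D.subtype :=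
        ⟨a, le_sSup hA₀ ha, rfl⟩
      exact Subtype.ext (mem_centralizer_iff.1 hxC _ haJ)
    rw [Cfsg.Agent.Helper15.MaxAbelian.centralizer_eq hA₀] at h1
    exact ⟨x₀, h1, rfl⟩
  · intro x hx
    rw [mem_sInf] at hx
    obtain ⟨A₀, hA₀⟩ := Cfsg.Agent.Helper15.exists_maxAbelian ↥D
    obtain ⟨x₀, hx₀A, rfl⟩ := hx _ ⟨A₀, hA₀, rfl⟩
    have hx₀all : ∀ A ∈ Cfsg.maxAbelianSubgroups ↥D, x₀ ∈ A := by
      intro A hA
      obtain ⟨y, hy, hyx⟩ := hx _ ⟨A, hA, rfl⟩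
      have : y = x₀ := D.subtype_injective hyx
      rwa [← this]
    refine mem_inf.2 ⟨⟨x₀, le_sSup hA₀ hx₀A, rfl⟩, ?_⟩
    rw [mem_centralizer_iff]
    rintro _ ⟨y₀, hy₀, rfl⟩
    have hle : sSup (Cfsg.maxAbelianSubgroups ↥D) ≤ centralizer ({x₀} : Set ↥D) := by
      apply sSup_le
      intro A hA a ha
      rw [mem_centralizer_iff]
      intro z hz
      rw [Set.mem_singleton_iff] at hz
      subst hz
      have := hA.1
      exact congrArg Subtype.val (this.is_comm.comm ⟨z, hx₀all A hA⟩ ⟨a, ha⟩)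
    have := mem_centralizer_iff.1 (hle hy₀) x₀ rfl
    exact (congrArg Subtype.val this).symm

/-- `Ω₁(Z(J_e(D)))` is the intersection of the elementary abelian subgroups of `D` of largest
order. -/
theorem omegaOne_centerThompsonOf_eq [Finite G] (p : ℕ) (D : Subgroup G) :
    Cfsg.omegaOne p (Cfsg.centerThompsonOf p D) = sInf (FamE p D) := by
  unfold Cfsg.omegaOne Cfsg.centerThompsonOf Cfsg.thompsonSubgroupOf Cfsg.thompsonSubgroup FamE
  apply le_antisymm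
  · rw [closure_le]
    rintro x ⟨hx, hxp⟩
    obtain ⟨hxJ, hxC⟩ := mem_inf.1 hx
    obtain ⟨x₀, hx₀, rfl⟩ := hxJ
    rw [SetLike.mem_coe, mem_sInf]
    rintro _ ⟨A₀, hA₀, rfl⟩
    refine ⟨x₀, ?_, rfl⟩
    apply Cfsg.Agent.Helper4.mem_of_mem_maxElementaryAbelian hA₀
    · intro a ha
      have haJ : (a : G) ∈ (sSup (Cfsg.maxElementaryAbelianSubgroups p ↥D)).map D.subtype :=
        ⟨a, le_sSup hA₀ ha, rfl⟩
      exact Subtype.ext (mem_centralizer_iff.1 hxC _ haJ)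
    · apply D.subtype_injective
      rw [map_pow, hxp, map_one]
  · intro x hx
    rw [mem_sInf] at hx
    obtain ⟨A₀, hA₀⟩ := Cfsg.Agent.Helper4.maxElementaryAbelianSubgroups_nonempty (S := ↥D) p
    obtain ⟨x₀, hx₀A, rfl⟩ := hx _ ⟨A₀, hA₀, rfl⟩
    have hx₀all : ∀ A ∈ Cfsg.maxElementaryAbelianSubgroups p ↥D, x₀ ∈ A := by
      intro A hA
      obtain ⟨y, hy, hyx⟩ := hx _ ⟨A, hA, rfl⟩
      have : y = x₀ := D.subtype_injective hyx
      rwa [← this]
    apply Subgroup.subset_closure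
    refine ⟨mem_inf.2 ⟨⟨x₀, le_sSup hA₀ hx₀A, rfl⟩, ?_⟩, ?_⟩
    · rw [mem_centralizer_iff]
      rintro _ ⟨y₀, hy₀, rfl⟩
      have hle : sSup (Cfsg.maxElementaryAbelianSubgroups p ↥D) ≤
          centralizer ({x₀} : Set ↥D) := by
        apply sSup_le
        intro A hA a ha
        rw [mem_centralizer_iff]
        intro z hz
        rw [Set.mem_singleton_iff] at hz
        subst hz
        have := hA.1.1
        exact congrArg Subtype.val (this.is_comm.comm ⟨z, hx₀all A hA⟩ ⟨a, ha⟩)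
      have := mem_centralizer_iff.1 (hle hy₀) x₀ rfl
      exact (congrArg Subtype.val this).symm
    · rw [← map_pow, hA₀.1.2 x₀ hx₀A, map_one]

end Cfsg.Agent.Helper9.ZJ
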