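import Mathlib
import Cfsg.Agent.Lib.Helper1.M22LocDefs
import Cfsg.Agent.Lib.Helper6.M22BASIC1
import Cfsg.Agent.Lib.Helper6.M22BASIC2
import Cfsg.Agent.Lib.Helper6.M22SUM1
import Cfsg.Agent.Lib.Helper6.M22SUM2

/-!
# S0429 LOCAL piece IDEM (helper9 for helper1): the matrix `pp` is idempotent on `nB`.
-/

set_option autoImplicit false
set_option linter.unusedSectionVars false
set_option linter.unusedVariables false

namespace Cfsg.Agent.Helper1.M22

open Finset

variable {V : Type*} [Fintype V] [DecidableEq V] {G : SimpleGraph V} [DecidableRel G.Adj]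
  (hG : G.IsSRGWith 77 16 0 4) (o : V)

theorem idem_ii_comm (b c : V) : ii G o b c = ii G o c b := by
  unfold ii
  rw [Finset.inter_comm]

/-- the regular part of `pp` -/
def idemR (G : SimpleGraph V) [DecidableRel G.Adj] (o b c : V) : ℚ :=
  1 / 12 - ((if G.Adj b c then 1 else 0 : ℕ) : ℚ) / 8 - (ii G o b c : ℚ) / 16

theorem idem_pp_eq (b c : V) : pp G o b c = (if b = c then 1 / 4 else 0) + idemR G o b c := by
  unfold pp idemR
  split_ifs <;> push_cast <;> ring

include hG

/-- PIECE IDEM. -/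
theorem pp_idem {b b' : V} (hb : b ∈ nB G o) (hb' : b' ∈ nB G o) :
    ∑ c ∈ nB G o, pp G o b c * pp G o c b' = pp G o b b' := by
  classical
  -- the nine sums
  have h1 : ∑ c ∈ nB G o, (1 : ℚ) = 60 := by
    rw [Finset.sum_const, card_nB hG o]; norm_num
  have hx : ∑ c ∈ nB G o, ((if G.Adj b c then 1 else 0 : ℕ) : ℚ) = 12 := by
    rw [← Nat.cast_sum, Finset.sum_boole, card_nbr_B hG o hb]; norm_num
  have hy : ∑ c ∈ nB G o, ((if G.Adj c b' then 1 else 0 : ℕ) : ℚ) = 12 := by
    have e : ∀ c ∈ nB G o, ((if G.Adj c b' then 1 else 0 : ℕ) : ℚ) =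
        ((if G.Adj b' c then 1 else 0 : ℕ) : ℚ) := by
      intro c _
      simp only [G.adj_comm c b']
    rw [Finset.sum_congr rfl e, ← Nat.cast_sum, Finset.sum_boole, card_nbr_B hG o hb']; norm_num
  have hi : ∑ c ∈ nB G o, (ii G o b c : ℚ) = 60 := by
    rw [← Nat.cast_sum, sum_ii hG o hb]; norm_num
  have hj : ∑ c ∈ nB G o, (ii G o c b' : ℚ) = 60 := by
    have e : ∀ c ∈ nB G o, (ii G o c b' : ℚ) = (ii G o b' c : ℚ) := by
      intro c _; rw [idem_ii_comm]
    rw [Finset.sum_congr rfl e, ← Nat.cast_sum, sum_ii hG o hb']; norm_num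
  have hxj : ∑ c ∈ nB G o, ((if G.Adj b c then 1 else 0 : ℕ) : ℚ) * (ii G o c b' : ℚ) =
      16 - 4 * (ii G o b b' : ℚ) := by
    have h := sum_adj_ii hG o hb hb'
    have e : ∀ c ∈ nB G o, ((if G.Adj b c then 1 else 0 : ℕ) : ℚ) * (ii G o c b' : ℚ) =
        ((if G.Adj b c then ii G o c b' else 0 : ℕ) : ℚ) := by
      intro c _
      split_ifs <;> simp
    rw [Finset.sum_congr rfl e, ← Nat.cast_sum]
    have h' : ((∑ c ∈ nB G o, (if G.Adj b c then ii G o c b' else 0) : ℕ) : ℚ) +
        4 * (ii G o b b' : ℚ) = 16 := by exact_mod_cast h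
    linarith
  have hiy : ∑ c ∈ nB G o, (ii G o b c : ℚ) * ((if G.Adj c b' then 1 else 0 : ℕ) : ℚ) =
      16 - 4 * (ii G o b b' : ℚ) := by
    have h := sum_adj_ii hG o hb' hb
    have e : ∀ c ∈ nB G o, (ii G o b c : ℚ) * ((if G.Adj c b' then 1 else 0 : ℕ) : ℚ) =
        ((if G.Adj b' c then ii G o c b else 0 : ℕ) : ℚ) := by
      intro c _
      rw [idem_ii_comm o b c]
      simp only [G.adj_comm c b']
      split_ifs <;> simp
    rw [Finset.sum_congr rfl e, ← Nat.cast_sum]
    have h' : ((∑ c ∈ nB G o, (if G.Adj b' c then ii G o c b else 0) : ℕ) : ℚ) +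
        4 * (ii G o b' b : ℚ) = 16 := by exact_mod_cast h
    rw [idem_ii_comm o b' b] at h'
    linarith
  have hij : ∑ c ∈ nB G o, (ii G o b c : ℚ) * (ii G o c b' : ℚ) = 48 + 12 * (ii G o b b' : ℚ) := by
    have h := sum_ii_ii hG o hb hb'
    have e : ∀ c ∈ nB G o, (ii G o b c : ℚ) * (ii G o c b' : ℚ) =
        ((ii G o b c * ii G o c b' : ℕ) : ℚ) := by
      intro c _; push_cast; ring
    rw [Finset.sum_congr rfl e, ← Nat.cast_sum, h]
    push_cast; ring
  have hxy : ∑ c ∈ nB G o, ((if G.Adj b c then 1 else 0 : ℕ) : ℚ) *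
      ((if G.Adj c b' then 1 else 0 : ℕ) : ℚ) =
      (((nB G o).filter fun c => G.Adj b c ∧ G.Adj b' c).card : ℚ) := by
    have e : ∀ c ∈ nB G o, ((if G.Adj b c then 1 else 0 : ℕ) : ℚ) *
        ((if G.Adj c b' then 1 else 0 : ℕ) : ℚ) =
        ((if G.Adj b c ∧ G.Adj b' c then 1 else 0 : ℕ) : ℚ) := by
      intro c _
      simp only [G.adj_comm c b']
      split_ifs <;> simp_all
    rw [Finset.sum_congr rfl e, ← Nat.cast_sum, Finset.sum_boole]
    norm_num
  -- split `pp` into its diagonal and regular parts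
  have hsplit : ∀ c ∈ nB G o, pp G o b c * pp G o c b' =
      (if b = c then (1 / 4 : ℚ) * pp G o c b' else 0) +
      (if b' = c then idemR G o b c * (1 / 4 : ℚ) else 0) +
      idemR G o b c * idemR G o c b' := by
    intro c _
    have e2 : idemR G o b c * pp G o c b' =
        idemR G o b c * (if c = b' then (1 / 4 : ℚ) else 0) + idemR G o b c * idemR G o c b' := by
      rw [idem_pp_eq o c b', mul_add]
    have e3 : (if b = c then (1 / 4 : ℚ) else 0) * pp G o c b' =
        if b = c then (1 / 4 : ℚ) * pp G o c b' else 0 := by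
      rw [ite_mul, zero_mul]
    have e4 : idemR G o b c * (if c = b' then (1 / 4 : ℚ) else 0) =
        if b' = c then idemR G o b c * (1 / 4 : ℚ) else 0 := by
      rw [mul_ite, mul_zero]
      by_cases h : c = b'
      · rw [if_pos h, if_pos h.symm]
      · rw [if_neg h, if_neg (fun h' => h h'.symm)]
    rw [idem_pp_eq o b c, add_mul, e2, e3, e4, ← add_assoc]
  have hexp : ∀ c ∈ nB G o, idemR G o b c * idemR G o c b' =
      (1 : ℚ) / 144 - ((if G.Adj b c then 1 else 0 : ℕ) : ℚ) / 96 -
        ((if G.Adj c b' then 1 else 0 : ℕ) : ℚ) / 96 - (ii G o b c : ℚ) / 192 -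
        (ii G o c b' : ℚ) / 192 +
        ((if G.Adj b c then 1 else 0 : ℕ) : ℚ) * ((if G.Adj c b' then 1 else 0 : ℕ) : ℚ) / 64 +
        ((if G.Adj b c then 1 else 0 : ℕ) : ℚ) * (ii G o c b' : ℚ) / 128 +
        (ii G o b c : ℚ) * ((if G.Adj c b' then 1 else 0 : ℕ) : ℚ) / 128 +
        (ii G o b c : ℚ) * (ii G o c b' : ℚ) / 256 := by
    intro c _
    unfold idemR
    ring
  have hRR : ∑ c ∈ nB G o, idemR G o b c * idemR G o c b' =
      60 / 144 - 12 / 96 - 12 / 96 - 60 / 192 - 60 / 192 +
        (((nB G o).filter fun c => G.Adj b c ∧ G.Adj b' c).card : ℚ) / 64 +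
        (16 - 4 * (ii G o b b' : ℚ)) / 128 + (16 - 4 * (ii G o b b' : ℚ)) / 128 +
        (48 + 12 * (ii G o b b' : ℚ)) / 256 := by
    rw [Finset.sum_congr rfl hexp]
    simp only [Finset.sum_add_distrib, Finset.sum_sub_distrib, ← Finset.sum_div]
    rw [hx, hy, hi, hj, hxy, hxj, hiy, hij, h1]
  rw [Finset.sum_congr rfl hsplit, Finset.sum_add_distrib, Finset.sum_add_distrib,
    Finset.sum_ite_eq, Finset.sum_ite_eq, if_pos hb, if_pos hb', hRR]
  -- the three cases
  by_cases hbb : b = b'
  · subst hbb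
    have hI : ii G o b b = 4 := by
      unfold ii
      rw [Finset.inter_self]
      exact card_blk hG o hb
    have hN : ((nB G o).filter fun c => G.Adj b c ∧ G.Adj b c).card = 12 := by
      simp only [and_self]
      exact card_nbr_B hG o hb
    have hpp : pp G o b b = 1 / 12 := by
      unfold pp
      rw [hI]
      simp
      norm_num
    have hR : idemR G o b b = -1 / 6 := by
      unfold idemR
      rw [hI]
      simp
      norm_num
    rw [hN, hI, hpp, hR]
    norm_num
  · by_cases hadj : G.Adj b b'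
    · have hI : ii G o b b' = 0 := ii_eq_zero_of_adj hG o hadj
      have hN : ((nB G o).filter fun c => G.Adj b c ∧ G.Adj b' c).card = 0 := by
        rw [Finset.card_eq_zero, Finset.filter_eq_empty_iff]
        intro c _ hc
        exact no_triangle hG hadj hc.1 hc.2
      have hpp : pp G o b b' = -1 / 24 := by
        unfold pp
        rw [hI]
        simp [hbb, hadj]
        norm_num
      have hR : idemR G o b b' = -1 / 24 := by
        unfold idemR
        rw [hI]
        simp [hadj]
        norm_num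
      rw [hN, hI, hpp, hR]
      norm_num
    · have hN := card_cn_B hG o hb hb' hbb hadj
      have hN' : (((nB G o).filter fun c => G.Adj b c ∧ G.Adj b' c).card : ℚ) =
          4 - (ii G o b b' : ℚ) := by
        have : (((nB G o).filter fun c => G.Adj b c ∧ G.Adj b' c).card : ℚ) +
            (ii G o b b' : ℚ) = 4 := by exact_mod_cast hN
        linarith
      have hpp : pp G o b b' = 1 / 12 - (ii G o b b' : ℚ) / 16 := by
        unfold pp
        simp [hbb, hadj]
      have hR : idemR G o b b' = 1 / 12 - (ii G o b b' : ℚ) / 16 := by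
        unfold idemR
        simp [hadj]
      rw [hN', hpp, hR]
      ring

end Cfsg.Agent.Helper1.M22
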