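import Mathlib
import Cfsg.Agent.Lib.Helper1.M22LocDefs

/-!
# S0429 LOCAL piece HOFF (helper9 for helper1): every vertex outside a coclique of size 21 of an srg(77,16,0,4)
has exactly 6 neighbours in it.
-/

set_option autoImplicit false
set_option linter.unusedSectionVars false
set_option linter.unusedVariables false

namespace Cfsg.Agent.Helper1.M22

open Finset

variable {V : Type*} [Fintype V] [DecidableEq V] {G : SimpleGraph V} [DecidableRel G.Adj]
  (hG : G.IsSRGWith 77 16 0 4) (o : V)
include hG

/-- the neighbours of a vertex -/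
theorem hoff_card_nbr (c : V) : (univ.filter fun v => G.Adj v c).card = 16 := by
  have h : (univ.filter fun v => G.Adj v c) = G.neighborFinset c := by
    ext v
    simp [SimpleGraph.mem_neighborFinset, SimpleGraph.adj_comm]
  rw [h]
  exact hG.regular c

/-- the common neighbours of two non-adjacent vertices -/
theorem hoff_card_cn {u w : V} (hne : u ≠ w) (hna : ¬ G.Adj u w) :
    (univ.filter fun z => G.Adj z u ∧ G.Adj z w).card = 4 := by
  rw [← hG.of_not_adj hne hna]
  symm
  apply Fintype.card_of_subtype
  intro z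
  rw [mem_filter, SimpleGraph.mem_commonNeighbors, G.adj_comm z u, G.adj_comm z w]
  simp

/-- PIECE HOFF. -/
theorem hoffman {C : Finset V} (hC : IsCoc G C) {v : V} (hv : v ∉ C) :
    (C.filter fun c => G.Adj v c).card = 6 := by
  classical
  -- cardinalities
  have hcardC : C.card = 21 := hC.1
  have hcardCc : (Cᶜ : Finset V).card = 56 := by
    rw [Finset.card_compl, hG.card, hcardC]
  -- a vertex adjacent to a vertex of `C` is outside `C`
  have hout : ∀ c ∈ C, ∀ z, G.Adj z c → z ∈ (Cᶜ : Finset V) := by
    intro c hc z hz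
    rw [mem_compl]
    intro hzC
    exact hC.2 z hzC c hc hz
  -- first moment
  have hS1 : ∑ z ∈ (Cᶜ : Finset V), (C.filter fun c => G.Adj z c).card = 336 := by
    have h := Finset.sum_card_bipartiteAbove_eq_sum_card_bipartiteBelow
      (s := (Cᶜ : Finset V)) (t := C) (r := fun z c => G.Adj z c)
    have h1 : ∀ c ∈ C, ((Cᶜ : Finset V).bipartiteBelow (fun z c => G.Adj z c) c).card = 16 := by
      intro c hc
      rw [← hoff_card_nbr hG c]
      congr 1
      ext z
      rw [Finset.mem_bipartiteBelow, mem_filter]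
      constructor
      · intro hz; exact ⟨mem_univ _, hz.2⟩
      · intro hz; exact ⟨hout c hc z hz.2, hz.2⟩
    have h2 : ∀ z ∈ (Cᶜ : Finset V), (C.bipartiteAbove (fun z c => G.Adj z c) z).card =
        (C.filter fun c => G.Adj z c).card := fun z _ => rfl
    rw [Finset.sum_congr rfl h1, Finset.sum_const, hcardC] at h
    rw [← Finset.sum_congr rfl h2, h]
    rfl
  -- second moment
  have hS2 : ∑ z ∈ (Cᶜ : Finset V), (C.filter fun c => G.Adj z c).card ^ 2 = 2016 := by
    have h := Finset.sum_card_bipartiteAbove_eq_sum_card_bipartiteBelow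
      (s := (Cᶜ : Finset V)) (t := C ×ˢ C) (r := fun z (p : V × V) => G.Adj z p.1 ∧ G.Adj z p.2)
    have h2 : ∀ z ∈ (Cᶜ : Finset V),
        ((C ×ˢ C).bipartiteAbove (fun z (p : V × V) => G.Adj z p.1 ∧ G.Adj z p.2) z).card =
        (C.filter fun c => G.Adj z c).card ^ 2 := by
      intro z _
      rw [pow_two, ← Finset.card_product]
      congr 1
      ext p
      rw [Finset.mem_bipartiteAbove, mem_product, mem_product, mem_filter, mem_filter]
      tauto
    have h1 : ∀ p ∈ C ×ˢ C,
        ((Cᶜ : Finset V).bipartiteBelow (fun z (p : V × V) => G.Adj z p.1 ∧ G.Adj z p.2) p).card =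
        4 + (if p.1 = p.2 then 12 else 0) := by
      rintro ⟨c, c'⟩ hp
      rw [mem_product] at hp
      have hset : (Cᶜ : Finset V).bipartiteBelow
          (fun z (p : V × V) => G.Adj z p.1 ∧ G.Adj z p.2) (c, c') =
          univ.filter fun z => G.Adj z c ∧ G.Adj z c' := by
        ext z
        rw [Finset.mem_bipartiteBelow, mem_filter]
        constructor
        · intro hz; exact ⟨mem_univ _, hz.2⟩
        · intro hz; exact ⟨hout c hp.1 z hz.2.1, hz.2⟩
      rw [hset]
      by_cases hcc : c = c'
      · subst hcc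
        simp only [and_self, if_true]
        exact hoff_card_nbr hG c
      · simp only [hcc, if_false, add_zero]
        exact hoff_card_cn hG hcc (hC.2 c hp.1 c' hp.2)
    rw [Finset.sum_congr rfl h1, Finset.sum_congr rfl h2] at h
    rw [h, Finset.sum_product]
    have h3 : ∀ c ∈ C, ∑ c' ∈ C, (4 + (if c = c' then 12 else 0)) = 96 := by
      intro c hc
      rw [Finset.sum_add_distrib, Finset.sum_const, Finset.sum_ite_eq, if_pos hc, hcardC]
      rfl
    rw [Finset.sum_congr rfl h3, Finset.sum_const, hcardC]
    rfl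
  -- the variance vanishes
  have hvar : ∑ z ∈ (Cᶜ : Finset V), (((C.filter fun c => G.Adj z c).card : ℤ) - 6) ^ 2 = 0 := by
    have e : ∀ z ∈ (Cᶜ : Finset V), (((C.filter fun c => G.Adj z c).card : ℤ) - 6) ^ 2 =
        (((C.filter fun c => G.Adj z c).card ^ 2 : ℕ) : ℤ) -
          12 * (((C.filter fun c => G.Adj z c).card : ℕ) : ℤ) + 36 := by
      intro z _
      push_cast
      ring
    rw [Finset.sum_congr rfl e, Finset.sum_add_distrib, Finset.sum_sub_distrib, ← Finset.mul_sum,
      ← Nat.cast_sum, ← Nat.cast_sum, hS1, hS2, Finset.sum_const, hcardCc]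
    norm_num
  have hz := (Finset.sum_eq_zero_iff_of_nonneg (fun z _ => sq_nonneg _)).mp hvar v (mem_compl.mpr hv)
  have hz' : ((C.filter fun c => G.Adj v c).card : ℤ) - 6 = 0 := by
    exact pow_eq_zero_iff (two_ne_zero) |>.mp hz
  omega

end Cfsg.Agent.Helper1.M22
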