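import Mathlib
import Cfsg.Agent.Lib.Helper1.M22Defs

/-!
# S0429 piece STEINER (helper9 for helper1): from the local facts, the 22 cocliques of size 21 are the points and
the vertices are the blocks of a Steiner system `S(3,6,22)` whose block graph is `G`.
-/

set_option autoImplicit false

namespace Cfsg.Agent.Helper1.M22

open Finset

section

variable {V : Type*} [Fintype V] [DecidableEq V]

namespace STEINER

variable (G : SimpleGraph V) [DecidableRel G.Adj]

/-- the points: the cocliques of size 21 -/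
abbrev Pt : Type _ := {C : Finset V // IsCoc G C}

/-- the block of a vertex: the cocliques through it -/
def beta (v : V) : Finset (Pt G) := univ.filter fun C => v ∈ C.1

/-- the blocks -/
def Blk : Set (Finset (Pt G)) := Set.range (beta G)

variable {G}

theorem mem_beta {v : V} {C : Pt G} : C ∈ beta G v ↔ v ∈ C.1 := by
  simp [beta]

theorem mem_cocs {v : V} {C : Pt G} (h : C ∈ beta G v) : C.1 ∈ cocs G v := by
  rw [cocs, mem_filter]
  exact ⟨mem_univ _, C.2, mem_beta.1 h⟩

theorem card_beta (hL : Local G) (v : V) : (beta G v).card = 6 := by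
  rw [← hL.six v, ← Finset.card_map ⟨Subtype.val, Subtype.val_injective⟩]
  congr 1
  ext C
  simp only [Finset.mem_map, Function.Embedding.coeFn_mk, cocs, Finset.mem_filter, Finset.mem_univ,
    true_and, beta]
  constructor
  · rintro ⟨a, ha, rfl⟩
    exact ⟨a.2, ha⟩
  · rintro ⟨h1, h2⟩
    exact ⟨⟨C, h1⟩, h2, rfl⟩

theorem card_pts (hV : Fintype.card V = 77) (hL : Local G) : Fintype.card (Pt G) = 22 := by
  have h := Finset.sum_card_bipartiteAbove_eq_sum_card_bipartiteBelow
    (s := (univ : Finset V)) (t := (univ : Finset (Pt G))) (r := fun v C => v ∈ C.1)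
  have h1 : ∀ v ∈ (univ : Finset V),
      ((univ : Finset (Pt G)).bipartiteAbove (fun v C => v ∈ C.1) v).card = 6 :=
    fun v _ => card_beta hL v
  have h2 : ∀ C ∈ (univ : Finset (Pt G)),
      ((univ : Finset V).bipartiteBelow (fun v (C : Pt G) => v ∈ C.1) C).card = 21 := by
    intro C _
    have h3 : (univ : Finset V).bipartiteBelow (fun v (C : Pt G) => v ∈ C.1) C = C.1 := by
      ext v
      simp [Finset.mem_bipartiteBelow]
    rw [h3]
    exact C.2.1
  rw [Finset.sum_congr rfl h1, Finset.sum_congr rfl h2, Finset.sum_const, Finset.sum_const,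
    Finset.card_univ, Finset.card_univ, hV] at h
  simp only [smul_eq_mul] at h
  omega

/-- a 3-set of points lies in at most one block -/
theorem eq_of_three (hL : Local G) {v w : V} {s : Finset (Pt G)} (hs : s.card = 3)
    (hv : s ⊆ beta G v) (hw : s ⊆ beta G w) : w = v := by
  obtain ⟨C1, C2, C3, h12, h13, h23, rfl⟩ := Finset.card_eq_three.mp hs
  have m1 : C1 ∈ ({C1, C2, C3} : Finset (Pt G)) := by simp
  have m2 : C2 ∈ ({C1, C2, C3} : Finset (Pt G)) := by simp
  have m3 : C3 ∈ ({C1, C2, C3} : Finset (Pt G)) := by simp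
  exact hL.three v w C1.1 C2.1 C3.1 (mem_cocs (hv m1)) (mem_cocs (hv m2)) (mem_cocs (hv m3))
    (fun h => h12 (Subtype.ext h)) (fun h => h13 (Subtype.ext h)) (fun h => h23 (Subtype.ext h))
    (mem_beta.1 (hw m1)) (mem_beta.1 (hw m2)) (mem_beta.1 (hw m3))

theorem beta_injective (hL : Local G) : Function.Injective (beta G) := by
  intro v w h
  have hc : 3 ≤ (beta G v).card := by rw [card_beta hL v]; norm_num
  obtain ⟨s, hsub, hs⟩ := Finset.exists_subset_card_eq hc
  exact (eq_of_three hL hs hsub (h ▸ hsub)).symm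

theorem disjoint_iff_adj (hL : Local G) {v w : V} (hne : v ≠ w) :
    Disjoint (beta G v) (beta G w) ↔ G.Adj v w := by
  constructor
  · intro hd
    by_contra hadj
    obtain ⟨C, hC, hwC⟩ := hL.joined v w hne hadj
    rw [cocs, mem_filter] at hC
    exact Finset.disjoint_left.mp hd (mem_beta.2 hC.2.2 : (⟨C, hC.2.1⟩ : Pt G) ∈ beta G v)
      (mem_beta.2 hwC)
  · intro hadj
    rw [Finset.disjoint_left]
    intro C hv hw
    exact C.2.2 v (mem_beta.1 hv) w (mem_beta.1 hw) hadj

/-- every 3-set of points lies in a block (counting: `77 * C(6,3) = 1540 = C(22,3)`) -/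
theorem exists_block (hV : Fintype.card V = 77) (hL : Local G) (s : Finset (Pt G))
    (hs : s.card = 3) : ∃ v : V, s ⊆ beta G v := by
  classical
  set S : Finset (Σ _ : V, Finset (Pt G)) :=
    (univ : Finset V).sigma fun v => (beta G v).powersetCard 3 with hSdef
  set T : Finset (Finset (Pt G)) := (univ : Finset (Pt G)).powersetCard 3 with hTdef
  have hS : S.card = 1540 := by
    rw [hSdef, Finset.card_sigma]
    simp only [Finset.card_powersetCard, card_beta hL]
    rw [Finset.sum_const, Finset.card_univ, hV]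
    rfl
  have hT : T.card = 1540 := by
    rw [hTdef, Finset.card_powersetCard, Finset.card_univ, card_pts hV hL]
    rfl
  have hinj : Set.InjOn (fun p : Σ _ : V, Finset (Pt G) => p.2) (S : Set (Σ _ : V, Finset (Pt G))) := by
    rintro ⟨v, s1⟩ h1 ⟨w, s2⟩ h2 h
    simp only at h
    subst h
    rw [Finset.mem_coe, hSdef, Finset.mem_sigma, Finset.mem_powersetCard] at h1 h2
    have hwv : w = v := eq_of_three hL h1.2.2 h1.2.1 h2.2.1
    subst hwv
    rfl
  have himg : S.image (fun p => p.2) ⊆ T := by
    intro t ht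
    rw [Finset.mem_image] at ht
    obtain ⟨⟨v, s1⟩, h1, rfl⟩ := ht
    rw [hSdef, Finset.mem_sigma, Finset.mem_powersetCard] at h1
    rw [hTdef, Finset.mem_powersetCard]
    exact ⟨Finset.subset_univ _, h1.2.2⟩
  have heq : S.image (fun p => p.2) = T :=
    Finset.eq_of_subset_of_card_le himg (by rw [Finset.card_image_of_injOn hinj, hS, hT])
  have hsT : s ∈ T := by
    rw [hTdef, Finset.mem_powersetCard]
    exact ⟨Finset.subset_univ _, hs⟩
  rw [← heq, Finset.mem_image] at hsT
  obtain ⟨⟨v, s1⟩, h1, rfl⟩ := hsT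
  rw [hSdef, Finset.mem_sigma, Finset.mem_powersetCard] at h1
  exact ⟨v, h1.2.1⟩

/-- the graph isomorphism `v ↦ beta v` -/
noncomputable def iso (hL : Local G) : G ≃g Cfsg.blockGraph (Blk G) where
  toEquiv := Equiv.ofBijective (fun v => (⟨beta G v, v, rfl⟩ : ↥(Blk G)))
    ⟨fun v w h => beta_injective hL (congrArg Subtype.val h),
      fun b => by
        obtain ⟨b, v, rfl⟩ := b
        exact ⟨v, rfl⟩⟩
  map_rel_iff' := by
    intro v w
    simp only [Cfsg.blockGraph, SimpleGraph.fromRel_adj]
    constructor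
    · rintro ⟨hne, hd⟩
      have hvw : v ≠ w := by
        rintro rfl
        exact hne rfl
      rcases hd with hd | hd
      · exact (disjoint_iff_adj hL hvw).1 hd
      · exact ((disjoint_iff_adj hL hvw.symm).1 hd).symm
    · intro hadj
      have hvw : v ≠ w := G.ne_of_adj hadj
      refine ⟨?_, Or.inl ((disjoint_iff_adj hL hvw).2 hadj)⟩
      intro h
      exact hvw (beta_injective hL (congrArg Subtype.val h))

end STEINER

open STEINER in
/-- PIECE STEINER. -/
theorem exists_steiner (G : SimpleGraph V) [DecidableRel G.Adj] (hV : Fintype.card V = 77) (hL : Local G) :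
    ∃ B : Set (Finset {C : Finset V // IsCoc G C}),
      Fintype.card {C : Finset V // IsCoc G C} = 22 ∧ Cfsg.IsSteinerSystem 3 6 B ∧
        Nonempty (G ≃g Cfsg.blockGraph B) := by
  refine ⟨Blk G, card_pts hV hL, ⟨?_, ?_⟩, ⟨iso hL⟩⟩
  · rintro b ⟨v, rfl⟩
    exact card_beta hL v
  · intro s hs
    obtain ⟨v, hv⟩ := exists_block hV hL s hs
    refine ⟨beta G v, ⟨⟨v, rfl⟩, hv⟩, ?_⟩
    rintro b ⟨⟨w, rfl⟩, hw⟩
    rw [eq_of_three hL hs hv hw]

end

end Cfsg.Agent.Helper1.M22
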