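import Mathlib
import Cfsg.Agent.Lib.Helper10.TMDefs

/-!
Piece S2930-ZETAO: a `3`-subgroup `S` of the alternating group with a nontrivial orbit `O` is
centralised by a permutation of order `3` with support exactly `O` (a central element of order
`3` of the group induced by `S` on `O`).
-/

set_option autoImplicit false

namespace Cfsg.Agent.Helper10.TM

open Equiv Equiv.Perm Cfsg.Agent.Helper11.AutAlt
open scoped Pointwise

variable {n : ℕ}

theorem zetao_apply_mem (S : Subgroup (Alt n)) (x : Fin n) (s : Alt n) (hs : s ∈ S) (y : Fin n)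
    (hy : y ∈ orb S x) : (s : Perm (Fin n)) y ∈ orb S x := by
  obtain ⟨t, ht, rfl⟩ := hy
  exact ⟨s * t, S.mul_mem hs ht, rfl⟩

theorem zetao_apply_mem_iff (S : Subgroup (Alt n)) (x : Fin n) (s : Alt n) (hs : s ∈ S)
    (y : Fin n) : (s : Perm (Fin n)) y ∈ orb S x ↔ y ∈ orb S x := by
  constructor
  · intro h
    have h1 := zetao_apply_mem S x s⁻¹ (S.inv_mem hs) _ h
    have e : ((s⁻¹ : Alt n) : Perm (Fin n)) ((s : Perm (Fin n)) y) = y := by
      show ((s : Perm (Fin n))⁻¹) ((s : Perm (Fin n)) y) = y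
      simp
    rw [e] at h1
    exact h1
  · exact zetao_apply_mem S x s hs y

/-- The action of `S` on the orbit. -/
noncomputable def zetao_rho (S : Subgroup (Alt n)) (x : Fin n) :
    ↥S →* Perm ↥(orb S x) :=
  MonoidHom.mk'
    (fun s => ((s : Alt n) : Perm (Fin n)).subtypePerm
      (fun y => zetao_apply_mem_iff S x (s : Alt n) s.2 y))
    (by
      intro s t
      ext y
      rfl)

theorem zetao_rho_apply (S : Subgroup (Alt n)) (x : Fin n) (s : ↥S) (y : ↥(orb S x)) :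
    ((zetao_rho S x s y : ↥(orb S x)) : Fin n) = ((s : Alt n) : Perm (Fin n)) (y : Fin n) := rfl

theorem zetao_trans (S : Subgroup (Alt n)) (x : Fin n) (o o' : ↥(orb S x)) :
    ∃ s : ↥S, zetao_rho S x s o = o' := by
  obtain ⟨t, ht, hto⟩ := o.2
  obtain ⟨t', ht', hto'⟩ := o'.2
  refine ⟨⟨t' * t⁻¹, S.mul_mem ht' (S.inv_mem ht)⟩, ?_⟩
  apply Subtype.ext
  rw [zetao_rho_apply]
  show ((t' : Perm (Fin n)) * (t : Perm (Fin n))⁻¹) (o : Fin n) = (o' : Fin n)
  rw [← hto, ← hto']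
  simp

/-- ZETAO -/
theorem exists_zeta (S : Subgroup (Alt n)) (hS : IsPGroup 3 S) (x : Fin n)
    (hx : ∃ y ∈ orb S x, y ≠ x) :
    ∃ ζ : Perm (Fin n), ζ ^ 3 = 1 ∧ (∀ y ∈ orb S x, ζ y ≠ y) ∧ (∀ y, y ∉ orb S x → ζ y = y) ∧
      ∀ s : Alt n, s ∈ S → (s : Perm (Fin n)) * ζ = ζ * (s : Perm (Fin n)) := by
  classical
  have : Fact (Nat.Prime 3) := Nat.fact_prime_three
  have hxO : x ∈ orb S x := ⟨1, S.one_mem, rfl⟩
  -- the induced group
  have hQ : IsPGroup 3 ↥(zetao_rho S x).range :=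
    hS.of_surjective (zetao_rho S x).rangeRestrict (zetao_rho S x).rangeRestrict_surjective
  have hQnt : Nontrivial ↥(zetao_rho S x).range := by
    obtain ⟨y, hy, hyx⟩ := hx
    obtain ⟨s, hs, hsx⟩ := hy
    refine ⟨⟨⟨zetao_rho S x ⟨s, hs⟩, ⟨_, rfl⟩⟩, 1, ?_⟩⟩
    intro h
    have h1 : zetao_rho S x ⟨s, hs⟩ = 1 := congrArg Subtype.val h
    have h2 : zetao_rho S x ⟨s, hs⟩ ⟨x, hxO⟩ = ⟨x, hxO⟩ := by rw [h1]; rfl
    have h3 := congrArg Subtype.val h2
    rw [zetao_rho_apply] at h3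
    exact hyx (hsx.symm.trans h3)
  have hZnt : Nontrivial ↥(Subgroup.center ↥(zetao_rho S x).range) := hQ.center_nontrivial
  have hZ : IsPGroup 3 ↥(Subgroup.center ↥(zetao_rho S x).range) := hQ.to_subgroup _
  obtain ⟨k, hk⟩ := IsPGroup.iff_card.mp hZ
  have hk0 : k ≠ 0 := by
    intro h0
    have h1 : 1 < Nat.card ↥(Subgroup.center ↥(zetao_rho S x).range) :=
      Finite.one_lt_card_iff_nontrivial.mpr hZnt
    rw [hk, h0, pow_zero] at h1
    exact lt_irrefl _ h1
  have hdvd : 3 ∣ Nat.card ↥(Subgroup.center ↥(zetao_rho S x).range) := by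
    rw [hk]
    exact dvd_pow_self 3 hk0
  obtain ⟨z, hz⟩ := exists_prime_orderOf_dvd_card' 3 hdvd
  -- the permutation of the orbit
  set z' : Perm ↥(orb S x) := ((z : ↥(zetao_rho S x).range) : Perm ↥(orb S x)) with hz'
  have hz3 : z' ^ 3 = 1 := by
    have h1 : z ^ 3 = 1 := by rw [← hz]; exact pow_orderOf_eq_one z
    have h2 := congrArg (fun w : ↥(Subgroup.center ↥(zetao_rho S x).range) =>
      ((w : ↥(zetao_rho S x).range) : Perm ↥(orb S x))) h1
    exact h2
  have hz1 : z' ≠ 1 := by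
    intro h1
    have h2 : z = 1 := by
      apply Subtype.ext
      apply Subtype.ext
      exact h1
    rw [h2, orderOf_one] at hz
    norm_num at hz
  have hcomm : ∀ s : ↥S, zetao_rho S x s * z' = z' * zetao_rho S x s := by
    intro s
    have h1 := Subgroup.mem_center_iff.mp z.2 ⟨zetao_rho S x s, ⟨s, rfl⟩⟩
    have h2 := congrArg (fun w : ↥(zetao_rho S x).range => (w : Perm ↥(orb S x))) h1
    exact h2
  have hfp : ∀ o : ↥(orb S x), z' o ≠ o := by
    intro o ho
    apply hz1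
    ext o'
    obtain ⟨s, hs⟩ := zetao_trans S x o o'
    have h1 : z' o' = o' := by
      rw [← hs]
      have h2 : z' (zetao_rho S x s o) = (z' * zetao_rho S x s) o := rfl
      rw [h2, ← hcomm s]
      show zetao_rho S x s (z' o) = zetao_rho S x s o
      rw [ho]
    rw [h1]
    rfl
  refine ⟨Equiv.Perm.ofSubtype z', ?_, ?_, ?_, ?_⟩
  · rw [← map_pow, hz3, map_one]
  · intro y hy h1
    rw [Equiv.Perm.ofSubtype_apply_of_mem z' hy] at h1
    exact hfp ⟨y, hy⟩ (Subtype.ext h1)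
  · intro y hy
    exact Equiv.Perm.ofSubtype_apply_of_not_mem z' hy
  · intro s hs
    ext y
    rw [Equiv.Perm.mul_apply, Equiv.Perm.mul_apply]
    by_cases hy : y ∈ orb S x
    · have hsy : (s : Perm (Fin n)) y ∈ orb S x := zetao_apply_mem S x s hs y hy
      rw [Equiv.Perm.ofSubtype_apply_of_mem z' hy, Equiv.Perm.ofSubtype_apply_of_mem z' hsy]
      have h1 := hcomm ⟨s, hs⟩
      have h2 : (zetao_rho S x ⟨s, hs⟩ * z') ⟨y, hy⟩ = (z' * zetao_rho S x ⟨s, hs⟩) ⟨y, hy⟩ := by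
        rw [h1]
      have h3 := congrArg Subtype.val h2
      exact congrArg Fin.val h3
    · have hsy : (s : Perm (Fin n)) y ∉ orb S x := by
        intro h
        exact hy ((zetao_apply_mem_iff S x s hs y).mp h)
      rw [Equiv.Perm.ofSubtype_apply_of_not_mem z' hy,
        Equiv.Perm.ofSubtype_apply_of_not_mem z' hsy]

end Cfsg.Agent.Helper10.TM
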