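import Mathlib
import Cfsg.Agent.Lib.Helper10.EODefs

/-!
PIECE EO-STARCOUNT of S2264/S2265 (owner helper10): in the factorisation of a self-reciprocal
polynomial, `f` and `star f` occur with the same multiplicity.
-/

set_option autoImplicit false

open Polynomial

namespace Cfsg.Agent.Helper10.EO

section poly
variable {F : Type*} [Field F]

theorem eo_starcount_star_one : star (1 : F[X]) = 1 := by
  unfold star
  rw [coeff_one_zero, inv_one, C_1, one_mul, ← C_1, reverse_C]

/-- `star` of a product of polynomials with nonzero constant terms -/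
theorem eo_starcount_prod
    (h2 : ∀ f g : F[X], f.coeff 0 ≠ 0 → g.coeff 0 ≠ 0 → star (f * g) = star f * star g)
    (s : Multiset F[X]) (hs : ∀ f ∈ s, f.coeff 0 ≠ 0) :
    (s.map star).prod = star s.prod ∧ s.prod.coeff 0 ≠ 0 := by
  induction s using Multiset.induction_on with
  | empty =>
    rw [Multiset.map_zero, Multiset.prod_zero, eo_starcount_star_one]
    exact ⟨rfl, by rw [coeff_one_zero]; exact one_ne_zero⟩
  | cons a s ih =>
    have ha : a.coeff 0 ≠ 0 := hs a (Multiset.mem_cons_self a s)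
    obtain ⟨ih1, ih2⟩ := ih (fun f hf => hs f (Multiset.mem_cons_of_mem hf))
    rw [Multiset.map_cons, Multiset.prod_cons, Multiset.prod_cons, ih1, h2 a _ ha ih2]
    refine ⟨rfl, ?_⟩
    rw [mul_coeff_zero]
    exact mul_ne_zero ha ih2

theorem count_star_of [DecidableEq F[X]]
    (h1 : ∀ f : F[X], f.coeff 0 ≠ 0 → (star f).Monic ∧ (star f).natDegree = f.natDegree ∧
      (star f).coeff 0 ≠ 0 ∧ (f.Monic → star (star f) = f))
    (h2 : (∀ f g : F[X], f.coeff 0 ≠ 0 → g.coeff 0 ≠ 0 → star (f * g) = star f * star g) ∧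
      (∀ f : F[X], f.coeff 0 ≠ 0 → Irreducible f → Irreducible (star f)))
    (huniq : ∀ s t : Multiset F[X], (∀ f ∈ s, f.Monic ∧ Irreducible f) →
      (∀ f ∈ t, f.Monic ∧ Irreducible f) → s.prod = t.prod → s = t)
    (s : Multiset F[X])
    (hs : ∀ f ∈ s, f.Monic ∧ Irreducible f ∧ f.coeff 0 ≠ 0) (hrec : star s.prod = s.prod)
    (f : F[X]) (hf : f ∈ s) : s.count (star f) = s.count f := by
  have hprod := (eo_starcount_prod h2.1 s (fun g hg => (hs g hg).2.2)).1
  have ht : ∀ g ∈ s.map star, g.Monic ∧ Irreducible g := by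
    intro g hg
    obtain ⟨g', hg', rfl⟩ := Multiset.mem_map.1 hg
    exact ⟨(h1 g' (hs g' hg').2.2).1, h2.2 g' (hs g' hg').2.2 (hs g' hg').2.1⟩
  have hts : s.map star = s :=
    huniq (s.map star) s ht (fun g hg => ⟨(hs g hg).1, (hs g hg).2.1⟩) (by rw [hprod, hrec])
  have hinj : Set.InjOn (star : F[X] → F[X]) {x | x ∈ s} := by
    intro g hg g' hg' hgg'
    have e1 := (h1 g (hs g hg).2.2).2.2.2 (hs g hg).1
    have e2 := (h1 g' (hs g' hg').2.2).2.2.2 (hs g' hg').1
    rw [← e1, ← e2, hgg']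
  have := Multiset.count_map_eq_count star s hinj f hf
  rw [hts] at this
  exact this

end poly

end Cfsg.Agent.Helper10.EO
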