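import Mathlib
import Cfsg.Prelude.Def_Classical
import Cfsg.Agent.Lib.Helper10.EODefs

/-!
PIECE EO-WRAPOM of S2264/S2265 (owner helper10): from the matrix statement (`A ^ N = ±1`) to the
bound for the element orders of `PΩ(Q)`.
-/

set_option autoImplicit false

open Polynomial Matrix

namespace Cfsg.Agent.Helper10.EO

section mat
variable {F : Type*} [Field F]

theorem pomega_bound_of_core [Fintype F] {ι : Type} [Fintype ι] [DecidableEq ι] (Q : (ι → F) → F)
    (m : ℕ)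
    (hcore : ∀ A : Matrix ι ι F, (∀ v, Q (A *ᵥ v) = Q v) →
      ∃ N : ℕ, 0 < N ∧ (Fintype.card F - 1) * N ≤ Fintype.card F ^ (m + 1) ∧
        (A ^ N = 1 ∨ A ^ N = -1))
    (g : Cfsg.POmega F Q) : (Fintype.card F - 1) * orderOf g ≤ Fintype.card F ^ (m + 1) := by
  obtain ⟨ω, rfl⟩ := QuotientGroup.mk_surjective g
  have hA : ∀ v, Q (((ω.1.1 : GL ι F) : Matrix ι ι F) *ᵥ v) = Q v := fun v => ω.1.2 v v
  obtain ⟨N, hN0, hNle, hAN⟩ := hcore _ hA
  have hval1 : ∀ η : Cfsg.Omega F Q, (((ω ^ N * η).1.1 : GL ι F) : Matrix ι ι F) =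
      ((ω.1.1 : GL ι F) : Matrix ι ι F) ^ N * ((η.1.1 : GL ι F) : Matrix ι ι F) := by
    intro η
    rw [Subgroup.coe_mul, Subgroup.coe_mul, Units.val_mul, Subgroup.coe_pow, Subgroup.coe_pow,
      Units.val_pow_eq_pow_val]
  have hval2 : ∀ η : Cfsg.Omega F Q, (((η * ω ^ N).1.1 : GL ι F) : Matrix ι ι F) =
      ((η.1.1 : GL ι F) : Matrix ι ι F) * ((ω.1.1 : GL ι F) : Matrix ι ι F) ^ N := by
    intro η
    rw [Subgroup.coe_mul, Subgroup.coe_mul, Units.val_mul, Subgroup.coe_pow, Subgroup.coe_pow,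
      Units.val_pow_eq_pow_val]
  have hcen : ω ^ N ∈ Subgroup.center (Cfsg.Omega F Q) := by
    rw [Subgroup.mem_center_iff]
    intro η
    apply Subtype.ext
    apply Subtype.ext
    apply Units.ext
    rw [hval2, hval1]
    rcases hAN with h | h
    · rw [h, one_mul, mul_one]
    · rw [h, neg_one_mul, mul_neg_one]
  have hpow : (QuotientGroup.mk ω : Cfsg.POmega F Q) ^ N = 1 := by
    rw [← QuotientGroup.mk_pow, QuotientGroup.eq_one_iff]
    exact hcen
  have hle : orderOf (QuotientGroup.mk ω : Cfsg.POmega F Q) ≤ N :=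
    Nat.le_of_dvd hN0 (orderOf_dvd_of_pow_eq_one hpow)
  exact (Nat.mul_le_mul_left _ hle).trans hNle

end mat

end Cfsg.Agent.Helper10.EO
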