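import Mathlib
import Cfsg.Prelude.Def_Classical
import Cfsg.Prelude.Def_LieClassical
import Cfsg.Agent.Lib.Helper10.PUDefs
import Cfsg.Agent.Lib.Helper10.EOAssembly
import Cfsg.Agent.Lib.Helper12.AOMINT
import Cfsg.Agent.Lib.Helper4.AOP2C
import Cfsg.Agent.Lib.Helper11.Unitary2
import Cfsg.Agent.Lib.Helper27.EOUNIQ
import Cfsg.Agent.Lib.Helper9.EOSTARCOUNT

/-!
PIECE PU-DAGCOUNT of S2263 (owner helper10): in the factorisation of a `dagger`-fixed polynomial,
`f` and `dagger σ f` occur with the same multiplicity.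
-/

set_option autoImplicit false

namespace Cfsg.Agent.Helper10.PU

open Polynomial Matrix
open Cfsg.Agent.Helper10.EO (star)

section poly
variable {F : Type*} [Field F]

/-- `T` of a product of polynomials with nonzero constant terms -/
theorem pu_dagcount_prod (T : F[X] → F[X]) (hT1 : T 1 = 1)
    (h2 : ∀ f g : F[X], f.coeff 0 ≠ 0 → g.coeff 0 ≠ 0 → T (f * g) = T f * T g)
    (s : Multiset F[X]) (hs : ∀ f ∈ s, f.coeff 0 ≠ 0) :
    (s.map T).prod = T s.prod ∧ s.prod.coeff 0 ≠ 0 := by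
  induction s using Multiset.induction_on with
  | empty =>
    rw [Multiset.map_zero, Multiset.prod_zero, hT1]
    exact ⟨rfl, by rw [coeff_one_zero]; exact one_ne_zero⟩
  | cons a s ih =>
    have ha : a.coeff 0 ≠ 0 := hs a (Multiset.mem_cons_self a s)
    obtain ⟨ih1, ih2⟩ := ih (fun f hf => hs f (Multiset.mem_cons_of_mem hf))
    rw [Multiset.map_cons, Multiset.prod_cons, Multiset.prod_cons, ih1, h2 a _ ha ih2]
    refine ⟨rfl, ?_⟩
    rw [mul_coeff_zero]
    exact mul_ne_zero ha ih2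

theorem pu_dagcount_gen [DecidableEq F[X]] (T : F[X] → F[X]) (hT1 : T 1 = 1)
    (h1 : ∀ f : F[X], f.coeff 0 ≠ 0 → (T f).Monic ∧ (T f).natDegree = f.natDegree ∧
      (T f).coeff 0 ≠ 0 ∧ (f.Monic → T (T f) = f))
    (h2 : (∀ f g : F[X], f.coeff 0 ≠ 0 → g.coeff 0 ≠ 0 → T (f * g) = T f * T g) ∧
      (∀ f : F[X], f.coeff 0 ≠ 0 → Irreducible f → Irreducible (T f)))
    (s : Multiset F[X])
    (hs : ∀ f ∈ s, f.Monic ∧ Irreducible f ∧ f.coeff 0 ≠ 0) (hrec : T s.prod = s.prod)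
    (f : F[X]) (hf : f ∈ s) : s.count (T f) = s.count f := by
  have hprod := (pu_dagcount_prod T hT1 h2.1 s (fun g hg => (hs g hg).2.2)).1
  have ht : ∀ g ∈ s.map T, g.Monic ∧ Irreducible g := by
    intro g hg
    obtain ⟨g', hg', rfl⟩ := Multiset.mem_map.1 hg
    exact ⟨(h1 g' (hs g' hg').2.2).1, h2.2 g' (hs g' hg').2.2 (hs g' hg').2.1⟩
  have hts : s.map T = s :=
    Cfsg.Agent.Helper10.EO.factorization_unique (s.map T) s ht
      (fun g hg => ⟨(hs g hg).1, (hs g hg).2.1⟩) (by rw [hprod, hrec])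
  have hinj : Set.InjOn T {x | x ∈ s} := by
    intro g hg g' hg' hgg'
    have e1 := (h1 g (hs g hg).2.2).2.2.2 (hs g hg).1
    have e2 := (h1 g' (hs g' hg').2.2).2.2.2 (hs g' hg').1
    rw [← e1, ← e2, hgg']
  have := Multiset.count_map_eq_count T s hinj f hf
  rw [hts] at this
  exact this

/-- PIECE PU-DAGCOUNT. -/
theorem count_dagger_of [DecidableEq F[X]] (σ : F →+* F)
    (h1 : ∀ f : F[X], f.coeff 0 ≠ 0 → (dagger σ f).Monic ∧ (dagger σ f).natDegree = f.natDegree ∧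
      (dagger σ f).coeff 0 ≠ 0 ∧ (f.Monic → dagger σ (dagger σ f) = f))
    (h2 : (∀ f g : F[X], f.coeff 0 ≠ 0 → g.coeff 0 ≠ 0 →
        dagger σ (f * g) = dagger σ f * dagger σ g) ∧
      (∀ f : F[X], f.coeff 0 ≠ 0 → Irreducible f → Irreducible (dagger σ f)))
    (s : Multiset F[X])
    (hs : ∀ f ∈ s, f.Monic ∧ Irreducible f ∧ f.coeff 0 ≠ 0) (hrec : dagger σ s.prod = s.prod)
    (f : F[X]) (hf : f ∈ s) : s.count (dagger σ f) = s.count f := by
  have hT1 : dagger σ (1 : F[X]) = 1 := by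
    unfold dagger
    rw [Polynomial.map_one]
    exact Cfsg.Agent.Helper10.EO.eo_starcount_star_one
  exact pu_dagcount_gen (dagger σ) hT1 h1 h2 s hs hrec f hf

end poly

end Cfsg.Agent.Helper10.PU
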