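import Mathlib
import Cfsg.Prelude.Def_Classical
import Cfsg.Prelude.Def_LieClassical
import Cfsg.Agent.Lib.Helper10.PUDefs
import Cfsg.Agent.Lib.Helper10.EOAssembly
import Cfsg.Agent.Lib.Helper12.AOMINT
import Cfsg.Agent.Lib.Helper4.AOP2C
import Cfsg.Agent.Lib.Helper11.Unitary2

/-!
PIECE PU-WRAP of S2263 (owner helper10): a scalar power gives a bound for the order modulo the
centre.
-/

set_option autoImplicit false

namespace Cfsg.Agent.Helper10.PU

open Polynomial Matrix
open Cfsg.Agent.Helper10.EO (star)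

section mat
open Cfsg.Agent.Helper11.Herm
variable {F : Type*} [Field F]

/-- PIECE PU-WRAP. -/
theorem orderOf_mk_le (n q : ℕ) (g : ↥(Cfsg.GU n F q)) (k : ℕ) (hk : 0 < k) (c : F)
    (h : ((g : Matrix.GeneralLinearGroup (Fin n) F) : Matrix (Fin n) (Fin n) F) ^ k =
      c • (1 : Matrix (Fin n) (Fin n) F)) :
    orderOf (QuotientGroup.mk g : ↥(Cfsg.GU n F q) ⧸ Subgroup.center ↥(Cfsg.GU n F q)) ≤ k := by
  have hcen : g ^ k ∈ Subgroup.center ↥(Cfsg.GU n F q) := by
    rw [Subgroup.mem_center_iff]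
    intro x
    apply Subtype.ext
    apply Units.ext
    rw [Subgroup.coe_mul, Subgroup.coe_mul, Units.val_mul, Units.val_mul, Subgroup.coe_pow,
      Units.val_pow_eq_pow_val, h, Matrix.mul_smul, Matrix.smul_mul, mul_one, one_mul]
  have h1 : (QuotientGroup.mk g : ↥(Cfsg.GU n F q) ⧸ Subgroup.center ↥(Cfsg.GU n F q)) ^ k = 1 := by
    rw [← QuotientGroup.mk_pow, QuotientGroup.eq_one_iff]
    exact hcen
  exact orderOf_le_of_pow_eq_one hk h1

end mat

end Cfsg.Agent.Helper10.PU
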