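import Mathlib
import Cfsg.Prelude.Def_LocalEven
import Cfsg.Agent.Lib.Helper10.TMDefs
import Cfsg.Agent.Lib.Helper15.PMinimal

/-!
Piece S2930-TRANSPORT: `IsPMinimal` along a group isomorphism, and the uniqueness property `Unq`
of a Sylow `3`-subgroup of a `3`-minimal alternating group.
-/

set_option autoImplicit false

namespace Cfsg.Agent.Helper10.TM

open Equiv Equiv.Perm Cfsg.Agent.Helper11.AutAlt
open scoped Pointwise

variable {n : ℕ}

/-- TRANSPORT -/
theorem isPMinimal_of_mulEquiv {p : ℕ} {G H : Type*} [Group G] [Group H] (e : G ≃* H)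
    (h : Cfsg.IsPMinimal p G) : Cfsg.IsPMinimal p H := by
  intro S
  have hr : (S : Subgroup H) ≤ e.toMonoidHom.range := by
    intro x _
    exact ⟨e.symm x, e.apply_symm_apply x⟩
  have hinj : Function.Injective e.toMonoidHom := e.injective
  obtain ⟨hnn, M, ⟨hM, hSM⟩, huniq⟩ := h (S.comapOfInjective e.toMonoidHom hinj hr)
  rw [Sylow.coe_comapOfInjective] at hnn hSM
  have hc : ∀ K : Subgroup H, e.comapSubgroup K = Subgroup.comap e.toMonoidHom K := by
    intro K
    rw [MulEquiv.coe_comapSubgroup]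
  refine ⟨?_, e.comapSubgroup.symm M, ⟨?_, ?_⟩, ?_⟩
  · intro hn
    exact hnn (hn.comap e.toMonoidHom)
  · exact (OrderIso.isCoatom_iff e.comapSubgroup.symm M).mpr hM
  · rw [OrderIso.le_symm_apply, hc]
    exact hSM
  · rintro M'' ⟨hM'', hSM''⟩
    have h1 : IsCoatom (e.comapSubgroup M'') := (OrderIso.isCoatom_iff e.comapSubgroup M'').mpr hM''
    have h2 : Subgroup.comap e.toMonoidHom (S : Subgroup H) ≤ e.comapSubgroup M'' := by
      rw [← hc]
      exact e.comapSubgroup.monotone hSM''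
    have h3 : e.comapSubgroup M'' = M := huniq _ ⟨h1, h2⟩
    rw [← h3, OrderIso.symm_apply_apply]

/-- UNQ -/
theorem unq_of_isPMinimal (h : Cfsg.IsPMinimal 3 (Alt n)) (S : Sylow 3 (Alt n)) :
    Unq (S : Subgroup (Alt n)) := by
  have : Fact (Nat.Prime 3) := Nat.fact_prime_three
  intro H₁ H₂ h1 h2 hn1 hn2 htop
  obtain ⟨-, M, ⟨hM, hSM⟩, -⟩ := h S
  have hle1 : H₁ ≤ M := Cfsg.Agent.Helper15.pMin_le_of_sylow_le h S hM hSM h1 hn1
  have hle2 : H₂ ≤ M := Cfsg.Agent.Helper15.pMin_le_of_sylow_le h S hM hSM h2 hn2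
  apply hM.1
  rw [eq_top_iff, ← htop]
  exact sup_le hle1 hle2

end Cfsg.Agent.Helper10.TM
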