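import Mathlib
import Cfsg.Prelude.Def_Sporadic_a

set_option autoImplicit false

namespace Cfsg.Agent.Helper9

open Cfsg
open scoped Pointwise

theorem one_mem_golayCode : (1 : GolayPt → ZMod 2) ∈ golayCode :=
  Submodule.subset_span (Set.mem_union_right _ (Set.mem_singleton 1))

theorem qrWord_mem_golayCode (t : ZMod 23) : qrWord t ∈ golayCode :=
  Submodule.subset_span (Set.mem_union_left _ ⟨t, rfl⟩)

/-- a word given by an explicit combination of generators lies in the code -/
theorem comb_mem_golayCode (l : List (ZMod 23)) (e : ZMod 2) :
    (fun p => (l.map (fun s => qrWord s p)).sum + e) ∈ golayCode := by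
  have h1 : (fun p => (l.map (fun s => qrWord s p)).sum) ∈ golayCode := by
    induction l with
    | nil =>
      have : (fun p : GolayPt => (([] : List (ZMod 23)).map (fun s => qrWord s p)).sum) = 0 := by
        funext p; simp
      rw [this]
      exact golayCode.zero_mem
    | cons a l ih =>
      have : (fun p => ((a :: l).map (fun s => qrWord s p)).sum) =
          qrWord a + (fun p => (l.map (fun s => qrWord s p)).sum) := by
        funext p; simp
      rw [this]
      exact golayCode.add_mem (qrWord_mem_golayCode a) ih
  have h2 : (fun _ : GolayPt => e) ∈ golayCode := by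
    have : (fun _ : GolayPt => e) = e • (1 : GolayPt → ZMod 2) := by
      funext p; simp
    rw [this]
    exact golayCode.smul_mem e one_mem_golayCode
  exact golayCode.add_mem h1 h2

/-- A permutation `σ` of the 24 points such that `w ∘ σ` lies in the code for every generator `w`
belongs to the group of the code. -/
theorem mem_M24_of_comp_mem (σ : Equiv.Perm GolayPt)
    (h : ∀ t : ZMod 23, qrWord t ∘ σ ∈ golayCode) : σ ∈ M24 := by
  -- every codeword composed with σ is a codeword
  have hall : ∀ w ∈ golayCode, w ∘ σ ∈ golayCode := by
    have hmap : golayCode.map (LinearMap.funLeft (ZMod 2) (ZMod 2) σ) ≤ golayCode := by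
      unfold golayCode
      rw [Submodule.map_span_le]
      rintro m (⟨t, rfl⟩ | hm)
      · exact h t
      · rw [Set.mem_singleton_iff] at hm
        subst hm
        have : (LinearMap.funLeft (ZMod 2) (ZMod 2) σ) (1 : GolayPt → ZMod 2) = 1 := by
          funext p; simp [LinearMap.funLeft_apply]
        rw [this]
        exact one_mem_golayCode
    intro w hw
    exact hmap ⟨w, hw, rfl⟩
  have hfin : (supports (golayCode : Set (GolayPt → ZMod 2))).Finite := Set.toFinite _
  have hinv : σ⁻¹ ∈ MulAction.stabilizer (Equiv.Perm GolayPt)
      (supports (golayCode : Set (GolayPt → ZMod 2))) := by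
    rw [MulAction.mem_stabilizer_set' hfin]
    rintro _ ⟨w, hw, rfl⟩
    refine ⟨w ∘ σ, hall w hw, ?_⟩
    ext j
    rw [Finset.mem_inv_smul_finset_iff]
    simp [support₂, Equiv.Perm.smul_def]
  have := Subgroup.inv_mem _ hinv
  rwa [inv_inv] at this

end Cfsg.Agent.Helper9
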