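import Mathlib
import Cfsg.Agent.Lib.Helper15.S62Defs

/-!
PIECE S62-DETW of S2362 (owner helper15): multiplication by an element of norm-one type
`l ^ (q^k + 1) = 1` in the field with `q^(2k)` elements has determinant one over `F`.
-/

set_option autoImplicit false
set_option linter.unusedVariables false

open Polynomial

namespace Cfsg.Agent.Helper15.S62

universe u

section linalg

variable {F : Type u} [Field F] {V : Type u} [AddCommGroup V] [Module F V]

theorem det_mul_eq_one [Fintype F] {L : Type u} [Field L] [Algebra F L] [Finite L] (k : ℕ)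
    (hk : 1 ≤ k) (hdim : Module.finrank F L = 2 * k) (l : L)
    (hl : l ^ (Fintype.card F ^ k + 1) = 1) :
    LinearMap.det (LinearMap.mulLeft F l) = 1 := by
  have hnorm : Algebra.norm F l = LinearMap.det (LinearMap.mulLeft F l) := by
    rw [Algebra.norm_apply]
    rfl
  rw [← hnorm]
  apply (algebraMap F L).injective
  rw [FiniteField.algebraMap_norm_eq_pow_sum, map_one, hdim, Nat.card_eq_fintype_card]
  have hsum : ∑ i ∈ Finset.range (2 * k), Fintype.card F ^ i =
      (Fintype.card F ^ k + 1) * ∑ i ∈ Finset.range k, Fintype.card F ^ i := by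
    rw [two_mul, Finset.sum_range_add, add_mul, one_mul, Finset.mul_sum, add_comm]
    congr 1
    apply Finset.sum_congr rfl
    intro i _
    rw [pow_add]
  rw [hsum, pow_mul, hl, one_pow]

end linalg

end Cfsg.Agent.Helper15.S62
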