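import Mathlib
import Cfsg.Agent.Lib.Helper15.S62Defs
import Cfsg.Agent.Lib.Helper2.SpCenter

/-!
PIECE S62-PROD of S2362 (owner helper15): orthogonal direct sum of two alternating nondegenerate
forms with isometries of coprime orders.
-/

set_option autoImplicit false
set_option linter.unusedVariables false

open Polynomial

namespace Cfsg.Agent.Helper15.S62

universe u

/-- the block diagonal embedding of automorphism groups -/
def s62_prod_hom (F : Type*) [Field F] (U₁ U₂ : Type*) [AddCommGroup U₁] [Module F U₁]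
    [AddCommGroup U₂] [Module F U₂] :
    (U₁ ≃ₗ[F] U₁) × (U₂ ≃ₗ[F] U₂) →* ((U₁ × U₂) ≃ₗ[F] (U₁ × U₂)) where
  toFun p := p.1.prodCongr p.2
  map_one' := by
    ext x <;> rfl
  map_mul' p p' := by
    ext x <;> rfl

theorem s62_prod_hom_apply (F : Type*) [Field F] (U₁ U₂ : Type*) [AddCommGroup U₁] [Module F U₁]
    [AddCommGroup U₂] [Module F U₂] (p : (U₁ ≃ₗ[F] U₁) × (U₂ ≃ₗ[F] U₂)) (x : U₁ × U₂) :
    s62_prod_hom F U₁ U₂ p x = (p.1 x.1, p.2 x.2) := rfl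

theorem s62_prod_hom_injective (F : Type*) [Field F] (U₁ U₂ : Type*) [AddCommGroup U₁]
    [Module F U₁] [AddCommGroup U₂] [Module F U₂] :
    Function.Injective (s62_prod_hom F U₁ U₂) := by
  intro p p' h
  refine Prod.ext ?_ ?_
  · ext x
    have := congrArg (fun f => (f (x, (0 : U₂))).1) h
    simpa [s62_prod_hom_apply] using this
  · ext x
    have := congrArg (fun f => (f ((0 : U₁), x)).2) h
    simpa [s62_prod_hom_apply] using this

section model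

variable {F : Type u} [Field F]

theorem prod_model {U₁ : Type*} {U₂ : Type*} [AddCommGroup U₁] [Module F U₁] [AddCommGroup U₂]
    [Module F U₂] (ω₁ : LinearMap.BilinForm F U₁) (ω₂ : LinearMap.BilinForm F U₂)
    (h₁ : ∀ x, ω₁ x x = 0) (h₂ : ∀ x, ω₂ x x = 0) (n₁ : ∀ x, (∀ y, ω₁ x y = 0) → x = 0)
    (n₂ : ∀ x, (∀ y, ω₂ x y = 0) → x = 0) (g₁ : U₁ ≃ₗ[F] U₁) (g₂ : U₂ ≃ₗ[F] U₂)
    (i₁ : ∀ x y, ω₁ (g₁ x) (g₁ y) = ω₁ x y) (i₂ : ∀ x y, ω₂ (g₂ x) (g₂ y) = ω₂ x y)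
    (hcop : Nat.Coprime (orderOf g₁) (orderOf g₂)) (ho₁ : 0 < orderOf g₁) (ho₂ : 0 < orderOf g₂)
    (hneg : ∀ j : ℕ, ∃ x, (g₂ ^ j) x ≠ -x) :
    ∃ (ω : LinearMap.BilinForm F (U₁ × U₂)) (g : (U₁ × U₂) ≃ₗ[F] (U₁ × U₂)),
      (∀ x, ω x x = 0) ∧ (∀ x, (∀ y, ω x y = 0) → x = 0) ∧ (∀ x y, ω (g x) (g y) = ω x y) ∧
      orderOf g = orderOf g₁ * orderOf g₂ ∧ ∀ j : ℕ, ∃ x, (g ^ j) x ≠ -x := by
  set ω : LinearMap.BilinForm F (U₁ × U₂) :=
    ω₁.compl₁₂ (LinearMap.fst F U₁ U₂) (LinearMap.fst F U₁ U₂) +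
      ω₂.compl₁₂ (LinearMap.snd F U₁ U₂) (LinearMap.snd F U₁ U₂) with hω
  have hωa : ∀ x y : U₁ × U₂, ω x y = ω₁ x.1 y.1 + ω₂ x.2 y.2 := by
    intro x y
    rw [hω, LinearMap.add_apply, LinearMap.add_apply, LinearMap.compl₁₂_apply,
      LinearMap.compl₁₂_apply]
    rfl
  set g : (U₁ × U₂) ≃ₗ[F] (U₁ × U₂) := s62_prod_hom F U₁ U₂ (g₁, g₂) with hg
  have hga : ∀ x : U₁ × U₂, g x = (g₁ x.1, g₂ x.2) := fun x => rfl
  have hgpow : ∀ (j : ℕ) (x : U₁ × U₂), (g ^ j) x = ((g₁ ^ j) x.1, (g₂ ^ j) x.2) := by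
    intro j x
    rw [hg, ← map_pow, s62_prod_hom_apply]
    rfl
  refine ⟨ω, g, ?_, ?_, ?_, ?_, ?_⟩
  · intro x
    rw [hωa, h₁, h₂, add_zero]
  · intro x hx
    refine Prod.ext ?_ ?_
    · apply n₁
      intro y
      have := hx (y, 0)
      rw [hωa] at this
      simpa using this
    · apply n₂
      intro y
      have := hx (0, y)
      rw [hωa] at this
      simpa using this
  · intro x y
    rw [hωa, hωa, hga, hga, i₁, i₂]
  · rw [hg, orderOf_injective _ (s62_prod_hom_injective F U₁ U₂), Prod.orderOf]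
    exact hcop.lcm_eq_mul
  · intro j
    obtain ⟨x₂, hx₂⟩ := hneg j
    refine ⟨(0, x₂), ?_⟩
    rw [hgpow]
    intro h
    apply hx₂
    have := congrArg Prod.snd h
    simpa using this

end model

end Cfsg.Agent.Helper15.S62
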