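import Mathlib
import Cfsg.Agent.Lib.Helper15.S62Defs
import Cfsg.Agent.Lib.Helper2.SpCenter

/-!
PIECE S62-TOEND of S2362 (owner helper15): `g ↦ toEnd g` is an injective monoid homomorphism,
compatible with `det`, and `toEnd g` preserves `bstd`.
-/

set_option autoImplicit false
set_option linter.unusedVariables false

open Polynomial

namespace Cfsg.Agent.Helper15.S62

universe u

theorem s62_toend_mul {n : ℕ} {F : Type*} [Field F]
    (g h : Cfsg.isometryGroup F (Cfsg.quadFormOdd n F)) : toEnd (g * h) = toEnd g * toEnd h := by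
  unfold toEnd
  rw [Subgroup.coe_mul, Units.val_mul, Matrix.toLin'_mul]
  rfl

theorem s62_toend_one {n : ℕ} {F : Type*} [Field F] :
    toEnd (1 : Cfsg.isometryGroup F (Cfsg.quadFormOdd n F)) = 1 := by
  unfold toEnd
  rw [Subgroup.coe_one, Units.val_one, Matrix.toLin'_one]
  rfl

/-- `toEnd` as a monoid homomorphism -/
noncomputable def s62_toend_hom (n : ℕ) (F : Type*) [Field F] :
    Cfsg.isometryGroup F (Cfsg.quadFormOdd n F) →* Module.End F (Idx n → F) where
  toFun := toEnd
  map_one' := s62_toend_one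
  map_mul' := s62_toend_mul

theorem s62_toend_hom_injective (n : ℕ) (F : Type*) [Field F] :
    Function.Injective (s62_toend_hom n F) := by
  intro g h hgh
  have h1 : toEnd g = toEnd h := hgh
  unfold toEnd at h1
  have h2 := Matrix.toLin'.injective h1
  exact Subtype.ext (Units.ext h2)

section bridge

variable {F : Type u} [Field F]

theorem toEnd_facts (n : ℕ)
    (hpolar : ∀ x y : Idx n → F, bstd n F x y =
      Cfsg.quadFormOdd n F (x + y) - Cfsg.quadFormOdd n F x - Cfsg.quadFormOdd n F y)
    (g : Cfsg.isometryGroup F (Cfsg.quadFormOdd n F)) :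
    (∀ x y, bstd n F (toEnd g x) (toEnd g y) = bstd n F x y) ∧
    orderOf (toEnd g) = orderOf g ∧
    LinearMap.det (toEnd g) = ((g.1 : GL (Idx n) F) : Matrix (Idx n) (Idx n) F).det ∧
    (∀ j : ℕ, toEnd (g ^ j) = toEnd g ^ j) ∧
    (∀ h : Cfsg.isometryGroup F (Cfsg.quadFormOdd n F), toEnd (g * h) = toEnd g * toEnd h) := by
  have hQ : ∀ u : Idx n → F, Cfsg.quadFormOdd n F
      (Matrix.mulVec ((g.1 : GL (Idx n) F) : Matrix (Idx n) (Idx n) F) u) =
        Cfsg.quadFormOdd n F u :=
    fun u => g.2 u u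
  refine ⟨?_, ?_, ?_, ?_, ?_⟩
  · intro x y
    rw [hpolar, hpolar, toEnd_apply, toEnd_apply, ← Matrix.mulVec_add, hQ, hQ, hQ]
  · exact orderOf_injective (s62_toend_hom n F) (s62_toend_hom_injective n F) g
  · unfold toEnd
    rw [LinearMap.det_toLin']
  · intro j
    exact map_pow (s62_toend_hom n F) g j
  · intro h
    exact s62_toend_mul g h

end bridge

end Cfsg.Agent.Helper15.S62
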