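import Mathlib

/-!
PIECE S74-RND of S2474 (owner helper15), core: in finite dimension a left-nondegenerate bilinear
form is right-nondegenerate (stated without the `LND` abbreviation).
-/

set_option autoImplicit false

namespace Cfsg.Agent.Helper15.S74

universe u

theorem s74_rnd_core {F : Type*} [Field F] {U : Type*} [AddCommGroup U] [Module F U]
    [FiniteDimensional F U] (β : LinearMap.BilinForm F U)
    (h : ∀ x, (∀ y, β x y = 0) → x = 0) : ∀ y, (∀ x, β x y = 0) → y = 0 := by
  intro y hy
  have hinj : Function.Injective (β : U →ₗ[F] Module.Dual F U) := by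
    rw [← LinearMap.ker_eq_bot, LinearMap.ker_eq_bot']
    intro x hx
    apply h x
    intro y'
    rw [hx]
    rfl
  have hdim : Module.finrank F U = Module.finrank F (Module.Dual F U) :=
    (Subspace.dual_finrank_eq).symm
  have hsurj : Function.Surjective (β : U →ₗ[F] Module.Dual F U) :=
    (LinearMap.injective_iff_surjective_of_finrank_eq_finrank hdim).1 hinj
  rw [← Module.forall_dual_apply_eq_zero_iff F]
  intro f
  obtain ⟨x, rfl⟩ := hsurj f
  exact hy x

end Cfsg.Agent.Helper15.S74
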