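import Mathlib
import Cfsg.Agent.Lib.Helper15.S74Defs
import Cfsg.Agent.Lib.Helper9.S74RNDCore

/-!
PIECE S74-RND of S2474 (owner helper15): left-nondegenerate implies right-nondegenerate in finite
dimension.
-/

set_option autoImplicit false

open Cfsg.Agent.Helper15.S62

namespace Cfsg.Agent.Helper15.S74

universe u

variable {F : Type u} [Field F]

/-- S74-RND: left-nondegenerate implies right-nondegenerate in finite dimension. -/
theorem rnd_of_lnd {U : Type u} [AddCommGroup U] [Module F U] [FiniteDimensional F U]
    (β : LinearMap.BilinForm F U) (h : LND β) : ∀ y, (∀ x, β x y = 0) → y = 0 :=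
  s74_rnd_core β h

end Cfsg.Agent.Helper15.S74
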