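import Mathlib
import Cfsg.Agent.Lib.Helper15.S74Defs
import Cfsg.Agent.Lib.Helper9.S74RND

/-!
PIECE S74-INVFORM of S2474 (owner helper15), core: the statements of S74-INVFORMM (`invform_model`)
and S74-CENT (`exists_mul_of_commute'`) are hypotheses.
-/

set_option autoImplicit false

open Cfsg.Agent.Helper15.S62

namespace Cfsg.Agent.Helper15.S74

universe u

variable {F : Type u} [Field F]

theorem s74_invform_core [Fintype F] {U : Type u} [AddCommGroup U] [Module F U]
    [FiniteDimensional F U] (g : Module.End F U) (β : LinearMap.BilinForm F U)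
    (hmodel : ∃ (k : ℕ) (L : Type u) (_ : Field L) (_ : Algebra F L) (_ : Module.Finite F L)
      (φ : L ≃ₗ[F] U) (ζ : L),
      1 ≤ k ∧ Module.finrank F L = 2 * k ∧ Algebra.adjoin F {ζ} = ⊤ ∧
      (∀ x : L, φ (ζ * x) = g (φ x)) ∧ LND β ∧
      ∀ a x y : L, β (φ (a * x)) (φ y) = β (φ x) (φ (a ^ (Fintype.card F ^ k) * y)))
    (hcent : ∀ (L : Type u) [Field L] [Algebra F L] (φ : L ≃ₗ[F] U) (ζ : L),
      Algebra.adjoin F {ζ} = ⊤ → ∀ (g a : Module.End F U), (∀ x : L, φ (ζ * x) = g (φ x)) →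
      Commute a g → ∃ μ : L, ∀ x : L, a (φ x) = φ (μ * x)) :
    ∃ k : ℕ, 1 ≤ k ∧ Module.finrank F U = 2 * k ∧
      ∀ z : Module.End F U, Commute z g → Isom β z → z ^ (Fintype.card F ^ k + 1) = 1 := by
  obtain ⟨k, L, iF, iA, iM, φ, ζ, hk, hdim, hζ, hφ, hnd, hadj⟩ := hmodel
  refine ⟨k, hk, ?_, ?_⟩
  · rw [← hdim]
    exact (LinearEquiv.finrank_eq φ).symm
  · intro z hzg hz
    obtain ⟨μ, hμ⟩ := hcent L φ ζ hζ g z hφ hzg
    have hrnd := rnd_of_lnd β hnd
    have hμ1 : μ ^ (Fintype.card F ^ k + 1) = 1 := by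
      have h0 : φ (μ ^ (Fintype.card F ^ k) * (μ * 1) - 1) = 0 := by
        apply hrnd
        intro u
        obtain ⟨x, rfl⟩ := φ.surjective u
        have e1 := hz (φ x) (φ 1)
        rw [hμ, hμ, hadj] at e1
        rw [map_sub φ, map_sub (β (φ x)), e1, sub_self]
      have h1 : μ ^ (Fintype.card F ^ k) * (μ * 1) - 1 = 0 := φ.map_eq_zero_iff.1 h0
      rw [mul_one, ← pow_succ, sub_eq_zero] at h1
      exact h1
    have hpow : ∀ (j : ℕ) (x : L), (z ^ j) (φ x) = φ (μ ^ j * x) := by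
      intro j
      induction j with
      | zero => intro x; rw [pow_zero, pow_zero, one_mul]; rfl
      | succ j ih =>
        intro x
        rw [pow_succ, Module.End.mul_apply, hμ, ih, pow_succ, mul_assoc]
    apply LinearMap.ext
    intro u
    obtain ⟨x, rfl⟩ := φ.surjective u
    rw [hpow, hμ1, one_mul]
    rfl

end Cfsg.Agent.Helper15.S74
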