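import Mathlib
import Cfsg.Agent.Lib.Helper15.S74Defs
import Cfsg.Agent.Lib.Helper9.S74INVFORMCore
import Cfsg.Agent.Lib.Helper12.S74CENT
import Cfsg.Agent.Lib.Helper4.S74INVFORMM

/-!
PIECE S74-INVFORM of S2474 (owner helper15): numeric consequences of an invariant form for an
irreducible isometry.
-/

set_option autoImplicit false
set_option linter.unusedVariables false

open Cfsg.Agent.Helper15.S62

namespace Cfsg.Agent.Helper15.S74

universe u

variable {F : Type u} [Field F]

/-- S74-INVFORM (uses INVFORMM, CENT, RND): numeric consequences. -/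
theorem invform [Fintype F] {U : Type u} [AddCommGroup U] [Module F U]
    [FiniteDimensional F U] (g : Module.End F U) (hirr : Irred g) (N : ℕ) (hN : 0 < N)
    (hgN : g ^ N = 1) (hg2 : g ^ 2 ≠ 1) (β : LinearMap.BilinForm F U) (hβ : β ≠ 0)
    (hinv : Isom β g) :
    ∃ k : ℕ, 1 ≤ k ∧ Module.finrank F U = 2 * k ∧
      ∀ z : Module.End F U, Commute z g → Isom β z → z ^ (Fintype.card F ^ k + 1) = 1 :=
  s74_invform_core g β (invform_model g hirr N hN hgN hg2 β hβ hinv)
    (fun L _ _ φ ζ hζ g a hφ hcomm => exists_mul_of_commute' φ ζ hζ g a hφ hcomm)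

end Cfsg.Agent.Helper15.S74
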