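import Mathlib
import Cfsg.Prelude.Def_Transfer

set_option autoImplicit false

namespace Cfsg.Agent.Helper9

section ZComm

variable {P : Type*} [Group P] {z : P}

/-- two elements that both anticommute (up to the central involution `z`) with `a`: their product
commutes with `a` -/
theorem commute_mul_of_anti (hc : ∀ a : P, a * z = z * a) (hsq : z * z = 1) {a b c : P}
    (hab : a * b = z * b * a) (hac : a * c = z * c * a) : Commute a (b * c) := by
  show a * (b * c) = b * c * a
  calc a * (b * c) = (a * b) * c := by rw [mul_assoc]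
    _ = (z * b * a) * c := by rw [hab]
    _ = z * b * (a * c) := by rw [mul_assoc]
    _ = z * b * (z * c * a) := by rw [hac]
    _ = z * (b * z) * (c * a) := by simp only [mul_assoc]
    _ = z * (z * b) * (c * a) := by rw [hc b]
    _ = (z * z) * b * (c * a) := by simp only [mul_assoc]
    _ = b * c * a := by rw [hsq, one_mul, mul_assoc]

/-- parity lemma -/
theorem commute_mul_iff (hc : ∀ a : P, a * z = z * a) (hsq : z * z = 1)
    (halt : ∀ a b : P, a * b = b * a ∨ a * b = z * b * a) (a b c : P) :
    Commute a (b * c) ↔ (Commute a b ↔ Commute a c) := by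
  by_cases hb : Commute a b
  · simp only [hb, true_iff]
    constructor
    · intro h
      have : Commute a (b⁻¹ * (b * c)) := hb.inv_right.mul_right h
      simpa using this
    · intro h; exact hb.mul_right h
  · by_cases hc' : Commute a c
    · simp only [hb, hc', iff_true, iff_false]
      intro h
      apply hb
      have : Commute a ((b * c) * c⁻¹) := h.mul_right hc'.inv_right
      simpa using this
    · simp only [hb, hc', iff_true]
      exact commute_mul_of_anti hc hsq ((halt a b).resolve_left hb) ((halt a c).resolve_left hc')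

theorem commute_inv_iff (a b : P) : Commute a b⁻¹ ↔ Commute a b :=
  ⟨fun h => by simpa using h.inv_right, fun h => h.inv_right⟩

/-- Lemma T: in a group whose commutators lie in `{1, z}`, a subgroup `K` of index two in `H`
containing the centre of `H` is centralized by a noncentral element of `H`. -/
theorem exists_centralizing_noncentral [Finite P] (hc : ∀ a : P, a * z = z * a) (hsq : z * z = 1)
    (halt : ∀ a b : P, a * b = b * a ∨ a * b = z * b * a) :
    ∀ n : ℕ, ∀ H K : Subgroup P, Nat.card H ≤ n → K ≤ H →
      (∃ x ∈ H, x ∉ K ∧ ∀ q ∈ H, q ∈ K ∨ x⁻¹ * q ∈ K) →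
      (∀ y ∈ H, (∀ q ∈ H, Commute y q) → y ∈ K) →
      ∃ y ∈ H, (∀ k ∈ K, Commute y k) ∧ ∃ q ∈ H, ¬ Commute y q := by
  intro n
  induction n with
  | zero =>
    intro H K hn
    have : 0 < Nat.card H := Nat.card_pos
    omega
  | succ n ih =>
    intro H K hn hKH hx hZ
    obtain ⟨x, hxH, hxK, hcos⟩ := hx
    by_cases h1 : ∃ y ∈ K, (∀ k ∈ K, Commute y k) ∧ ∃ q ∈ H, ¬ Commute y q
    · obtain ⟨y, hyK, h, h'⟩ := h1
      exact ⟨y, hKH hyK, h, h'⟩
    · push Not at h1
      have hxK' : ∃ k₀ ∈ K, ¬ Commute x k₀ := by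
        by_contra hcon
        push Not at hcon
        apply hxK
        apply hZ x hxH
        intro q hq
        rcases hcos q hq with h | h
        · exact hcon q h
        · have : Commute x (x * (x⁻¹ * q)) := (Commute.refl x).mul_right (hcon _ h)
          simpa using this
      obtain ⟨k₀, hk₀K, hk₀⟩ := hxK'
      have hcardK : Nat.card K ≤ n := by
        by_contra hcon
        have hle : Nat.card H ≤ Nat.card K := by omega
        have : K = H := Subgroup.eq_of_le_of_card_ge hKH hle
        exact hxK (this ▸ hxH)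
      have hmemK₁ : ∀ q, q ∈ K ⊓ Subgroup.centralizer {x} ↔ q ∈ K ∧ Commute x q := by
        intro q
        rw [Subgroup.mem_inf, Subgroup.mem_centralizer_singleton_iff]
        constructor
        · rintro ⟨h1, h2⟩; exact ⟨h1, h2.symm⟩
        · rintro ⟨h1, h2⟩; exact ⟨h1, h2.symm⟩
      obtain ⟨m₀, hm₀K, hm₀c, q₁, hq₁K, hq₁⟩ := ih K (K ⊓ Subgroup.centralizer {x}) hcardK inf_le_left
        ⟨k₀, hk₀K, fun h => hk₀ ((hmemK₁ _).mp h).2, fun q hq => by
          by_cases hxq : Commute x q
          · exact Or.inl ((hmemK₁ _).mpr ⟨hq, hxq⟩)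
          · refine Or.inr ((hmemK₁ _).mpr ⟨K.mul_mem (K.inv_mem hk₀K) hq, ?_⟩)
            rw [commute_mul_iff hc hsq halt, commute_inv_iff]
            exact ⟨fun h => absurd h hk₀, fun h => absurd h hxq⟩⟩
        (fun y hyK hy => (hmemK₁ _).mpr ⟨hyK, (h1 y hyK hy x hxH).symm⟩)
      have hm₀k₀ : ¬ Commute m₀ k₀ := by
        intro hcomm
        apply hq₁
        by_cases hxq : Commute x q₁
        · exact hm₀c _ ((hmemK₁ _).mpr ⟨hq₁K, hxq⟩)
        · have h2 : Commute x (k₀⁻¹ * q₁) := by
            rw [commute_mul_iff hc hsq halt, commute_inv_iff]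
            exact ⟨fun h => absurd h hk₀, fun h => absurd h hxq⟩
          have h3 : Commute m₀ (k₀⁻¹ * q₁) :=
            hm₀c _ ((hmemK₁ _).mpr ⟨K.mul_mem (K.inv_mem hk₀K) hq₁K, h2⟩)
          have : Commute m₀ (k₀ * (k₀⁻¹ * q₁)) := hcomm.mul_right h3
          simpa using this
      have hyk₀ : Commute (x * m₀) k₀ := by
        have : Commute k₀ (x * m₀) := by
          rw [commute_mul_iff hc hsq halt]
          exact ⟨fun h => absurd h.symm hk₀, fun h => absurd h.symm hm₀k₀⟩
        exact this.symm
      refine ⟨x * m₀, H.mul_mem hxH (hKH hm₀K), ?_, ?_⟩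
      · intro k hk
        by_cases hxk : Commute x k
        · exact hxk.mul_left (hm₀c _ ((hmemK₁ _).mpr ⟨hk, hxk⟩))
        · have h2 : Commute x (k₀⁻¹ * k) := by
            rw [commute_mul_iff hc hsq halt, commute_inv_iff]
            exact ⟨fun h => absurd h hk₀, fun h => absurd h hxk⟩
          have h3 : Commute m₀ (k₀⁻¹ * k) :=
            hm₀c _ ((hmemK₁ _).mpr ⟨K.mul_mem (K.inv_mem hk₀K) hk, h2⟩)
          have : Commute (x * m₀) (k₀ * (k₀⁻¹ * k)) := hyk₀.mul_right (h2.mul_left h3)
          simpa using this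
      · by_contra hcon
        push Not at hcon
        have hy : x * m₀ ∈ K := hZ _ (H.mul_mem hxH (hKH hm₀K)) hcon
        apply hxK
        have : x * m₀ * m₀⁻¹ ∈ K := K.mul_mem hy (K.inv_mem hm₀K)
        simpa using this

end ZComm


open scoped commutatorElement in
/-- the data of an extraspecial 2-group: the central involution `z`, all commutators in `{1,z}` -/
theorem extraspecial_two_data {P : Type*} [Group P] (hP : Cfsg.IsExtraspecial 2 P) :
    ∃ z : P, (∀ a : P, a * z = z * a) ∧ z * z = 1 ∧ z ≠ 1 ∧
      (∀ a b : P, a * b = b * a ∨ a * b = z * b * a) ∧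
      (∀ c : P, (∀ a : P, a * c = c * a) → c = 1 ∨ c = z) := by
  obtain ⟨⟨-, -, hcomm⟩, hcard⟩ := hP
  obtain ⟨⟨z, hzc⟩, hz1, hzu⟩ := (Nat.card_eq_two_iff' (1 : Subgroup.center P)).mp hcard
  have hz1' : z ≠ 1 := fun h => hz1 (Subtype.ext h)
  have hcen : ∀ c : P, (∀ a : P, a * c = c * a) → c = 1 ∨ c = z := by
    intro c hcc
    by_cases h : c = 1
    · exact Or.inl h
    · right
      have hmem : c ∈ Subgroup.center P := Subgroup.mem_center_iff.mpr hcc
      have := hzu ⟨c, hmem⟩ (fun h' => h (congrArg Subtype.val h'))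
      exact congrArg Subtype.val this
  have hc : ∀ a : P, a * z = z * a := Subgroup.mem_center_iff.mp hzc
  refine ⟨z, hc, ?_, hz1', ?_, hcen⟩
  · have h2 : ∀ a : P, a * (z * z) = (z * z) * a := by
      intro a
      rw [← mul_assoc, hc a, mul_assoc, hc a, mul_assoc]
    rcases hcen _ h2 with h | h
    · exact h
    · exact absurd (mul_eq_left.mp h) hz1'
  · intro a b
    have hmem : ⁅a, b⁆ ∈ Subgroup.center P := by
      rw [← hcomm, commutator_def]
      exact Subgroup.commutator_mem_commutator (Subgroup.mem_top a) (Subgroup.mem_top b)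
    rcases hcen _ (Subgroup.mem_center_iff.mp hmem) with h | h
    · left
      exact (commutatorElement_eq_one_iff_commute.mp h)
    · right
      rw [← h, commutatorElement_def]
      group

/-- Lemma ES: an involutory automorphism of an extraspecial 2-group whose fixed points have index
at most two is inner. -/
theorem aut_inner_of_extraspecial {P : Type*} [Group P] [Finite P] (hP : Cfsg.IsExtraspecial 2 P)
    (τ : MulAut P) (hτ : ∀ q, τ (τ q) = q) (F : Subgroup P) (hF : ∀ q, q ∈ F ↔ τ q = q)
    (hi : F.index ≤ 2) : ∃ y : P, ∀ q, τ q = y * q * y⁻¹ := by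
  obtain ⟨z, hc, hsq, hne, halt, hcen⟩ := extraspecial_two_data hP
  by_cases hFtop : F = ⊤
  · refine ⟨1, fun q => ?_⟩
    have : q ∈ F := hFtop ▸ Subgroup.mem_top q
    simp [(hF q).mp this]
  · have hidx : F.index = 2 := by
      have h0 : F.index ≠ 0 := Subgroup.index_ne_zero_of_finite
      have h1 : F.index ≠ 1 := fun h => hFtop (Subgroup.index_eq_one.mp h)
      omega
    obtain ⟨x, hxF, -⟩ := Subgroup.index_eq_two_iff_exists_notMem_and'.mp hidx
    have hnotF : ∀ q, q ∉ F → ∀ q', q' ∉ F → q⁻¹ * q' ∈ F := by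
      intro q hq q' hq'
      rw [Subgroup.mul_mem_iff_of_index_two hidx, Subgroup.inv_mem_iff]
      exact ⟨fun h => absurd h hq, fun h => absurd h hq'⟩
    have hτx : τ x ∉ F := by
      intro h
      apply hxF
      rw [hF] at h ⊢
      rw [hτ] at h
      exact h.symm
    have hcF : x⁻¹ * τ x ∈ F := hnotF x hxF _ hτx
    obtain ⟨c, hcdef⟩ : ∃ c, c = x⁻¹ * τ x := ⟨_, rfl⟩
    rw [← hcdef] at hcF
    have hτc : τ c = c := (hF c).mp hcF
    have hτx' : τ x = x * c := by rw [hcdef, mul_inv_cancel_left]
    have hc2 : c * c = 1 := by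
      have := hτ x
      rw [hτx', map_mul, hτx', hτc, mul_assoc] at this
      exact mul_eq_left.mp this
    have hcinv : c⁻¹ = c := inv_eq_of_mul_eq_one_left hc2
    have hcx : Commute c x := by
      have h2 : x * x ∈ F := Subgroup.mul_self_mem_of_index_two hidx x
      have h3 := (hF _).mp h2
      rw [map_mul, hτx'] at h3
      -- h3 : x * c * (x * c) = x * x
      have h4 : c * x * c = x := by
        have : x * (c * x * c) = x * x := by rw [← h3]; group
        exact mul_left_cancel this
      show c * x = x * c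
      calc c * x = c * x * c * c⁻¹ := by group
        _ = x * c := by rw [h4, hcinv]
    have hcf : ∀ f ∈ F, Commute c f := by
      intro f hf
      have hn : F.Normal := Subgroup.normal_of_index_eq_two hidx
      have h3 : x * f * x⁻¹ ∈ F := hn.conj_mem f hf x
      have h4 := (hF _).mp h3
      rw [map_mul, map_mul, map_inv, hτx', (hF f).mp hf] at h4
      -- h4 : x * c * f * (x * c)⁻¹ = x * f * x⁻¹
      have h5 : c * f * c⁻¹ = f := by
        have : x * (c * f * c⁻¹) * x⁻¹ = x * f * x⁻¹ := by rw [← h4]; group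
        exact mul_left_cancel (mul_right_cancel this)
      show c * f = f * c
      calc c * f = c * f * c⁻¹ * c := by group
        _ = f * c := by rw [h5]
    have hccen : ∀ a : P, a * c = c * a := by
      intro a
      by_cases ha : a ∈ F
      · exact (hcf a ha).symm
      · have h1 : x⁻¹ * a ∈ F := hnotF x hxF a ha
        have h2 : Commute c (x * (x⁻¹ * a)) := hcx.mul_right (hcf _ h1)
        rw [mul_inv_cancel_left] at h2
        exact h2.symm
    have hcz : c = z := by
      rcases hcen c hccen with h | h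
      · exfalso
        apply hxF
        rw [hF, hτx', h, mul_one]
      · exact h
    have hoff : ∀ q, q ∉ F → τ q = q * z := by
      intro q hq
      have h1 : x⁻¹ * q ∈ F := hnotF x hxF q hq
      have h2 : τ (x * (x⁻¹ * q)) = x * z * (x⁻¹ * q) := by
        rw [map_mul, (hF _).mp h1, hτx', hcz]
      rw [mul_inv_cancel_left] at h2
      rw [h2, hc x, mul_assoc, mul_inv_cancel_left, hc q]
    have hτz : τ z = z := by
      have h1 : ∀ a : P, a * τ z = τ z * a := by
        intro a
        have : τ (τ a * z) = τ (z * τ a) := by rw [hc]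
        rw [map_mul, map_mul, hτ] at this
        exact this
      rcases hcen _ h1 with h | h
      · exfalso
        apply hne
        have := congrArg τ h
        rw [hτ, map_one] at this
        exact this
      · exact h
    obtain ⟨y, -, hyF, q₀, -, hq₀⟩ := exists_centralizing_noncentral hc hsq halt
      (Nat.card (⊤ : Subgroup P)) ⊤ F le_rfl le_top
      ⟨x, Subgroup.mem_top x, hxF, fun q _ => by
        by_cases hq : q ∈ F
        · exact Or.inl hq
        · exact Or.inr (hnotF x hxF q hq)⟩
      (fun y _ hy => by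
        rcases hcen y (fun a => (hy a (Subgroup.mem_top a)).symm.eq) with h | h
        · rw [h]; exact F.one_mem
        · rw [h, hF]; exact hτz)
    have hq₀F : q₀ ∉ F := fun h => hq₀ (hyF _ h)
    refine ⟨y, fun q => ?_⟩
    by_cases hq : q ∈ F
    · rw [(hF q).mp hq, (hyF q hq).eq, mul_inv_cancel_right]
    · have hyq : ¬ Commute y q := by
        intro hcomm
        apply hq₀
        have h1 : q⁻¹ * q₀ ∈ F := hnotF q hq q₀ hq₀F
        have : Commute y (q * (q⁻¹ * q₀)) := hcomm.mul_right (hyF _ h1)
        rwa [mul_inv_cancel_left] at this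
      have h1 : y * q = z * q * y := (halt y q).resolve_left hyq
      rw [hoff q hq, h1, mul_inv_cancel_right, hc q]

end Cfsg.Agent.Helper9
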