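import Mathlib
import Cfsg.Agent.Lib.Helper23.ZS4Defs

/-!
# S3222 piece LOCW (helper9 for helper23): the model `W = Z₂ × S₄` satisfies `Loc`.
-/

set_option autoImplicit false

namespace Cfsg.Agent.Helper23.ZS4

open Equiv

namespace LOCW

theorem t0_central : ∀ w : W, w * t0 = t0 * w := by decide

theorem cent_t0 : Subgroup.centralizer ({t0} : Set W) = ⊤ := by
  ext w
  simp only [Subgroup.mem_centralizer_singleton_iff, Subgroup.mem_top, iff_true]
  exact t0_central w

theorem mem_cent_t0 (w : W) : w ∈ Subgroup.centralizer ({t0} : Set W) := by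
  rw [cent_t0]; exact Subgroup.mem_top w

theorem mem_T0 (w : W) : w ∈ T0 ↔ w * z0 = z0 * w := by
  unfold T0; rw [Subgroup.mem_centralizer_singleton_iff]

instance decT0 : DecidablePred (· ∈ T0) := fun w => decidable_of_iff _ (mem_T0 w).symm

theorem ord2 (d : W) : orderOf d = 2 ↔ d ^ 2 = 1 ∧ d ≠ 1 := orderOf_eq_prime_iff

theorem card_W : Nat.card W = 48 := by
  rw [Nat.card_eq_fintype_card]; decide

theorem card_T0 : Nat.card T0 = 16 := by
  rw [Nat.card_eq_fintype_card, Fintype.card_subtype]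
  decide

set_option synthInstance.maxSize 2000 in
theorem comm_T0 : ∀ a b : W, a ∈ T0 → b ∈ T0 →
    a * b * a⁻¹ * b⁻¹ = 1 ∨ a * b * a⁻¹ * b⁻¹ = z0 := by decide +kernel

theorem center_T0 : ∀ a : W, a ∈ T0 → (∀ b : W, b ∈ T0 → a * b = b * a) →
    a = 1 ∨ a = t0 ∨ a = z0 ∨ a = t0 * z0 := by decide

theorem gen_T0_aux : ∀ w : W, w ∈ T0 → ∃ a : Fin 2, ∃ i : Fin 4, ∃ j : Fin 2,
    w = t0 ^ a.val * (v0 * τ0) ^ i.val * τ0 ^ j.val := by decide

set_option synthInstance.maxSize 2000 in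
theorem invol_T0 : ∀ d : W, d ∈ T0 → (d ^ 2 = 1 ∧ d ≠ 1) →
    d = t0 ∨ d = z0 ∨ d = v0 ∨ d = z0 * v0 ∨ d = t0 * z0 ∨ d = t0 * v0 ∨ d = t0 * (z0 * v0) ∨
      d = τ0 ∨ d = τ0 * z0 ∨ d = t0 * τ0 ∨ d = t0 * (τ0 * z0) := by decide

/-- The complement `D₈` of `⟨t0⟩` in `T0`. -/
def D0 : Subgroup W where
  carrier := {w | w ∈ T0 ∧ w.1 = 1}
  mul_mem' := by
    intro a b ha hb
    refine ⟨T0.mul_mem ha.1 hb.1, ?_⟩
    rw [Prod.fst_mul, ha.2, hb.2, one_mul]
  one_mem' := ⟨T0.one_mem, rfl⟩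
  inv_mem' := by
    intro a ha
    refine ⟨T0.inv_mem ha.1, ?_⟩
    rw [Prod.fst_inv, ha.2, inv_one]

theorem mem_D0 (w : W) : w ∈ D0 ↔ (w ∈ T0 ∧ w.1 = 1) := Iff.rfl

instance decD0 : DecidablePred (· ∈ D0) := fun w => decidable_of_iff _ (mem_D0 w).symm

theorem card_D0 : Nat.card D0 = 8 := by
  rw [Nat.card_eq_fintype_card, Fintype.card_subtype]
  decide

set_option synthInstance.maxSize 2000 in
theorem invol_D0 : ∀ d : W, d ∈ D0 → (d ^ 2 = 1 ∧ d ≠ 1) →
    d = z0 ∨ d = v0 ∨ d = z0 * v0 ∨ d = τ0 ∨ d = τ0 * z0 := by decide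

open scoped commutatorElement in
theorem z0_eq_comm : z0 = ⁅τ0, v0⁆ := by
  rw [commutatorElement_def]; decide

theorem set_invol : {x : W | x ∈ Subgroup.centralizer ({t0} : Set W) ∧ orderOf x = 2}
    = {x : W | x ^ 2 = 1 ∧ x ≠ 1} := by
  ext x
  simp only [Set.mem_ofPred_eq, ord2, mem_cent_t0, true_and]

theorem set_class (s : W) : {y : W | ∃ c ∈ Subgroup.centralizer ({t0} : Set W), y = c * s * c⁻¹}
    = {y : W | ∃ c : W, y = c * s * c⁻¹} := by
  ext y
  simp only [Set.mem_ofPred_eq, mem_cent_t0, true_and]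

theorem ncard_invol : Set.ncard {x : W | x ^ 2 = 1 ∧ x ≠ 1} = 19 := by
  rw [Set.ncard_eq_toFinset_card', Set.toFinset_ofPred]
  decide

theorem ncard_class_τ : Set.ncard {y : W | ∃ c : W, y = c * τ0 * c⁻¹} = 6 := by
  rw [Set.ncard_eq_toFinset_card', Set.toFinset_ofPred]
  decide

theorem ncard_class_tτ : Set.ncard {y : W | ∃ c : W, y = c * (t0 * τ0) * c⁻¹} = 6 := by
  rw [Set.ncard_eq_toFinset_card', Set.toFinset_ofPred]
  decide

end LOCW

open LOCW in
theorem loc_model : Loc (G := W) t0 z0 v0 τ0 T0 where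
  card_C := by rw [cent_t0, Subgroup.card_top]; exact card_W
  card_T := card_T0
  T_le := by rw [cent_t0]; exact le_top
  ht := (ord2 _).2 (by decide)
  tT := by decide
  hz := (ord2 _).2 (by decide)
  zT := by decide
  cent_z := rfl
  z_comm := by
    rw [z0_eq_comm]
    exact Subgroup.commutator_mem_commutator (by decide) (by decide)
  vT := by decide
  v_ne := by decide
  v_conj := ⟨(1, Equiv.swap 1 2), mem_cent_t0 _, by decide⟩
  zv_conj := ⟨(1, Equiv.swap 2 3), mem_cent_t0 _, by decide⟩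
  comm_T := fun a ha b hb => comm_T0 a b ha hb
  center_T := fun a ha h => center_T0 a ha h
  hτ := (ord2 _).2 (by decide)
  τT := by decide
  τv := by decide
  gen_T := by
    apply le_antisymm
    · rw [Subgroup.closure_le]
      intro x hx
      rcases hx with rfl | rfl | rfl
      · show t0 ∈ T0; decide
      · show v0 ∈ T0; decide
      · show τ0 ∈ T0; decide
    · intro w hw
      obtain ⟨a, i, j, rfl⟩ := gen_T0_aux w hw
      have ht : t0 ∈ Subgroup.closure ({t0, v0, τ0} : Set W) :=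
        Subgroup.subset_closure (by simp)
      have hv : v0 ∈ Subgroup.closure ({t0, v0, τ0} : Set W) :=
        Subgroup.subset_closure (by simp)
      have hτ : τ0 ∈ Subgroup.closure ({t0, v0, τ0} : Set W) :=
        Subgroup.subset_closure (by simp)
      exact Subgroup.mul_mem _ (Subgroup.mul_mem _ (Subgroup.pow_mem _ ht _)
        (Subgroup.pow_mem _ (Subgroup.mul_mem _ hv hτ) _)) (Subgroup.pow_mem _ hτ _)
  invol_T := fun d hd h => invol_T0 d hd ((ord2 d).1 h)
  exD := ⟨D0, fun w hw => hw.1, card_D0, by decide, by decide, by decide,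
    fun d hd h => invol_D0 d hd ((ord2 d).1 h)⟩
  invol_C := by rw [set_invol]; exact ncard_invol
  class_τ := by rw [set_class]; exact ncard_class_τ
  class_tτ := by rw [set_class]; exact ncard_class_tτ

end Cfsg.Agent.Helper23.ZS4
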