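import Mathlib
import Cfsg.Agent.Lib.Helper17.SLkDefs

/-!
PIECE SLK-SQ of S2479 (owner helper17): `∑_{f ∈ T} gcd(q-1, gam f)^2 ≤ KK q n`.
-/

set_option autoImplicit false

open Polynomial

namespace Cfsg.Agent.Helper17.SLk

open Cfsg.Agent.Helper17.GLk

universe u

/-- `gcd(N,γ)^2 = ∑_{d ∣ N} ∑_{d' ∣ N} [lcm d d' ∣ γ] φ(d) φ(d')` for `N ≠ 0`. -/
theorem slk_sq_gcd_sq (N γ : ℕ) (hN : N ≠ 0) :
    Nat.gcd N γ ^ 2 = ∑ d ∈ N.divisors, ∑ d' ∈ N.divisors,
      if Nat.lcm d d' ∣ γ then Nat.totient d * Nat.totient d' else 0 := by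
  have hg : Nat.gcd N γ ≠ 0 := Nat.gcd_ne_zero_left hN
  have hdivs : (Nat.gcd N γ).divisors = N.divisors.filter (fun d => d ∣ γ) := by
    ext d
    simp only [Nat.mem_divisors, Finset.mem_filter, Nat.dvd_gcd_iff]
    constructor
    · rintro ⟨⟨h1, h2⟩, -⟩
      exact ⟨⟨h1, hN⟩, h2⟩
    · rintro ⟨⟨h1, -⟩, h2⟩
      exact ⟨⟨h1, h2⟩, hg⟩
  calc Nat.gcd N γ ^ 2
      = (∑ d ∈ (Nat.gcd N γ).divisors, Nat.totient d) *
          (∑ d' ∈ (Nat.gcd N γ).divisors, Nat.totient d') := by
        rw [Nat.sum_totient, sq]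
    _ = ∑ d ∈ (Nat.gcd N γ).divisors, ∑ d' ∈ (Nat.gcd N γ).divisors,
          Nat.totient d * Nat.totient d' := Finset.sum_mul_sum _ _ _ _
    _ = _ := by
        rw [hdivs, Finset.sum_filter]
        refine Finset.sum_congr rfl ?_
        intro d _
        rw [Finset.sum_filter]
        by_cases hd : d ∣ γ
        · rw [if_pos hd]
          refine Finset.sum_congr rfl ?_
          intro d' _
          have : Nat.lcm d d' ∣ γ ↔ d' ∣ γ := by
            rw [Nat.lcm_dvd_iff]
            exact ⟨fun h => h.2, fun h => ⟨hd, h⟩⟩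
          simp only [this]
        · rw [if_neg hd]
          symm
          refine Finset.sum_eq_zero ?_
          intro d' _
          rw [if_neg]
          intro h
          exact hd ((Nat.dvd_lcm_left d d').trans h)

section pieces2
variable {F : Type u} [Field F]

open Classical in
theorem sum_sq_le [Fintype F] (n : ℕ) (hn : 1 ≤ n) (T : Finset (Fin n → F[X]))
    (hT : ∀ f, f ∈ T ↔ f ∈ Tup F n 1 n)
    (hdiv : ∀ e : ℕ, 1 ≤ e → {f | f ∈ Tup F n 1 n ∧ e ∣ gam f}.ncard ≤
      if e ∣ n then D (Fintype.card F) (n / e) 1 (n / e) else 0) :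
    ∑ f ∈ T, Nat.gcd (Fintype.card F - 1) (gam f) ^ 2 ≤ KK (Fintype.card F) n := by
  have hq : 1 < Fintype.card F := Fintype.one_lt_card
  have hN : Fintype.card F - 1 ≠ 0 := by omega
  unfold KK
  generalize Fintype.card F - 1 = N at hN ⊢
  -- rewrite the left side
  have h1 : ∑ f ∈ T, Nat.gcd N (gam f) ^ 2 =
      ∑ d ∈ N.divisors, ∑ d' ∈ N.divisors,
        (T.filter (fun f => Nat.lcm d d' ∣ gam f)).card *
          (Nat.totient d * Nat.totient d') := by
    calc ∑ f ∈ T, Nat.gcd N (gam f) ^ 2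
        = ∑ f ∈ T, ∑ d ∈ N.divisors, ∑ d' ∈ N.divisors,
            if Nat.lcm d d' ∣ gam f then Nat.totient d * Nat.totient d' else 0 := by
          refine Finset.sum_congr rfl ?_
          intro f _
          exact slk_sq_gcd_sq N (gam f) hN
      _ = ∑ d ∈ N.divisors, ∑ f ∈ T, ∑ d' ∈ N.divisors,
            if Nat.lcm d d' ∣ gam f then Nat.totient d * Nat.totient d' else 0 :=
          Finset.sum_comm
      _ = ∑ d ∈ N.divisors, ∑ d' ∈ N.divisors, ∑ f ∈ T,
            if Nat.lcm d d' ∣ gam f then Nat.totient d * Nat.totient d' else 0 := by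
          refine Finset.sum_congr rfl ?_
          intro d _
          exact Finset.sum_comm
      _ = _ := by
          refine Finset.sum_congr rfl ?_
          intro d _
          refine Finset.sum_congr rfl ?_
          intro d' _
          rw [← Finset.sum_filter, Finset.sum_const, smul_eq_mul]
  rw [h1]
  refine Finset.sum_le_sum ?_
  intro d hd
  refine Finset.sum_le_sum ?_
  intro d' hd'
  have hdpos : 0 < d := Nat.pos_of_mem_divisors hd
  have hd'pos : 0 < d' := Nat.pos_of_mem_divisors hd'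
  have hepos : 1 ≤ Nat.lcm d d' := Nat.lcm_pos hdpos hd'pos
  have hcard : (T.filter (fun f => Nat.lcm d d' ∣ gam f)).card =
      {f | f ∈ Tup F n 1 n ∧ Nat.lcm d d' ∣ gam f}.ncard := by
    rw [← Set.ncard_coe_finset]
    congr 1
    ext f
    simp only [Finset.coe_filter, Set.mem_ofPred_eq, hT]
  have hb := hdiv (Nat.lcm d d') hepos
  rw [← hcard] at hb
  by_cases he : Nat.lcm d d' ∣ n
  · rw [if_pos he] at hb ⊢
    calc (T.filter (fun f => Nat.lcm d d' ∣ gam f)).card * (Nat.totient d * Nat.totient d')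
        ≤ D (Fintype.card F) (n / Nat.lcm d d') 1 (n / Nat.lcm d d') *
            (Nat.totient d * Nat.totient d') := Nat.mul_le_mul_right _ hb
      _ = _ := by rw [mul_comm]
  · rw [if_neg he] at hb ⊢
    have : (T.filter (fun f => Nat.lcm d d' ∣ gam f)).card = 0 := by omega
    rw [this, zero_mul]

end pieces2

end Cfsg.Agent.Helper17.SLk
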