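import Mathlib
import Cfsg.Agent.Lib.Helper15.PSLkDefs

/-!
PIECE PSLK-NUM of S2480 (owner helper15): the final numeric inequality.
-/

set_option autoImplicit false

open Polynomial

namespace Cfsg.Agent.Helper15.PSLk

open Cfsg.Agent.Helper17.GLk Cfsg.Agent.Helper17.SLk

universe u

/-- `2 K m ≤ 5 (q-1) q^(m-1)` for `q ≥ 3`, `m ≥ 1`. -/
theorem pslk_num_K_le (q : ℕ) (hq : 3 ≤ q) (K : ℕ → ℕ) (h1 : K 1 ≤ q - 1)
    (h2 : K 2 ≤ (q ^ 2 - 1) + (if 2 ∣ q - 1 then 3 * (q - 1) else 0))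
    (h3 : ∀ m, 3 ≤ m → K m ≤ (q - 1) * (q ^ (m - 1) + 3 * q ^ (m - 2)))
    (m : ℕ) (hm : 1 ≤ m) : 2 * K m ≤ 5 * (q - 1) * q ^ (m - 1) := by
  obtain ⟨Q, rfl⟩ : ∃ Q, q = Q + 1 := ⟨q - 1, by omega⟩
  have hQ : 2 ≤ Q := by omega
  simp only [Nat.add_sub_cancel] at h1 h2 h3 ⊢
  rcases (by omega : m = 1 ∨ m = 2 ∨ 3 ≤ m) with rfl | rfl | hm3
  · simp only [Nat.sub_self, pow_zero, mul_one]
    omega
  · have e : (Q + 1) ^ 2 - 1 = Q * (Q + 2) := by
      rw [show (Q + 1) ^ 2 = Q * (Q + 2) + 1 by ring]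
      exact Nat.add_sub_cancel _ _
    have h2' : K 2 ≤ Q * (Q + 2) + 3 * Q := by
      rw [e] at h2
      refine h2.trans ?_
      split_ifs
      · exact le_rfl
      · omega
    simp only [show 2 - 1 = 1 from rfl, pow_one]
    nlinarith [h2', hQ, Nat.mul_le_mul_right Q hQ]
  · have h := h3 m hm3
    have e : (Q + 1) ^ (m - 1) = (Q + 1) * (Q + 1) ^ (m - 2) := by
      rw [← pow_succ']
      congr 1
      omega
    rw [e] at h ⊢
    generalize (Q + 1) ^ (m - 2) = C at h ⊢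
    have : 2 * K m ≤ 2 * (Q * ((Q + 1) * C + 3 * C)) := Nat.mul_le_mul_left 2 h
    refine this.trans ?_
    have hQC : 2 * (Q * C) ≤ Q * (Q * C) := Nat.mul_le_mul_right _ hQ
    nlinarith [hQC]

/-- `∑_{e ∣ d, e ≥ 2} φ(e) = d - 1`. -/
theorem pslk_num_sum_totient (d : ℕ) (hd : 1 ≤ d) :
    ∑ e ∈ d.divisors.filter (fun e => 2 ≤ e), Nat.totient e = d - 1 := by
  have h := Finset.sum_filter_add_sum_filter_not d.divisors (fun e => 2 ≤ e) Nat.totient
  rw [Nat.sum_totient] at h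
  have hf : d.divisors.filter (fun e => ¬ 2 ≤ e) = {1} := by
    ext e
    simp only [Finset.mem_filter, Nat.mem_divisors, Finset.mem_singleton]
    constructor
    · rintro ⟨⟨h1, h2⟩, h3⟩
      have : e ≠ 0 := by
        rintro rfl
        rw [zero_dvd_iff] at h1
        exact h2 h1
      omega
    · rintro rfl
      exact ⟨⟨one_dvd _, by omega⟩, by omega⟩
  rw [hf, Finset.sum_singleton, Nat.totient_one] at h
  omega

/-- `5 (d-1) q^(n/2-1) ≤ 4 q^(n-2)`. -/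
theorem pslk_num_pow (q n d : ℕ) (hn : 4 ≤ n) (hd : 2 ≤ d) (hdn : d ≤ n) (hdq : d + 1 ≤ q) :
    5 * (d - 1) * q ^ (n / 2 - 1) ≤ 4 * q ^ (n - 2) := by
  have hq1 : 1 ≤ q := by omega
  rcases (by omega : n ≤ 5 ∨ 6 ≤ n) with h5 | h6
  · have e1 : n / 2 - 1 = 1 := by omega
    rw [e1, pow_one]
    have h4 : 5 * (d - 1) ≤ 4 * q := by omega
    have hp : q ^ 2 ≤ q ^ (n - 2) := Nat.pow_le_pow_right hq1 (by omega)
    calc 5 * (d - 1) * q ≤ 4 * q * q := Nat.mul_le_mul_right _ h4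
      _ = 4 * q ^ 2 := by ring
      _ ≤ 4 * q ^ (n - 2) := Nat.mul_le_mul_left _ hp
  · have h4 : 5 * (d - 1) ≤ 4 * q ^ 2 := by
      have : 5 * (d - 1) ≤ 5 * q := by omega
      nlinarith [this, hdq, hd]
    have hp : q ^ 2 * q ^ (n / 2 - 1) ≤ q ^ (n - 2) := by
      rw [← pow_add]
      exact Nat.pow_le_pow_right hq1 (by omega)
    calc 5 * (d - 1) * q ^ (n / 2 - 1) ≤ 4 * q ^ 2 * q ^ (n / 2 - 1) := Nat.mul_le_mul_right _ h4
      _ = 4 * (q ^ 2 * q ^ (n / 2 - 1)) := by ring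
      _ ≤ 4 * q ^ (n - 2) := Nat.mul_le_mul_left _ hp

/-- bound for the sum, `n ≥ 4`. -/
theorem pslk_num_sum_le (q : ℕ) (hq : 2 ≤ q) (K : ℕ → ℕ) (h1 : K 1 ≤ q - 1)
    (h2 : K 2 ≤ (q ^ 2 - 1) + (if 2 ∣ q - 1 then 3 * (q - 1) else 0))
    (h3 : ∀ m, 3 ≤ m → K m ≤ (q - 1) * (q ^ (m - 1) + 3 * q ^ (m - 2)))
    (n : ℕ) (hn : 4 ≤ n) :
    ∑ e ∈ (Nat.gcd n (q - 1)).divisors.filter (fun e => 2 ≤ e), Nat.totient e * K (n / e)
      ≤ (q - 1) * (2 * q ^ (n - 2)) := by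
  set d := Nat.gcd n (q - 1) with hd
  have hdn : d ∣ n := Nat.gcd_dvd_left _ _
  have hdq : d ∣ q - 1 := Nat.gcd_dvd_right _ _
  have hd1 : 1 ≤ d := Nat.gcd_pos_of_pos_left _ (by omega)
  rcases (by omega : d = 1 ∨ 2 ≤ d) with hd1' | hd2
  · rw [hd1']
    have : (Nat.divisors 1).filter (fun e => 2 ≤ e) = ∅ := by decide
    rw [this, Finset.sum_empty]
    exact Nat.zero_le _
  have hdn' : d ≤ n := Nat.le_of_dvd (by omega) hdn
  have hdq' : d ≤ q - 1 := Nat.le_of_dvd (by omega) hdq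
  have hq3 : 3 ≤ q := by omega
  have hq1 : 1 ≤ q := by omega
  have hterm : ∀ e ∈ d.divisors.filter (fun e => 2 ≤ e),
      2 * (Nat.totient e * K (n / e)) ≤ Nat.totient e * (5 * (q - 1) * q ^ (n / 2 - 1)) := by
    intro e he
    rw [Finset.mem_filter, Nat.mem_divisors] at he
    obtain ⟨⟨hed, -⟩, he2⟩ := he
    have hen : e ∣ n := hed.trans hdn
    have hepos : 0 < e := by omega
    have hm1 : 1 ≤ n / e := Nat.div_pos (Nat.le_of_dvd (by omega) hen) hepos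
    have hm2 : n / e ≤ n / 2 := Nat.div_le_div_left he2 (by omega)
    have hK := pslk_num_K_le q hq3 K h1 h2 h3 (n / e) hm1
    have hp : q ^ (n / e - 1) ≤ q ^ (n / 2 - 1) := Nat.pow_le_pow_right hq1 (by omega)
    calc 2 * (Nat.totient e * K (n / e)) = Nat.totient e * (2 * K (n / e)) := by ring
      _ ≤ Nat.totient e * (5 * (q - 1) * q ^ (n / e - 1)) := Nat.mul_le_mul_left _ hK
      _ ≤ Nat.totient e * (5 * (q - 1) * q ^ (n / 2 - 1)) :=
          Nat.mul_le_mul_left _ (Nat.mul_le_mul_left _ hp)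
  have hsum : 2 * ∑ e ∈ d.divisors.filter (fun e => 2 ≤ e), Nat.totient e * K (n / e)
      ≤ (d - 1) * (5 * (q - 1) * q ^ (n / 2 - 1)) := by
    rw [Finset.mul_sum, ← pslk_num_sum_totient d hd1, Finset.sum_mul]
    exact Finset.sum_le_sum hterm
  have hpow := pslk_num_pow q n d hn hd2 hdn' (by omega)
  have h4 : (d - 1) * (5 * (q - 1) * q ^ (n / 2 - 1)) ≤ (q - 1) * (4 * q ^ (n - 2)) := by
    calc (d - 1) * (5 * (q - 1) * q ^ (n / 2 - 1))
        = (q - 1) * (5 * (d - 1) * q ^ (n / 2 - 1)) := by ring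
      _ ≤ (q - 1) * (4 * q ^ (n - 2)) := Nat.mul_le_mul_left _ hpow
  have h5 := hsum.trans h4
  have e6 : (q - 1) * (4 * q ^ (n - 2)) = 2 * ((q - 1) * (2 * q ^ (n - 2))) := by ring
  rw [e6] at h5
  exact Nat.le_of_mul_le_mul_left h5 (by norm_num)

section pieces
variable {F : Type u} [Field F]

theorem num_final (q : ℕ) (hq : 2 ≤ q) (K : ℕ → ℕ) (h1 : K 1 ≤ q - 1)
    (h2 : K 2 ≤ (q ^ 2 - 1) + (if 2 ∣ q - 1 then 3 * (q - 1) else 0))
    (h3 : ∀ m, 3 ≤ m → K m ≤ (q - 1) * (q ^ (m - 1) + 3 * q ^ (m - 2)))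
    (n : ℕ) (hn : 2 ≤ n) :
    K n + ∑ e ∈ (Nat.gcd n (q - 1)).divisors.filter (fun e => 2 ≤ e), Nat.totient e * K (n / e)
      ≤ (q - 1) * (q ^ (n - 1) + 5 * q ^ (n - 2)) := by
  rcases (by omega : n = 2 ∨ n = 3 ∨ 4 ≤ n) with rfl | rfl | hn4
  · -- n = 2
    have e : q ^ 2 - 1 = (q - 1) * (q + 1) := by
      obtain ⟨Q, rfl⟩ : ∃ Q, q = Q + 1 := ⟨q - 1, by omega⟩
      rw [Nat.add_sub_cancel, show (Q + 1) ^ 2 = Q * (Q + 1 + 1) + 1 by ring]
      exact Nat.add_sub_cancel _ _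
    simp only [show 2 - 1 = 1 from rfl, Nat.sub_self, pow_one, pow_zero, mul_one]
    by_cases h : 2 ∣ q - 1
    · rw [if_pos h] at h2
      rw [Nat.gcd_eq_left h]
      have : (Nat.divisors 2).filter (fun e => 2 ≤ e) = {2} := by decide
      rw [this, Finset.sum_singleton, Nat.totient_two, one_mul, Nat.div_self (by norm_num)]
      rw [e] at h2
      calc K 2 + K 1 ≤ ((q - 1) * (q + 1) + 3 * (q - 1)) + (q - 1) := Nat.add_le_add h2 h1
        _ = (q - 1) * (q + 5) := by ring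
    · rw [if_neg h, add_zero] at h2
      have hc : Nat.gcd 2 (q - 1) = 1 := (Nat.prime_two.coprime_iff_not_dvd).2 h
      rw [hc]
      have : (Nat.divisors 1).filter (fun e => 2 ≤ e) = ∅ := by decide
      rw [this, Finset.sum_empty, add_zero]
      rw [e] at h2
      refine h2.trans ?_
      exact Nat.mul_le_mul_left _ (by omega)
  · -- n = 3
    have h := h3 3 le_rfl
    simp only [show 3 - 1 = 2 from rfl, show 3 - 2 = 1 from rfl, pow_one] at h ⊢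
    by_cases h' : 3 ∣ q - 1
    · rw [Nat.gcd_eq_left h']
      have : (Nat.divisors 3).filter (fun e => 2 ≤ e) = {3} := by decide
      rw [this, Finset.sum_singleton, Nat.div_self (by norm_num)]
      have ht : Nat.totient 3 = 2 := by decide
      rw [ht]
      have hq1 : 1 ≤ q := by omega
      calc K 3 + 2 * K 1 ≤ (q - 1) * (q ^ 2 + 3 * q) + 2 * (q - 1) :=
            Nat.add_le_add h (Nat.mul_le_mul_left _ h1)
        _ = (q - 1) * (q ^ 2 + 3 * q + 2) := by ring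
        _ ≤ (q - 1) * (q ^ 2 + 5 * q) := Nat.mul_le_mul_left _ (by omega)
    · have hc : Nat.gcd 3 (q - 1) = 1 := (Nat.prime_three.coprime_iff_not_dvd).2 h'
      rw [hc]
      have : (Nat.divisors 1).filter (fun e => 2 ≤ e) = ∅ := by decide
      rw [this, Finset.sum_empty, add_zero]
      refine h.trans ?_
      exact Nat.mul_le_mul_left _ (by omega)
  · -- n ≥ 4
    have hs := pslk_num_sum_le q hq K h1 h2 h3 n hn4
    have hK := h3 n (by omega)
    calc K n + ∑ e ∈ (Nat.gcd n (q - 1)).divisors.filter (fun e => 2 ≤ e),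
          Nat.totient e * K (n / e)
        ≤ (q - 1) * (q ^ (n - 1) + 3 * q ^ (n - 2)) + (q - 1) * (2 * q ^ (n - 2)) :=
          Nat.add_le_add hK hs
      _ = (q - 1) * (q ^ (n - 1) + 5 * q ^ (n - 2)) := by ring

end pieces

end Cfsg.Agent.Helper15.PSLk
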