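import Mathlib
import Cfsg.Agent.Lib.Helper15.S52Defs
import Cfsg.Agent.S0144

/-!
# S3452 piece S52-SMALL: `PGL₂(F)` is solvable for `|F| = 2, 3`
(`|GL₂(F)| = 6` or `48`, Burnside `p^a q^b`; quotients of solvable groups are solvable).
-/

set_option autoImplicit false
set_option linter.unusedVariables false

namespace Cfsg.Agent.Helper15.S52

open Cfsg.Agent.Helper2

theorem s52_small_card_GL {F : Type*} [Field F] [Fintype F] :
    Nat.card (Matrix.GeneralLinearGroup (Fin 2) F) =
      (Fintype.card F ^ 2 - 1) * (Fintype.card F ^ 2 - Fintype.card F) := by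
  rw [Matrix.card_GL_field, Fin.prod_univ_two]
  simp

theorem s52_small_GL_solvable {F : Type*} [Field F] [Fintype F]
    (hF : Fintype.card F = 2 ∨ Fintype.card F = 3) :
    Group.IsSolvable (Matrix.GeneralLinearGroup (Fin 2) F) := by
  have hc := s52_small_card_GL (F := F)
  rcases hF with h | h
  · rw [h] at hc
    exact Cfsg.Agent.S0144.result 2 3 1 1 Nat.prime_two Nat.prime_three (by rw [hc]; norm_num)
  · rw [h] at hc
    exact Cfsg.Agent.S0144.result 2 3 4 1 Nat.prime_two Nat.prime_three (by rw [hc]; norm_num)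

/-- PIECE S52-SMALL -/
theorem pgl_solvable_small {F : Type*} [Field F] [Fintype F]
    (hF : Fintype.card F = 2 ∨ Fintype.card F = 3) : Group.IsSolvable (PGL2 F) := by
  haveI := s52_small_GL_solvable hF
  infer_instance

end Cfsg.Agent.Helper15.S52
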