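import Mathlib
import Cfsg.Agent.Lib.Helper15.S64Defs
import Cfsg.Agent.Lib.Helper2.SzPart2
import Cfsg.Agent.Lib.Helper2.SzTorus2
import Cfsg.Agent.Lib.Helper2.OutCongr
import Cfsg.Agent.Lib.Helper2.SzCard
import Cfsg.Agent.Lib.Helper2.SzSimple
import Cfsg.Agent.Lib.Helper2.SzSylow

/-!
PIECE S64-EX6 of S3664 (owner helper15): an element of order 6 in `Sz(8) ⋊ Aut(F_8)`.
-/

set_option autoImplicit false
set_option linter.unusedSectionVars false
set_option linter.unusedVariables false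

namespace Cfsg.Agent.Helper15.S64

open Matrix Cfsg.Agent.Helper2 Cfsg.Agent.Helper2.Sz

variable {F : Type*} [Field F] [Fintype F] (S : SzData F 1)
  (hF : Fintype.card F = 2 ^ (2 * 1 + 1))

include hF in
/-- a field automorphism of order 3 -/
theorem s64_ex6_exists_aut : ∃ ψ : F ≃+* F, orderOf ψ = 3 := by
  have hfin : Finite (F ≃+* F) := finite_aut
  have : Fact (Nat.Prime 2) := ⟨Nat.prime_two⟩
  have hcard : Nat.card (F ≃+* F) = 3 :=
    Cfsg.Agent.Helper2.OutCongr.card_ringEquiv (p := 2) (n := 3) (by rw [hF])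
  have hnt : Nontrivial (F ≃+* F) := by
    apply (Finite.one_lt_card_iff_nontrivial).1
    rw [hcard]; norm_num
  obtain ⟨ψ, hψ⟩ := exists_ne (1 : F ≃+* F)
  refine ⟨ψ, ?_⟩
  have : Fact (Nat.Prime 3) := ⟨Nat.prime_three⟩
  apply orderOf_eq_prime
  · rw [← hcard]
    exact pow_card_eq_one'
  · exact hψ

/-- the involution `TgSz 0 1` -/
theorem s64_ex6_orderOf_T : orderOf (S.TgSz 0 1) = 2 := by
  have : Fact (Nat.Prime 2) := ⟨Nat.prime_two⟩
  apply orderOf_eq_prime
  · rw [pow_two, S.TgSz_mul, S.TgSz_eq_one_iff, map_zero, zero_mul, add_zero, add_zero, S.add_self]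
    exact ⟨rfl, rfl⟩
  · intro h
    exact one_ne_zero (S.TgSz_eq_one_iff.1 h).2

/-- PIECE S64-EX6 -/
theorem exists_six : ∃ x : Lgrp S hF, orderOf x = 6 := by
  obtain ⟨ψ, hψ⟩ := s64_ex6_exists_aut hF
  refine ⟨SemidirectProduct.inl (S.TgSz 0 1) * SemidirectProduct.inr ψ, ?_⟩
  have h1 : orderOf (SemidirectProduct.inl (S.TgSz 0 1) : Lgrp S hF) = 2 := by
    rw [orderOf_injective _ SemidirectProduct.inl_injective]
    exact s64_ex6_orderOf_T S
  have h2 : orderOf (SemidirectProduct.inr ψ : Lgrp S hF) = 3 := by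
    rw [orderOf_injective _ SemidirectProduct.inr_injective]
    exact hψ
  have hcomm : Commute (SemidirectProduct.inl (S.TgSz 0 1) : Lgrp S hF)
      (SemidirectProduct.inr ψ) := by
    have h3 := SemidirectProduct.inl_aut (φ := S.fieldAut le_rfl hF) ψ (S.TgSz 0 1)
    rw [S.fieldAut_TgSz le_rfl hF, map_zero, map_one] at h3
    -- `inl t = inr ψ * inl t * inr ψ⁻¹`
    show SemidirectProduct.inl (S.TgSz 0 1) * SemidirectProduct.inr ψ =
      SemidirectProduct.inr ψ * SemidirectProduct.inl (S.TgSz 0 1)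
    conv_lhs => rw [h3]
    rw [mul_assoc, ← map_mul, inv_mul_cancel, map_one, mul_one]
  have h4 := hcomm.orderOf_mul_eq_mul_orderOf_of_coprime (by rw [h1, h2]; norm_num)
  rw [h4, h1, h2]

end Cfsg.Agent.Helper15.S64
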