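import Mathlib
import Cfsg.Agent.Lib.Helper8.ABDefs

/-!
S3301, piece AB-INVPROD: a fixed-point-free involution of a block preserving a function with values
of square `1` makes the product over the block trivial.
-/

set_option autoImplicit false

namespace Cfsg.Agent.Helper8.AB

open Cfsg.Agent.Helper8.XS

/-- PIECE AB-INVPROD -/
theorem blk_prod_one {G : Type*} [Group G] (Q H : Subgroup G) [Fintype (G ⧸ H)]
    {A : Type*} [CommGroup A] (f : G ⧸ H → A) (c : G ⧸ H) (g : G) (hg : g ∈ Q)
    (hinv : ∀ x ∈ blk Q H c, g • g • x = x) (hfree : ∀ x ∈ blk Q H c, g • x ≠ x)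
    (hf : ∀ x ∈ blk Q H c, f (g • x) = f x) (hsq : ∀ x ∈ blk Q H c, f x * f x = 1) :
    ∏ x ∈ blk Q H c, f x = 1 := by
  apply Finset.prod_involution (fun x _ => g • x)
  · intro x hx
    show f x * f (g • x) = 1
    rw [hf x hx]
    exact hsq x hx
  · intro x hx _
    exact hfree x hx
  · intro x hx
    exact hinv x hx
  · intro x hx
    exact smul_mem_blk hx hg

end Cfsg.Agent.Helper8.AB
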