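import Mathlib

/-!
PIECE AO-S3C of S2262 (owner helper17), core: counting scalar multiples of powers of a matrix
inside `F[A]`, with several coset representatives.
-/

set_option autoImplicit false

namespace Cfsg.Agent.Helper17.AO

open Polynomial Matrix

section mat
variable {F : Type*} [Field F] {n : ℕ}

/-- The linear map `c ↦ Σ_{i<D} c_i M^i`. -/
noncomputable def ao_s3c_polyMap (D : ℕ) (M : Matrix (Fin n) (Fin n) F) :
    (Fin D → F) →ₗ[F] Matrix (Fin n) (Fin n) F :=
  Fintype.linearCombination F (fun i : Fin D => M ^ (i : ℕ))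

theorem ao_s3c_aeval_mem_range (hn : 1 ≤ n) (M : Matrix (Fin n) (Fin n) F) (p : F[X]) :
    ∃ c, ao_s3c_polyMap (minpoly F M).natDegree M c = aeval M p := by
  have hne : Nonempty (Fin n) := ⟨⟨0, hn⟩⟩
  have hint : IsIntegral F M := Matrix.isIntegral M
  have hmon := minpoly.monic hint
  have h1 : aeval M p = aeval M (p %ₘ minpoly F M) := by
    have := Polynomial.modByMonic_add_div p (minpoly F M)
    conv_lhs => rw [← this]
    rw [map_add, map_mul, minpoly.aeval, zero_mul, add_zero]
  have hne1 : minpoly F M ≠ 1 := minpoly.ne_one F M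
  have hdeg : (p %ₘ minpoly F M).natDegree < (minpoly F M).natDegree :=
    Polynomial.natDegree_modByMonic_lt p hmon hne1
  refine ⟨fun i => (p %ₘ minpoly F M).coeff i, ?_⟩
  rw [h1, Polynomial.aeval_eq_sum_range' hdeg]
  unfold ao_s3c_polyMap
  rw [Fintype.linearCombination_apply,
    Fin.sum_univ_eq_sum_range (fun i => (p %ₘ minpoly F M).coeff i • M ^ i) _]

/-- key step of injectivity -/
theorem ao_s3c_key_inj [Fintype F] (hn : 1 ≤ n) (M : GL (Fin n) F) (i j : ℕ) (hij : i ≤ j)
    (hj : j < orderOf (M : GL (Fin n) F ⧸ Subgroup.center (GL (Fin n) F)))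
    (u v : Fˣ)
    (h : (u : F) • ((M : Matrix (Fin n) (Fin n) F) ^ i) =
      (v : F) • ((M : Matrix (Fin n) (Fin n) F) ^ j)) :
    i = j ∧ u = v := by
  have hne : Nonempty (Fin n) := ⟨⟨0, hn⟩⟩
  have h1 : Matrix.GeneralLinearGroup.scalar (Fin n) u * M ^ i =
      Matrix.GeneralLinearGroup.scalar (Fin n) v * M ^ j := by
    apply Units.ext
    simp only [Units.val_mul, Matrix.GeneralLinearGroup.coe_scalar, Units.val_pow_eq_pow_val]
    rw [Matrix.scalar_apply, Matrix.scalar_apply, ← Matrix.smul_eq_diagonal_mul,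
      ← Matrix.smul_eq_diagonal_mul]
    exact h
  have h2 : M ^ (j - i) = Matrix.GeneralLinearGroup.scalar (Fin n) (v⁻¹ * u) := by
    have : M ^ j = M ^ (j - i) * M ^ i := by rw [← pow_add, Nat.sub_add_cancel hij]
    rw [this, ← mul_assoc] at h1
    have h3 := mul_right_cancel h1
    rw [map_mul, map_inv, h3]
    group
  have h3 : M ^ (j - i) ∈ Subgroup.center (GL (Fin n) F) := by
    rw [Matrix.GeneralLinearGroup.center_eq_range_scalar, h2]
    exact ⟨_, rfl⟩
  have h4 : (M : GL (Fin n) F ⧸ Subgroup.center (GL (Fin n) F)) ^ (j - i) = 1 := by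
    rw [← QuotientGroup.mk_pow, QuotientGroup.eq_one_iff]
    exact h3
  have h5 := orderOf_dvd_of_pow_eq_one h4
  have h6 : j - i = 0 := Nat.eq_zero_of_dvd_of_lt h5 (by omega)
  have h7 : i = j := by omega
  refine ⟨h7, ?_⟩
  subst h7
  have h8 : ((u : F) - (v : F)) • ((M : Matrix (Fin n) (Fin n) F) ^ i) = 0 := by
    rw [sub_smul, h, sub_self]
  rcases smul_eq_zero.1 h8 with h9 | h9
  · exact Units.ext (sub_eq_zero.1 h9)
  · exfalso
    have : ((M ^ i : GL (Fin n) F) : Matrix (Fin n) (Fin n) F) = 0 := by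
      rw [Units.val_pow_eq_pow_val]; exact h9
    exact (Units.ne_zero _) this

/-- General counting lemma: `x a` (`a : ι`) invertible elements of `F[A]`, pairwise not related by
`x a = c • (x b * A ^ j)`.  Then `(q-1) * (|ι| * k) ≤ q ^ D - 1`, where `k` is the order of `A`
modulo scalars and `D` the degree of the minimal polynomial. -/
theorem ao_s3c_count_gen [Fintype F] (hn : 1 ≤ n) (A : GL (Fin n) F)
    {ι : Type*} [Fintype ι] (x : ι → Matrix (Fin n) (Fin n) F)
    (hx1 : ∀ a, ∃ p : F[X], aeval (A : Matrix (Fin n) (Fin n) F) p = x a)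
    (hx2 : ∀ a, IsUnit (x a).det)
    (hx3 : ∀ a b, a ≠ b → ∀ (c : F) (j : ℕ),
      x a ≠ c • (x b * (A : Matrix (Fin n) (Fin n) F) ^ j)) :
    0 < orderOf (A : GL (Fin n) F ⧸ Subgroup.center (GL (Fin n) F)) ∧
    A ^ orderOf (A : GL (Fin n) F ⧸ Subgroup.center (GL (Fin n) F)) ∈
      Subgroup.center (GL (Fin n) F) ∧
    (Fintype.card F - 1) *
        (Fintype.card ι * orderOf (A : GL (Fin n) F ⧸ Subgroup.center (GL (Fin n) F))) ≤
      Fintype.card F ^ (minpoly F (A : Matrix (Fin n) (Fin n) F)).natDegree - 1 := by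
  classical
  have hne : Nonempty (Fin n) := ⟨⟨0, hn⟩⟩
  set r := orderOf (A : GL (Fin n) F ⧸ Subgroup.center (GL (Fin n) F)) with hr
  set D := (minpoly F (A : Matrix (Fin n) (Fin n) F)).natDegree with hD
  have hfin : Finite (GL (Fin n) F ⧸ Subgroup.center (GL (Fin n) F)) := inferInstance
  refine ⟨orderOf_pos _, ?_, ?_⟩
  · have h1 : (A : GL (Fin n) F ⧸ Subgroup.center (GL (Fin n) F)) ^ r = 1 := pow_orderOf_eq_one _
    rw [← QuotientGroup.mk_pow, QuotientGroup.eq_one_iff] at h1
    exact h1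
  let S : Finset (Matrix (Fin n) (Fin n) F) :=
    Finset.univ.image (ao_s3c_polyMap D (A : Matrix (Fin n) (Fin n) F))
  have hS : S.card ≤ Fintype.card F ^ D := by
    refine le_trans Finset.card_image_le ?_
    simp
  have h0 : (0 : Matrix (Fin n) (Fin n) F) ∈ S := by
    rw [Finset.mem_image]; exact ⟨0, Finset.mem_univ _, map_zero _⟩
  have hS' : (S.erase 0).card ≤ Fintype.card F ^ D - 1 := by
    rw [Finset.card_erase_of_mem h0]; omega
  have hAu : ∀ i : ℕ, IsUnit ((A : Matrix (Fin n) (Fin n) F) ^ i) := by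
    intro i
    have : ((A ^ i : GL (Fin n) F) : Matrix (Fin n) (Fin n) F) =
        (A : Matrix (Fin n) (Fin n) F) ^ i := Units.val_pow_eq_pow_val _ _
    rw [← this]
    exact Units.isUnit _
  have hxu : ∀ a, IsUnit (x a) := fun a => (Matrix.isUnit_iff_isUnit_det _).2 (hx2 a)
  let φ : ι × Fin r × Fˣ → Matrix (Fin n) (Fin n) F := fun y =>
    (y.2.2 : F) • (x y.1 * (A : Matrix (Fin n) (Fin n) F) ^ (y.2.1 : ℕ))
  have hφ : ∀ y ∈ (Finset.univ : Finset (ι × Fin r × Fˣ)), φ y ∈ S.erase 0 := by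
    intro y _
    rw [Finset.mem_erase]
    constructor
    · intro h
      rcases smul_eq_zero.1 h with h9 | h9
      · exact y.2.2.ne_zero h9
      · exact ((hxu y.1).mul (hAu y.2.1)).ne_zero h9
    · obtain ⟨p, hp⟩ := hx1 y.1
      obtain ⟨c, hc⟩ := ao_s3c_aeval_mem_range hn (A : Matrix (Fin n) (Fin n) F)
        (C (y.2.2 : F) * (p * X ^ (y.2.1 : ℕ)))
      rw [Finset.mem_image]
      refine ⟨c, Finset.mem_univ _, ?_⟩
      rw [hc, map_mul, map_mul, map_pow, aeval_X, aeval_C, hp, Algebra.algebraMap_eq_smul_one,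
        smul_mul_assoc, one_mul]
  -- the relation between different representatives
  have hrel : ∀ (a b : ι) (i j : ℕ) (u v : Fˣ), i ≤ j →
      (u : F) • (x a * (A : Matrix (Fin n) (Fin n) F) ^ i) =
        (v : F) • (x b * (A : Matrix (Fin n) (Fin n) F) ^ j) →
      x a = ((u : F)⁻¹ * (v : F)) • (x b * (A : Matrix (Fin n) (Fin n) F) ^ (j - i)) := by
    intro a b i j u v hij h
    have h1 : (A : Matrix (Fin n) (Fin n) F) ^ j =
        (A : Matrix (Fin n) (Fin n) F) ^ (j - i) * (A : Matrix (Fin n) (Fin n) F) ^ i := by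
      rw [← pow_add, Nat.sub_add_cancel hij]
    rw [h1, ← mul_assoc, ← smul_mul_assoc, ← smul_mul_assoc] at h
    have h2 := (hAu i).mul_left_injective h
    have h3 : x a = (u : F)⁻¹ • ((u : F) • x a) := by
      rw [smul_smul, inv_mul_cancel₀ u.ne_zero, one_smul]
    rw [h3, h2, smul_smul]
  have hinj : Set.InjOn φ (Finset.univ : Finset (ι × Fin r × Fˣ)) := by
    rintro ⟨a, i, u⟩ _ ⟨b, j, v⟩ _ h
    simp only [φ] at h
    have hab : a = b := by
      by_contra hab
      rcases le_total (i : ℕ) (j : ℕ) with hij | hij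
      · exact hx3 a b hab _ _ (hrel a b i j u v hij h)
      · exact hx3 b a (Ne.symm hab) _ _ (hrel b a j i v u hij h.symm)
    subst hab
    have h' : (u : F) • ((A : Matrix (Fin n) (Fin n) F) ^ (i : ℕ)) =
        (v : F) • ((A : Matrix (Fin n) (Fin n) F) ^ (j : ℕ)) := by
      rw [← mul_smul_comm, ← mul_smul_comm] at h
      exact (hxu a).mul_right_injective h
    rcases le_total (i : ℕ) (j : ℕ) with hij | hij
    · obtain ⟨h1, h2⟩ := ao_s3c_key_inj hn A i j hij j.2 u v h'
      exact Prod.ext rfl (Prod.ext (Fin.ext h1) h2)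
    · obtain ⟨h1, h2⟩ := ao_s3c_key_inj hn A j i hij i.2 v u h'.symm
      exact Prod.ext rfl (Prod.ext (Fin.ext h1.symm) h2.symm)
  have := Finset.card_le_card_of_injOn φ hφ hinj
  rw [Finset.card_univ, Fintype.card_prod, Fintype.card_prod, Fintype.card_fin,
    Fintype.card_units] at this
  calc (Fintype.card F - 1) * (Fintype.card ι * r)
      = Fintype.card ι * (r * (Fintype.card F - 1)) := by ring
    _ ≤ (S.erase 0).card := this
    _ ≤ _ := hS'

/-- AO-S3C (core form). -/
theorem ao_s3c_count_one [Fintype F] (hn : 1 ≤ n) (A : GL (Fin n) F) :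
    ∃ k : ℕ, 0 < k ∧ A ^ k ∈ Subgroup.center (GL (Fin n) F) ∧
      (Fintype.card F - 1) * k ≤
        Fintype.card F ^ (minpoly F (A : Matrix (Fin n) (Fin n) F)).natDegree - 1 := by
  obtain ⟨h1, h2, h3⟩ := ao_s3c_count_gen hn A (ι := Unit) (fun _ => 1)
    (fun _ => ⟨1, by simp⟩) (fun _ => by simp)
    (fun a b hab => absurd (Subsingleton.elim a b) hab)
  refine ⟨_, h1, h2, ?_⟩
  simpa using h3

/-- AO-S3B (core form): two cosets. -/
theorem ao_s3c_count_two [Fintype F] (hn : 1 ≤ n) (A : GL (Fin n) F) (t : F)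
    (hx : IsUnit (1 + t • (A : Matrix (Fin n) (Fin n) F)).det)
    (hne : ∀ (c : F) (j : ℕ), 1 + t • (A : Matrix (Fin n) (Fin n) F) ≠
      c • (A : Matrix (Fin n) (Fin n) F) ^ j) :
    ∃ k : ℕ, 0 < k ∧ A ^ k ∈ Subgroup.center (GL (Fin n) F) ∧
      (Fintype.card F - 1) * (2 * k) ≤
        Fintype.card F ^ (minpoly F (A : Matrix (Fin n) (Fin n) F)).natDegree - 1 := by
  have hne' : Nonempty (Fin n) := ⟨⟨0, hn⟩⟩
  set k := orderOf (A : GL (Fin n) F ⧸ Subgroup.center (GL (Fin n) F)) with hk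
  have hkc : A ^ k ∈ Subgroup.center (GL (Fin n) F) := by
    have h1 : (A : GL (Fin n) F ⧸ Subgroup.center (GL (Fin n) F)) ^ k = 1 := pow_orderOf_eq_one _
    rw [← QuotientGroup.mk_pow, QuotientGroup.eq_one_iff] at h1
    exact h1
  rw [Matrix.GeneralLinearGroup.center_eq_range_scalar] at hkc
  obtain ⟨s, hs⟩ := hkc
  have hsM : (A : Matrix (Fin n) (Fin n) F) ^ k = (s : F) • (1 : Matrix (Fin n) (Fin n) F) := by
    have := congrArg (fun g : GL (Fin n) F => (g : Matrix (Fin n) (Fin n) F)) hs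
    simp only [Matrix.GeneralLinearGroup.coe_scalar, Units.val_pow_eq_pow_val] at this
    rw [← this, Matrix.scalar_apply, Matrix.smul_one_eq_diagonal]
  have hAu : ∀ i : ℕ, IsUnit ((A : Matrix (Fin n) (Fin n) F) ^ i) := by
    intro i
    have : ((A ^ i : GL (Fin n) F) : Matrix (Fin n) (Fin n) F) =
        (A : Matrix (Fin n) (Fin n) F) ^ i := Units.val_pow_eq_pow_val _ _
    rw [← this]
    exact Units.isUnit _
  obtain ⟨h1, h2, h3⟩ := ao_s3c_count_gen hn A (ι := Bool)
    (fun b => if b then 1 + t • (A : Matrix (Fin n) (Fin n) F) else 1)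
    (by
      intro b
      cases b
      · exact ⟨1, by simp⟩
      · exact ⟨1 + C t * X, by simp [Algebra.algebraMap_eq_smul_one]⟩)
    (by
      intro b
      cases b
      · simp
      · simpa using hx)
    (by
      intro a b hab c j
      cases a <;> cases b
      · exact absurd rfl hab
      · -- `1 ≠ c • ((1 + tA) * A ^ j)`
        simp only [Bool.false_eq_true, if_false, if_true]
        intro h
        have hjm : (A : Matrix (Fin n) (Fin n) F) ^ j * (A : Matrix (Fin n) (Fin n) F) ^ ((k - 1) * j) =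
            ((s : F) ^ j) • (1 : Matrix (Fin n) (Fin n) F) := by
          have hk1 : 1 ≤ k := orderOf_pos _
          have : j + (k - 1) * j = k * j := by
            have : k = (k - 1) + 1 := by omega
            conv_rhs => rw [this]
            ring
          rw [← pow_add, this, pow_mul, hsM, _root_.smul_pow, one_pow]
        have h4 : (A : Matrix (Fin n) (Fin n) F) ^ ((k - 1) * j) =
            (c * (s : F) ^ j) • (1 + t • (A : Matrix (Fin n) (Fin n) F)) := by
          have := congrArg (fun Z => Z * (A : Matrix (Fin n) (Fin n) F) ^ ((k - 1) * j)) h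
          simp only [one_mul] at this
          rw [this, smul_mul_assoc, mul_assoc, hjm, mul_smul_comm, mul_one, smul_smul]
        have h5 : c * (s : F) ^ j ≠ 0 := by
          intro h0
          rw [h0, zero_smul] at h4
          exact (hAu _).ne_zero h4
        apply hne (c * (s : F) ^ j)⁻¹ ((k - 1) * j)
        rw [h4, smul_smul, inv_mul_cancel₀ h5, one_smul]
      · simp only [Bool.false_eq_true, if_false, if_true, one_mul]
        exact hne c j
      · exact absurd rfl hab)
  refine ⟨_, h1, h2, ?_⟩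
  simpa using h3

end mat

end Cfsg.Agent.Helper17.AO
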