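import Mathlib
import Cfsg.Agent.Lib.Helper2.Psln25
import Cfsg.Agent.Lib.Helper2.OutCongr
import Cfsg.Agent.Lib.Helper10.EOAssembly
import Cfsg.Agent.Lib.Helper9.AOS3CCore

/-!
PIECE AO-S3B of S2262 (owner helper17): `count_two`, exact skeleton signature.
-/

set_option autoImplicit false

namespace Cfsg.Agent.Helper17.AO

open Polynomial Matrix Cfsg.Agent.Helper2.PN
open Cfsg.Agent.Helper10.EO (star)
open Cfsg.Agent.Helper13.FAut (fixedField mem_fixedField)

section mat
variable {F : Type*} [Field F] {n : ℕ}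

/-- AO-S3B -/
theorem count_two [Fintype F] (hn : 1 ≤ n) (A : GL (Fin n) F) (t : F)
    (hx : IsUnit (1 + t • (A : Matrix (Fin n) (Fin n) F)).det)
    (hne : ∀ (c : F) (j : ℕ), 1 + t • (A : Matrix (Fin n) (Fin n) F) ≠
      c • (A : Matrix (Fin n) (Fin n) F) ^ j) :
    ∃ k : ℕ, 0 < k ∧ A ^ k ∈ Subgroup.center (GL (Fin n) F) ∧
      (Fintype.card F - 1) * (2 * k) ≤
        Fintype.card F ^ (minpoly F (A : Matrix (Fin n) (Fin n) F)).natDegree - 1 :=
  ao_s3c_count_two hn A t hx hne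

end mat

end Cfsg.Agent.Helper17.AO
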