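import Mathlib
import Cfsg.Agent.Lib.Helper17.TSLDefs

/-!
# S3366 piece ISO (helper9, for helper17): `iso_core`, the assembly `X ≃* stabilizer G3 u0` with all the abstract pieces
(T, K, XY, NF, HOM, KAPPA), the generic SDP and CARDSTAB as hypotheses.
-/

set_option autoImplicit false

namespace Cfsg.Agent.Helper17.TSL

open Cfsg.Agent.Helper2.Symp
open scoped Cfsg.Agent.Helper2.Symp

section abstract

variable {X : Type*} [Group X] [Finite X] (S : Setup X)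

/-- the value of a hom out of `R` on `x^a y^b [x,y]^c` -/
theorem iso_hom_val {H : Type*} [Group H] (x y : X) (hx : x ∈ S.R) (hy : y ∈ S.R)
    (f : S.R →* H) (r : S.R) (a b c : ℕ) (hr : (r : X) = x ^ a * y ^ b * (x * y * x⁻¹ * y⁻¹) ^ c) :
    f r = (f ⟨x, hx⟩) ^ a * (f ⟨y, hy⟩) ^ b *
      (f ⟨x, hx⟩ * f ⟨y, hy⟩ * (f ⟨x, hx⟩)⁻¹ * (f ⟨y, hy⟩)⁻¹) ^ c := by
  have e : r = (⟨x, hx⟩ : S.R) ^ a * (⟨y, hy⟩ : S.R) ^ b *
      ((⟨x, hx⟩ : S.R) * ⟨y, hy⟩ * (⟨x, hx⟩ : S.R)⁻¹ * (⟨y, hy⟩ : S.R)⁻¹) ^ c := by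
    apply Subtype.ext
    rw [hr]
    simp only [Subgroup.coe_mul, Subgroup.coe_pow, Subgroup.coe_inv]
  rw [e]
  simp only [map_mul, map_pow, map_inv]

/-- two homs out of `R` which agree on `x` and `y` agree -/
theorem iso_hom_ext {H : Type*} [Group H] (x y : X) (hx : x ∈ S.R) (hy : y ∈ S.R)
    (hnf : ∀ r ∈ S.R, ∃ a b c : Fin 3, r = x ^ (a : ℕ) * y ^ (b : ℕ) * (x * y * x⁻¹ * y⁻¹) ^ (c : ℕ))
    (f1 f2 : S.R →* H) (h1 : f1 ⟨x, hx⟩ = f2 ⟨x, hx⟩) (h2 : f1 ⟨y, hy⟩ = f2 ⟨y, hy⟩) (r : S.R) :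
    f1 r = f2 r := by
  obtain ⟨a, b, c, hr⟩ := hnf r r.2
  rw [iso_hom_val S x y hx hy f1 r a b c hr, iso_hom_val S x y hx hy f2 r a b c hr, h1, h2]

/-- PIECE ISO, from the other pieces -/
theorem iso_core
    (hT : ∃ t : X, t * t = 1 ∧ S.π t = negOne)
    (hK : ∀ t : X, t * t = 1 → S.π t = negOne →
      ∃ K : Subgroup X, (∀ k ∈ K, k * t = t * k) ∧ K ⊓ S.R = ⊥ ∧ Nat.card K = 24 ∧ t ∈ K)
    (hXY : ∀ t : X, t * t = 1 → S.π t = negOne →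
      ∃ x ∈ S.R, ∃ y ∈ S.R, t * x * t⁻¹ = x⁻¹ ∧ t * y * t⁻¹ = y⁻¹ ∧ x * y * x⁻¹ * y⁻¹ ≠ 1)
    (hNF : ∀ x y : X, x ∈ S.R → y ∈ S.R → x * y * x⁻¹ * y⁻¹ ≠ 1 → ∀ r ∈ S.R,
      ∃! abc : Fin 3 × Fin 3 × Fin 3,
        r = x ^ (abc.1 : ℕ) * y ^ (abc.2.1 : ℕ) * (x * y * x⁻¹ * y⁻¹) ^ (abc.2.2 : ℕ))
    (hHOM : ∀ (x y : X) (hx : x ∈ S.R) (hy : y ∈ S.R), x * y * x⁻¹ * y⁻¹ ≠ 1 →
      ∀ x' y' : G3, x' ^ 3 = 1 → y' ^ 3 = 1 →
        (x' * y' * x'⁻¹ * y'⁻¹) * x' = x' * (x' * y' * x'⁻¹ * y'⁻¹) →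
        (x' * y' * x'⁻¹ * y'⁻¹) * y' = y' * (x' * y' * x'⁻¹ * y'⁻¹) →
        (x' * y' * x'⁻¹ * y'⁻¹) ^ 3 = 1 →
        ∃ φ : S.R →* G3, φ ⟨x, hx⟩ = x' ∧ φ ⟨y, hy⟩ = y')
    (hKAPPA : ∀ t : X, t * t = 1 → S.π t = negOne → ∀ K : Subgroup X, (∀ k ∈ K, k * t = t * k) →
      K ⊓ S.R = ⊥ → Nat.card K = 24 → t ∈ K → ∀ x y : X, x ∈ S.R → y ∈ S.R →
      t * x * t⁻¹ = x⁻¹ → t * y * t⁻¹ = y⁻¹ → x * y * x⁻¹ * y⁻¹ ≠ 1 →
      ∃ κ : K →* SL23, Function.Injective κ ∧ ∀ k : K, ActsBy x y (k : X) (κ k))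
    (hSDP : ∀ (R K : Subgroup X) (hn : R.Normal), K ⊓ R = ⊥ →
      (∀ g : X, ∃ r ∈ R, ∃ k ∈ K, g = r * k) → ∀ (ρ : R →* G3) (lam : K →* G3),
      (∀ (k : K) (r : R),
        ρ ⟨(k : X) * r * (k : X)⁻¹, hn.conj_mem r r.2 k⟩ = lam k * ρ r * (lam k)⁻¹) →
      ∃ Φ : X →* G3, (∀ r : R, Φ r = ρ r) ∧ (∀ k : K, Φ k = lam k))
    (hcard : Nat.card (MulAction.stabilizer G3 u0) = 648) :
    Nonempty (X ≃* MulAction.stabilizer G3 u0) := by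
  classical
  obtain ⟨t, ht, hπ⟩ := hT
  obtain ⟨K, hKt, hKR, hKc, htK⟩ := hK t ht hπ
  obtain ⟨x, hx, y, hy, hxt, hyt, hxy⟩ := hXY t ht hπ
  obtain ⟨ρ, hρx, hρy⟩ := hHOM x y hx hy hxy Nx Ny Nx_pow Ny_pow Nz_Nx Nz_Ny Nz_pow
  obtain ⟨κ, hκi, hκa⟩ := hKAPPA t ht hπ K hKt hKR hKc htK x y hx hy hxt hyt hxy
  have hnf : ∀ r ∈ S.R, ∃ a b c : Fin 3,
      r = x ^ (a : ℕ) * y ^ (b : ℕ) * (x * y * x⁻¹ * y⁻¹) ^ (c : ℕ) := by
    intro r hr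
    obtain ⟨⟨a, b, c⟩, h, -⟩ := hNF x y hx hy hxy r hr
    exact ⟨a, b, c, h⟩
  haveI hn : S.R.Normal := S.normal
  -- the value of `ρ`
  have hρval : ∀ (r : S.R) (a b c : ℕ), (r : X) = x ^ a * y ^ b * (x * y * x⁻¹ * y⁻¹) ^ c →
      ρ r = Nx ^ a * Ny ^ b * Nz ^ c := by
    intro r a b c hr
    rw [iso_hom_val S x y hx hy ρ r a b c hr, hρx, hρy]
    rfl
  let lam : K →* G3 := Lh.comp κ
  have hlam : ∀ k : K, lam k = Lh (κ k) := fun k => rfl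
  -- equivariance
  have heq : ∀ (k : K) (r : S.R),
      ρ ⟨(k : X) * r * (k : X)⁻¹, hn.conj_mem r r.2 k⟩ = lam k * ρ r * (lam k)⁻¹ := by
    intro k r
    let f1 : S.R →* G3 := ρ.comp (MulAut.conjNormal (k : X) : S.R ≃* S.R).toMonoidHom
    let f2 : S.R →* G3 := (MulAut.conj (lam k)).toMonoidHom.comp ρ
    have hf1 : ∀ r : S.R, f1 r = ρ ⟨(k : X) * r * (k : X)⁻¹, hn.conj_mem r r.2 k⟩ := by
      intro r
      show ρ (MulAut.conjNormal (k : X) r) = _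
      congr 1
    have hf2 : ∀ r : S.R, f2 r = lam k * ρ r * (lam k)⁻¹ := fun r => rfl
    rw [← hf1, ← hf2]
    apply iso_hom_ext S x y hx hy hnf f1 f2
    · rw [hf1, hf2, hρx, hlam, conj_Nx]
      exact hρval _ _ _ _ (hκa k).1
    · rw [hf1, hf2, hρy, hlam, conj_Ny]
      exact hρval _ _ _ _ (hκa k).2
  -- `X = R K`
  have hcov : ∀ g : X, ∃ r ∈ S.R, ∃ k ∈ K, g = r * k := by
    have hinj : Function.Injective (S.π.comp K.subtype) := by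
      rw [injective_iff_map_eq_one]
      intro k hk
      have h1 : (k : X) ∈ S.π.ker := hk
      rw [S.ker] at h1
      have h2 : (k : X) ∈ K ⊓ S.R := ⟨k.2, h1⟩
      rw [hKR, Subgroup.mem_bot] at h2
      exact Subtype.ext h2
    have hbij : Function.Bijective (S.π.comp K.subtype) := by
      rw [Nat.bijective_iff_injective_and_card]
      exact ⟨hinj, by rw [hKc, Nat.card_eq_fintype_card, card_SL23]⟩
    intro g
    obtain ⟨k, hk⟩ := hbij.2 (S.π g)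
    have h1 : g * (k : X)⁻¹ ∈ S.π.ker := by
      rw [MonoidHom.mem_ker, map_mul, map_inv]
      have : S.π (k : X) = S.π g := hk
      rw [this, mul_inv_cancel]
    rw [S.ker] at h1
    exact ⟨g * (k : X)⁻¹, h1, k, k.2, by group⟩
  obtain ⟨Φ, hΦR, hΦK⟩ := hSDP S.R K hn hKR hcov ρ lam heq
  -- the values lie in the stabiliser
  have hNx : Nx ∈ MulAction.stabilizer G3 u0 := Nx_fix
  have hNy : Ny ∈ MulAction.stabilizer G3 u0 := Ny_fix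
  have hNz : Nz ∈ MulAction.stabilizer G3 u0 :=
    mul_mem (mul_mem (mul_mem hNx hNy) (inv_mem hNx)) (inv_mem hNy)
  have hstab : ∀ g : X, Φ g ∈ MulAction.stabilizer G3 u0 := by
    intro g
    obtain ⟨r, hr, k, hk, rfl⟩ := hcov g
    obtain ⟨a, b, c, hrabc⟩ := hnf r hr
    rw [map_mul]
    have e1 : Φ r = Nx ^ (a : ℕ) * Ny ^ (b : ℕ) * Nz ^ (c : ℕ) := by
      rw [← hρval ⟨r, hr⟩ a b c hrabc]
      exact hΦR ⟨r, hr⟩
    have e2 : Φ k = Lh (κ ⟨k, hk⟩) := hΦK ⟨k, hk⟩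
    rw [e1, e2]
    exact mul_mem (mul_mem (mul_mem (pow_mem hNx _) (pow_mem hNy _)) (pow_mem hNz _)) (Lh_fix _)
  let Ψ : X →* MulAction.stabilizer G3 u0 := Φ.codRestrict (MulAction.stabilizer G3 u0) hstab
  have hΨinj : Function.Injective Ψ := by
    rw [injective_iff_map_eq_one]
    intro g hg
    have hg' : Φ g = 1 := congrArg Subtype.val hg
    obtain ⟨r, hr, k, hk, rfl⟩ := hcov g
    obtain ⟨a, b, c, hrabc⟩ := hnf r hr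
    have e1 : Φ r = Nx ^ (a : ℕ) * Ny ^ (b : ℕ) * Nz ^ (c : ℕ) := by
      rw [← hρval ⟨r, hr⟩ a b c hrabc]
      exact hΦR ⟨r, hr⟩
    have e2 : Φ k = Lh (κ ⟨k, hk⟩) := hΦK ⟨k, hk⟩
    rw [map_mul, e1, e2] at hg'
    have e3 : Nx ^ (a : ℕ) * Ny ^ (b : ℕ) * Nz ^ (c : ℕ) = Lh (κ ⟨k, hk⟩)⁻¹ := by
      rw [map_inv]
      exact eq_inv_of_mul_eq_one_left hg'
    obtain ⟨⟨ha, hb, hc⟩, hm⟩ := nf_eq_Lh a b c _ e3
    have hr1 : r = 1 := by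
      rw [hrabc, ha, hb, hc]
      simp
    have hk1 : (⟨k, hk⟩ : K) = 1 := by
      apply hκi
      rw [map_one]
      exact inv_eq_one.1 hm
    have hk1' : k = 1 := congrArg Subtype.val hk1
    rw [hr1, hk1', mul_one]
  have hcardX : Nat.card X = 648 := by
    have h1 := Subgroup.card_mul_index S.R
    have h2 : S.R.index = 24 := by
      rw [← S.ker, Subgroup.index_ker, MonoidHom.range_eq_top.2 S.surj, Subgroup.card_top,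
        Nat.card_eq_fintype_card, card_SL23]
    rw [h2, S.card_R] at h1
    omega
  have hΨbij : Function.Bijective Ψ := by
    rw [Nat.bijective_iff_injective_and_card]
    exact ⟨hΨinj, by rw [hcardX, hcard]⟩
  exact ⟨MulEquiv.ofBijective Ψ hΨbij⟩

end abstract

end Cfsg.Agent.Helper17.TSL
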