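import Mathlib
import Cfsg.Agent.Lib.Helper20.A3Defs

set_option autoImplicit false
set_option linter.unusedSectionVars false
set_option linter.unusedVariables false

/-!
Piece S3117-LAM: in a group of exponent `2` and order `4`, every `u ≠ 1` spans the kernel of a
character to `𝔽₂`.
-/

namespace Cfsg.Agent.Helper20.A3

section Abs

variable {W U : Type*} [Group W] [Group U] [Finite W] [Finite U]

/-- **A3-LAM.** In a group of exponent `2` and order `4`, every `u ≠ 1` is the kernel of a
character `U → 𝔽₂`. -/
theorem exists_char (hU : ∀ u : U, u * u = 1) (hU4 : Nat.card U = 4) (u : U) (hu : u ≠ 1) :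
    ∃ l : U →* Multiplicative (ZMod 2), ∀ v : U, l v = 1 ↔ (v = 1 ∨ v = u) := by
  classical
  have hord : orderOf u = 2 := by
    apply orderOf_eq_prime
    · rw [pow_two]; exact hU u
    · exact hu
  set H : Subgroup U := Subgroup.zpowers u with hH
  have hcardH : Nat.card H = 2 := by
    rw [hH, Nat.card_zpowers, hord]
  have hidx : H.index = 2 := by
    have h := H.card_mul_index
    rw [hcardH, hU4] at h
    omega
  have hmem : ∀ v : U, v ∈ H ↔ (v = 1 ∨ v = u) := by
    intro v
    constructor
    · intro hv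
      rw [hH, Subgroup.mem_zpowers_iff] at hv
      obtain ⟨k, rfl⟩ := hv
      rcases Int.even_or_odd k with ⟨m, rfl⟩ | ⟨m, rfl⟩
      · left
        rw [zpow_add]
        exact hU (u ^ m)
      · right
        rw [zpow_add, zpow_one, two_mul, zpow_add, hU (u ^ m), one_mul]
    · rintro (h1 | h1)
      · rw [h1]; exact H.one_mem
      · rw [h1]; exact Subgroup.mem_zpowers u
  have hmul : ∀ a b : U, (a * b ∈ H ↔ (a ∈ H ↔ b ∈ H)) :=
    fun a b => Subgroup.mul_mem_iff_of_index_two hidx
  let f : U → Multiplicative (ZMod 2) := fun v => if v ∈ H then 1 else Multiplicative.ofAdd 1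
  have hsq : (Multiplicative.ofAdd (1 : ZMod 2)) * Multiplicative.ofAdd 1 = 1 := by decide
  have hne : (Multiplicative.ofAdd (1 : ZMod 2)) ≠ 1 := by decide
  refine ⟨MonoidHom.mk' f ?_, ?_⟩
  · intro a b
    show (if a * b ∈ H then (1 : Multiplicative (ZMod 2)) else Multiplicative.ofAdd 1) =
      (if a ∈ H then 1 else Multiplicative.ofAdd 1) * (if b ∈ H then 1 else Multiplicative.ofAdd 1)
    by_cases ha : a ∈ H <;> by_cases hb : b ∈ H
    · have hab : a * b ∈ H := (hmul a b).mpr (iff_of_true ha hb)
      rw [if_pos ha, if_pos hb, if_pos hab, one_mul]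
    · have hab : a * b ∉ H := fun h => hb (((hmul a b).mp h).mp ha)
      rw [if_pos ha, if_neg hb, if_neg hab, one_mul]
    · have hab : a * b ∉ H := fun h => ha (((hmul a b).mp h).mpr hb)
      rw [if_neg ha, if_pos hb, if_neg hab, mul_one]
    · have hab : a * b ∈ H := (hmul a b).mpr (iff_of_false ha hb)
      rw [if_neg ha, if_neg hb, if_pos hab, hsq]
  · intro v
    rw [← hmem v]
    show (if v ∈ H then (1 : Multiplicative (ZMod 2)) else Multiplicative.ofAdd 1) = 1 ↔ v ∈ H
    by_cases hv : v ∈ H
    · rw [if_pos hv]; exact iff_of_true rfl hv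
    · rw [if_neg hv]; exact iff_of_false hne hv

end Abs

end Cfsg.Agent.Helper20.A3
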