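import Mathlib
import Cfsg.Agent.Lib.Helper18.WCDefs

/-!
PIECE WC-DEC-D4E6 of S2244 (owner helper18): `DecOK` witnesses for `D4` and `E6` (tables,
`plans/S2244_witness.md`), checked by kernel evaluation.
-/

set_option autoImplicit false
set_option linter.unusedSectionVars false
set_option linter.unusedVariables false

namespace Cfsg.Agent.Helper18.WC

open Cfsg Cfsg.Lie Cfsg.Agent.Lead.Chev Cfsg.Agent.Helper6.ChevL Cfsg.Agent.Helper6.Uni
open scoped commutatorElement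

/-- Boolean check of a list of `DecOK` witnesses `(r, a, s, N, N')` with `N, N' = ±1` covering all
non-fundamental positive roots. -/
def wc_dec_d4e6_chk (D : ChevalleyDatum) (W : List (ℕ × ℕ × ℕ × ℤ × ℤ)) : Bool :=
  (List.range D.nroots).all fun r =>
    (!decide (D.IsPosRoot r)) || ((!decide (NonSimple D r)) ||
      W.any fun w => decide (w.1 = r) &&
        (decide (DecOK D r w.2.1 w.2.2.1 w.2.2.2.1 w.2.2.2.2) &&
          (decide (w.2.2.2.1 = 1 ∨ w.2.2.2.1 = -1) && decide (w.2.2.2.2 = 1 ∨ w.2.2.2.2 = -1))))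

theorem wc_dec_d4e6_of_chk (D : ChevalleyDatum) (W : List (ℕ × ℕ × ℕ × ℤ × ℤ))
    (h : wc_dec_d4e6_chk D W = true) (r : ℕ) (hr : D.IsPosRoot r) (hns : NonSimple D r) :
    ∃ a s N N', DecOK D r a s N N' ∧ (N = 1 ∨ N = -1) ∧ (N' = 1 ∨ N' = -1) := by
  unfold wc_dec_d4e6_chk at h
  rw [List.all_eq_true] at h
  have h1 := h r (List.mem_range.2 hr.1)
  simp only [Bool.or_eq_true, Bool.not_eq_true', decide_eq_false_iff_not, List.any_eq_true,
    Bool.and_eq_true, decide_eq_true_eq] at h1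
  rcases h1 with h1 | h1 | ⟨w, _, _, h3, h4, h5⟩
  · exact absurd hr h1
  · exact absurd hns h1
  · exact ⟨_, _, _, _, h3, h4, h5⟩

section Chev

variable {F : Type*} [Field F] {D : ChevalleyDatum} (hF : ChevFacts D F)

include hF

omit hF in
/-- WC-DEC-D4 (table) -/
theorem exists_dec_D4 (r : ℕ) (hr : chevD4.IsPosRoot r) (hns : NonSimple chevD4 r) :
    ∃ a s N N', DecOK chevD4 r a s N N' ∧ (N = 1 ∨ N = -1) ∧ (N' = 1 ∨ N' = -1) := by
  refine wc_dec_d4e6_of_chk chevD4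
    [(15, 12, 14, 1, -1), (16, 13, 14, 1, -1), (17, 12, 16, 1, -1), (19, 14, 18, 1, -1),
     (20, 12, 19, 1, -1), (21, 13, 19, 1, -1), (22, 12, 21, 1, -1), (23, 14, 22, 1, -1)] ?_ r hr hns
  decide +kernel

omit hF in
/-- WC-DEC-E6 (table) -/
theorem exists_dec_E6 (r : ℕ) (hr : chevE6.IsPosRoot r) (hns : NonSimple chevE6 r) :
    ∃ a s N N', DecOK chevE6 r a s N N' ∧ (N = 1 ∨ N = -1) ∧ (N' = 1 ∨ N' = -1) := by
  refine wc_dec_d4e6_of_chk chevE6
    [(38, 36, 37, 1, -1), (40, 37, 39, 1, -1), (41, 36, 40, 1, -1), (43, 39, 42, 1, -1),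
     (44, 37, 43, 1, -1), (45, 36, 44, 1, -1), (47, 39, 46, 1, -1), (48, 37, 47, 1, -1),
     (49, 36, 48, 1, -1), (50, 42, 47, 1, -1), (51, 37, 50, 1, -1), (52, 36, 51, 1, -1),
     (53, 39, 51, 1, -1), (54, 36, 53, 1, -1), (55, 37, 54, 1, -1), (57, 42, 56, 1, -1),
     (58, 39, 57, 1, -1), (59, 37, 58, 1, -1), (60, 36, 59, 1, -1), (61, 46, 58, 1, -1),
     (62, 37, 61, 1, -1), (63, 36, 62, 1, -1), (64, 39, 62, 1, -1), (65, 36, 64, 1, -1),
     (66, 37, 65, 1, -1), (67, 42, 64, 1, -1), (68, 36, 67, 1, -1), (69, 37, 68, 1, -1),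
     (70, 39, 69, 1, -1), (71, 46, 70, 1, -1)] ?_ r hr hns
  decide +kernel

end Chev

end Cfsg.Agent.Helper18.WC
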