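import Mathlib
import Cfsg.Agent.Lib.Helper18.WCDefs
import Cfsg.Agent.Lib.Helper9.WCDECD4E6

/-!
PIECE WC-DEC-E8 of S2244 (owner helper18): `DecOK` witnesses for `E8` (table,
`plans/S2244_witness.md`), checked by kernel evaluation.
-/

set_option autoImplicit false
set_option linter.unusedSectionVars false
set_option linter.unusedVariables false

namespace Cfsg.Agent.Helper18.WC

open Cfsg Cfsg.Lie Cfsg.Agent.Lead.Chev Cfsg.Agent.Helper6.ChevL Cfsg.Agent.Helper6.Uni
open scoped commutatorElement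

section Chev

variable {F : Type*} [Field F] {D : ChevalleyDatum} (hF : ChevFacts D F)

include hF

omit hF in
/-- WC-DEC-E8 (table) -/
theorem exists_dec_E8 (r : ℕ) (hr : chevE8.IsPosRoot r) (hns : NonSimple chevE8 r) :
    ∃ a s N N', DecOK chevE8 r a s N N' ∧ (N = 1 ∨ N = -1) ∧ (N' = 1 ∨ N' = -1) := by
  refine wc_dec_d4e6_of_chk chevE8
    [(122, 120, 121, 1, -1), (124, 121, 123, 1, -1), (125, 120, 124, 1, -1), (127, 123, 126, 1, -1),
     (128, 121, 127, 1, -1), (129, 120, 128, 1, -1), (131, 126, 130, 1, -1), (132, 123, 131, 1, -1),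
     (133, 121, 132, 1, -1), (134, 120, 133, 1, -1), (136, 130, 135, 1, -1), (137, 126, 136, 1, -1),
     (138, 123, 137, 1, -1), (139, 121, 138, 1, -1), (140, 120, 139, 1, -1), (142, 130, 141, 1, -1),
     (143, 126, 142, 1, -1), (144, 123, 143, 1, -1), (145, 121, 144, 1, -1), (146, 120, 145, 1, -1),
     (147, 135, 142, 1, -1), (148, 126, 147, 1, -1), (149, 123, 148, 1, -1), (150, 121, 149, 1, -1),
     (151, 120, 150, 1, -1), (152, 130, 148, 1, -1), (153, 123, 152, 1, -1), (154, 121, 153, 1, -1),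
     (155, 120, 154, 1, -1), (156, 126, 153, 1, -1), (157, 121, 156, 1, -1), (158, 120, 157, 1, -1),
     (159, 123, 157, 1, -1), (160, 120, 159, 1, -1), (161, 121, 160, 1, -1), (163, 135, 162, 1, -1),
     (164, 130, 163, 1, -1), (165, 126, 164, 1, -1), (166, 123, 165, 1, -1), (167, 121, 166, 1, -1),
     (168, 120, 167, 1, -1), (169, 141, 164, 1, -1), (170, 126, 169, 1, -1), (171, 123, 170, 1, -1),
     (172, 121, 171, 1, -1), (173, 120, 172, 1, -1), (174, 130, 170, 1, -1), (175, 123, 174, 1, -1),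
     (176, 121, 175, 1, -1), (177, 120, 176, 1, -1), (178, 126, 175, 1, -1), (179, 121, 178, 1, -1),
     (180, 120, 179, 1, -1), (181, 123, 179, 1, -1), (182, 120, 181, 1, -1), (183, 121, 182, 1, -1),
     (184, 135, 174, 1, -1), (185, 123, 184, 1, -1), (186, 121, 185, 1, -1), (187, 120, 186, 1, -1),
     (188, 126, 185, 1, -1), (189, 121, 188, 1, -1), (190, 120, 189, 1, -1), (191, 123, 189, 1, -1),
     (192, 120, 191, 1, -1), (193, 121, 192, 1, -1), (194, 130, 188, 1, -1), (195, 121, 194, 1, -1),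
     (196, 120, 195, 1, -1), (197, 123, 195, 1, -1), (198, 120, 197, 1, -1), (199, 121, 198, 1, -1),
     (200, 126, 197, 1, -1), (201, 120, 200, 1, -1), (202, 121, 201, 1, -1), (203, 123, 202, 1, -1),
     (204, 141, 194, 1, -1), (205, 121, 204, 1, -1), (206, 120, 205, 1, -1), (207, 123, 205, 1, -1),
     (208, 120, 207, 1, -1), (209, 121, 208, 1, -1), (210, 126, 207, 1, -1), (211, 120, 210, 1, -1),
     (212, 121, 211, 1, -1), (213, 123, 212, 1, -1), (214, 130, 210, 1, -1), (215, 120, 214, 1, -1),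
     (216, 121, 215, 1, -1), (217, 123, 216, 1, -1), (218, 126, 217, 1, -1), (219, 135, 214, 1, -1),
     (220, 120, 219, 1, -1), (221, 121, 220, 1, -1), (222, 123, 221, 1, -1), (223, 126, 222, 1, -1),
     (224, 130, 223, 1, -1), (225, 141, 224, 1, -1), (226, 162, 219, 1, -1), (227, 120, 226, 1, -1),
     (228, 121, 227, 1, -1), (229, 123, 228, 1, -1), (230, 126, 229, 1, -1), (231, 130, 230, 1, -1),
     (232, 135, 231, 1, -1), (233, 141, 231, 1, -1), (234, 135, 233, 1, -1), (235, 130, 234, 1, -1),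
     (236, 126, 235, 1, -1), (237, 123, 236, 1, -1), (238, 121, 237, 1, -1), (239, 120, 238, 1, -1)] ?_ r hr hns
  decide +kernel

end Chev

end Cfsg.Agent.Helper18.WC
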