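import Mathlib
import Cfsg.Agent.Lib.Helper18.WCDefs
import Cfsg.Agent.Lib.Lead.ChevCore

/-!
PIECE WC-TOR of S2244 (owner helper18): conjugation of a root element by `h_r(l)`.
-/

set_option autoImplicit false
set_option linter.unusedSectionVars false
set_option linter.unusedVariables false

namespace Cfsg.Agent.Helper18.WC

open Cfsg Cfsg.Lie Cfsg.Agent.Lead.Chev Cfsg.Agent.Helper6.ChevL Cfsg.Agent.Helper6.Uni
open scoped commutatorElement

section Chev

variable {F : Type*} [Field F] {D : ChevalleyDatum} (hF : ChevFacts D F)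

include hF

/-- WC-TOR: conjugation of a root element by `h_r(l)` -/
theorem hGLt_conj_xGL (r : ℕ) (hr : r < D.nroots) (l : F) (hl : l ≠ 0) (s : ℕ) (hs : s < D.nroots) (t : F) :
    hGLt D hF.xadd r l * xGL D hF.xadd s t * (hGLt D hF.xadd r l)⁻¹ =
      xGL D hF.xadd s (l ^ (corSum D r s) * t) := by
  have hh : ((hGLt D hF.xadd r l : GL D.Idx F) : Matrix D.Idx D.Idx F) =
      Tmat D (fun i => l ^ ((D.coroot.getD r #[]).getD i 0)) := by
    rw [hGLt_val, hMat_eq_Tmat D hF.hall r hr l hl]
  have h2 := hF.Tmat_conj_xGL (hGLt D hF.xadd r l) _ (fun i _ => zpow_ne_zero _ hl) hh s hs t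
  rw [h2]
  have hchi : chi D (fun i => l ^ ((D.coroot.getD r #[]).getD i 0)) s = l ^ (corSum D r s) := by
    simp only [corSum, chi]
    rw [zpow_list_sum l hl]
    congr 1
    apply List.map_congr_left
    intro i _
    rw [zpow_mul]
  rw [hchi]

end Chev

end Cfsg.Agent.Helper18.WC
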