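import Mathlib
import Cfsg.Agent.Lib.Helper20.A3Defs

set_option autoImplicit false
set_option linter.unusedSectionVars false
set_option linter.unusedVariables false

/-!
Piece S3117-SYM5: a subgroup of order at least `60` of the symmetric group on `5` letters is
`2`-transitive.
-/

namespace Cfsg.Agent.Helper20.A3

/-- **A3-SYM5.** A subgroup of order at least `60` of the symmetric group on `5` letters is
`2`-transitive. -/
theorem two_trans_of_card_ge_sixty {α : Type*} [Fintype α] [DecidableEq α]
    (hα : Fintype.card α = 5) (H : Subgroup (Equiv.Perm α)) (hH : 60 ≤ Nat.card H) :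
    ∀ a b c d : α, a ≠ b → c ≠ d → ∃ g ∈ H, g a = c ∧ g b = d := by
  have hcardP : Nat.card (Equiv.Perm α) = 120 := by
    rw [Nat.card_eq_fintype_card, Fintype.card_perm, hα]
    rfl
  have hidx : H.index ≤ 2 := by
    have h := H.card_mul_index
    rw [hcardP] at h
    by_contra hcon
    rw [not_le] at hcon
    have : 60 * 3 ≤ Nat.card H * H.index := Nat.mul_le_mul hH hcon
    omega
  have hA : alternatingGroup α ≤ H := Equiv.Perm.alternatingGroup_le_of_index_le_two hidx
  intro a b c d hab hcd
  -- a first permutation doing the job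
  set b' : α := Equiv.swap a c b with hb'
  have hcb' : c ≠ b' := by
    intro h
    have h1 : Equiv.swap a c a = Equiv.swap a c b := by
      rw [Equiv.swap_apply_left]; exact h
    exact hab ((Equiv.swap a c).injective h1)
  set g0 : Equiv.Perm α := Equiv.swap b' d * Equiv.swap a c with hg0
  have hg0a : g0 a = c := by
    rw [hg0, Equiv.Perm.mul_apply, Equiv.swap_apply_left]
    exact Equiv.swap_apply_of_ne_of_ne hcb' hcd
  have hg0b : g0 b = d := by
    rw [hg0, Equiv.Perm.mul_apply, ← hb', Equiv.swap_apply_left]
  -- two further points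
  have hcard3 : 1 < (Finset.univ \ ({c, d} : Finset α)).card := by
    have h1 : (Finset.univ \ ({c, d} : Finset α)).card
        = (Finset.univ : Finset α).card - ({c, d} : Finset α).card :=
      Finset.card_sdiff_of_subset (Finset.subset_univ _)
    have h2 : ({c, d} : Finset α).card ≤ 2 := Finset.card_le_two
    rw [h1, Finset.card_univ, hα]
    omega
  obtain ⟨e, he, f, hf, hef⟩ := Finset.one_lt_card.mp hcard3
  have hec : e ≠ c := by
    intro h; rw [h] at he; simp at he
  have hed : e ≠ d := by
    intro h; rw [h] at he; simp at he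
  have hfc : f ≠ c := by
    intro h; rw [h] at hf; simp at hf
  have hfd : f ≠ d := by
    intro h; rw [h] at hf; simp at hf
  by_cases hs : Equiv.Perm.sign g0 = 1
  · exact ⟨g0, hA (Equiv.Perm.mem_alternatingGroup.mpr hs), hg0a, hg0b⟩
  · have hs' : Equiv.Perm.sign g0 = -1 := by
      rcases Int.units_eq_one_or (Equiv.Perm.sign g0) with h | h
      · exact absurd h hs
      · exact h
    refine ⟨Equiv.swap e f * g0, hA (Equiv.Perm.mem_alternatingGroup.mpr ?_), ?_, ?_⟩
    · rw [map_mul, Equiv.Perm.sign_swap hef, hs']
      rfl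
    · rw [Equiv.Perm.mul_apply, hg0a]
      exact Equiv.swap_apply_of_ne_of_ne hec.symm hfc.symm
    · rw [Equiv.Perm.mul_apply, hg0b]
      exact Equiv.swap_apply_of_ne_of_ne hed.symm hfd.symm

end Cfsg.Agent.Helper20.A3
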