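import Mathlib
import Cfsg.Agent.Lib.Helper20.A3Defs

set_option autoImplicit false
set_option linter.unusedSectionVars false
set_option linter.unusedVariables false

/-!
Piece S3117-UC: the possible orders of a group of exponent `2` and order at most `4`.
-/

namespace Cfsg.Agent.Helper20.A3

section Abs

variable {W U : Type*} [Group W] [Group U] [Finite W] [Finite U]

/-- **A3-UC.** The possible orders of `U`. -/
theorem card_U_cases (hU : ∀ u : U, u * u = 1) (hle : Nat.card U ≤ 4) :
    Nat.card U = 1 ∨ Nat.card U = 2 ∨ Nat.card U = 4 := by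
  have hp : IsPGroup 2 U := by
    intro g
    refine ⟨1, ?_⟩
    rw [pow_one, pow_two]
    exact hU g
  obtain ⟨n, hn⟩ := (IsPGroup.iff_card (p := 2) (G := U)).mp hp
  have hpos : 0 < Nat.card U := Nat.card_pos
  rw [hn] at hle ⊢
  have hn3 : n < 3 := by
    by_contra hcon
    rw [not_lt] at hcon
    have : 2 ^ 3 ≤ 2 ^ n := Nat.pow_le_pow_right (by norm_num) hcon
    omega
  interval_cases n
  · left; rfl
  · right; left; rfl
  · right; right; rfl

end Abs

end Cfsg.Agent.Helper20.A3
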