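import Mathlib
import Cfsg.Agent.Lib.Helper25.OInvDefs
import Cfsg.Agent.Lib.Helper13.InvNAsmA
import Cfsg.Agent.Lib.Helper13.InvNTableH
import Cfsg.Agent.Lib.Helper6.ChevLSL2
import Cfsg.Agent.Lib.Helper15.InvNNACT

/-!
# OINV-S1 piece STEP2 (helper9, for helper25): `step_N`, core version with the `InN` calculus (piece NCALC) as
hypotheses.
-/

set_option autoImplicit false
set_option linter.unusedSectionVars false
set_option linter.unusedVariables false

namespace Cfsg.Agent.Helper25.OInv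

open Cfsg Cfsg.Lie Cfsg.Agent.Lead.Chev Cfsg.Agent.Helper13.InvN Cfsg.Agent.Helper6.ChevL
  Cfsg.Agent.Helper6.SL2Hom Matrix

variable {F : Type*} [Field F] {D : ChevalleyDatum} (hF : ChevFacts D F)
include hF

theorem step2_wok_refWord (c : List ℕ) (hc : WOK D c) (i : ℕ) (hi : i < D.rank) : WOK D (refWord c i) := by
  unfold refWord
  exact (hc.snoc hi).append hc.reverse

/-- STEP2, from the `InN` calculus -/
theorem step_N_core
    (hdiag : ∀ h : GL D.Idx F, h ∈ D.diagonalSubgroup F → InN hF h [])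
    (hnw : ∀ w : List ℕ, InN hF (nWordGL D hF.xadd w) w)
    (hmul : ∀ (t t' : GL D.Idx F) (w w' : List ℕ), WOK D w → WOK D w' → InN hF t w → InN hF t' w' →
      InN hF (t * t') (w ++ w'))
    (hinv : ∀ (t : GL D.Idx F) (w : List ℕ), WOK D w → InN hF t w → InN hF t⁻¹ w.reverse)
    (hcongr : ∀ (t : GL D.Idx F) (w w' : List ℕ), WOK D w → WOK D w' → InN hF t w →
      (∀ r < D.nroots, reflWord D w r = reflWord D w' r) → InN hF t w')
    (hfroot : ∀ (c : List ℕ), WOK D c → ∀ i < D.rank,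
      InN hF (nGL D hF.xadd (froot D (c, i))) (refWord c i))
    (hS : CorSize D) (hI : CorInj D) (Fr : List Frame) (S : Frame) (e : OEntry)
    (hE : EntryOK D Fr S e) (h : GL D.Idx F) (hh : h ∈ D.diagonalSubgroup F)
    (k₁ : GL D.Idx F) (hk₁ : k₁ ∈ D.diagonalSubgroup F) (k₂ : GL D.Idx F) (hk₂ : k₂ ∈ D.diagonalSubgroup F) :
    InN hF (nWordGL D hF.xadd e.v *
        (k₁ * nGL D hF.xadd (froot D (e.c, e.i)) * k₂ * (h * nWordGL D hF.xadd (frameWord S))) *
        (nWordGL D hF.xadd e.v)⁻¹) (frameWord (Fr.getD e.tgt [])) := by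
  have hnil : WOK D [] := WOK.nil D
  have hrw : WOK D (refWord e.c e.i) := step2_wok_refWord hF e.c hE.hc e.i hE.hi
  -- `k₁ n_β`
  have h1 : InN hF (k₁ * nGL D hF.xadd (froot D (e.c, e.i))) (refWord e.c e.i) := by
    have := hmul _ _ _ _ hnil hrw (hdiag k₁ hk₁) (hfroot e.c hE.hc e.i hE.hi)
    rwa [List.nil_append] at this
  -- `k₁ n_β k₂`
  have h2 : InN hF (k₁ * nGL D hF.xadd (froot D (e.c, e.i)) * k₂) (refWord e.c e.i) := by
    have := hmul _ _ _ _ hrw hnil h1 (hdiag k₂ hk₂)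
    rwa [List.append_nil] at this
  -- `h n_y`
  have h3 : InN hF (h * nWordGL D hF.xadd (frameWord S)) (frameWord S) := ⟨h, hh, rfl⟩
  have h4 : InN hF (k₁ * nGL D hF.xadd (froot D (e.c, e.i)) * k₂ * (h * nWordGL D hF.xadd (frameWord S)))
      (refWord e.c e.i ++ frameWord S) := hmul _ _ _ _ hrw hE.hy h2 h3
  have hw4 : WOK D (refWord e.c e.i ++ frameWord S) := hrw.append hE.hy
  have h5 := hmul _ _ _ _ hE.hv hw4 (hnw e.v) h4
  have hw5 : WOK D (e.v ++ (refWord e.c e.i ++ frameWord S)) := hE.hv.append hw4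
  have h6 := hmul _ _ _ _ hw5 hE.hv.reverse h5 (hinv _ _ hE.hv (hnw e.v))
  have hw6 : WOK D (e.v ++ (refWord e.c e.i ++ frameWord S) ++ e.v.reverse) := hw5.append hE.hv.reverse
  refine hcongr _ _ _ hw6 hE.hy' h6 ?_
  have hcert := hE.hcert
  have e1 : e.v ++ (refWord e.c e.i ++ frameWord S) ++ e.v.reverse =
      e.v ++ refWord e.c e.i ++ frameWord S ++ e.v.reverse := by
    simp only [List.append_assoc]
  rw [e1]
  rw [e1] at hw6
  exact reflWord_eq_of_simple hF hS hI _ _ hw6 hE.hy' hcert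

end Cfsg.Agent.Helper25.OInv
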