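import Mathlib
import Cfsg.Agent.Lib.Helper9.OInvSTEP2Core
import Cfsg.Agent.Lib.Helper7.OInvNCALC

/-!
# OINV-S1 piece STEP2 (helper9, for helper25): `step_N` (from `step_N_core` and helper7's NCALC).
-/

set_option autoImplicit false
set_option linter.unusedSectionVars false
set_option linter.unusedVariables false

namespace Cfsg.Agent.Helper25.OInv

open Cfsg Cfsg.Lie Cfsg.Agent.Lead.Chev Cfsg.Agent.Helper13.InvN Cfsg.Agent.Helper6.ChevL
  Cfsg.Agent.Helper6.SL2Hom Matrix

variable {F : Type*} [Field F] {D : ChevalleyDatum} (hF : ChevFacts D F)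
include hF

/-- STEP2: the result, conjugated by `n_v`, lies in the coset of the target frame -/
theorem step_N (hS : CorSize D) (hI : CorInj D) (Fr : List Frame) (S : Frame) (e : OEntry)
    (hE : EntryOK D Fr S e) (h : GL D.Idx F) (hh : h ∈ D.diagonalSubgroup F)
    (k₁ : GL D.Idx F) (hk₁ : k₁ ∈ D.diagonalSubgroup F) (k₂ : GL D.Idx F) (hk₂ : k₂ ∈ D.diagonalSubgroup F) :
    InN hF (nWordGL D hF.xadd e.v *
        (k₁ * nGL D hF.xadd (froot D (e.c, e.i)) * k₂ * (h * nWordGL D hF.xadd (frameWord S))) *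
        (nWordGL D hF.xadd e.v)⁻¹) (frameWord (Fr.getD e.tgt [])) :=
  step_N_core hF (fun h hh => InN.of_diag hF h hh) (fun w => InN.nWord hF w)
    (fun t t' w w' hw hw' h h' => InN.mul hF hw hw' h h') (fun t w hw h => InN.inv hF hw h)
    (fun t w w' hw hw' h hact => InN.congr hF hw hw' h hact)
    (fun c hc i hi => InN.nGL_froot hF hS hI c hc i hi) hS hI Fr S e hE h hh k₁ hk₁ k₂ hk₂

end Cfsg.Agent.Helper25.OInv
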