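import Mathlib
import Cfsg.Prelude.Def_Transfer
import Cfsg.Agent.Lib.Helper20.SchDefs
import Cfsg.Agent.Lib.Helper22.SchPLDefs
import Cfsg.Agent.Lib.Helper7.SchPLSCHA
import Cfsg.Agent.S0132

/-!
PIECE SCH-STRUCT of S4395 (owner helper20): structure of a minimal non-`p`-nilpotent group of order
`p ^ t * q ^ r` (Ito S0132 + Schmidt).  Adapted from `Helper7/SchPLSCHA.exists_schAct`.
-/

set_option autoImplicit false

namespace Cfsg.Agent.Helper20.Sch

open Cfsg.Agent.Helper22.SchPL (SchAct)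

open scoped Pointwise

universe u

theorem sch_struct_arith {p q : ℕ} (hp : p.Prime) (hq : q.Prime) (hpq : p ≠ q) {a b t r : ℕ}
    (h : p ^ t * q ^ r = q ^ a * p ^ b) : b = t ∧ a = r := by
  have hcop : ∀ m n, Nat.Coprime (p ^ m) (q ^ n) := fun m n =>
    Nat.Coprime.pow m n ((Nat.coprime_primes hp hq).2 hpq)
  have h1 : p ^ t ∣ p ^ b := by
    have : p ^ t ∣ q ^ a * p ^ b := ⟨q ^ r, h.symm⟩
    exact (hcop t a).dvd_of_dvd_mul_left this
  have h2 : p ^ b ∣ p ^ t := by
    have : p ^ b ∣ p ^ t * q ^ r := ⟨q ^ a, by rw [h]; ring⟩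
    exact (hcop b r).dvd_of_dvd_mul_right this
  have hbt : b = t :=
    le_antisymm ((Nat.pow_dvd_pow_iff_le_right hp.one_lt).1 h2)
      ((Nat.pow_dvd_pow_iff_le_right hp.one_lt).1 h1)
  subst hbt
  refine ⟨rfl, ?_⟩
  have : q ^ r = q ^ a := by
    have hpos : 0 < p ^ b := pow_pos hp.pos _
    rw [mul_comm (q ^ a)] at h
    exact Nat.eq_of_mul_eq_mul_left hpos h
  exact (Nat.pow_right_injective hq.two_le this).symm

variable {p q : ℕ} [Fact p.Prime] [Fact q.Prime]

/-- the Schmidt action, with the primes identified -/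
theorem sch_struct_core {X : Type*} [Group X] [Finite X] (hpq : p ≠ q)
    (hnn : ¬ Group.IsNilpotent X) (hprop : ∀ H : Subgroup X, H ≠ ⊤ → Group.IsNilpotent H)
    (P' : Sylow q X) (Q' : Sylow p X) (hcyc : IsCyclic ↥(P' : Subgroup X))
    (hQn : (Q' : Subgroup X).Normal) (hsup : (P' : Subgroup X) ⊔ (Q' : Subgroup X) = ⊤) :
    ∃ y : X, Subgroup.zpowers y = (P' : Subgroup X) ∧ y ^ q ∈ Subgroup.center X ∧
      (Q' : Subgroup X) ⊔ Subgroup.zpowers y = ⊤ ∧
      SchAct p q ↥(Q' : Subgroup X) (@MulAut.conjNormal X _ (Q' : Subgroup X) hQn y) := by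
  classical
  have hq' : q.Prime := Fact.out
  have hne : q ≠ p := Ne.symm hpq
  have hdisj : Disjoint (P' : Subgroup X) (Q' : Subgroup X) :=
    IsPGroup.disjoint_of_ne q p hne _ _ P'.isPGroup' Q'.isPGroup'
  -- generator of P'
  obtain ⟨g, hg⟩ := hcyc.exists_generator
  set y : X := (g : X) with hy
  have hzy : Subgroup.zpowers y = (P' : Subgroup X) := by
    ext x
    constructor
    · intro hx
      obtain ⟨k, rfl⟩ := Subgroup.mem_zpowers_iff.mp hx
      exact (P' : Subgroup X).zpow_mem g.2 k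
    · intro hx
      obtain ⟨k, hk⟩ := Subgroup.mem_zpowers_iff.mp (hg ⟨x, hx⟩)
      refine Subgroup.mem_zpowers_iff.mpr ⟨k, ?_⟩
      have := congrArg Subtype.val hk
      simpa using this
  have hsup' : (Q' : Subgroup X) ⊔ Subgroup.zpowers y = ⊤ := by
    rw [hzy, sup_comm]; exact hsup
  have hyq : IsPGroup q (Subgroup.zpowers y) := by rw [hzy]; exact P'.isPGroup'
  have hinf : ∀ x : X, x ∈ (Q' : Subgroup X) → x ∈ Subgroup.zpowers y → x = 1 := by
    intro x hx1 hx2
    rw [hzy] at hx2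
    have := hdisj.le_bot (Subgroup.mem_inf.mpr ⟨hx2, hx1⟩)
    exact Subgroup.mem_bot.mp this
  have key : ∀ (H' C : Subgroup X), H' ≤ (Q' : Subgroup X) → C ≤ Subgroup.zpowers y →
      H' ⊔ C ≠ ⊤ → ∀ a ∈ H', ∀ b ∈ C, a * b = b * a := by
    intro H' C hH' hC hne' a ha b hb
    exact Cfsg.Agent.Helper3.commute_of_sup_nilpotent (Ne.symm hne) H' C
      (Q'.isPGroup'.to_le hH') (hyq.to_le hC) (hprop _ hne') a ha b hb
  -- y ≠ 1
  have hy1 : y ≠ 1 := by
    intro h1
    apply hnn
    have htop : (Q' : Subgroup X) = ⊤ := by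
      rw [← hsup', h1, Subgroup.zpowers_one_eq_bot, sup_bot_eq]
    have : IsPGroup p X := by
      have := Q'.isPGroup'
      rw [htop] at this
      exact IsPGroup.of_equiv this Subgroup.topEquiv
    exact this.isNilpotent
  -- y ^ q commutes with Q'
  have hKne : (Q' : Subgroup X) ⊔ Subgroup.zpowers (y ^ q) ≠ ⊤ := by
    intro htop
    have hymem : y ∈ ((Q' : Subgroup X) ⊔ Subgroup.zpowers (y ^ q) : Subgroup X) := by
      rw [htop]; exact Subgroup.mem_top y
    have hcoe := Subgroup.normal_mul (Q' : Subgroup X) (Subgroup.zpowers (y ^ q))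
    have hymem' : y ∈ ((Q' : Subgroup X) : Set X) * (Subgroup.zpowers (y ^ q) : Set X) := by
      rw [← hcoe]; exact hymem
    obtain ⟨v', hv', c, hc, hvc⟩ := Set.mem_mul.mp hymem'
    obtain ⟨k, hk⟩ := Subgroup.mem_zpowers_iff.mp hc
    have hv'z : v' ∈ Subgroup.zpowers y := by
      have : v' = y * c⁻¹ := by rw [← hvc]; group
      rw [this]
      refine Subgroup.mul_mem _ (Subgroup.mem_zpowers y) (Subgroup.inv_mem _ ?_)
      rw [← hk]
      exact Subgroup.zpow_mem _ (Subgroup.pow_mem _ (Subgroup.mem_zpowers y) _) _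
    have hv1 : v' = 1 := hinf v' hv' hv'z
    rw [hv1, one_mul] at hvc
    have hyk : y ^ ((q : ℤ) * k - 1) = 1 := by
      rw [zpow_sub, zpow_one, zpow_mul, zpow_natCast, hk, hvc]
      group
    have hdvd : (orderOf y : ℤ) ∣ (q : ℤ) * k - 1 := orderOf_dvd_iff_zpow_eq_one.mpr hyk
    obtain ⟨j, hj⟩ := (IsPGroup.iff_orderOf.mp hyq) ⟨y, Subgroup.mem_zpowers y⟩
    rw [Subgroup.orderOf_mk] at hj
    have hj0 : j ≠ 0 := by
      rintro rfl
      rw [pow_zero] at hj
      exact hy1 (orderOf_eq_one_iff.mp hj)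
    have hp'dvd : (q : ℤ) ∣ (orderOf y : ℤ) := by
      rw [hj]; exact_mod_cast dvd_pow_self q hj0
    have h2 : (q : ℤ) ∣ (q : ℤ) * k - 1 := hp'dvd.trans hdvd
    have h3 : (q : ℤ) ∣ 1 := by
      have h4 : (q : ℤ) ∣ (q : ℤ) * k := dvd_mul_right _ _
      have := dvd_sub h4 h2
      simpa using this
    have h5 : q ∣ 1 := by exact_mod_cast h3
    exact hq'.one_lt.ne' (Nat.dvd_one.mp h5)
  have hcq : ∀ v ∈ (Q' : Subgroup X), v * y ^ q = y ^ q * v := by
    intro v hv
    exact key (Q' : Subgroup X) (Subgroup.zpowers (y ^ q)) le_rfl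
      (by
        rw [Subgroup.zpowers_le]
        exact Subgroup.pow_mem _ (Subgroup.mem_zpowers y) _)
      hKne v hv (y ^ q) (Subgroup.mem_zpowers _)
  refine ⟨y, hzy, ?_, hsup', ?_⟩
  · -- y ^ q central
    rw [Subgroup.mem_center_iff]
    have hle : (⊤ : Subgroup X) ≤ Subgroup.centralizer {y ^ q} := by
      rw [← hsup']
      apply sup_le
      · intro v hv
        rw [Subgroup.mem_centralizer_iff]
        intro z hz
        rw [Set.mem_singleton_iff] at hz
        rw [hz]
        exact (hcq v hv).symm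
      · rw [Subgroup.zpowers_le, Subgroup.mem_centralizer_iff]
        intro z hz
        rw [Set.mem_singleton_iff] at hz
        rw [hz, ← pow_succ, ← pow_succ']
    intro g
    have := hle (Subgroup.mem_top g)
    rw [Subgroup.mem_centralizer_iff] at this
    exact (this (y ^ q) rfl).symm
  refine ⟨hq', hne, ?_, ?_, ?_⟩
  · -- α ^ q = 1
    rw [← map_pow]
    ext v
    rw [MulAut.conjNormal_apply, MulAut.one_apply]
    have hcomm := hcq (v : X) v.2
    rw [← hcomm]; group
  · -- α ≠ 1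
    intro hα
    apply hnn
    have hcent : ∀ v ∈ (Q' : Subgroup X), y * v = v * y := by
      intro v hv
      have := congrArg (fun f : MulAut ↥(Q' : Subgroup X) => ((f ⟨v, hv⟩ : ↥(Q' : Subgroup X)) : X)) hα
      simp only [MulAut.conjNormal_apply, MulAut.one_apply] at this
      calc y * v = y * v * y⁻¹ * y := by group
        _ = v * y := by rw [this]
    have hnorm : (Subgroup.zpowers y).Normal := by
      rw [← Subgroup.normalizer_eq_top_iff, eq_top_iff, ← hsup']
      apply sup_le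
      · intro v hv
        apply Cfsg.Agent.Helper22.SchPL.scha_mem_normalizer
        intro a ha
        obtain ⟨k, rfl⟩ := Subgroup.mem_zpowers_iff.mp ha
        have hc : Commute v (y ^ k) := (Commute.zpow_right (hcent v hv).symm k)
        have : v * y ^ k * v⁻¹ = y ^ k := by
          rw [hc.eq]; group
        rw [this]; exact Subgroup.zpow_mem _ (Subgroup.mem_zpowers y) k
      · exact Subgroup.le_normalizer
    have := hnorm
    have := hQn
    exact Cfsg.Agent.Helper3.isNilpotent_of_sup_eq_top (Q' : Subgroup X) (Subgroup.zpowers y)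
      Q'.isPGroup'.isNilpotent hyq.isNilpotent hsup'
  · -- fixed pointwise
    intro H hH hinv h hh
    set H' : Subgroup X := H.map (Q' : Subgroup X).subtype with hH'
    have hH'le : H' ≤ (Q' : Subgroup X) := Subgroup.map_subtype_le H
    have hynorm : Subgroup.zpowers y ≤ Subgroup.normalizer (H' : Set X) := by
      rw [Subgroup.zpowers_le]
      apply Cfsg.Agent.Helper22.SchPL.scha_mem_normalizer
      rintro a ⟨a', ha', rfl⟩
      refine ⟨MulAut.conjNormal y a', hinv a' ha', ?_⟩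
      simp [MulAut.conjNormal_apply]
    have hKne' : H' ⊔ Subgroup.zpowers y ≠ ⊤ := by
      intro htop
      obtain ⟨v, hv⟩ : ∃ v : ↥(Q' : Subgroup X), v ∉ H := by
        by_contra hcon
        push Not at hcon
        exact hH (eq_top_iff.mpr fun v _ => hcon v)
      have hvmem : (v : X) ∈ (Subgroup.zpowers y ⊔ H' : Subgroup X) := by
        rw [sup_comm, htop]; exact Subgroup.mem_top _
      have hcoe := Subgroup.coe_mul_of_left_le_normalizer_right (Subgroup.zpowers y) H' hynorm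
      have hvmem' : (v : X) ∈ (Subgroup.zpowers y : Set X) * (H' : Set X) := by
        rw [← hcoe]; exact hvmem
      obtain ⟨c, hc, h', hh', hch⟩ := Set.mem_mul.mp hvmem'
      have hcQ : c ∈ (Q' : Subgroup X) := by
        have : c = (v : X) * h'⁻¹ := by rw [← hch]; group
        rw [this]
        exact Subgroup.mul_mem _ v.2 (Subgroup.inv_mem _ (hH'le hh'))
      have hc1 : c = 1 := hinf c hcQ hc
      rw [hc1, one_mul] at hch
      obtain ⟨h'', hh'', hh''e⟩ := hh'
      apply hv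
      have : h'' = v := Subtype.ext (by rw [← hch, ← hh''e]; rfl)
      rw [← this]; exact hh''
    have hcomm := key H' (Subgroup.zpowers y) hH'le le_rfl hKne' (h : X) ⟨h, hh, rfl⟩ y
      (Subgroup.mem_zpowers y)
    apply Subtype.ext
    rw [MulAut.conjNormal_apply, ← hcomm]; group

/-- SCH-STRUCT : Ito (S0132) + Schmidt structure. -/
theorem exists_struct {X : Type*} [Group X] [Finite X] (hpq : p ≠ q) {r t : ℕ}
    (hX : MinNonPNilp p X) (hcard : Nat.card X = p ^ t * q ^ r) :
    ∃ (P : Subgroup X) (hP : P.Normal) (y : X), Nat.card P = p ^ t ∧ orderOf y = q ^ r ∧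
      y ^ q ∈ Subgroup.center X ∧ P ⊔ Subgroup.zpowers y = ⊤ ∧
      SchAct p q ↥P (@MulAut.conjNormal X _ P hP y) := by
  classical
  have hpp : p.Prime := Fact.out
  have hqp : q.Prime := Fact.out
  obtain ⟨hprop, hnn, hsylp⟩ := Cfsg.Agent.S0132.result hX.1 hX.2
  obtain ⟨p', q', hp', hq', hne, P', Q', hcyc, hQn, hsup⟩ :=
    Cfsg.Agent.Helper3.minimalNonNilpotent_structure hnn hprop
  have : Fact p'.Prime := ⟨hp'⟩
  have : Fact q'.Prime := ⟨hq'⟩
  have hdisj : Disjoint (P' : Subgroup X) (Q' : Subgroup X) :=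
    IsPGroup.disjoint_of_ne p' q' hne _ _ P'.isPGroup' Q'.isPGroup'
  have hcompl : Subgroup.IsComplement' (P' : Subgroup X) (Q' : Subgroup X) := by
    apply Subgroup.isComplement'_of_disjoint_and_mul_eq_univ hdisj
    have := hQn
    rw [← Subgroup.mul_normal, hsup, Subgroup.coe_top]
  have hcardX : Nat.card X = Nat.card (P' : Subgroup X) * Nat.card (Q' : Subgroup X) :=
    hcompl.card_mul_card.symm
  obtain ⟨a, ha⟩ := IsPGroup.iff_card.mp P'.isPGroup'
  obtain ⟨b, hb⟩ := IsPGroup.iff_card.mp Q'.isPGroup'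
  have ha0 : a ≠ 0 := by
    rintro rfl
    apply hnn
    rw [ha, pow_zero, one_mul, hb] at hcardX
    exact (IsPGroup.of_card hcardX).isNilpotent
  have hb0 : b ≠ 0 := by
    rintro rfl
    apply hnn
    rw [hb, pow_zero, mul_one, ha] at hcardX
    exact (IsPGroup.of_card hcardX).isNilpotent
  have hmem : ∀ ℓ : ℕ, ℓ.Prime → ℓ ∣ Nat.card X → ℓ = p ∨ ℓ = q := by
    intro ℓ hℓ hdvd
    rw [hcard] at hdvd
    rcases (Nat.Prime.dvd_mul hℓ).mp hdvd with h | h
    · exact Or.inl ((Nat.prime_dvd_prime_iff_eq hℓ hpp).mp (hℓ.dvd_of_dvd_pow h))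
    · exact Or.inr ((Nat.prime_dvd_prime_iff_eq hℓ hqp).mp (hℓ.dvd_of_dvd_pow h))
  have hp'X : p' ∣ Nat.card X := by
    rw [hcardX, ha]
    exact (dvd_pow_self p' ha0).mul_right _
  have hq'X : q' ∣ Nat.card X := by
    rw [hcardX, hb]
    exact (dvd_pow_self q' hb0).mul_left _
  -- q' = p
  have hq'p : q' = p := by
    by_contra hcon
    have h1 : q' = q := (hmem q' hq' hq'X).resolve_left hcon
    have h2 : p' = p := by
      rcases hmem p' hp' hp'X with h | h
      · exact h
      · exact absurd (h.trans h1.symm) hne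
    subst h2
    apply hnn
    have hPn : (P' : Subgroup X).Normal := hsylp P'
    have := hQn
    exact Cfsg.Agent.Helper3.isNilpotent_of_sup_eq_top (P' : Subgroup X) (Q' : Subgroup X)
      P'.isPGroup'.isNilpotent Q'.isPGroup'.isNilpotent hsup
  subst hq'p
  have hp'q : p' = q := (hmem p' hp' hp'X).resolve_left hne
  subst hp'q
  obtain ⟨y, hzy, hyc, hsup', hact⟩ := sch_struct_core hpq hnn hprop P' Q' hcyc hQn hsup
  have hoy : orderOf y = p' ^ a := by
    rw [← Nat.card_zpowers, hzy, ha]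
  rw [hcard, ha, hb] at hcardX
  obtain ⟨hbt, har⟩ := sch_struct_arith hpp hqp hpq hcardX
  subst hbt har
  exact ⟨(Q' : Subgroup X), hQn, y, hb, hoy, hyc, hsup', hact⟩

end Cfsg.Agent.Helper20.Sch
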