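import Mathlib
import Cfsg.Agent.Lib.Helper8.ABDefs

/-!
S3301, piece AB-ORBPROD: the product over all cosets is the factor of a fixed coset when the products
over all other blocks are trivial.
-/

set_option autoImplicit false

namespace Cfsg.Agent.Helper8.AB

open Cfsg.Agent.Helper8.XS

/-- The block relation. -/
def aborbprod_rel {G : Type*} [Group G] (Q H : Subgroup G) : Setoid (G ⧸ H) where
  r x y := ∃ e ∈ Q, x = e • y
  iseqv :=
    { refl := fun x => ⟨1, Q.one_mem, (one_smul G x).symm⟩
      symm := by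
        rintro x y ⟨e, he, rfl⟩
        exact ⟨e⁻¹, Q.inv_mem he, by rw [inv_smul_smul]⟩
      trans := by
        rintro x y z ⟨e, he, rfl⟩ ⟨e', he', rfl⟩
        exact ⟨e * e', Q.mul_mem he he', by rw [mul_smul]⟩ }

/-- PIECE AB-ORBPROD -/
theorem prod_eq_of_blocks {G : Type*} [Group G] (Q H : Subgroup G) [Fintype (G ⧸ H)]
    {A : Type*} [CommMonoid A] (f : G ⧸ H → A) (c₀ : G ⧸ H)
    (hfix : ∀ e ∈ Q, e • c₀ = c₀)
    (hblk : ∀ c : G ⧸ H, c ≠ c₀ → ∏ x ∈ blk Q H c, f x = 1) : ∏ x, f x = f c₀ := by
  classical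
  have hfilter : ∀ c : G ⧸ H,
      (Finset.univ.filter fun y : G ⧸ H => (Quotient.mk (aborbprod_rel Q H) y) =
        Quotient.mk (aborbprod_rel Q H) c) = blk Q H c := by
    intro c
    ext y
    rw [Finset.mem_filter, mem_blk, Quotient.eq]
    constructor
    · rintro ⟨-, h⟩
      exact h
    · intro h
      exact ⟨Finset.mem_univ _, h⟩
  have hblk0 : blk Q H c₀ = {c₀} := by
    ext y
    rw [mem_blk, Finset.mem_singleton]
    constructor
    · rintro ⟨e, he, rfl⟩
      exact hfix e he
    · intro h
      exact ⟨1, Q.one_mem, by rw [h, one_smul]⟩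
  rw [Finset.prod_partition (aborbprod_rel Q H),
    Finset.prod_eq_single (Quotient.mk (aborbprod_rel Q H) c₀)]
  · rw [hfilter, hblk0, Finset.prod_singleton]
  · intro b _ hb
    induction b using Quotient.inductionOn with
    | h c =>
      rw [hfilter]
      apply hblk
      intro hc
      apply hb
      rw [hc]
  · intro h
    exfalso
    apply h
    exact Finset.mem_image_of_mem _ (Finset.mem_univ _)

end Cfsg.Agent.Helper8.AB
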