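import Mathlib
import Cfsg.Prelude.Def_Solvable
import Cfsg.Agent.Lib.Helper8.ABDefs

/-!
S3301, piece AB-HRES: if `O^2(G) = G` then every homomorphism from `G` to a commutative group of
exponent dividing `4` is trivial.
-/

set_option autoImplicit false

namespace Cfsg.Agent.Helper8.AB

open Cfsg.Agent.Helper8.XS

/-- PIECE AB-HRES -/
theorem hom_trivial {G : Type*} [Group G] [Finite G] (hres : Cfsg.pResidual 2 G = ⊤)
    {A : Type*} [CommGroup A] (h4 : ∀ a : A, a ^ 4 = 1) (f : G →* A) (g : G) : f g = 1 := by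
  have hker : Cfsg.pResidual 2 G ≤ f.ker := by
    unfold Cfsg.pResidual
    rw [Subgroup.closure_le]
    intro x hx
    have hx' : Nat.Coprime (orderOf x) 2 := hx
    rw [SetLike.mem_coe, MonoidHom.mem_ker]
    have h1 : orderOf (f x) ∣ orderOf x := orderOf_map_dvd f x
    have h2 : orderOf (f x) ∣ 2 ^ 2 := orderOf_dvd_of_pow_eq_one (h4 (f x))
    have h3 : Nat.Coprime (orderOf (f x)) (2 ^ 2) :=
      Nat.Coprime.pow_right 2 (Nat.Coprime.coprime_dvd_left h1 hx')
    have h5 : orderOf (f x) = 1 := Nat.Coprime.eq_one_of_dvd h3 h2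
    exact orderOf_eq_one_iff.1 h5
  rw [hres] at hker
  exact MonoidHom.mem_ker.1 (hker (Subgroup.mem_top g))

end Cfsg.Agent.Helper8.AB
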