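import Mathlib
import Cfsg.Prelude.Def_Transfer
import Cfsg.Agent.Lib.Helper9.Extraspecial
import Cfsg.Agent.Lib.Helper9.ThompsonRepl

set_option autoImplicit false

namespace Cfsg.Agent.Helper9

open Subgroup

section RC

variable {P : Type*} [Group P] {z : P}

/-- the centralizer in `M` of a single non-centralized element has index exactly two -/
theorem relIndex_centralizer_singleton_eq_two (hc : ∀ a : P, a * z = z * a) (hsq : z * z = 1)
    (halt : ∀ a b : P, a * b = b * a ∨ a * b = z * b * a) (M : Subgroup P) (k : P)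
    (h : ¬ M ≤ centralizer {k}) : (M ⊓ centralizer {k}).relIndex M = 2 := by
  obtain ⟨a, haM, hak⟩ := SetLike.not_le_iff_exists.mp h
  rw [relIndex_eq_two_iff]
  refine ⟨a, haM, fun b hb => ?_⟩
  have hak' : ¬ Commute k a := fun hh => hak (mem_centralizer_singleton_iff.mpr hh.eq.symm)
  have h1 : b * a ∈ M ⊓ centralizer {k} ↔ Commute k (b * a) := by
    rw [mem_inf, mem_centralizer_singleton_iff]
    exact ⟨fun hh => hh.2.symm, fun hh => ⟨mul_mem hb haM, hh.eq.symm⟩⟩
  have h2 : b ∈ M ⊓ centralizer {k} ↔ Commute k b := by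
    rw [mem_inf, mem_centralizer_singleton_iff]
    exact ⟨fun hh => hh.2.symm, fun hh => ⟨hb, hh.eq.symm⟩⟩
  rw [h1, h2, commute_mul_iff hc hsq halt]
  by_cases hb' : Commute k b
  · simp [hb', hak', Xor]
  · simp [hb', hak', Xor]

theorem relIndex_centralizer_singleton_le_two [Finite P] (hc : ∀ a : P, a * z = z * a)
    (hsq : z * z = 1)
    (halt : ∀ a b : P, a * b = b * a ∨ a * b = z * b * a) (M : Subgroup P) (k : P) :
    (M ⊓ centralizer {k}).relIndex M ≤ 2 := by
  by_cases h : M ≤ centralizer {k}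
  · rw [inf_eq_left.mpr h, relIndex_self]
    norm_num
  · exact (relIndex_centralizer_singleton_eq_two hc hsq halt M k h).le

theorem relIndex_pos_of_finite [Finite P] (A B : Subgroup P) : 0 < A.relIndex B :=
  Nat.pos_of_ne_zero (Subgroup.index_ne_zero_of_finite (H := A.subgroupOf B))

/-- "row rank at most column rank" for the commutator pairing. -/
theorem relIndex_centralizer_le [Finite P] (hc : ∀ a : P, a * z = z * a) (hsq : z * z = 1)
    (halt : ∀ a b : P, a * b = b * a ∨ a * b = z * b * a) (H : Subgroup P) :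
    ∀ n : ℕ, ∀ K : Subgroup P, Nat.card K ≤ n →
      (H ⊓ centralizer (K : Set P)).relIndex H ≤ (K ⊓ centralizer (H : Set P)).relIndex K := by
  intro n
  induction n with
  | zero =>
    intro K hK
    have : 0 < Nat.card K := Nat.card_pos
    omega
  | succ n ih =>
    intro K hK
    by_cases hKH : K ≤ centralizer (H : Set P)
    · have hHK : H ≤ centralizer (K : Set P) := le_centralizer_iff.mp hKH
      rw [inf_eq_left.mpr hHK, relIndex_self]
      exact relIndex_pos_of_finite _ _
    · obtain ⟨k, hkK, hkH⟩ := SetLike.not_le_iff_exists.mp hKH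
      obtain ⟨h₀, hh₀, hne⟩ : ∃ h₀ ∈ H, h₀ * k ≠ k * h₀ := by
        by_contra hcon
        apply hkH
        rw [mem_centralizer_iff]
        intro h hh
        by_contra hne
        exact hcon ⟨h, hh, hne⟩
      set K₁ := K ⊓ centralizer {h₀} with hK₁
      have hnot : ¬ K ≤ centralizer {h₀} := fun hle =>
        hne (mem_centralizer_singleton_iff.mp (hle hkK)).symm
      have hidx : K₁.relIndex K = 2 := relIndex_centralizer_singleton_eq_two hc hsq halt K h₀ hnot
      have hK₁K : K₁ ≤ K := inf_le_left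
      have hcard : Nat.card K = Nat.card K₁ * 2 := by
        rw [← hidx]
        exact card_eq_card_mul_relIndex hK₁K
      have hcard₁ : Nat.card K₁ ≤ n := by omega
      have hIH := ih K₁ hcard₁
      -- the right side
      have hR : K₁ ⊓ centralizer (H : Set P) = K ⊓ centralizer (H : Set P) := by
        apply le_antisymm
        · exact inf_le_inf_right _ hK₁K
        · refine le_inf (le_inf inf_le_left ?_) inf_le_right
          intro x hx
          exact centralizer_le (Set.singleton_subset_iff.mpr hh₀) hx.2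
      have hR2 : (K ⊓ centralizer (H : Set P)).relIndex K =
          (K₁ ⊓ centralizer (H : Set P)).relIndex K₁ * 2 := by
        rw [← hidx, hR]
        refine (relIndex_mul_relIndex _ _ _ ?_ hK₁K).symm
        rw [← hR]
        exact inf_le_left
      -- the left side
      have hk₁ : k ∉ K₁ := fun hh => hne (mem_centralizer_singleton_iff.mp hh.2).symm
      have hxor := relIndex_eq_two_iff.mp hidx
      have hL : H ⊓ centralizer (K : Set P) =
          (H ⊓ centralizer (K₁ : Set P)) ⊓ centralizer {k} := by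
        apply le_antisymm
        · refine le_inf (le_inf inf_le_left ?_) ?_
          · exact inf_le_right.trans (centralizer_le hK₁K)
          · intro x hx
            exact centralizer_le (Set.singleton_subset_iff.mpr hkK) hx.2
        · intro c hc'
          have hcH : c ∈ H := hc'.1.1
          have hcK₁ : c ∈ centralizer (K₁ : Set P) := hc'.1.2
          have hck : c ∈ centralizer {k} := hc'.2
          refine mem_inf.mpr ⟨hcH, ?_⟩
          rw [mem_centralizer_iff]
          intro x hxK
          -- `x ∈ K₁` or `x * k⁻¹ ∈ K₁`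
          have hck' : k * c = c * k := (mem_centralizer_singleton_iff.mp hck).symm
          by_cases hx₁ : x ∈ K₁
          · exact (mem_centralizer_iff.mp hcK₁) x hx₁
          · -- x * k ∈ K₁ ?
            have hxk : x * k ∈ K₁ := by
              by_contra hcon
              -- both x and k are outside K₁, so x * k is inside (index two)
              have h1 : ¬ Commute h₀ x := fun hh => hx₁ ⟨hxK, mem_centralizer_singleton_iff.mpr hh.eq.symm⟩
              have h2 : ¬ Commute h₀ k := fun hh => hk₁ ⟨hkK, mem_centralizer_singleton_iff.mpr hh.eq.symm⟩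
              have h3 : Commute h₀ (x * k) := (commute_mul_iff hc hsq halt h₀ x k).mpr
                ⟨fun hh => absurd hh h1, fun hh => absurd hh h2⟩
              exact hcon ⟨mul_mem hxK hkK, mem_centralizer_singleton_iff.mpr h3.eq.symm⟩
            have h4 := (mem_centralizer_iff.mp hcK₁) (x * k) hxk
            -- (x*k)*c = c*(x*k) and k*c = c*k
            have hC1 : Commute (x * k) c := h4
            have hC2 : Commute k c := hck'
            have hC3 : Commute ((x * k) * k⁻¹) c := hC1.mul_left hC2.inv_left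
            rw [mul_inv_cancel_right] at hC3
            exact hC3.eq
      have hL2 : (H ⊓ centralizer (K : Set P)).relIndex H ≤
          2 * (H ⊓ centralizer (K₁ : Set P)).relIndex H := by
        have h1 : (H ⊓ centralizer (K : Set P)).relIndex H =
            (H ⊓ centralizer (K : Set P)).relIndex (H ⊓ centralizer (K₁ : Set P)) *
              (H ⊓ centralizer (K₁ : Set P)).relIndex H := by
          refine (relIndex_mul_relIndex _ _ _ ?_ inf_le_left).symm
          rw [hL]
          exact inf_le_left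
        rw [h1]
        apply Nat.mul_le_mul_right
        rw [hL]
        exact relIndex_centralizer_singleton_le_two hc hsq halt _ k
      omega

theorem relIndex_centralizer_eq [Finite P] (hc : ∀ a : P, a * z = z * a) (hsq : z * z = 1)
    (halt : ∀ a b : P, a * b = b * a ∨ a * b = z * b * a) (H K : Subgroup P) :
    (H ⊓ centralizer (K : Set P)).relIndex H = (K ⊓ centralizer (H : Set P)).relIndex K :=
  le_antisymm (relIndex_centralizer_le hc hsq halt H _ K le_rfl)
    (relIndex_centralizer_le hc hsq halt K _ H le_rfl)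

theorem mem_zpowers_involution (hsq : z * z = 1) (x : P) : x ∈ zpowers z ↔ x = 1 ∨ x = z := by
  constructor
  · intro h
    obtain ⟨n, rfl⟩ := mem_zpowers_iff.mp h
    have h2 : z ^ (2 : ℤ) = 1 := by rw [zpow_two, hsq]
    rcases Int.even_or_odd' n with ⟨m, rfl | rfl⟩
    · left
      rw [zpow_mul, h2, one_zpow]
    · right
      rw [zpow_add_one, zpow_mul, h2, one_zpow, one_mul]
  · rintro (rfl | rfl)
    · exact one_mem _
    · exact mem_zpowers x

end RC

section Inv

variable {P : Type*} [Group P] [Finite P] {z : P}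

/-- An involutory automorphism `τ ≠ 1` of an extraspecial 2-group: the subgroup generated by the
commutators `τ q * q⁻¹` is the centre of the subgroup of the `q` with `τ q * q⁻¹ ∈ ⟨z⟩`. -/
theorem mem_closure_comm_iff (hc : ∀ a : P, a * z = z * a) (hsq : z * z = 1) (hne : z ≠ 1)
    (halt : ∀ a b : P, a * b = b * a ∨ a * b = z * b * a)
    (hcen : ∀ c : P, (∀ a : P, a * c = c * a) → c = 1 ∨ c = z)
    (hsqr : ∀ a : P, a * a = 1 ∨ a * a = z)
    (τ : MulAut P) (hτ : ∀ q, τ (τ q) = q) (hτne : ∃ q, τ q ≠ q) (x : P) :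
    x ∈ closure (Set.range fun q => τ q * q⁻¹) ↔
      (τ x * x⁻¹ ∈ zpowers z ∧ ∀ y, τ y * y⁻¹ ∈ zpowers z → x * y = y * x) := by
  set Z := zpowers z with hZdef
  have hZ : ∀ x, x ∈ Z ↔ x = 1 ∨ x = z := mem_zpowers_involution hsq
  have hZc : ∀ x ∈ Z, ∀ a, a * x = x * a := by
    intro x hx a
    rcases (hZ x).mp hx with rfl | rfl
    · simp
    · exact hc a
  have hτz : τ z = z := by
    have h1 : ∀ a : P, a * τ z = τ z * a := by
      intro a
      have := congrArg τ (hc (τ a))
      rwa [map_mul, map_mul, hτ] at this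
    rcases hcen _ h1 with h | h
    · exfalso
      apply hne
      have := congrArg τ h
      rwa [hτ, map_one] at this
    · exact h
  have hτZ : ∀ x ∈ Z, τ x = x := by
    intro x hx
    rcases (hZ x).mp hx with rfl | rfl
    · simp
    · exact hτz
  have haltZ : ∀ a b : P, a * b * a⁻¹ * b⁻¹ ∈ Z := by
    intro a b
    rcases halt a b with h | h
    · rw [h]
      simp
    · rw [h, hZ]
      right
      group
  have hsqrZ : ∀ a : P, a * a ∈ Z := fun a => (hZ _).mpr (hsqr a)
  have hZn : Z.Normal := by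
    constructor
    intro n hn g
    rw [hZc n hn g, mul_inv_cancel_right]
    exact hn
  -- the homomorphism
  let f : P →* P ⧸ Z := MonoidHom.mk' (fun q => ((τ q * q⁻¹ : P) : P ⧸ Z)) (by
    intro a b
    show ((τ (a * b) * (a * b)⁻¹ : P) : P ⧸ Z) = ((τ a * a⁻¹ : P) : P ⧸ Z) * ((τ b * b⁻¹ : P) : P ⧸ Z)
    rw [← QuotientGroup.mk_mul, QuotientGroup.eq, map_mul]
    have e : (τ a * τ b * (a * b)⁻¹)⁻¹ * (τ a * a⁻¹ * (τ b * b⁻¹)) =
        a * (b * (τ b)⁻¹) * a⁻¹ * (b * (τ b)⁻¹)⁻¹ := by group
    rw [e]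
    exact haltZ _ _)
  have hf : ∀ q, f q = ((τ q * q⁻¹ : P) : P ⧸ Z) := fun q => rfl
  set P₀ := f.ker with hP₀def
  have hP₀ : ∀ q, q ∈ P₀ ↔ τ q * q⁻¹ ∈ Z := by
    intro q
    rw [hP₀def, MonoidHom.mem_ker, hf, QuotientGroup.eq_one_iff]
  set W := closure (Set.range fun q => τ q * q⁻¹) with hWdef
  have hW₁ : W ≤ P₀ := by
    rw [hWdef, closure_le]
    rintro _ ⟨q, rfl⟩
    rw [SetLike.mem_coe, hP₀]
    have e : τ (τ q * q⁻¹) * (τ q * q⁻¹)⁻¹ = (q * (τ q)⁻¹) * (q * (τ q)⁻¹) := by
      rw [map_mul, hτ, map_inv]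
      group
    rw [e]
    exact hsqrZ _
  have hW₂ : W ≤ centralizer (P₀ : Set P) := by
    rw [hWdef, closure_le]
    rintro _ ⟨q, rfl⟩
    rw [SetLike.mem_coe, mem_centralizer_iff]
    intro y hy
    have hy' : τ y * y⁻¹ ∈ Z := (hP₀ y).mp hy
    set ζ := τ y * y⁻¹ with hζ
    have hτy : τ y = ζ * y := by rw [hζ]; group
    set c := y * q * y⁻¹ * q⁻¹ with hcdef
    have hcZ : c ∈ Z := haltZ y q
    have h1 : y * q * y⁻¹ = c * q := by rw [hcdef]; group
    have h2 : y * τ q * y⁻¹ = c * τ q := by
      have h3 := congrArg τ h1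
      rw [map_mul, map_mul, map_mul, map_inv, hτy, hτZ c hcZ] at h3
      rw [← h3]
      have h4 := hZc ζ hy' (y * τ q * y⁻¹)
      calc y * τ q * y⁻¹ = y * τ q * y⁻¹ * ζ * ζ⁻¹ := by group
        _ = ζ * (y * τ q * y⁻¹) * ζ⁻¹ := by rw [h4]
        _ = ζ * y * τ q * (ζ * y)⁻¹ := by group
    have h5 : y * (τ q * q⁻¹) * y⁻¹ = τ q * q⁻¹ := by
      have e : y * (τ q * q⁻¹) * y⁻¹ = (y * τ q * y⁻¹) * (y * q * y⁻¹)⁻¹ := by group
      rw [e, h1, h2]
      have h6 := hZc c hcZ (τ q)
      calc c * τ q * (c * q)⁻¹ = c * τ q * q⁻¹ * c⁻¹ := by group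
        _ = τ q * c * q⁻¹ * c⁻¹ := by rw [← h6]
        _ = τ q * (c * q⁻¹) * c⁻¹ := by group
        _ = τ q * (q⁻¹ * c) * c⁻¹ := by rw [hZc c hcZ q⁻¹]
        _ = τ q * q⁻¹ := by group
    calc y * (τ q * q⁻¹) = y * (τ q * q⁻¹) * y⁻¹ * y := by group
      _ = τ q * q⁻¹ * y := by rw [h5]
  have hzW : z ∈ W := by
    obtain ⟨q, hq⟩ := hτne
    have hwW : τ q * q⁻¹ ∈ W := Subgroup.subset_closure ⟨q, rfl⟩
    by_cases hw : ∀ a : P, a * (τ q * q⁻¹) = τ q * q⁻¹ * a
    · rcases hcen _ hw with h | h
      · exfalso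
        apply hq
        rwa [mul_inv_eq_one] at h
      · rw [← h]
        exact hwW
    · obtain ⟨r, hr⟩ := not_forall.mp hw
      have h1 := (halt r (τ q * q⁻¹)).resolve_left hr
      have h2 : z = (r * (τ q * q⁻¹) * r⁻¹) * (τ q * q⁻¹)⁻¹ := by
        rw [h1]
        group
      have h3 : r * (τ q * q⁻¹) * r⁻¹ = (τ r * r⁻¹)⁻¹ * (τ (r * q) * (r * q)⁻¹) := by
        rw [map_mul]
        group
      rw [h2]
      refine mul_mem ?_ (inv_mem hwW)
      rw [h3]
      exact mul_mem (inv_mem (Subgroup.subset_closure ⟨r, rfl⟩)) (Subgroup.subset_closure ⟨r * q, rfl⟩)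
  have hZW : Z ≤ W := zpowers_le.mpr hzW
  have hZP₀ : Z ≤ P₀ := hZW.trans hW₁
  -- cardinalities
  have hi : P₀.index = Z.relIndex W := by
    rw [hP₀def, index_ker]
    have h1 : f.range = W.map (QuotientGroup.mk' Z) := by
      rw [hWdef, MonoidHom.map_closure]
      have h2 : ((QuotientGroup.mk' Z) '' Set.range fun q => τ q * q⁻¹) = (f.range : Set (P ⧸ Z)) := by
        ext u
        constructor
        · rintro ⟨_, ⟨q, rfl⟩, rfl⟩
          exact ⟨q, rfl⟩
        · rintro ⟨q, rfl⟩
          exact ⟨_, ⟨q, rfl⟩, rfl⟩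
      rw [h2, closure_eq]
    rw [h1]
    have h3 := relIndex_ker (QuotientGroup.mk' Z) (K := W)
    rw [QuotientGroup.ker_mk'] at h3
    exact h3.symm
  have hii : (centralizer (P₀ : Set P)).index = Z.relIndex P₀ := by
    have h1 := relIndex_centralizer_eq hc hsq halt P₀ ⊤
    have h2 : P₀ ⊓ centralizer ((⊤ : Subgroup P) : Set P) = Z := by
      apply le_antisymm
      · intro u hu
        have hu2 : u ∈ centralizer ((⊤ : Subgroup P) : Set P) := hu.2
        rw [mem_centralizer_iff] at hu2
        exact (hZ u).mpr (hcen u (fun a => hu2 a (mem_top a)))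
      · refine le_inf hZP₀ ?_
        intro u hu
        rw [mem_centralizer_iff]
        intro a _
        exact hZc u hu a
    rw [h2, top_inf_eq, relIndex_top_right] at h1
    exact h1.symm
  have hcW : Nat.card W = Nat.card Z * Z.relIndex W := card_eq_card_mul_relIndex hZW
  have hcP₀ : Nat.card P₀ = Nat.card Z * Z.relIndex P₀ := card_eq_card_mul_relIndex hZP₀
  have hcP : P₀.index * Nat.card P₀ = Nat.card P := P₀.index_mul_card
  have hcC : (centralizer (P₀ : Set P)).index * Nat.card (centralizer (P₀ : Set P)) = Nat.card P :=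
    (centralizer (P₀ : Set P)).index_mul_card
  have hbpos : 0 < Z.relIndex P₀ := relIndex_pos_of_finite _ _
  have hcard : Nat.card (centralizer (P₀ : Set P)) = Nat.card W := by
    rw [hi, hcP₀] at hcP
    rw [hii] at hcC
    rw [hcW]
    have : Z.relIndex P₀ * Nat.card (centralizer (P₀ : Set P)) =
        Z.relIndex P₀ * (Nat.card Z * Z.relIndex W) := by
      rw [hcC, ← hcP]
      ring
    exact Nat.eq_of_mul_eq_mul_left hbpos this
  have hWC : W = centralizer (P₀ : Set P) := Subgroup.eq_of_le_of_card_ge hW₂ hcard.le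
  constructor
  · intro hx
    refine ⟨(hP₀ x).mp (hW₁ hx), fun y hy => ?_⟩
    exact ((mem_centralizer_iff.mp (hW₂ hx)) y ((hP₀ y).mpr hy)).symm
  · rintro ⟨_, hx2⟩
    rw [hWC, mem_centralizer_iff]
    intro y hy
    exact (hx2 y ((hP₀ y).mp hy)).symm

end Inv

end Cfsg.Agent.Helper9
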