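import Mathlib
import Cfsg.Agent.Lib.Helper20.TCDefs

/-! # S3104 piece MODELINJ: the action of `Perm (Fin 6)` on the model group is faithful -/

set_option autoImplicit false

namespace Cfsg.Agent.Helper20.TC

open Cfsg Cfsg.Agent.Helper20.GL4Sub
open scoped Pointwise

namespace MODELINJ

set_option maxRecDepth 100000 in
/-- A permutation of degree 6 fixing all the vectors is the identity: a check of the 720 permutations. -/
theorem key : ∀ σ : Equiv.Perm (Fin 6), (∀ v : U4, act σ v = v) → σ = 1 := by
  decide +kernel

end MODELINJ

/-- PIECE MODELINJ. -/
theorem psi_injective : Function.Injective psi := by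
  rw [injective_iff_map_eq_one]
  intro σ hσ
  apply MODELINJ.key
  intro v
  have h := DFunLike.congr_fun hσ (Multiplicative.ofAdd v)
  rw [psi_apply] at h
  exact Multiplicative.ofAdd.injective h

end Cfsg.Agent.Helper20.TC
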