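import Mathlib
import Cfsg.Agent.Lib.Helper20.TCDefs
import Cfsg.Agent.Lib.Helper9.TCMODELINJ

/-! # S3104 piece MODELGOOD: the model has the configuration `Good` -/

set_option autoImplicit false

namespace Cfsg.Agent.Helper20.TC

open Cfsg Cfsg.Agent.Helper20.GL4Sub
open scoped Pointwise

namespace MODELGOOD

/-- The three commuting transpositions. -/
def s : Fin 3 → Equiv.Perm (Fin 6) := ![Equiv.swap 0 1, Equiv.swap 2 3, Equiv.swap 4 5]

/-- The three elements of order 3. -/
def d : Fin 3 → Equiv.Perm (Fin 6) :=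
  ![Equiv.swap 2 3 * Equiv.swap 3 4, Equiv.swap 0 1 * Equiv.swap 1 4, Equiv.swap 0 1 * Equiv.swap 1 2]

/-- The four-group, additively. -/
def WA : AddSubgroup U4 where
  carrier := {v | v 0 = v 1 ∧ v 2 = v 3}
  zero_mem' := ⟨rfl, rfl⟩
  add_mem' := by
    intro a b ha hb
    exact ⟨by show a 0 + b 0 = a 1 + b 1; rw [ha.1, hb.1],
      by show a 2 + b 2 = a 3 + b 3; rw [ha.2, hb.2]⟩
  neg_mem' := by
    intro a ha
    exact ⟨by show -a 0 = -a 1; rw [ha.1], by show -a 2 = -a 3; rw [ha.2]⟩

/-- The four-group. -/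
def W : Subgroup V0 := AddSubgroup.toSubgroup WA

theorem mem_W (v : V0) : v ∈ W ↔ (v.toAdd 0 = v.toAdd 1 ∧ v.toAdd 2 = v.toAdd 3) := Iff.rfl

theorem chk_sq : ∀ i, s i * s i = 1 := by decide +kernel

theorem chk_comm : ∀ i j, s i * s j = s j * s i := by decide +kernel

theorem chk_cc : ∀ i, d i * s i = s i * d i := by decide +kernel

theorem chk_indep : ∀ e : Fin 3 → Bool,
    (if e 0 then s 0 else 1) * (if e 1 then s 1 else 1) * (if e 2 then s 2 else 1) = 1 →
      ∀ i, e i = false := by decide +kernel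

theorem chk_fixW : ∀ i, ∀ w : U4, (w 0 = w 1 ∧ w 2 = w 3) → act (s i) w = w := by decide +kernel

theorem chk_fix2 : ∀ i j, i ≠ j → ∀ v : U4, act (s i) (act (s j) v) = v →
    (v 0 = v 1 ∧ v 2 = v 3) := by decide +kernel

theorem chk_fix3 : ∀ v : U4, act (s 0) (act (s 1) (act (s 2) v)) = v →
    (v 0 = v 1 ∧ v 2 = v 3) := by decide +kernel

theorem chk_ffree : ∀ i, ∀ v : U4, act (s i) v = v →
    (∃ u : U4, act (d i) v = v + (act (s i) u - u)) → (v 0 = v 1 ∧ v 2 = v 3) := by
  decide +kernel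

theorem chk_two : ∀ a : U4, a + a = 0 := by decide +kernel

theorem chk_card : Fintype.card {v : U4 // v 0 = v 1 ∧ v 2 = v 3} = 4 := by decide +kernel

theorem card_W : Nat.card W = 4 := by
  have h1 : Nat.card W = Nat.card {v : U4 // v 0 = v 1 ∧ v 2 = v 3} :=
    Nat.card_congr (Equiv.subtypeEquiv Multiplicative.toAdd (fun v => Iff.rfl))
  rw [h1, Nat.card_eq_fintype_card]
  exact chk_card

theorem isE16 : IsE16 V0 := by
  refine ⟨fun a b => mul_comm a b, fun a => ?_, ?_⟩
  · rw [pow_two]
    exact congrArg Multiplicative.ofAdd (chk_two a.toAdd)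
  · rw [Nat.card_eq_fintype_card]
    decide +kernel

theorem psi_ite (b : Bool) (σ : Equiv.Perm (Fin 6)) :
    (if b then psi σ else 1) = psi (if b then σ else 1) := by
  cases b
  · simp
  · simp

theorem good : Good (fun i => psi (s i)) (fun i => psi (d i)) W where
  sq i := by
    show psi (s i) * psi (s i) = 1
    rw [← map_mul, chk_sq, map_one]
  comm i j := by
    show psi (s i) * psi (s j) = psi (s j) * psi (s i)
    rw [← map_mul, ← map_mul, chk_comm]
  indep e h := by
    apply chk_indep e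
    apply psi_injective
    rw [map_mul, map_mul, map_one, ← psi_ite, ← psi_ite, ← psi_ite]
    exact h
  card_W := card_W
  fixW i w hw := by
    show psi (s i) w = w
    rw [psi_apply]
    exact congrArg Multiplicative.ofAdd (chk_fixW i w.toAdd hw)
  fix2 i j hij v hv := by
    have h : psi (s i) (psi (s j) v) = v := hv
    rw [psi_apply, psi_apply] at h
    exact chk_fix2 i j hij v.toAdd (Multiplicative.ofAdd.injective h)
  fix3 v hv := by
    have h : psi (s 0) (psi (s 1) (psi (s 2) v)) = v := hv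
    rw [psi_apply, psi_apply, psi_apply] at h
    exact chk_fix3 v.toAdd (Multiplicative.ofAdd.injective h)
  cc i := by
    show psi (d i) * psi (s i) = psi (s i) * psi (d i)
    rw [← map_mul, ← map_mul, chk_cc]
  ffree i v hv hu := by
    have h1 : psi (s i) v = v := hv
    rw [psi_apply] at h1
    obtain ⟨u, hu⟩ := hu
    have h2 : psi (d i) v = v * (psi (s i) u * u⁻¹) := hu
    rw [psi_apply, psi_apply] at h2
    refine chk_ffree i v.toAdd (Multiplicative.ofAdd.injective h1) ⟨u.toAdd, ?_⟩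
    have h3 := congrArg Multiplicative.toAdd h2
    simpa [sub_eq_add_neg] using h3

end MODELGOOD

/-- PIECE MODELGOOD. -/
theorem model_good : IsE16 V0 ∧ ∃ (s d : Fin 3 → Equiv.Perm (Fin 6)) (W : Subgroup V0),
    Good (fun i => psi (s i)) (fun i => psi (d i)) W :=
  ⟨MODELGOOD.isE16, MODELGOOD.s, MODELGOOD.d, MODELGOOD.W, MODELGOOD.good⟩

end Cfsg.Agent.Helper20.TC
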