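import Mathlib
import Cfsg.Agent.Lib.Helper21.N9KDefs
import Cfsg.Agent.Lib.Helper18.N9KJ0

/-!
# S3702 GROUP piece KPCORE (helper9 for helper21): `O₃(K0) = J0`.

`J0` is a normal 3-subgroup.  Conversely, if `N` is a normal 3-subgroup, `P = N ⊔ J0` is a normal 3-subgroup of
order 27 or 81; in the second case `P` has index 8 and contains every element of order 3, in particular `g2` and
`g3 * g2 * g3⁻¹`, hence the involution `g2⁻¹ * (g3 * g2 * g3⁻¹)`: impossible.
-/

set_option autoImplicit false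

namespace Cfsg.Agent.Helper21.N9

open Cfsg Cfsg.Agent.Helper16

theorem kpcore_g2_cube : g2 ^ 3 = 1 := by decide +kernel

theorem kpcore_w_sq :
    (g2⁻¹ * (g3 * g2 * g3⁻¹)) * (g2⁻¹ * (g3 * g2 * g3⁻¹)) = 1 := by decide +kernel

theorem kpcore_w_ne : g2⁻¹ * (g3 * g2 * g3⁻¹) ≠ 1 := by decide +kernel

/-- an element of order 3 lies in every normal subgroup of index 8 -/
theorem kpcore_mem_of_index {K : Type*} [Group K] (P : Subgroup K) [P.Normal] (hidx : P.index = 8)
    (g : K) (hg : g ^ 3 = 1) : g ∈ P := by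
  have h8 : g ^ 8 ∈ P := by
    have := Subgroup.pow_index_mem P g
    rwa [hidx] at this
  have h9 : g ^ 9 = 1 := by
    have : g ^ 9 = (g ^ 3) ^ 3 := by rw [← pow_mul]
    rw [this, hg, one_pow]
  have : g = (g ^ 8)⁻¹ * g ^ 9 := by
    rw [pow_succ g 8, inv_mul_cancel_left]
  rw [this, h9, mul_one]
  exact P.inv_mem h8

theorem pCore_K0 : Cfsg.pCore 3 ↥K0 = J0 := by
  have : Fact (Nat.Prime 3) := ⟨by norm_num⟩
  have hJn : (J0 : Subgroup ↥K0).Normal := J0_normal
  have hJ3 : IsPGroup 3 ↥J0 := IsPGroup.of_card (n := 3) (by rw [card_J0]; norm_num)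
  have : Finite ↥K0 := Nat.finite_of_card_ne_zero (by rw [card_K0]; norm_num)
  apply le_antisymm
  · unfold Cfsg.pCore
    apply sSup_le
    rintro N ⟨hNn, hN3⟩
    have := hNn
    have hP3 : IsPGroup 3 ↥(N ⊔ J0) := hN3.to_sup_of_normal_right hJ3
    obtain ⟨k, hk⟩ := IsPGroup.iff_card.mp hP3
    have h27 : 27 ∣ Nat.card ↥(N ⊔ J0) := by
      rw [← card_J0]; exact Subgroup.card_dvd_of_le le_sup_right
    have h648 : Nat.card ↥(N ⊔ J0) ∣ 648 := by
      rw [← card_K0]; exact Subgroup.card_subgroup_dvd_card _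
    rw [hk] at h27 h648
    have hk3 : 3 ≤ k := by
      have : (3 : ℕ) ^ 3 ∣ 3 ^ k := by norm_num; exact h27
      exact (Nat.pow_dvd_pow_iff_le_right (by norm_num)).mp this
    have hk4 : k ≤ 4 := by
      by_contra h
      push Not at h
      have h1 : (3 : ℕ) ^ 5 ∣ 3 ^ k := Nat.pow_dvd_pow 3 h
      have h2 : (3 : ℕ) ^ 5 ∣ 648 := h1.trans h648
      norm_num at h2
    have hcases : k = 3 ∨ k = 4 := by omega
    rcases hcases with rfl | rfl
    · -- `N ⊔ J0 = J0`
      have heq : J0 = N ⊔ J0 := by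
        apply Subgroup.eq_of_le_of_card_ge le_sup_right
        rw [hk, card_J0]; norm_num
      calc N ≤ N ⊔ J0 := le_sup_left
        _ = J0 := heq.symm
    · exfalso
      have hidx : (N ⊔ J0).index = 8 := by
        have h := Subgroup.card_mul_index (N ⊔ J0)
        rw [hk, card_K0] at h
        omega
      have ha : g2 ∈ N ⊔ J0 := kpcore_mem_of_index _ hidx g2 kpcore_g2_cube
      have hb : g3 * g2 * g3⁻¹ ∈ N ⊔ J0 :=
        (inferInstance : (N ⊔ J0).Normal).conj_mem g2 ha g3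
      have hw : g2⁻¹ * (g3 * g2 * g3⁻¹) ∈ N ⊔ J0 := (N ⊔ J0).mul_mem ((N ⊔ J0).inv_mem ha) hb
      have h81 : (g2⁻¹ * (g3 * g2 * g3⁻¹)) ^ 81 = 1 := by
        have h := pow_card_eq_one' (G := ↥(N ⊔ J0)) (x := ⟨_, hw⟩)
        rw [hk] at h
        have h' := congrArg Subtype.val h
        simpa using h'
      have h81' : (g2⁻¹ * (g3 * g2 * g3⁻¹)) ^ 81 = g2⁻¹ * (g3 * g2 * g3⁻¹) := by
        have : (81 : ℕ) = 2 * 40 + 1 := by norm_num
        rw [this, pow_succ, pow_mul, pow_two, kpcore_w_sq, one_pow, one_mul]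
      rw [h81'] at h81
      exact kpcore_w_ne h81
  · unfold Cfsg.pCore
    exact le_sSup ⟨hJn, hJ3⟩

end Cfsg.Agent.Helper21.N9
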