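import Mathlib
import Cfsg.Prelude.Def_Classical
import Cfsg.Agent.Lib.Helper15.S74Defs
import Cfsg.Agent.Lib.Helper21.S74ODefs
import Cfsg.Agent.Lib.Helper13.OrthEmbed
import Cfsg.Agent.Lib.Helper17.OmegaAll
import Cfsg.Agent.Lib.Helper2.OrthPOmega

/-!
PIECE S74O-CONJ of S2474 T3 (owner helper21): an isometry of finite order of a form similar to `S`
gives an element of the same order in the isometry group of `S`.
-/

set_option autoImplicit false

namespace Cfsg.Agent.Helper15.S74

open QuadraticMap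

universe u v w

section pieces

variable {F : Type u} [Field F]

theorem s74o_conj_pow {V : Type v} {W : Type w} [AddCommGroup V] [Module F V] [AddCommGroup W]
    [Module F W] (e : V ≃ₗ[F] W) (A : Module.End F V) (k : ℕ) :
    (e.conj A) ^ k = e.conj (A ^ k) := by
  have h : ∀ B : Module.End F V, e.conj B = e.conjRingEquiv B := fun _ => rfl
  rw [h, h, map_pow]

theorem s74o_conj_eq_one {V : Type v} {W : Type w} [AddCommGroup V] [Module F V] [AddCommGroup W]
    [Module F W] (e : V ≃ₗ[F] W) (B : Module.End F V) (hB : e.conj B = 1) : B = 1 := by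
  have h : e.conjRingEquiv B = e.conjRingEquiv 1 := by
    rw [map_one]; exact hB
  exact e.conjRingEquiv.injective h

/-- PIECE S74O-CONJ. -/
theorem exists_isometry_of_similitude {ι : Type} [Fintype ι] [DecidableEq ι]
    (S : (ι → F) → F) {d : ℕ} (Q : QuadraticForm F (Fin d → F)) (A : Module.End F (Fin d → F))
    (hA : ∀ x, Q (A x) = Q x) (M : ℕ) (hM : 0 < M) (hord : orderOf A = M) (c : F) (hc : c ≠ 0)
    (e : (Fin d → F) ≃ₗ[F] (ι → F)) (he : ∀ x, c * S (e x) = Q x) :
    ∃ h : ↥(Cfsg.isometryGroup F S), orderOf h = M := by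
  have hS : ∀ w : ι → F, S w = c⁻¹ * Q (e.symm w) := by
    intro w
    have h1 := he (e.symm w)
    rw [LinearEquiv.apply_symm_apply] at h1
    rw [← h1, ← mul_assoc, inv_mul_cancel₀ hc, one_mul]
  have hgQ : ∀ w : ι → F, S ((e.conj A) w) = S w := by
    intro w
    rw [hS, hS w, LinearEquiv.conj_apply]
    simp only [LinearMap.comp_apply, LinearEquiv.coe_coe, LinearEquiv.symm_apply_apply]
    rw [hA]
  have hgM : (e.conj A) ^ M = 1 := by
    rw [s74o_conj_pow, ← hord, pow_orderOf_eq_one]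
    exact (e.conjRingEquiv).map_one
  obtain ⟨x, hx, hxM, hLx⟩ :=
    Cfsg.Agent.Helper13.OrthSS.exists_gl_of_end S (e.conj A) hgQ M hM hgM
  refine ⟨⟨x, hx⟩, ?_⟩
  apply Nat.dvd_antisymm
  · apply orderOf_dvd_of_pow_eq_one
    apply Subtype.ext
    rw [Subgroup.coe_pow, Subgroup.coe_one]
    exact hxM
  · rw [← hord]
    apply orderOf_dvd_of_pow_eq_one
    set k := orderOf (⟨x, hx⟩ : ↥(Cfsg.isometryGroup F S)) with hk
    have h1 : (⟨x, hx⟩ : ↥(Cfsg.isometryGroup F S)) ^ k = 1 := pow_orderOf_eq_one _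
    have h2 : x ^ k = 1 := by
      have := congrArg Subtype.val h1
      rwa [Subgroup.coe_pow, Subgroup.coe_one] at this
    have h3 : (e.conj A) ^ k = 1 := by
      rw [← hLx, ← Cfsg.Agent.Helper13.OrthSS.LG_pow, h2, Cfsg.Agent.Helper13.OrthSS.LG_one]
    rw [s74o_conj_pow] at h3
    exact s74o_conj_eq_one e _ h3

end pieces

end Cfsg.Agent.Helper15.S74
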