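import Mathlib
import Cfsg.Agent.Lib.Helper5.TIAlgDefs

/-!
PIECE TIALG-COMM of S1786 / TI-ALG (sub-lead helper5): two elements of a finite nonassociative
ring without zero divisors, all of whose word-associators vanish, commute (Wedderburn on the
subring they generate).
-/

set_option autoImplicit false

namespace Cfsg.Agent.Helper26.TI

universe uU uA uV u

/-- the additive closure of a set closed under products (into the closure) is closed under products -/
theorem tialg_comm_mul_mem {D : Type*} [NonAssocRing D] (T : Set D)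
    (hT : ∀ a ∈ T, ∀ b ∈ T, a * b ∈ AddSubgroup.closure T) :
    ∀ a ∈ AddSubgroup.closure T, ∀ b ∈ AddSubgroup.closure T, a * b ∈ AddSubgroup.closure T := by
  intro a ha b hb
  induction ha using AddSubgroup.closure_induction with
  | mem a ha =>
    induction hb using AddSubgroup.closure_induction with
    | mem b hb => exact hT a ha b hb
    | zero => rw [mul_zero]; exact zero_mem _
    | add b c _ _ hb hc => rw [mul_add]; exact add_mem hb hc
    | neg b _ hb => rw [mul_neg]; exact neg_mem hb
  | zero => rw [zero_mul]; exact zero_mem _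
  | add a c _ _ ha hc => rw [add_mul]; exact add_mem ha hc
  | neg a _ ha => rw [neg_mul]; exact neg_mem ha

theorem tialg_comm_assoc1 {D : Type*} [NonAssocRing D] (T : Set D)
    (hT : ∀ a ∈ T, ∀ b ∈ T, ∀ c ∈ T, a * b * c = a * (b * c)) :
    ∀ a ∈ T, ∀ b ∈ T, ∀ c ∈ AddSubgroup.closure T, a * b * c = a * (b * c) := by
  intro a ha b hb c hc
  induction hc using AddSubgroup.closure_induction with
  | mem c hc => exact hT a ha b hb c hc
  | zero => simp only [mul_zero]
  | add c d _ _ hc hd => rw [mul_add, mul_add, mul_add, hc, hd]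
  | neg c _ hc => rw [mul_neg, mul_neg, mul_neg, hc]

theorem tialg_comm_assoc2 {D : Type*} [NonAssocRing D] (T : Set D)
    (hT : ∀ a ∈ T, ∀ b ∈ T, ∀ c ∈ T, a * b * c = a * (b * c)) :
    ∀ a ∈ T, ∀ b ∈ AddSubgroup.closure T, ∀ c ∈ AddSubgroup.closure T,
      a * b * c = a * (b * c) := by
  intro a ha b hb c hc
  induction hb using AddSubgroup.closure_induction with
  | mem b hb => exact tialg_comm_assoc1 T hT a ha b hb c hc
  | zero => simp only [mul_zero, zero_mul]
  | add b d _ _ hb hd => rw [mul_add, add_mul, add_mul, mul_add, hb, hd]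
  | neg b _ hb => rw [mul_neg, neg_mul, neg_mul, mul_neg, hb]

theorem tialg_comm_assoc3 {D : Type*} [NonAssocRing D] (T : Set D)
    (hT : ∀ a ∈ T, ∀ b ∈ T, ∀ c ∈ T, a * b * c = a * (b * c)) :
    ∀ a ∈ AddSubgroup.closure T, ∀ b ∈ AddSubgroup.closure T, ∀ c ∈ AddSubgroup.closure T,
      a * b * c = a * (b * c) := by
  intro a ha b hb c hc
  induction ha using AddSubgroup.closure_induction with
  | mem a ha => exact tialg_comm_assoc2 T hT a ha b hb c hc
  | zero => simp only [zero_mul]
  | add a d _ _ ha hd => rw [add_mul, add_mul, add_mul, ha, hd]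
  | neg a _ ha => rw [neg_mul, neg_mul, neg_mul, ha]

/-- the ring structure on an additive subgroup which contains `1`, is closed under products and on
which the product is associative -/
@[reducible] noncomputable def tialg_comm_ring {D : Type*} [NonAssocRing D] (S : AddSubgroup D)
    (h1 : (1 : D) ∈ S) (hmul : ∀ a ∈ S, ∀ b ∈ S, a * b ∈ S)
    (hassoc : ∀ a ∈ S, ∀ b ∈ S, ∀ c ∈ S, a * b * c = a * (b * c)) : Ring ↥S :=
  { (inferInstance : AddCommGroup ↥S) with
    mul := fun a b => ⟨a.1 * b.1, hmul _ a.2 _ b.2⟩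
    one := ⟨1, h1⟩
    mul_assoc := fun a b c => Subtype.ext (hassoc _ a.2 _ b.2 _ c.2)
    one_mul := fun a => Subtype.ext (one_mul _)
    mul_one := fun a => Subtype.ext (mul_one _)
    left_distrib := fun a b c => Subtype.ext (mul_add _ _ _)
    right_distrib := fun a b c => Subtype.ext (add_mul _ _ _)
    zero_mul := fun a => Subtype.ext (zero_mul _)
    mul_zero := fun a => Subtype.ext (mul_zero _) }

/-- a finite, "locally associative" unital additive subgroup of a nonassociative ring without zero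
divisors is commutative -/
theorem tialg_comm_of_subring {D : Type*} [NonAssocRing D] [Finite D]
    (hnz : ∀ x y : D, x * y = 0 → x = 0 ∨ y = 0) (h01 : (1 : D) ≠ 0) (S : AddSubgroup D)
    (h1 : (1 : D) ∈ S) (hmul : ∀ a ∈ S, ∀ b ∈ S, a * b ∈ S)
    (hassoc : ∀ a ∈ S, ∀ b ∈ S, ∀ c ∈ S, a * b * c = a * (b * c)) :
    ∀ a ∈ S, ∀ b ∈ S, a * b = b * a := by
  let _ : Ring ↥S := tialg_comm_ring S h1 hmul hassoc
  have hmulval : ∀ a b : ↥S, ((a * b : ↥S) : D) = (a : D) * (b : D) := fun _ _ => rfl
  have : Nontrivial ↥S := ⟨⟨(1 : ↥S), 0, fun h => h01 (congrArg Subtype.val h)⟩⟩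
  have : NoZeroDivisors ↥S := ⟨by
    intro a b hab
    have h := congrArg Subtype.val hab
    rw [hmulval] at h
    rcases hnz _ _ h with h' | h'
    · exact Or.inl (Subtype.ext h')
    · exact Or.inr (Subtype.ext h')⟩
  have : IsDomain ↥S := NoZeroDivisors.to_isDomain _
  have hF : IsField ↥S := Finite.isDomain_to_isField ↥S
  intro a ha b hb
  have := hF.mul_comm ⟨a, ha⟩ ⟨b, hb⟩
  have h := congrArg Subtype.val this
  rwa [hmulval, hmulval] at h

/-! ### TIALG-COMM (two elements generate a finite associative domain => they commute, Wedderburn) -/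
theorem alg_comm_of_artin {D : Type*} [NonAssocRing D] [Finite D]
    (hnz : ∀ x y : D, x * y = 0 → x = 0 ∨ y = 0) (x y : D)
    (hart : ∀ u v w : FreeMagma (Fin 2), associator (alg_ev x y u) (alg_ev x y v) (alg_ev x y w) = 0) :
    x * y = y * x := by
  by_cases h01 : (1 : D) = 0
  · have hz : ∀ a : D, a = 0 := fun a => by rw [← mul_one a, h01, mul_zero]
    rw [hz (x * y), hz (y * x)]
  set T : Set D := {1} ∪ Set.range (alg_ev x y) with hTdef
  have hsub : T ⊆ AddSubgroup.closure T := AddSubgroup.subset_closure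
  have hT1 : ∀ a ∈ T, ∀ b ∈ T, a * b ∈ AddSubgroup.closure T := by
    intro a ha b hb
    rcases ha with ha | ⟨u, rfl⟩
    · rw [Set.mem_singleton_iff] at ha
      rw [ha, one_mul]
      exact hsub hb
    rcases hb with hb | ⟨v, rfl⟩
    · rw [Set.mem_singleton_iff] at hb
      rw [hb, mul_one]
      exact hsub (Or.inr ⟨u, rfl⟩)
    · rw [← alg_ev_mul]
      exact hsub (Or.inr ⟨u * v, rfl⟩)
  have hT3 : ∀ a ∈ T, ∀ b ∈ T, ∀ c ∈ T, a * b * c = a * (b * c) := by
    intro a ha b hb c hc
    rcases ha with ha | ⟨u, rfl⟩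
    · rw [Set.mem_singleton_iff] at ha
      rw [ha, one_mul, one_mul]
    rcases hb with hb | ⟨v, rfl⟩
    · rw [Set.mem_singleton_iff] at hb
      rw [hb, mul_one, one_mul]
    rcases hc with hc | ⟨w, rfl⟩
    · rw [Set.mem_singleton_iff] at hc
      rw [hc, mul_one, mul_one]
    · have := hart u v w
      rw [associator_apply, sub_eq_zero] at this
      exact this
  have hcomm := tialg_comm_of_subring hnz h01 (AddSubgroup.closure T)
    (hsub (Or.inl rfl)) (tialg_comm_mul_mem T hT1) (tialg_comm_assoc3 T hT3)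
  have hx : x ∈ AddSubgroup.closure T := hsub (Or.inr ⟨FreeMagma.of 0, alg_ev_of_zero x y⟩)
  have hy : y ∈ AddSubgroup.closure T := hsub (Or.inr ⟨FreeMagma.of 1, alg_ev_of_one x y⟩)
  exact hcomm x hx y hy

end Cfsg.Agent.Helper26.TI
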