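import Mathlib
import Cfsg.Agent.Lib.Helper23.S61Defs
import Cfsg.Agent.Lib.Helper2.SzBorelSub

/-!
# S2861 piece S61-SZB: the only nontrivial elementary abelian `2`-subgroup of the Borel subgroup
of `Sz(F)` normalized by it is the centre `ZSz` of the unipotent subgroup.
-/

set_option autoImplicit false
set_option linter.unusedVariables false

namespace Cfsg.Agent.Helper23.S61

open Cfsg Cfsg.Agent.Helper2.Sz
open scoped Pointwise

/-- an involution of the point stabilizer lies in `ZSz` -/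
theorem s61_szb_mem_ZSz {F : Type*} [Field F] [Fintype F] {m : ℕ} (S : SzData F m) (hm : 1 ≤ m)
    (hF : Fintype.card F = 2 ^ (2 * m + 1)) {v : Cfsg.Sz F m}
    (hv : v ∈ MulAction.stabilizer (Cfsg.Sz F m) (SzData.pInf F)) (hv2 : v * v = 1) :
    v ∈ S.ZSz := by
  obtain ⟨a, b, u, rfl⟩ := (S.mem_stabilizer_pInf_iff hm hF).1 hv
  have h1 : (S.TgSz a b * S.DgSz u) * (S.TgSz a b * S.DgSz u) =
      S.TgSz (a + S.s u * a) (b + S.s u * (u : F) ^ 2 * b + S.s a * (S.s u * a)) *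
        S.DgSz (u * u) := by
    calc (S.TgSz a b * S.DgSz u) * (S.TgSz a b * S.DgSz u)
        = S.TgSz a b * (S.DgSz u * S.TgSz a b) * S.DgSz u := by group
      _ = S.TgSz a b * (S.TgSz (S.s u * a) (S.s u * (u : F) ^ 2 * b) * S.DgSz u) * S.DgSz u := by
          rw [S.DgSz_TgSz]
      _ = (S.TgSz a b * S.TgSz (S.s u * a) (S.s u * (u : F) ^ 2 * b)) *
            (S.DgSz u * S.DgSz u) := by group
      _ = _ := by rw [S.TgSz_mul, ← map_mul]
  have hv3 := hv2
  rw [h1] at hv2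
  have h2 : S.Tg (a + S.s u * a) (b + S.s u * (u : F) ^ 2 * b + S.s a * (S.s u * a)) *
      S.Dg (u * u) = S.Tg 0 0 * S.Dg 1 := by
    have h3 := congrArg Subtype.val hv2
    rw [S.Tg_zero, S.Dg_one, mul_one]
    exact h3
  obtain ⟨-, -, hu⟩ := S.Tg_Dg_injective h2
  have hu1 : u = 1 := by
    have h4 : ((u : F) - 1) ^ 2 = 0 := by
      have h5 : (u : F) * (u : F) = 1 := by
        rw [← Units.val_mul, hu, Units.val_one]
      have h6 := S.h2
      linear_combination h5 - (u : F) * h6 + h6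
    have h7 : (u : F) - 1 = 0 := pow_eq_zero_iff (two_ne_zero) |>.1 h4
    apply Units.ext
    rw [Units.val_one]
    exact sub_eq_zero.1 h7
  rw [hu1, map_one, mul_one] at hv3 ⊢
  exact S.mem_ZSz_of_mul_self (S.TgSz_mem a b) hv3

/-- PIECE S61-SZB -/
theorem sz_std {F : Type*} [Field F] [Fintype F] {m : ℕ} (S : SzData F m) (hm : 1 ≤ m)
    (hF : Fintype.card F = 2 ^ (2 * m + 1)) (V : Subgroup (Cfsg.Sz F m))
    (hVB : V ≤ MulAction.stabilizer (Cfsg.Sz F m) (SzData.pInf F))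
    (hBV : ∀ b ∈ MulAction.stabilizer (Cfsg.Sz F m) (SzData.pInf F), ∀ v ∈ V, b * v * b⁻¹ ∈ V)
    (hVel : IsElementaryAbelian 2 V) (hV : V ≠ ⊥) : V = S.ZSz := by
  have hVZ : V ≤ S.ZSz := by
    intro v hv
    apply s61_szb_mem_ZSz S hm hF (hVB hv)
    rw [← pow_two]
    exact hVel.2 v hv
  apply le_antisymm hVZ
  obtain ⟨⟨v, hvV⟩, hv1'⟩ := (Subgroup.ne_bot_iff_exists_ne_one).1 hV
  have hv1 : v ≠ 1 := fun h => hv1' (Subtype.ext h)
  have hvZ : v ∈ S.ZSz := hVZ hvV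
  intro z hz
  by_cases hz1 : z = 1
  · rw [hz1]
    exact V.one_mem
  · obtain ⟨u, hu⟩ := S.exists_conj_eq hvZ hv1 hz hz1
    have huB : S.DgSz u ∈ MulAction.stabilizer (Cfsg.Sz F m) (SzData.pInf F) := by
      rw [S.mem_stabilizer_pInf_iff hm hF]
      exact ⟨0, 0, u, by rw [S.TgSz_zero, one_mul]⟩
    rw [← hu]
    exact hBV _ huB v hvV

end Cfsg.Agent.Helper23.S61
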