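import Mathlib
import Cfsg.Agent.Lib.Helper23.S63Defs

/-!
# S2863 piece S63-PRODCORE: the abstract `2 × 2` block computation:
`h = t * s` has no fixed point on `A / C`.
-/

set_option autoImplicit false
set_option linter.unusedVariables false

namespace Cfsg.Agent.Helper23.S63

open Cfsg
open scoped Pointwise

/-- PIECE S63-PRODCORE -/
theorem prodfpf_core {G : Type*} [Group G] (L A Y Y' C : Subgroup G)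
    (hAn : ∀ g ∈ L, ∀ a ∈ A, g * a * g⁻¹ ∈ A) (hYL : Y ≤ L) (hY'L : Y' ≤ L)
    (hYc : ∀ a ∈ Y, ∀ b ∈ Y, a * b = b * a) (hY'c : ∀ a ∈ Y', ∀ b ∈ Y', a * b = b * a)
    (hAY : ∀ a ∈ A, ∀ y ∈ Y, a * y * a⁻¹ ∈ Y) (hAY' : ∀ a ∈ A, ∀ y ∈ Y', a * y * a⁻¹ ∈ Y')
    (hprod : ∀ a ∈ A, ∃ z ∈ Y ⊓ A, ∃ z' ∈ Y' ⊓ A, a = z * z')
    (hint : (Y ⊓ A) ⊓ (Y' ⊓ A) = C)
    (hCc : ∀ c ∈ C, ∀ x ∈ L, x * c = c * x)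
    (hcomm : ∀ a ∈ A, ∀ b ∈ A, a * b * a⁻¹ * b⁻¹ ∈ C)
    (t : G) (ht : t ∈ Y) (hti : ∀ z ∈ Y' ⊓ A, t * z * t⁻¹ * z⁻¹ ∈ C → z ∈ C)
    (s : G) (hs : s ∈ Y') (hsi : ∀ z ∈ Y ⊓ A, s * z * s⁻¹ * z⁻¹ ∈ C → z ∈ C) :
    ∀ a ∈ A, (t * s) * a * (t * s)⁻¹ * a⁻¹ ∈ C → a ∈ C := by
  intro a ha hfix
  obtain ⟨z, hz, z', hz', rfl⟩ := hprod a ha
  obtain ⟨hzY, hzA⟩ := Subgroup.mem_inf.1 hz
  obtain ⟨hz'Y', hz'A⟩ := Subgroup.mem_inf.1 hz'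
  have hsL : s ∈ L := hY'L hs
  have htL : t ∈ L := hYL ht
  obtain ⟨ψ, hψ⟩ : ∃ ψ, ψ = s * z * s⁻¹ * z⁻¹ := ⟨_, rfl⟩
  obtain ⟨φ1, hφ1⟩ : ∃ φ1, φ1 = t * ψ * t⁻¹ * ψ⁻¹ := ⟨_, rfl⟩
  obtain ⟨φ2, hφ2⟩ : ∃ φ2, φ2 = t * z' * t⁻¹ * z'⁻¹ := ⟨_, rfl⟩
  have hψA : ψ ∈ A := by
    rw [hψ]
    exact A.mul_mem (hAn s hsL z hzA) (A.inv_mem hzA)
  have hψY' : ψ ∈ Y' := by
    have e : ψ = s * (z * s⁻¹ * z⁻¹) := by rw [hψ]; group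
    rw [e]
    exact Y'.mul_mem hs (hAY' z hzA s⁻¹ (Y'.inv_mem hs))
  have hφ1A : φ1 ∈ A := by
    rw [hφ1]
    exact A.mul_mem (hAn t htL ψ hψA) (A.inv_mem hψA)
  have hφ1Y : φ1 ∈ Y := by
    have e : φ1 = t * (ψ * t⁻¹ * ψ⁻¹) := by rw [hφ1]; group
    rw [e]
    exact Y.mul_mem ht (hAY ψ hψA t⁻¹ (Y.inv_mem ht))
  have hφ2A : φ2 ∈ A := by
    rw [hφ2]
    exact A.mul_mem (hAn t htL z' hz'A) (A.inv_mem hz'A)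
  have hφ2Y : φ2 ∈ Y := by
    have e : φ2 = t * (z' * t⁻¹ * z'⁻¹) := by rw [hφ2]; group
    rw [e]
    exact Y.mul_mem ht (hAY z' hz'A t⁻¹ (Y.inv_mem ht))
  have h_szs : s * z * s⁻¹ = ψ * z := by rw [hψ]; group
  have h_sz's : s * z' * s⁻¹ = z' := by
    rw [hY'c s hs z' hz'Y']; group
  have h_tzt : t * z * t⁻¹ = z := by
    rw [hYc t ht z hzY]; group
  have e3 : z * φ2 = φ2 * z := hYc z hzY φ2 hφ2Y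
  have key : (t * s) * (z * z') * (t * s)⁻¹ * (z * z')⁻¹ = φ1 * ψ * φ2 := by
    calc (t * s) * (z * z') * (t * s)⁻¹ * (z * z')⁻¹
        = t * (s * z * s⁻¹) * (s * z' * s⁻¹) * t⁻¹ * z'⁻¹ * z⁻¹ := by group
      _ = t * (ψ * z) * z' * t⁻¹ * z'⁻¹ * z⁻¹ := by rw [h_szs, h_sz's]
      _ = (t * ψ * t⁻¹ * ψ⁻¹) * ψ * (t * z * t⁻¹) * (t * z' * t⁻¹ * z'⁻¹) * z⁻¹ := by group
      _ = φ1 * ψ * z * φ2 * z⁻¹ := by rw [h_tzt, ← hφ1, ← hφ2]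
      _ = φ1 * ψ * (z * φ2) * z⁻¹ := by group
      _ = φ1 * ψ * (φ2 * z) * z⁻¹ := by rw [e3]
      _ = φ1 * ψ * φ2 := by group
  rw [key] at hfix
  have hCZ : C ≤ Y ⊓ A := by rw [← hint]; exact inf_le_left
  have hψZ : ψ ∈ Y ⊓ A := by
    have e : ψ = φ1⁻¹ * (φ1 * ψ * φ2) * φ2⁻¹ := by group
    rw [e]
    exact (Y ⊓ A).mul_mem ((Y ⊓ A).mul_mem ((Y ⊓ A).inv_mem (Subgroup.mem_inf.2 ⟨hφ1Y, hφ1A⟩))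
      (hCZ hfix)) ((Y ⊓ A).inv_mem (Subgroup.mem_inf.2 ⟨hφ2Y, hφ2A⟩))
  have hψC : ψ ∈ C := by
    rw [← hint]
    exact Subgroup.mem_inf.2 ⟨hψZ, Subgroup.mem_inf.2 ⟨hψY', hψA⟩⟩
  have hzC : z ∈ C := hsi z hz (hψ ▸ hψC)
  have hφ1one : φ1 = 1 := by
    rw [hφ1, hCc ψ hψC t htL]
    group
  have hφ2C : φ2 ∈ C := by
    have e : φ2 = ψ⁻¹ * (φ1 * ψ * φ2) := by rw [hφ1one]; group
    rw [e]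
    exact C.mul_mem (C.inv_mem hψC) hfix
  have hz'C : z' ∈ C := hti z' hz' (hφ2 ▸ hφ2C)
  exact C.mul_mem hzC hz'C

end Cfsg.Agent.Helper23.S63
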