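import Mathlib
import Cfsg.Agent.Lib.Helper23.SlhDefs

/-!
PIECE SLH-B5 of S3050 (owner helper23): `α ≡ 1`.
-/

set_option autoImplicit false
set_option linter.unusedSectionVars false
set_option linter.unusedVariables false

namespace Cfsg.Agent.Helper23.Slh

open Cfsg.Agent.Helper12.NatMod

section Blocks

variable {F : Type*} [Field F] [CharP F 2] {R : Type*} [Ring R]

theorem slh_b5_add_self (h2 : (2 : R) = 0) (x : R) : x + x = 0 := by
  rw [← two_mul, h2, zero_mul]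

/-- cancel: `x + y = x + z → y = z` is trivial; here `a = a + b → b = 0`. -/
theorem slh_b5_eq_zero_of (a b : R) (h : a = a + b) : b = 0 := by
  have : a + 0 = a + b := by rw [add_zero]; exact h
  exact (add_left_cancel this).symm

theorem slh_b5_eq_one (h2 : (2 : R) = 0) (x : R) (h : x + 1 = 0) : x = 1 := by
  have h1 : x + 1 + 1 = 0 + 1 := by rw [h]
  rw [add_assoc, slh_b5_add_self h2, add_zero, zero_add] at h1
  exact h1

/-- `n μ = n μ⁻¹ β μ` -/
theorem slh_b5_key1 (h2 : (2 : R) = 0) (hsq : ∀ c : F, ∃ s : F, s * s = c)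
    (α β : F → R) (h1 : BlockRel1 α β) (hr2 : BlockRel2 α β)
    (htor : ∀ c : Fˣ, α ((c : F) * c) + 1 = (α (c : F) + α ((c⁻¹ : Fˣ) : F)) * β (c : F) ∧
      β ((c : F) * c) = β (c : F) * β (c : F)) (μ : Fˣ) :
    α (μ : F) + 1 = (α ((μ⁻¹ : Fˣ) : F) + 1) * β (μ : F) := by
  obtain ⟨s, hs⟩ := hsq (μ : F)
  have hs0 : s ≠ 0 := by
    rintro rfl
    rw [zero_mul] at hs
    exact μ.ne_zero hs.symm
  obtain ⟨t, rfl⟩ : ∃ t : Fˣ, (t : F) = s := ⟨Units.mk0 s hs0, rfl⟩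
  have hμ : μ = t * t := Units.ext (by rw [Units.val_mul]; exact hs.symm)
  subst hμ
  obtain ⟨ht1, ht2⟩ := htor t
  obtain ⟨ht1', -⟩ := htor t⁻¹
  rw [inv_inv] at ht1'
  have hbi : β ((t⁻¹ : Fˣ) : F) * β (t : F) = 1 := by
    have := hr2.β_inv t⁻¹
    rwa [inv_inv] at this
  have e1 : (((t * t)⁻¹ : Fˣ) : F) = ((t⁻¹ : Fˣ) : F) * ((t⁻¹ : Fˣ) : F) := by
    rw [mul_inv, Units.val_mul]
  rw [e1, Units.val_mul, ht1', ht2, ht1, mul_assoc, ← mul_assoc (β ((t⁻¹ : Fˣ) : F)), hbi, one_mul,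
    add_comm (α ((t⁻¹ : Fˣ) : F))]

/-- `n (c²) = n c β c + n c` -/
theorem slh_b5_key2 (h2 : (2 : R) = 0) (hsq : ∀ c : F, ∃ s : F, s * s = c)
    (α β : F → R) (h1 : BlockRel1 α β) (hr2 : BlockRel2 α β)
    (htor : ∀ c : Fˣ, α ((c : F) * c) + 1 = (α (c : F) + α ((c⁻¹ : Fˣ) : F)) * β (c : F) ∧
      β ((c : F) * c) = β (c : F) * β (c : F)) (c : Fˣ) :
    α ((c : F) * c) + 1 = (α (c : F) + 1) * β (c : F) + (α (c : F) + 1) := by
  obtain ⟨ht1, -⟩ := htor c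
  have k := slh_b5_key1 h2 hsq α β h1 hr2 htor c⁻¹
  rw [inv_inv] at k
  have hbi : β ((c⁻¹ : Fˣ) : F) * β (c : F) = 1 := by
    have := hr2.β_inv c⁻¹
    rwa [inv_inv] at this
  have e : α (c : F) + α ((c⁻¹ : Fˣ) : F) = (α (c : F) + 1) + (α ((c⁻¹ : Fˣ) : F) + 1) := by
    have := slh_b5_add_self h2 (1 : R)
    calc α (c : F) + α ((c⁻¹ : Fˣ) : F) = α (c : F) + α ((c⁻¹ : Fˣ) : F) + (1 + 1) := by
          rw [this, add_zero]
      _ = _ := by abel
  rw [ht1, e, add_mul, k, mul_assoc, hbi, mul_one]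

end Blocks

section Main

variable {F : Type*} [Field F] [CharP F 2] {R : Type*} [Ring R]

theorem alpha_eq_one (h2 : (2 : R) = 0) (hsq : ∀ c : F, ∃ s : F, s * s = c)
    (α β : F → R) (h1 : BlockRel1 α β) (hr2 : BlockRel2 α β)
    (htor : ∀ c : Fˣ, α ((c : F) * c) + 1 = (α (c : F) + α ((c⁻¹ : Fˣ) : F)) * β (c : F) ∧
      β ((c : F) * c) = β (c : F) * β (c : F)) (c : F) : α c = 1 := by
  by_cases hc0 : c = 0
  · rw [hc0]; exact h1.α_zero
  by_cases hc1 : c = 1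
  · rw [hc1]; exact h1.α_one
  have hc1' : c + 1 ≠ 0 := by
    intro h
    apply hc1
    have h' : c + 1 + 1 = 0 + 1 := by rw [h]
    rw [add_assoc, CharTwo.add_self_eq_zero, add_zero, zero_add] at h'
    exact h'
  have hαα : α c * α c = 1 := by
    rw [← h1.α_add, CharTwo.add_self_eq_zero, h1.α_zero]
  have hα1 : α (c + 1) = α c := by rw [h1.α_add, h1.α_one, mul_one]
  have hβ1 : β (c + 1) = α c + β c := by rw [h1.β_add, h1.β_one, h1.α_one, mul_one, mul_one]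
  have ku := slh_b5_key2 h2 hsq α β h1 hr2 htor (Units.mk0 c hc0)
  have kv := slh_b5_key2 h2 hsq α β h1 hr2 htor (Units.mk0 (c + 1) hc1')
  rw [Units.val_mk0] at ku kv
  have esq : (c + 1) * (c + 1) = c * c + 1 := by
    rw [CharTwo.add_mul_self, one_mul]
  rw [esq, hα1, hβ1, h1.α_add, h1.α_one, mul_one] at kv
  -- kv : α (c*c) + 1 = (α c + 1) * (α c + β c) + (α c + 1)
  have e2 : (α c + 1) * (α c + β c) + (α c + 1) = (α c + 1) * β c := by
    have a1 := slh_b5_add_self h2 (1 : R)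
    have a2 := slh_b5_add_self h2 (α c)
    calc (α c + 1) * (α c + β c) + (α c + 1)
        = α c * α c + α c * β c + α c + β c + α c + 1 := by noncomm_ring
      _ = (α c * β c + β c) + (α c + α c) + (1 + 1) := by rw [hαα]; abel
      _ = (α c + 1) * β c := by rw [a1, a2, add_zero, add_zero, add_mul, one_mul]
  rw [e2] at kv
  rw [kv] at ku
  have hn : α c + 1 = 0 := slh_b5_eq_zero_of _ _ ku
  exact slh_b5_eq_one h2 _ hn

end Main

end Cfsg.Agent.Helper23.Slh
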