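import Mathlib
import Cfsg.Agent.Lib.Helper23.ZS4Defs
import Cfsg.Agent.Lib.Helper14.ZS4CLASS
import Cfsg.Agent.Lib.Helper14.ZS4PAIRCOUNT
import Cfsg.Agent.Lib.Helper3.ZS4MEMM
import Cfsg.Agent.Lib.Helper3.ZS4INVOLM
import Cfsg.Agent.Lib.Helper17.ZS4CORE

/-!
# S3222 piece O4B (helper9 for helper23): `|G| = 336` and a second conjugate of `t` in `T`.
-/

set_option autoImplicit false

namespace Cfsg.Agent.Helper23.ZS4

open Equiv

variable {G : Type*} [Group G]

namespace O4B

theorem sq_of_two {a : G} (h : orderOf a = 2) : a * a = 1 := by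
  have h1 := pow_orderOf_eq_one a
  rw [h, pow_two] at h1
  exact h1

theorem inv_of_two {a : G} (h : orderOf a = 2) : a⁻¹ = a :=
  inv_eq_of_mul_eq_one_left (sq_of_two h)

theorem ne_one_of_two {a : G} (h : orderOf a = 2) : a ≠ 1 := by
  rintro rfl
  rw [orderOf_one] at h
  omega

theorem orderOf_conj_eq (g a : G) : orderOf (g * a * g⁻¹) = orderOf a := by
  rw [← MulAut.conj_apply, MulEquiv.orderOf_eq]

/-- the class of `t` is closed under conjugation -/
theorem conj_mem_class {t y : G} (hy : ∃ g : G, y = g * t * g⁻¹) (c : G) :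
    ∃ g : G, c * y * c⁻¹ = g * t * g⁻¹ := by
  obtain ⟨g, rfl⟩ := hy
  exact ⟨c * g, by group⟩

theorem conj_t_mul {t c : G} (hc : c ∈ Subgroup.centralizer ({t} : Set G)) (w : G) :
    c * (t * w) * c⁻¹ = t * (c * w * c⁻¹) := by
  have hct : c * t = t * c := Subgroup.mem_centralizer_singleton_iff.mp hc
  rw [← mul_assoc c t w, hct]
  simp only [mul_assoc]

section

variable {t z v τ : G} {T : Subgroup G}

theorem zt (L : Loc t z v τ T) : z * t = t * z :=
  Subgroup.mem_centralizer_singleton_iff.mp (L.T_le L.zT)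

theorem vt (L : Loc t z v τ T) : v * t = t * v :=
  Subgroup.mem_centralizer_singleton_iff.mp (L.T_le L.vT)

theorem τt (L : Loc t z v τ T) : τ * t = t * τ :=
  Subgroup.mem_centralizer_singleton_iff.mp (L.T_le L.τT)

theorem mem_T_iff (L : Loc t z v τ T) (a : G) : a ∈ T ↔ a * z = z * a := by
  rw [← L.cent_z, Subgroup.mem_centralizer_singleton_iff]

theorem vz (L : Loc t z v τ T) : v * z = z * v := (mem_T_iff L v).1 L.vT

theorem τz (L : Loc t z v τ T) : τ * z = z * τ := (mem_T_iff L τ).1 L.τT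

theorem hv2 (L : Loc t z v τ T) : orderOf v = 2 := by
  obtain ⟨c, -, hc⟩ := L.v_conj
  rw [hc, orderOf_conj_eq]; exact L.hz

theorem hzv2 (L : Loc t z v τ T) : orderOf (z * v) = 2 := by
  obtain ⟨c, -, hc⟩ := L.zv_conj
  rw [hc, orderOf_conj_eq]; exact L.hz

/-- `v τ v⁻¹ = τ z` -/
theorem v_conj_τ (L : Loc t z v τ T) : v * τ * v⁻¹ = τ * z := by
  have h1 : τ * v * τ⁻¹ = z * v := L.τv
  have hτ : τ⁻¹ = τ := inv_of_two L.hτ
  have hv : v⁻¹ = v := inv_of_two (hv2 L)
  have hz : z * z = 1 := sq_of_two L.hz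
  rw [hτ] at h1
  -- τ v τ = z v, so v τ = τ z v (as τ² = 1, z central in T)
  have h2 : τ * v = z * v * τ := by
    have : τ * v * τ * τ = z * v * τ := by rw [h1]
    rwa [mul_assoc (τ * v), sq_of_two L.hτ, mul_one] at this
  have h3 : v * τ = τ * z * v := by
    have : z * (τ * v) = z * (z * v * τ) := by rw [h2]
    rw [← mul_assoc z (z * v), ← mul_assoc z z, hz, one_mul] at this
    rw [← this, ← mul_assoc, (τz L)]
  rw [hv, h3, mul_assoc (τ * z), sq_of_two (hv2 L), mul_one]

theorem τ_ne_t (L : Loc t z v τ T) : τ ≠ t := by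
  intro h
  have h1 : τ * v * τ⁻¹ = z * v := L.τv
  rw [h, ← vt L, mul_assoc, mul_inv_cancel, mul_one] at h1
  have : z = 1 := by
    have h2 : 1 * v = z * v := by rw [one_mul]; exact h1
    exact (mul_right_cancel h2).symm
  exact ne_one_of_two L.hz this

end

section

variable [Finite G] {t z v τ : G}

theorem card_class_z (T : Sylow 2 G) (L : Loc t z v τ (T : Subgroup G))
    (hcard : Nat.card G = 336) :
    Set.ncard {x' : G | ∃ g : G, x' = g * z * g⁻¹} = 21 := by
  have h := class_card z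
  rw [L.cent_z, L.card_T, hcard] at h
  omega

theorem card_class_t (T : Sylow 2 G) (L : Loc t z v τ (T : Subgroup G))
    (hcard : Nat.card G = 336) :
    Set.ncard {x' : G | ∃ g : G, x' = g * t * g⁻¹} = 7 := by
  have h := class_card t
  rw [L.card_C, hcard] at h
  omega

/-- Case A: `t z` is conjugate to `t`. -/
theorem caseA (T : Sylow 2 G) (L : Loc t z v τ (T : Subgroup G))
    (M : Subgroup G) [M.Normal] (hM2 : M.index = 2) (htM : t ∉ M) (hcard : Nat.card G = 336)
    (htz : ∃ g : G, t * z = g * t * g⁻¹) : False := by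
  obtain ⟨hzM, -, -, -⟩ := mem_M L M hM2 htM
  obtain ⟨c1, hc1, hv⟩ := L.v_conj
  obtain ⟨c2, hc2, hzv⟩ := L.zv_conj
  have htv : ∃ g : G, t * v = g * t * g⁻¹ := by
    have := conj_mem_class htz c1
    rwa [conj_t_mul hc1, ← hv] at this
  have htzv : ∃ g : G, t * (z * v) = g * t * g⁻¹ := by
    have := conj_mem_class htz c2
    rwa [conj_t_mul hc2, ← hzv] at this
  have hz1 : z ≠ 1 := ne_one_of_two L.hz
  have hv1 : v ≠ 1 := ne_one_of_two (hv2 L)
  have hzv1 : z * v ≠ 1 := ne_one_of_two (hzv2 L)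
  -- four conjugates of `t` commuting with `z`
  have hsub : ({t, t * z, t * v, t * (z * v)} : Set G) ⊆
      {y' : G | (∃ g : G, y' = g * t * g⁻¹) ∧ y' * z = z * y'} := by
    intro y hy
    rcases hy with rfl | rfl | rfl | rfl
    · exact ⟨⟨1, by group⟩, (zt L).symm⟩
    · exact ⟨htz, (mem_T_iff L _).1 ((T : Subgroup G).mul_mem L.tT L.zT)⟩
    · exact ⟨htv, (mem_T_iff L _).1 ((T : Subgroup G).mul_mem L.tT L.vT)⟩
    · exact ⟨htzv, (mem_T_iff L _).1
        ((T : Subgroup G).mul_mem L.tT ((T : Subgroup G).mul_mem L.zT L.vT))⟩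
  have h4 : Set.ncard ({t, t * z, t * v, t * (z * v)} : Set G) = 4 := by
    have e1 : t * v ≠ t * (z * v) := by
      intro h
      have h' := mul_left_cancel h
      have : 1 * v = z * v := by rw [one_mul]; exact h'
      exact hz1 (mul_right_cancel this).symm
    have e2 : t * z ∉ ({t * v, t * (z * v)} : Set G) := by
      intro h
      rcases h with h | h
      · exact L.v_ne (mul_left_cancel h).symm
      · have h' := mul_left_cancel h
        have : z * 1 = z * v := by rw [mul_one]; exact h'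
        exact hv1 (mul_left_cancel this).symm
    have e3 : t ∉ ({t * z, t * v, t * (z * v)} : Set G) := by
      intro h
      rcases h with h | h | h
      · have : t * 1 = t * z := by rw [mul_one]; exact h
        exact hz1 (mul_left_cancel this).symm
      · have : t * 1 = t * v := by rw [mul_one]; exact h
        exact hv1 (mul_left_cancel this).symm
      · have : t * 1 = t * (z * v) := by rw [mul_one]; exact h
        exact hzv1 (mul_left_cancel this).symm
    rw [Set.ncard_insert_of_notMem e3, Set.ncard_insert_of_notMem e2, Set.ncard_pair e1]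
  have hB : 4 ≤ Set.ncard {y' : G | (∃ g : G, y' = g * t * g⁻¹) ∧ y' * z = z * y'} := by
    rw [← h4]
    exact Set.ncard_le_ncard hsub (Set.toFinite _)
  have hA : Set.ncard {x' : G | (∃ g : G, x' = g * z * g⁻¹) ∧ x' * t = t * x'} ≤ 9 := by
    refine le_trans (Set.ncard_le_ncard ?_ (Set.toFinite _)) (invol_CM_le L M hM2 htM)
    rintro y ⟨⟨g, rfl⟩, hyt⟩
    refine ⟨Subgroup.mem_centralizer_singleton_iff.mpr hyt, ?_, ?_⟩
    · exact ‹M.Normal›.conj_mem z hzM g
    · rw [orderOf_conj_eq]; exact L.hz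
  have hpc := pair_count z t
  rw [card_class_z T L hcard, card_class_t T L hcard] at hpc
  omega

/-- Case B: `s = τ` or `s = t τ` is conjugate to `t`. -/
theorem caseB (T : Sylow 2 G) (L : Loc t z v τ (T : Subgroup G))
    (M : Subgroup G) [M.Normal] (hM2 : M.index = 2) (htM : t ∉ M) (hcard : Nat.card G = 336)
    (s : G) (hs : s = τ ∨ s = t * τ) (hsc : ∃ g : G, s = g * t * g⁻¹) : False := by
  have hK : Set.ncard {y : G | ∃ c ∈ Subgroup.centralizer ({t} : Set G), y = c * s * c⁻¹} = 6 := by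
    rcases hs with rfl | rfl
    · exact L.class_τ
    · exact L.class_tτ
  have hsC : s ∈ Subgroup.centralizer ({t} : Set G) := by
    rcases hs with rfl | rfl
    · exact L.T_le L.τT
    · exact L.T_le ((T : Subgroup G).mul_mem L.tT L.τT)
  have hst : s ≠ t := by
    rcases hs with rfl | rfl
    · exact τ_ne_t L
    · intro h
      have : t * τ = t * 1 := by rw [mul_one]; exact h
      exact ne_one_of_two L.hτ (mul_left_cancel this)
  have htK : t ∉ {y : G | ∃ c ∈ Subgroup.centralizer ({t} : Set G), y = c * s * c⁻¹} := by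
    rintro ⟨c, hc, h⟩
    apply hst
    have hct : c * t = t * c := Subgroup.mem_centralizer_singleton_iff.mp hc
    have : s = c⁻¹ * t * c := by rw [h]; group
    rw [this, mul_assoc, ← hct, ← mul_assoc, inv_mul_cancel, one_mul]
  have hsub : insert t {y : G | ∃ c ∈ Subgroup.centralizer ({t} : Set G), y = c * s * c⁻¹} ⊆
      {x' : G | ∃ g : G, x' = g * t * g⁻¹} := by
    intro y hy
    rcases hy with rfl | ⟨c, -, rfl⟩
    · exact ⟨1, by group⟩
    · exact conj_mem_class hsc c
  have h7 : Set.ncard (insert t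
      {y : G | ∃ c ∈ Subgroup.centralizer ({t} : Set G), y = c * s * c⁻¹}) = 7 := by
    rw [Set.ncard_insert_of_notMem htK (Set.toFinite _), hK]
  have heq := Set.eq_of_subset_of_ncard_le hsub
    (by rw [h7, card_class_t T L hcard]) (Set.toFinite _)
  have hall : ∀ g : G, g * t * g⁻¹ ∈ Subgroup.centralizer ({t} : Set G) := by
    intro g
    have hmem : g * t * g⁻¹ ∈ {x' : G | ∃ g : G, x' = g * t * g⁻¹} := ⟨g, rfl⟩
    rw [← heq] at hmem
    rcases hmem with h | ⟨c, hc, h⟩
    · rw [h]; exact L.T_le L.tT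
    · rw [h]
      exact Subgroup.mul_mem _ (Subgroup.mul_mem _ hc hsC) (Subgroup.inv_mem _ hc)
  have hcore : t ∈ (Subgroup.centralizer ({t} : Set G)).normalCore := hall
  rw [normalCore_eq_bot T L M hM2 htM (by rw [hcard]; norm_num), Subgroup.mem_bot] at hcore
  exact ne_one_of_two L.ht hcore

end

end O4B

open O4B in
theorem o4b [Finite G] {t z v τ : G} (T : Sylow 2 G) (L : Loc t z v τ (T : Subgroup G))
    (M : Subgroup G) [M.Normal] (hM2 : M.index = 2) (htM : t ∉ M) (hcard : Nat.card G = 336)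
    (x : G) (hxT : x ∈ (T : Subgroup G)) (hxt : x ≠ t) (hx : ∃ g : G, x = g * t * g⁻¹) :
    False := by
  have hx2 : orderOf x = 2 := by
    obtain ⟨g, hg⟩ := hx
    rw [hg, orderOf_conj_eq]; exact L.ht
  obtain ⟨hzM, hvM, hzvM, -⟩ := mem_M L M hM2 htM
  have hxM : x ∉ M := by
    intro h
    apply htM
    obtain ⟨g, hg⟩ := hx
    have h1 := ‹M.Normal›.conj_mem x h g⁻¹
    have h2 : g⁻¹ * x * g⁻¹⁻¹ = t := by rw [hg]; group
    rwa [h2] at h1
  rcases L.invol_T x hxT hx2 with h | h | h | h | h | h | h | h | h | h | h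
  · exact hxt h
  · exact hxM (h ▸ hzM)
  · exact hxM (h ▸ hvM)
  · exact hxM (h ▸ hzvM)
  · -- x = t z
    exact caseA T L M hM2 htM hcard (h ▸ hx)
  · -- x = t v
    obtain ⟨c1, hc1, hv⟩ := L.v_conj
    have h1 := conj_mem_class (h ▸ hx : ∃ g : G, t * v = g * t * g⁻¹) c1⁻¹
    rw [conj_t_mul (Subgroup.inv_mem _ hc1)] at h1
    have h2 : c1⁻¹ * v * c1⁻¹⁻¹ = z := by rw [hv]; group
    rw [h2] at h1
    exact caseA T L M hM2 htM hcard h1
  · -- x = t (z v)
    obtain ⟨c2, hc2, hzv⟩ := L.zv_conj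
    have h1 := conj_mem_class (h ▸ hx : ∃ g : G, t * (z * v) = g * t * g⁻¹) c2⁻¹
    rw [conj_t_mul (Subgroup.inv_mem _ hc2)] at h1
    have h2 : c2⁻¹ * (z * v) * c2⁻¹⁻¹ = z := by rw [hzv]; group
    rw [h2] at h1
    exact caseA T L M hM2 htM hcard h1
  · -- x = τ
    exact caseB T L M hM2 htM hcard τ (Or.inl rfl) (h ▸ hx)
  · -- x = τ z = v τ v⁻¹
    have h1 := conj_mem_class (h ▸ hx : ∃ g : G, τ * z = g * t * g⁻¹) v⁻¹
    have h2 : v⁻¹ * (τ * z) * v⁻¹⁻¹ = τ := by rw [← v_conj_τ L]; group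
    rw [h2] at h1
    exact caseB T L M hM2 htM hcard τ (Or.inl rfl) h1
  · -- x = t τ
    exact caseB T L M hM2 htM hcard (t * τ) (Or.inr rfl) (h ▸ hx)
  · -- x = t (τ z)
    have h1 := conj_mem_class (h ▸ hx : ∃ g : G, t * (τ * z) = g * t * g⁻¹) v⁻¹
    rw [conj_t_mul (Subgroup.inv_mem _ (L.T_le L.vT))] at h1
    have h2 : v⁻¹ * (τ * z) * v⁻¹⁻¹ = τ := by rw [← v_conj_τ L]; group
    rw [h2] at h1
    exact caseB T L M hM2 htM hcard (t * τ) (Or.inr rfl) h1

end Cfsg.Agent.Helper23.ZS4
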