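import Mathlib

/-!
# S3282 piece DUAL: orthogonality relations for the homomorphisms `A →* ℂˣ` of a finite group
-/

set_option autoImplicit false

namespace Cfsg.Agent.Helper3.BSW

open scoped ComplexConjugate

universe u

namespace DUAL

variable {A : Type u} [Group A] [Fintype A]

/-- The value of a homomorphism into `ℂˣ` at an element of a finite group has norm one. -/
theorem norm_hom (μ : A →* ℂˣ) (x : A) : ‖((μ x : ℂˣ) : ℂ)‖ = 1 := by
  have h1 : ((μ x : ℂˣ) : ℂ) ^ orderOf x = 1 := by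
    rw [← Units.val_pow_eq_pow_val, ← map_pow, pow_orderOf_eq_one, map_one, Units.val_one]
  exact Complex.norm_eq_one_of_pow_eq_one h1 (orderOf_pos x).ne'

/-- The composite of a homomorphism into `ℂˣ` with the coercion to `ℂ`. -/
noncomputable def toC (μ : A →* ℂˣ) : A →* ℂ := (Units.coeHom ℂ).comp μ

theorem toC_apply (μ : A →* ℂˣ) (x : A) : toC μ x = ((μ x : ℂˣ) : ℂ) := rfl

theorem toC_eq_one_iff (μ : A →* ℂˣ) : toC μ = 1 ↔ μ = 1 := by
  constructor
  · intro h
    ext x
    have := DFunLike.congr_fun h x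
    simpa [toC_apply] using this
  · rintro rfl
    ext x
    simp [toC_apply]

end DUAL

section Dual

variable {A : Type u} [Group A] [Fintype A]

/-- PIECE DUAL. `μ(x)` is a root of unity. -/
theorem hom_conj (μ : A →* ℂˣ) (x : A) :
    conj ((μ x : ℂˣ) : ℂ) = ((μ x⁻¹ : ℂˣ) : ℂ) := by
  rw [map_inv, Units.val_inv_eq_inv_val]
  exact (Complex.inv_eq_conj (DUAL.norm_hom μ x)).symm

/-- PIECE DUAL. First orthogonality for homs. -/
theorem hom_orth [DecidableEq (A →* ℂˣ)] (μ ν : A →* ℂˣ) :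
    ∑ x : A, ((μ x : ℂˣ) : ℂ) * conj ((ν x : ℂˣ) : ℂ) = if μ = ν then (Nat.card A : ℂ) else 0 := by
  classical
  have h1 : ∀ x : A, ((μ x : ℂˣ) : ℂ) * conj ((ν x : ℂˣ) : ℂ) = DUAL.toC (μ * ν⁻¹) x := by
    intro x
    rw [hom_conj, DUAL.toC_apply, MonoidHom.mul_apply, MonoidHom.inv_apply, Units.val_mul, map_inv]
  rw [Finset.sum_congr rfl (fun x _ => h1 x), sum_hom_units, Nat.card_eq_fintype_card]
  have hiff : DUAL.toC (μ * ν⁻¹) = 1 ↔ μ = ν := by
    rw [DUAL.toC_eq_one_iff]
    constructor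
    · intro h
      ext x
      have h2 := DFunLike.congr_fun h x
      rw [MonoidHom.mul_apply, MonoidHom.inv_apply, MonoidHom.one_apply] at h2
      rw [mul_inv_eq_one.1 h2]
    · rintro rfl
      ext x
      rw [MonoidHom.mul_apply, MonoidHom.inv_apply, MonoidHom.one_apply, mul_inv_cancel]
  by_cases h : μ = ν
  · rw [if_pos (hiff.2 h), if_pos h]
  · rw [if_neg (fun h' => h (hiff.1 h')), if_neg h, Nat.cast_zero]

/-- PIECE DUAL. Second orthogonality for an abelian group. -/
theorem dual_orth (hA : ∀ a b : A, a * b = b * a) [Fintype (A →* ℂˣ)] [DecidableEq A] (x y : A) :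
    ∑ μ : A →* ℂˣ, ((μ x : ℂˣ) : ℂ) * conj ((μ y : ℂˣ) : ℂ) =
      if x = y then (Nat.card A : ℂ) else 0 := by
  classical
  let _ : CommGroup A := { (inferInstance : Group A) with mul_comm := hA }
  -- evaluation at `x * y⁻¹`
  let ev : (A →* ℂˣ) →* ℂ :=
    { toFun := fun μ => ((μ (x * y⁻¹) : ℂˣ) : ℂ)
      map_one' := by simp
      map_mul' := fun μ ν => by simp }
  have h1 : ∀ μ : A →* ℂˣ, ((μ x : ℂˣ) : ℂ) * conj ((μ y : ℂˣ) : ℂ) = ev μ := by
    intro μ
    rw [hom_conj]
    show _ = ((μ (x * y⁻¹) : ℂˣ) : ℂ)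
    rw [map_mul, Units.val_mul]
  rw [Finset.sum_congr rfl (fun μ _ => h1 μ), sum_hom_units]
  have hcard : Fintype.card (A →* ℂˣ) = Nat.card A := by
    rw [← Nat.card_eq_fintype_card]
    have : HasEnoughRootsOfUnity ℂ (Monoid.exponent A) := inferInstance
    exact CommGroup.card_monoidHom_of_hasEnoughRootsOfUnity A ℂ
  have hev : ev = 1 ↔ x = y := by
    constructor
    · intro h
      by_contra hxy
      have hne : x * y⁻¹ ≠ 1 := by
        intro h2
        exact hxy (mul_inv_eq_one.1 h2)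
      have : HasEnoughRootsOfUnity ℂ (Monoid.exponent A) := inferInstance
      obtain ⟨φ, hφ⟩ := CommGroup.exists_apply_ne_one_of_hasEnoughRootsOfUnity A ℂ hne
      have := DFunLike.congr_fun h φ
      apply hφ
      have h3 : ((φ (x * y⁻¹) : ℂˣ) : ℂ) = 1 := this
      exact Units.ext h3
    · rintro rfl
      ext μ
      show ((μ (x * x⁻¹) : ℂˣ) : ℂ) = 1
      simp
  by_cases hxy : x = y
  · rw [if_pos (hev.2 hxy), if_pos hxy, hcard]
  · rw [if_neg (fun h => hxy (hev.1 h)), if_neg hxy, Nat.cast_zero]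

end Dual

end Cfsg.Agent.Helper3.BSW
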