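import Mathlib
import Cfsg.Agent.Lib.Helper26.TIDefs2

/-!
PIECE TI-LOCC2A of S1786 (owner helper26): a finite `p`-group all of whose characteristic abelian
subgroups are central has class at most two.
-/

set_option autoImplicit false

namespace Cfsg.Agent.Helper26.TI

open scoped commutatorElement

/-- TI-LOCC2a (pure p-group theory): if every characteristic abelian subgroup is central, the class is `≤ 2`. -/
theorem class_two_of_char_abelian_le_center {P : Type*} [Group P] [Finite P] {p : ℕ} [Fact p.Prime]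
    (hP : IsPGroup p P)
    (h : ∀ A : Subgroup P, A.Characteristic → IsMulCommutative ↥A → A ≤ Subgroup.center P) :
    commutator P ≤ Subgroup.center P := by
  -- `[Z₂, P] ≤ Z`
  have h1 : ⁅Subgroup.upperCentralSeries P 2, (⊤ : Subgroup P)⁆ ≤ Subgroup.center P := by
    rw [Subgroup.commutator_le]
    intro x hx y _
    have := (Subgroup.mem_upperCentralSeries_succ_iff (n := 1)).1 hx y
    rwa [Subgroup.upperCentralSeries_one] at this
  have h2 : ⁅Subgroup.center P, (⊤ : Subgroup P)⁆ = ⊥ := by
    rw [Subgroup.commutator_eq_bot_iff_le_centralizer]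
    intro x hx
    rw [Subgroup.mem_centralizer_iff]
    intro y _
    exact Subgroup.mem_center_iff.1 hx y
  have h3 : ⁅⁅Subgroup.upperCentralSeries P 2, (⊤ : Subgroup P)⁆, (⊤ : Subgroup P)⁆ = ⊥ := by
    rw [eq_bot_iff, ← h2]
    exact Subgroup.commutator_mono h1 le_rfl
  have h4 : ⁅⁅(⊤ : Subgroup P), Subgroup.upperCentralSeries P 2⁆, (⊤ : Subgroup P)⁆ = ⊥ := by
    rw [Subgroup.commutator_comm (⊤ : Subgroup P)]
    exact h3
  -- three subgroups lemma: `[[P,P], Z₂] = 1`
  have h5 : ⁅⁅(⊤ : Subgroup P), (⊤ : Subgroup P)⁆, Subgroup.upperCentralSeries P 2⁆ = ⊥ :=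
    Subgroup.commutator_commutator_eq_bot_of_rotate h4 h3
  -- `A₀ = [P,P] ∩ Z₂` is abelian and characteristic, hence central
  have hA0 : commutator P ⊓ Subgroup.upperCentralSeries P 2 ≤ Subgroup.center P := by
    refine h _ inferInstance ⟨⟨fun a b => Subtype.ext ?_⟩⟩
    have hmem : ⁅(a : P), (b : P)⁆ ∈
        ⁅⁅(⊤ : Subgroup P), (⊤ : Subgroup P)⁆, Subgroup.upperCentralSeries P 2⁆ :=
      Subgroup.commutator_mem_commutator (Subgroup.mem_inf.1 a.2).1 (Subgroup.mem_inf.1 b.2).2
    rw [h5, Subgroup.mem_bot] at hmem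
    exact commutatorElement_eq_one_iff_mul_comm.1 hmem
  -- induction along the upper central series
  have hind : ∀ k : ℕ, commutator P ⊓ Subgroup.upperCentralSeries P (k + 1) ≤ Subgroup.center P := by
    intro k
    induction k with
    | zero =>
      rw [zero_add, Subgroup.upperCentralSeries_one]
      exact inf_le_right
    | succ k ih =>
      intro x hx
      obtain ⟨hxD, hxk⟩ := Subgroup.mem_inf.1 hx
      apply hA0
      refine Subgroup.mem_inf.2 ⟨hxD, ?_⟩
      rw [show (2 : ℕ) = 1 + 1 from rfl, Subgroup.mem_upperCentralSeries_succ_iff]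
      intro y
      rw [Subgroup.upperCentralSeries_one]
      apply ih
      refine Subgroup.mem_inf.2 ⟨?_, ?_⟩
      · exact Subgroup.commutator_mem_commutator (Subgroup.mem_top x) (Subgroup.mem_top y)
      · exact (Subgroup.mem_upperCentralSeries_succ_iff (n := k + 1)).1 hxk y
  obtain ⟨n, hn⟩ := (hP.isNilpotent).nilpotent
  have htop : Subgroup.upperCentralSeries P (n + 1) = ⊤ := by
    rw [eq_top_iff, ← hn]
    exact Subgroup.upperCentralSeries_mono P (Nat.le_succ n)
  have := hind n
  rwa [htop, inf_top_eq] at this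

end Cfsg.Agent.Helper26.TI
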