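import Mathlib
import Cfsg.Agent.Lib.Helper26.CG3Defs

/-!
Piece CG3-G7C (S3412): in a group of order `5616` there is no involution `j ≠ t` commuting with the
involution `t` whose centralizer is abelian of order `8`, all of its elements other than `1`, `t`
having centralizers of order `8`.
-/

set_option autoImplicit false

namespace Cfsg.Agent.Helper26.CG3

universe u

/-- The counting argument: an abelian group of order `8` with four elements of square `1` has no
involutory automorphism with at most two fixed points. -/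
theorem g7c_abs {A : Type u} [Group A] [Finite A] (hcomm : ∀ a b : A, a * b = b * a)
    (hA : Nat.card A = 8) (α : A →* A) (hα : ∀ a, α (α a) = a) (t : A)
    (hfix : ∀ a, α a = a → a = 1 ∨ a = t) (x y z : A) (hx1 : x ≠ 1) (hy1 : y ≠ 1) (hz1 : z ≠ 1)
    (hxy : x ≠ y) (hxz : x ≠ z) (hyz : y ≠ z) (hxx : x * x = 1) (hyy : y * y = 1)
    (hzz : z * z = 1) : False := by
  classical
  -- the elements of square one
  let Ω : Subgroup A :=
    { carrier := {a | a * a = 1}
      mul_mem' := by
        intro a b ha hb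
        show a * b * (a * b) = 1
        have e : a * b * (a * b) = (a * a) * (b * b) := by
          rw [mul_assoc, ← mul_assoc b, hcomm b a, mul_assoc, ← mul_assoc]
        rw [e, ha, hb, one_mul]
      one_mem' := one_mul 1
      inv_mem' := by
        intro a ha
        show a⁻¹ * a⁻¹ = 1
        rw [← mul_inv_rev, ha, inv_one] }
  have hΩ : ∀ a : A, a ∈ Ω ↔ a * a = 1 := fun a => Iff.rfl
  have hΩcard : 4 ≤ Nat.card Ω := by
    have hfin : Fintype ↥Ω := Fintype.ofFinite _
    have h4 : ({⟨1, Ω.one_mem⟩, ⟨x, hxx⟩, ⟨y, hyy⟩, ⟨z, hzz⟩} : Finset ↥Ω).card = 4 := by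
      rw [Finset.card_insert_of_notMem, Finset.card_insert_of_notMem,
        Finset.card_insert_of_notMem, Finset.card_singleton]
      · simp only [Finset.mem_singleton, Subtype.mk.injEq]
        exact hyz
      · simp only [Finset.mem_insert, Finset.mem_singleton, Subtype.mk.injEq, not_or]
        exact ⟨hxy, hxz⟩
      · simp only [Finset.mem_insert, Finset.mem_singleton, Subtype.mk.injEq, not_or]
        exact ⟨hx1.symm, hy1.symm, hz1.symm⟩
    rw [Nat.card_eq_fintype_card, ← h4]
    exact Finset.card_le_univ _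
  have hΩidx : Ω.index = 1 ∨ Ω.index = 2 := by
    have h := Ω.card_mul_index
    rw [hA] at h
    have h0 : Ω.index ≠ 0 := Subgroup.index_ne_zero_of_finite
    have hle : Nat.card Ω * Ω.index ≤ 8 := h.le
    have h2 : 4 * Ω.index ≤ 8 := le_trans (Nat.mul_le_mul_right _ hΩcard) hle
    omega
  -- squares are fixed
  have hαΩ : ∀ a, a ∈ Ω ↔ α a ∈ Ω := by
    intro a
    rw [hΩ, hΩ, ← map_mul]
    constructor
    · intro h
      rw [h, map_one]
    · intro h
      have h2 := congrArg α h
      rw [hα, map_one] at h2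
      exact h2
  have hsq : ∀ a, α a * α a = a * a := by
    intro a
    have hmem : α a * a⁻¹ ∈ Ω := by
      rcases hΩidx with h1 | h2
      · rw [Subgroup.index_eq_one.mp h1]
        exact Subgroup.mem_top _
      · rw [Subgroup.mul_mem_iff_of_index_two h2, inv_mem_iff]
        exact (hαΩ a).symm
    rw [hΩ] at hmem
    have e : α a * a⁻¹ * (α a * a⁻¹) = (α a * α a) * (a * a)⁻¹ := by
      rw [mul_inv_rev, mul_assoc, ← mul_assoc a⁻¹, hcomm a⁻¹ (α a), mul_assoc, ← mul_assoc]
    rw [e] at hmem
    exact mul_inv_eq_one.mp hmem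
  -- the fixed points
  let Fx : Subgroup A :=
    { carrier := {a | α a = a}
      mul_mem' := by
        intro a b ha hb
        show α (a * b) = a * b
        rw [map_mul, ha, hb]
      one_mem' := map_one α
      inv_mem' := by
        intro a ha
        show α a⁻¹ = a⁻¹
        rw [map_inv, ha] }
  have hFx : ∀ a : A, a ∈ Fx ↔ α a = a := fun a => Iff.rfl
  have hFxcard : Nat.card Fx ≤ 2 := by
    have hsub : (Fx : Set A) ⊆ {1, t} := by
      intro a ha
      rcases hfix a ha with h | h
      · exact Or.inl h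
      · exact Or.inr h
    have h1 : Nat.card Fx = (Fx : Set A).ncard := rfl
    rw [h1]
    calc (Fx : Set A).ncard ≤ ({1, t} : Set A).ncard := Set.ncard_le_ncard hsub (Set.toFinite _)
      _ ≤ ({t} : Set A).ncard + 1 := Set.ncard_insert_le 1 {t}
      _ = 2 := by rw [Set.ncard_singleton]
  -- the commutator map
  let φ : A →* A := MonoidHom.mk' (fun a => α a * a⁻¹) (by
    intro a b
    show α (a * b) * (a * b)⁻¹ = α a * a⁻¹ * (α b * b⁻¹)
    rw [map_mul, mul_inv_rev, mul_assoc, mul_assoc, ← mul_assoc (α b), hcomm (α b * b⁻¹) a⁻¹])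
  have hφ : ∀ a, φ a = α a * a⁻¹ := fun a => rfl
  have hker : φ.ker ≤ Fx := by
    intro a ha
    rw [MonoidHom.mem_ker, hφ] at ha
    rw [hFx]
    exact mul_inv_eq_one.mp ha
  have hrange : φ.range ≤ Fx := by
    rintro _ ⟨a, rfl⟩
    rw [hFx, hφ, map_mul, map_inv, hα]
    -- a * (α a)⁻¹ = α a * a⁻¹
    have h := hsq a
    rw [mul_inv_eq_iff_eq_mul, mul_assoc, hcomm a⁻¹, ← mul_assoc, h, mul_inv_cancel_right]
  have h1 : Nat.card φ.ker * Nat.card φ.range = 8 := by
    rw [← Subgroup.index_ker, Subgroup.card_mul_index, hA]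
  have h2 : Nat.card φ.ker ≤ 2 := le_trans (Subgroup.card_le_of_le hker) hFxcard
  have h3 : Nat.card φ.range ≤ 2 := le_trans (Subgroup.card_le_of_le hrange) hFxcard
  have h4 : Nat.card φ.ker * Nat.card φ.range ≤ 2 * 2 := Nat.mul_le_mul h2 h3
  omega

section G

variable {H : Type u} [Group H] [Finite H] {t : H}

/-- G7c (generic) -/
theorem no_invol_cc8 (hcard : Nat.card H = 5616) (t j : H) (ht : orderOf t = 2) (hj : orderOf j = 2)
    (hne : j ≠ t) (htj : t * j = j * t) (hc : cc j = 8)
    (hab : ∀ h k : H, j * h = h * j → j * k = k * j → h * k = k * h)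
    (hval : ∀ h : H, j * h = h * j → h ≠ 1 → h ≠ t → cc h = 8) : False := by
  classical
  have hp2 : Fact (Nat.Prime 2) := ⟨Nat.prime_two⟩
  have htt : t * t = 1 := by
    have h := pow_orderOf_eq_one t
    rwa [ht, pow_two] at h
  have hjj : j * j = 1 := by
    have h := pow_orderOf_eq_one j
    rwa [hj, pow_two] at h
  have ht1 : t ≠ 1 := by
    intro h
    rw [h, orderOf_one] at ht
    norm_num at ht
  have hj1 : j ≠ 1 := by
    intro h
    rw [h, orderOf_one] at hj
    norm_num at hj
  have hmemA : ∀ a : H, a ∈ Subgroup.centralizer ({j} : Set H) ↔ j * a = a * j := by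
    intro a
    rw [Subgroup.mem_centralizer_singleton_iff]
    exact eq_comm
  have hAcard : Nat.card ↥(Subgroup.centralizer ({j} : Set H)) = 8 := hc
  have hAp : IsPGroup 2 ↥(Subgroup.centralizer ({j} : Set H)) :=
    IsPGroup.of_card (n := 3) (by rw [hAcard]; norm_num)
  obtain ⟨P, hAP⟩ := hAp.exists_le_sylow
  -- the order of the Sylow subgroup
  have hPcard : Nat.card ↥(P : Subgroup H) = 16 := by
    obtain ⟨k, hk⟩ := IsPGroup.iff_card.mp P.isPGroup'
    have h1 := (P : Subgroup H).card_mul_index
    have h2 : ¬ 2 ∣ (P : Subgroup H).index := P.not_dvd_index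
    rw [hk, hcard] at h1
    rw [hk]
    have hk13 : k < 13 := by
      by_contra hcon
      rw [not_lt] at hcon
      have h3 : 2 ^ 13 ≤ 2 ^ k := Nat.pow_le_pow_right (by norm_num) hcon
      have h4 : (P : Subgroup H).index ≠ 0 := Subgroup.index_ne_zero_of_finite
      have h5 : 2 ^ k * 1 ≤ 2 ^ k * (P : Subgroup H).index :=
        Nat.mul_le_mul_left _ (Nat.one_le_iff_ne_zero.mpr h4)
      omega
    interval_cases k <;> omega
  -- an element outside
  obtain ⟨g, hgP, hgA⟩ : ∃ g : H, g ∈ (P : Subgroup H) ∧ g ∉ Subgroup.centralizer ({j} : Set H) := by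
    by_contra hcon
    push Not at hcon
    have h1 : (P : Subgroup H) ≤ Subgroup.centralizer ({j} : Set H) := fun g hg => hcon g hg
    have h2 := Subgroup.card_le_of_le h1
    omega
  -- index two
  have hidx : ((Subgroup.centralizer ({j} : Set H)).subgroupOf (P : Subgroup H)).index = 2 := by
    have h1 := ((Subgroup.centralizer ({j} : Set H)).subgroupOf (P : Subgroup H)).card_mul_index
    rw [Nat.card_congr (Subgroup.subgroupOfEquivOfLe hAP).toEquiv, hAcard, hPcard] at h1
    omega
  have hnormal := Subgroup.normal_of_index_eq_two hidx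
  have hconjA : ∀ a : H, a ∈ Subgroup.centralizer ({j} : Set H) →
      g * a * g⁻¹ ∈ Subgroup.centralizer ({j} : Set H) := by
    intro a ha
    have h1 : (⟨a, hAP ha⟩ : ↥(P : Subgroup H)) ∈
        (Subgroup.centralizer ({j} : Set H)).subgroupOf (P : Subgroup H) :=
      Subgroup.mem_subgroupOf.mpr ha
    have h2 := hnormal.conj_mem _ h1 ⟨g, hgP⟩
    exact Subgroup.mem_subgroupOf.mp h2
  have hsqA : g * g ∈ Subgroup.centralizer ({j} : Set H) := by
    have h1 := Subgroup.sq_mem_of_index_two hidx (⟨g, hgP⟩ : ↥(P : Subgroup H))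
    have h2 := Subgroup.mem_subgroupOf.mp h1
    rw [pow_two] at h2
    exact h2
  have hcommA : ∀ a b : H, a ∈ Subgroup.centralizer ({j} : Set H) →
      b ∈ Subgroup.centralizer ({j} : Set H) → a * b = b * a := by
    intro a b ha hb
    exact hab a b ((hmemA a).mp ha) ((hmemA b).mp hb)
  -- the automorphism
  let α : ↥(Subgroup.centralizer ({j} : Set H)) →* ↥(Subgroup.centralizer ({j} : Set H)) :=
    MonoidHom.mk' (fun a => ⟨g * a * g⁻¹, hconjA a a.2⟩) (by
      intro a b
      apply Subtype.ext
      show g * (a * b : H) * g⁻¹ = g * a * g⁻¹ * (g * b * g⁻¹)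
      group)
  have hαval : ∀ a : ↥(Subgroup.centralizer ({j} : Set H)), ((α a : ↥(Subgroup.centralizer ({j} : Set H))) : H) = g * a * g⁻¹ :=
    fun a => rfl
  have htA : t ∈ Subgroup.centralizer ({j} : Set H) := (hmemA t).mpr htj.symm
  have hjA : j ∈ Subgroup.centralizer ({j} : Set H) := (hmemA j).mpr rfl
  have htjA : t * j ∈ Subgroup.centralizer ({j} : Set H) := Subgroup.mul_mem _ htA hjA
  apply g7c_abs (A := ↥(Subgroup.centralizer ({j} : Set H)))
    (fun a b => Subtype.ext (hcommA a b a.2 b.2)) hAcard α ?_ ⟨t, htA⟩ ?_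
    ⟨t, htA⟩ ⟨j, hjA⟩ ⟨t * j, htjA⟩
  · intro h; exact ht1 (congrArg Subtype.val h)
  · intro h; exact hj1 (congrArg Subtype.val h)
  · intro h
    have h1 : t * j = 1 := congrArg Subtype.val h
    have h2 : t = j := by
      have h3 : t * j = j * j := by rw [h1, hjj]
      exact mul_right_cancel h3
    exact hne h2.symm
  · intro h; exact hne (congrArg Subtype.val h).symm
  · intro h
    have h1 : t = t * j := congrArg Subtype.val h
    apply hj1
    have h3 : t * 1 = t * j := by rw [mul_one]; exact h1
    exact (mul_left_cancel h3).symm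
  · intro h
    have h1 : j = t * j := congrArg Subtype.val h
    apply ht1
    have h3 : 1 * j = t * j := by rw [one_mul]; exact h1
    exact (mul_right_cancel h3).symm
  · exact Subtype.ext htt
  · exact Subtype.ext hjj
  · apply Subtype.ext
    show t * j * (t * j) = 1
    rw [mul_assoc, ← mul_assoc j, ← htj, mul_assoc, hjj, mul_one, htt]
  · -- involutive
    intro a
    apply Subtype.ext
    rw [hαval, hαval]
    have h1 : g * (g * (a : H) * g⁻¹) * g⁻¹ = (g * g) * (a : H) * (g * g)⁻¹ := by group
    rw [h1, hcommA _ _ hsqA a.2, mul_assoc, mul_inv_cancel, mul_one]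
  · -- fixed points
    intro a ha
    by_contra hcon
    rw [not_or] at hcon
    have ha1 : (a : H) ≠ 1 := fun h => hcon.1 (Subtype.ext h)
    have hat : (a : H) ≠ t := fun h => hcon.2 (Subtype.ext h)
    have hcca : cc (a : H) = 8 := hval a ((hmemA a).mp a.2) ha1 hat
    have hle : Subgroup.centralizer ({j} : Set H) ≤ Subgroup.centralizer ({(a : H)} : Set H) := by
      intro b hb
      rw [Subgroup.mem_centralizer_singleton_iff]
      exact hcommA b a hb a.2
    have heq : Subgroup.centralizer ({j} : Set H) = Subgroup.centralizer ({(a : H)} : Set H) := by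
      apply Subgroup.eq_of_le_of_card_ge hle
      rw [hAcard]
      exact hcca.le
    apply hgA
    rw [heq, Subgroup.mem_centralizer_singleton_iff]
    have h1 : g * (a : H) * g⁻¹ = a := by
      have h2 := congrArg Subtype.val ha
      rw [hαval] at h2
      exact h2
    calc g * (a : H) = g * (a : H) * g⁻¹ * g := by group
      _ = (a : H) * g := by rw [h1]

end G

end Cfsg.Agent.Helper26.CG3
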