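import Mathlib
import Cfsg.Agent.Lib.Helper2.CardSL

/-!
# S2916 part (D) piece CARD (helper9 for helper27): `|PSL(3, 3)| = 5616`.
-/

set_option autoImplicit false

namespace Cfsg.Agent.Helper27.P13

theorem card_PSL33 : Nat.card (Matrix.ProjectiveSpecialLinearGroup (Fin 3) (ZMod 3)) = 5616 := by
  have : Fact (Nat.Prime 3) := ⟨by norm_num⟩
  have h := Cfsg.Agent.Helper2.card_PSL_mul (F := ZMod 3) 3 (by norm_num)
  rw [ZMod.card, Fin.prod_univ_three] at h
  norm_num [-Nat.card_eq_fintype_card] at h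
  omega

end Cfsg.Agent.Helper27.P13
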