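import Mathlib
import Cfsg.Agent.Lib.Helper26.L33Defs
import Cfsg.Agent.Lib.Helper15.GL23GLA
import Cfsg.Agent.Lib.Helper15.GL23GLB

/-!
# S2916 piece HF1 (helper9 for helper26): the extra facts `HFacts` for `GL(2,3)`.
-/

set_option autoImplicit false

namespace Cfsg.Agent.Helper26.L33

open Cfsg Cfsg.Agent.Helper15.GL23 Cfsg.Agent.Helper15.GL23.GLA Cfsg.Agent.Helper15.GL23.GLB

set_option maxRecDepth 100000 in
theorem hf1_odd_dec : ∀ A : M3, dt A ≠ 0 → A ≠ 1 → A * A * A = 1 →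
    ∃ H : M3, dt H ≠ 0 ∧ H * A ≠ A * H ∧ H * A ≠ A * A * H := by
  decide +kernel

set_option maxRecDepth 100000 in
theorem hf1_conj_dec : ∀ A : M3, dt A ≠ 0 → A ≠ 1 → A * A * A = 1 →
    ∃ C : M3, dt C ≠ 0 ∧ C * U0 = A * C := by
  decide +kernel

set_option maxRecDepth 100000 in
theorem hf1_cent_dec : Fintype.card {A : M3 // dt A ≠ 0 ∧ A * U0 = U0 * A} = 6 := by decide +kernel

set_option maxRecDepth 100000 in
theorem hf1_gen_dec : ∀ A : M3, dt A ≠ 0 →
    ∃ X Y : M3, dt X ≠ 0 ∧ dt Y ≠ 0 ∧ X * X = 1 ∧ Y * Y = 1 ∧ (Y * X * A) * (Y * X * A) = 1 := by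
  decide +kernel

theorem hf1_orderOf_three_iff (x : G3) :
    orderOf x = 3 ↔ (x : M3) * (x : M3) * (x : M3) = 1 ∧ (x : M3) ≠ 1 := by
  have : Fact (Nat.Prime 3) := ⟨Nat.prime_three⟩
  rw [orderOf_eq_prime_iff, pow_succ, pow_two, eq_iff, Ne, eq_iff, Units.val_mul, Units.val_mul,
    Units.val_one]

theorem hf1_dU0inv : dt (!![1, 2; 0, 1] : M3) ≠ 0 := by decide

theorem hf1_u_inv : (mk U0 dU0)⁻¹ = mk !![1, 2; 0, 1] hf1_dU0inv := by
  apply inv_eq_of_mul_eq_one_right
  rw [eq_iff, Units.val_mul, coe_mk, coe_mk, Units.val_one]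
  decide +kernel

/-- elements with `g * g = 1` lie in the subgroup generated by the involutions -/
theorem hf1_mem_closure (g : G3) (h : (g : M3) * (g : M3) = 1) :
    g ∈ Subgroup.closure {x : G3 | orderOf x = 2} := by
  by_cases h1 : g = 1
  · rw [h1]; exact Subgroup.one_mem _
  · apply Subgroup.subset_closure
    show orderOf g = 2
    rw [orderOf_two_iff]
    refine ⟨h, ?_⟩
    intro h2
    apply h1
    rw [eq_iff, Units.val_one]
    exact h2

theorem hf1_index_two : ∃ M : Subgroup G3, M.Normal ∧ M.index = 2 := by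
  refine ⟨(Matrix.GeneralLinearGroup.det : G3 →* (ZMod 3)ˣ).ker, MonoidHom.normal_ker _, ?_⟩
  rw [Subgroup.index_ker, MonoidHom.range_eq_top.mpr Matrix.GeneralLinearGroup.det_surjective,
    Subgroup.card_top, Nat.card_eq_fintype_card, ZMod.card_units_eq_totient]
  decide

theorem hf1_odd_normal (M : Subgroup G3) (hM : M.Normal) (hodd : Odd (Nat.card M)) : M = ⊥ := by
  have h48 : Nat.card M ∣ 16 * 3 := by
    have h := Subgroup.card_subgroup_dvd_card M
    rw [like_gl_basic.1] at h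
    exact h
  have hcop : Nat.Coprime (Nat.card M) 16 := by
    have : Nat.Coprime (Nat.card M) (2 ^ 4) := Nat.Coprime.pow_right 4 hodd.coprime_two_right
    exact this
  have h3 : Nat.card M ∣ 3 := hcop.dvd_of_dvd_mul_left h48
  rcases (Nat.dvd_prime Nat.prime_three).mp h3 with h | h
  · exact Subgroup.eq_bot_of_card_eq M h
  · exfalso
    have : Fact (Nat.Prime 3) := ⟨Nat.prime_three⟩
    -- a nontrivial element
    have hne : M ≠ ⊥ := by
      intro hb
      rw [hb, Subgroup.card_bot] at h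
      omega
    obtain ⟨x, hxM, hx1⟩ := (Subgroup.ne_bot_iff_exists_ne_one).mp hne |> fun ⟨y, hy⟩ =>
      (⟨y.1, y.2, fun h0 => hy (Subtype.ext h0)⟩ : ∃ x : G3, x ∈ M ∧ x ≠ 1)
    have hx3 : x ^ 3 = 1 := by
      have h' := pow_card_eq_one' (G := ↥M) (x := ⟨x, hxM⟩)
      rw [h] at h'
      have h'' := congrArg Subtype.val h'
      simpa using h''
    have hox : orderOf x = 3 := orderOf_eq_prime hx3 hx1
    have hxm := (hf1_orderOf_three_iff x).mp hox
    obtain ⟨H, hH, hne1, hne2⟩ := hf1_odd_dec (x : M3) (dt_coe x) hxm.2 hxm.1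
    -- `zpowers x = M`
    have hz : Subgroup.zpowers x = M := by
      apply Subgroup.eq_of_le_of_card_ge
      · rw [Subgroup.zpowers_le]; exact hxM
      · rw [Nat.card_zpowers, hox, h]
    have hy : mk H hH * x * (mk H hH)⁻¹ ∈ Subgroup.zpowers x := by
      rw [hz]; exact hM.conj_mem x hxM _
    obtain ⟨k, hk⟩ := Subgroup.mem_zpowers_iff.mp hy
    have hk' : x ^ (k % 3) = mk H hH * x * (mk H hH)⁻¹ := by
      have := zpow_mod_orderOf x k
      rw [hox] at this
      rw [← hk]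
      exact_mod_cast this
    have hr : k % 3 = 0 ∨ k % 3 = 1 ∨ k % 3 = 2 := by omega
    rcases hr with hr | hr | hr
    · rw [hr, zpow_zero] at hk'
      apply hx1
      have h2 : mk H hH * x = 1 * mk H hH := mul_inv_eq_iff_eq_mul.mp hk'.symm
      rw [one_mul] at h2
      exact mul_left_cancel (a := mk H hH) (by rw [h2, mul_one])
    · rw [hr, zpow_one] at hk'
      apply hne1
      have h2 : mk H hH * x = x * mk H hH := mul_inv_eq_iff_eq_mul.mp hk'.symm
      rw [eq_iff, Units.val_mul, Units.val_mul, coe_mk] at h2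
      exact h2
    · apply hne2
      have h2 : mk H hH * x = x ^ (2 : ℤ) * mk H hH := by
        rw [← hr]; exact mul_inv_eq_iff_eq_mul.mp hk'.symm
      have h3 : x ^ (2 : ℤ) = x * x := by
        rw [show (2 : ℤ) = ((2 : ℕ) : ℤ) from rfl, zpow_natCast, pow_two]
      rw [h3, eq_iff, Units.val_mul, Units.val_mul, Units.val_mul, coe_mk] at h2
      exact h2

theorem hf1_gen_invol : Subgroup.closure {x : G3 | orderOf x = 2} = ⊤ := by
  rw [eq_top_iff]
  intro a _
  obtain ⟨X, Y, hX, hY, hXX, hYY, hZZ⟩ := hf1_gen_dec (a : M3) (dt_coe a)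
  have hx : mk X hX * mk X hX = 1 := by
    rw [eq_iff, Units.val_mul, coe_mk, Units.val_one]; exact hXX
  have hy : mk Y hY * mk Y hY = 1 := by
    rw [eq_iff, Units.val_mul, coe_mk, Units.val_one]; exact hYY
  have hxm : mk X hX ∈ Subgroup.closure {x : G3 | orderOf x = 2} :=
    hf1_mem_closure _ (by rw [coe_mk]; exact hXX)
  have hym : mk Y hY ∈ Subgroup.closure {x : G3 | orderOf x = 2} :=
    hf1_mem_closure _ (by rw [coe_mk]; exact hYY)
  have hzm : mk Y hY * mk X hX * a ∈ Subgroup.closure {x : G3 | orderOf x = 2} :=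
    hf1_mem_closure _ (by
      rw [Units.val_mul, Units.val_mul, coe_mk, coe_mk]; exact hZZ)
  have ha : a = mk X hX * mk Y hY * (mk Y hY * mk X hX * a) := by
    rw [mul_assoc (mk Y hY) (mk X hX) a, ← mul_assoc (mk X hX * mk Y hY) (mk Y hY),
      mul_assoc (mk X hX) (mk Y hY) (mk Y hY), hy, mul_one, ← mul_assoc, hx, one_mul]
  rw [ha]
  exact Subgroup.mul_mem _ (Subgroup.mul_mem _ hxm hym) hzm

theorem hf1_three : ∃ u : G3, orderOf u = 3 ∧ (∀ x : G3, orderOf x = 3 → IsConj u x) ∧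
    Nat.card (Subgroup.centralizer ({u} : Set G3)) = 6 ∧
    ∃ s : G3, orderOf s = 2 ∧ s * u * s⁻¹ = u⁻¹ := by
  refine ⟨mk U0 dU0, order_u, ?_, ?_, ?_⟩
  · intro x hx
    rw [hf1_orderOf_three_iff] at hx
    rw [isConj_iff', coe_mk]
    exact hf1_conj_dec (x : M3) (dt_coe x) hx.2 hx.1
  · rw [card_centralizer]
    exact hf1_cent_dec
  · refine ⟨mk !![1, 0; 0, 2] dt_s, ?_, ?_⟩
    · rw [orderOf_two_iff, coe_mk]
      constructor <;> decide
    · rw [mul_inv_eq_iff_eq_mul, hf1_u_inv, eq_iff, Units.val_mul, Units.val_mul, coe_mk, coe_mk,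
        coe_mk]
      decide +kernel

/-- PIECE HF1 -/
theorem hfacts_gl : HFacts (Matrix.GeneralLinearGroup (Fin 2) (ZMod 3)) where
  index_two := hf1_index_two
  odd_normal := hf1_odd_normal
  gen_invol := hf1_gen_invol
  three := hf1_three

end Cfsg.Agent.Helper26.L33
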