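import Mathlib
import Cfsg.Agent.Lib.Helper3.BSWCharDefs
import Cfsg.Agent.Lib.Helper4.BSWHSTRUCT

/-!
# S3282 piece REALJ: exactly one non-principal real linear character of `K`
-/

set_option autoImplicit false

namespace Cfsg.Agent.Helper3.BSW

open Cfsg
open scoped ComplexConjugate

universe u

namespace REALJ

variable {G : Type u} [Group G] [Finite G] {t s : G} {K : Subgroup G}

/-- The commutative group structure on `K`. -/
@[reducible] def commK (h : Hyp t s K) : CommGroup ↥K :=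
  { (inferInstance : Group ↥K) with
    mul_comm := fun a b => Subtype.ext (h.hKab a.1 a.2 b.1 b.2) }

/-- The squaring endomorphism of `K`. -/
def sq (h : Hyp t s K) : ↥K →* ↥K :=
  letI := commK h
  powMonoidHom 2

theorem sq_apply (h : Hyp t s K) (x : ↥K) : sq h x = x * x := by
  letI := commK h
  show x ^ 2 = x * x
  exact pow_two x

/-- `t` as an element of `K`. -/
def tK (h : Hyp t s K) : ↥K := ⟨t, h.htK⟩

theorem orderOf_tK (h : Hyp t s K) : orderOf (tK h) = 2 := by
  rw [← h.ht]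
  exact Subgroup.orderOf_mk t h.htK

theorem ker_sq (h : Hyp t s K) : (sq h).ker = Subgroup.zpowers (tK h) := by
  ext x
  rw [MonoidHom.mem_ker, sq_apply]
  constructor
  · intro hx
    have h2 : x.1 * x.1 = 1 := by
      have := congrArg Subtype.val hx
      simpa using this
    rcases sq_eq_one_mem h x.2 h2 with h1 | h1
    · have : x = 1 := Subtype.ext h1
      rw [this]
      exact Subgroup.one_mem _
    · have : x = tK h := Subtype.ext h1
      rw [this]
      exact Subgroup.mem_zpowers _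
  · intro hx
    rcases HSTRUCT.mem_zpowers_of_order_two (orderOf_tK h) hx with h1 | h1
    · rw [h1, mul_one]
    · rw [h1]
      exact HSTRUCT.mul_self_of_order_two (orderOf_tK h)

theorem card_range_sq (h : Hyp t s K) : 2 * Nat.card (sq h).range = Nat.card ↥K := by
  have h1 := Subgroup.card_mul_index (sq h).ker
  rw [Subgroup.index_ker, ker_sq, Nat.card_zpowers, orderOf_tK] at h1
  exact h1

/-- A hom `μ` is real if `μ⁻¹ = μ`. -/
theorem sq_eq_one_of_real {μ : ↥K →* ℂˣ} (hμ : μ⁻¹ = μ) (x : ↥K) : μ x * μ x = 1 := by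
  have h1 := DFunLike.congr_fun hμ x
  rw [MonoidHom.inv_apply] at h1
  have h2 : (μ x)⁻¹ * μ x = 1 := inv_mul_cancel _
  rw [h1] at h2
  exact h2

theorem val_of_real {μ : ↥K →* ℂˣ} (hμ : μ⁻¹ = μ) (x : ↥K) : μ x = 1 ∨ μ x = -1 := by
  have h1 := sq_eq_one_of_real hμ x
  have h2 : ((μ x : ℂˣ) : ℂ) * ((μ x : ℂˣ) : ℂ) = 1 := by
    rw [← Units.val_mul, h1, Units.val_one]
  rcases mul_self_eq_one_iff.1 h2 with h3 | h3
  · left
    exact Units.ext h3
  · right
    apply Units.ext
    rw [h3, Units.val_neg, Units.val_one]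

theorem range_le_ker (h : Hyp t s K) {μ : ↥K →* ℂˣ} (hμ : μ⁻¹ = μ) : (sq h).range ≤ μ.ker := by
  rintro _ ⟨x, rfl⟩
  rw [MonoidHom.mem_ker, sq_apply, map_mul]
  exact sq_eq_one_of_real hμ x

theorem ker_eq (h : Hyp t s K) {μ : ↥K →* ℂˣ} (hμ : μ⁻¹ = μ) (hne : μ ≠ 1) :
    μ.ker = (sq h).range := by
  have hle := range_le_ker h hμ
  symm
  apply Subgroup.eq_of_le_of_card_ge hle
  have h1 := card_range_sq h
  have h2 : Nat.card (sq h).range ∣ Nat.card μ.ker := Subgroup.card_dvd_of_le hle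
  have h3 : Nat.card μ.ker ∣ Nat.card ↥K := Subgroup.card_subgroup_dvd_card _
  have h4 : Nat.card μ.ker ≠ Nat.card ↥K := by
    intro h5
    apply hne
    have h6 : μ.ker = ⊤ := (Subgroup.card_eq_iff_eq_top _).1 h5
    ext x
    have : x ∈ μ.ker := by rw [h6]; exact Subgroup.mem_top x
    rw [MonoidHom.mem_ker] at this
    rw [this, MonoidHom.one_apply]
  have hpos : 0 < Nat.card (sq h).range := Nat.card_pos
  obtain ⟨d, hd⟩ := h2
  rw [hd] at h3 h4 ⊢
  rw [← h1] at h3 h4
  have h7 : d ∣ 2 := by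
    have : Nat.card (sq h).range * d ∣ Nat.card (sq h).range * 2 := by
      rw [mul_comm _ 2]; exact h3
    exact (Nat.mul_dvd_mul_iff_left hpos).1 this
  have h8 : d ≤ 2 := Nat.le_of_dvd (by norm_num) h7
  have h9 : d ≠ 2 := by
    intro h10
    apply h4
    rw [h10, mul_comm]
  have h10 : d ≠ 0 := by
    intro h11
    rw [h11] at h7
    omega
  have : d = 1 := by omega
  rw [this, mul_one]

theorem real_unique (h : Hyp t s K) {μ ν : ↥K →* ℂˣ} (hμ : μ⁻¹ = μ) (hμ1 : μ ≠ 1)
    (hν : ν⁻¹ = ν) (hν1 : ν ≠ 1) : μ = ν := by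
  ext x
  congr 1
  by_cases hx : x ∈ (sq h).range
  · have h1 : x ∈ μ.ker := by rw [ker_eq h hμ hμ1]; exact hx
    have h2 : x ∈ ν.ker := by rw [ker_eq h hν hν1]; exact hx
    rw [MonoidHom.mem_ker] at h1 h2
    rw [h1, h2]
  · have h1 : μ x ≠ 1 := by
      intro h3
      apply hx
      rw [← ker_eq h hμ hμ1]
      exact MonoidHom.mem_ker.2 h3
    have h2 : ν x ≠ 1 := by
      intro h3
      apply hx
      rw [← ker_eq h hν hν1]
      exact MonoidHom.mem_ker.2 h3
    rcases val_of_real hμ x with h3 | h3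
    · exact absurd h3 h1
    · rcases val_of_real hν x with h4 | h4
      · exact absurd h4 h2
      · rw [h3, h4]

theorem index_range (h : Hyp t s K) : (sq h).range.index = 2 := by
  have h1 := card_range_sq h
  have h2 := Subgroup.card_mul_index (sq h).range
  have hpos : 0 < Nat.card (sq h).range := Nat.card_pos
  rw [← h1, mul_comm 2] at h2
  exact Nat.eq_of_mul_eq_mul_left hpos h2

open Classical in
/-- The non-principal real hom. -/
noncomputable def mu0 (h : Hyp t s K) : ↥K →* ℂˣ where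
  toFun x := if x ∈ (sq h).range then 1 else -1
  map_one' := by rw [if_pos (Subgroup.one_mem _)]
  map_mul' x y := by
    have h1 := Subgroup.mul_mem_iff_of_index_two (index_range h) (a := x) (b := y)
    by_cases hx : x ∈ (sq h).range <;> by_cases hy : y ∈ (sq h).range
    · rw [if_pos hx, if_pos hy, if_pos (h1.2 ⟨fun _ => hy, fun _ => hx⟩), one_mul]
    · rw [if_pos hx, if_neg hy, if_neg (fun h2 => hy ((h1.1 h2).1 hx)), one_mul]
    · rw [if_neg hx, if_pos hy, if_neg (fun h2 => hx ((h1.1 h2).2 hy)), mul_one]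
    · rw [if_neg hx, if_neg hy, if_pos (h1.2 ⟨fun h3 => absurd h3 hx, fun h3 => absurd h3 hy⟩),
        neg_mul_neg, one_mul]

theorem mu0_of_mem (h : Hyp t s K) {x : ↥K} (hx : x ∈ (sq h).range) : mu0 h x = 1 := if_pos hx

theorem mu0_of_not_mem (h : Hyp t s K) {x : ↥K} (hx : x ∉ (sq h).range) : mu0 h x = -1 :=
  if_neg hx

theorem mu0_real (h : Hyp t s K) : (mu0 h)⁻¹ = mu0 h := by
  ext x
  congr 1
  rw [MonoidHom.inv_apply]
  by_cases hx : x ∈ (sq h).range
  · rw [mu0_of_mem h hx]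
    exact inv_one
  · rw [mu0_of_not_mem h hx]
    exact inv_neg_one

theorem mu0_ne_one (h : Hyp t s K) : mu0 h ≠ 1 := by
  intro h1
  have h2 : (sq h).range ≠ ⊤ := by
    intro h3
    have h4 := index_range h
    rw [h3, Subgroup.index_top] at h4
    omega
  apply h2
  rw [eq_top_iff]
  intro x _
  by_contra hx
  have h3 := DFunLike.congr_fun h1 x
  have h4 : mu0 h x = -1 := if_neg hx
  rw [h4, MonoidHom.one_apply] at h3
  have h5 : ((-1 : ℂˣ) : ℂ) = ((1 : ℂˣ) : ℂ) := by rw [h3]
  rw [Units.val_neg, Units.val_one] at h5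
  norm_num at h5

end REALJ

variable {G : Type u} [Group G] [Fintype G] [Fintype (IrrCharacter G)] [DecidableEq (IrrCharacter G)]
  {t s : G} {K : Subgroup G} [Fintype K] [Fintype (JK K)] [DecidableEq (JK K)]

/-- PIECE REALJ (C). Exactly one non-principal real linear character of `K`. -/
theorem exists_j0 (h : Hyp t s K) : ∃ j0 : JK K, ∀ μ : JK K, invJ K μ = μ ↔ μ = j0 := by
  refine ⟨⟨REALJ.mu0 h, REALJ.mu0_ne_one h⟩, fun μ => ⟨fun hinv => ?_, fun heq => ?_⟩⟩
  · have h1 : μ.1⁻¹ = μ.1 := congrArg Subtype.val hinv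
    exact Subtype.ext (REALJ.real_unique h h1 μ.2 (REALJ.mu0_real h) (REALJ.mu0_ne_one h))
  · rw [heq]
    exact Subtype.ext (REALJ.mu0_real h)

end Cfsg.Agent.Helper3.BSW
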