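import Mathlib
import Cfsg.Prelude.Def_LieTypeChar
import Cfsg.Agent.Lib.Helper28.PAQuot
import Cfsg.Agent.Lib.Lead.TwReeSetup
import Cfsg.Agent.Lib.Lead.TwF4AutD

/-!
# S4613 FAMILY PA-TWF4 (helper9, for helper28 / helper27): `NoPAut 2 (²F₄(q))`.

Generic part (reusable for every family with the "opposite Sylow" step `exists_conj_CV1` / `exists_conj_V1`):
`patwf4_map_V`: an automorphism `α` of order prime to `p` fixing the `p`-group `U` pointwise fixes the opposite
subgroup `V` (the conjugates of `U` opposite to `U` form a regular `U`-set on which `α` acts commuting with `U`,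
i.e. as a right translation by some `u ∈ U`, and `u ^ orderOf α = 1`).  `patwf4_of_sylow`: reduction to the
standard Sylow subgroup.  Then `F4.eq_one_of_fix` (lead, TwF4AutD): a normalised automorphism fixing `X_A`, `X_B`
elementwise is trivial.
-/

set_option autoImplicit false
set_option linter.unusedSectionVars false
set_option linter.unusedVariables false

namespace Cfsg.Agent.Helper28.PA

open Cfsg Cfsg.Lie Cfsg.Agent.Lead.Chev Cfsg.Agent.Lead.Tw Cfsg.Agent.Helper6.AutAbs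
open scoped Pointwise

/-- reduction to a fixed Sylow `p`-subgroup -/
theorem patwf4_of_sylow {Γ : Type*} [Group Γ] [Finite Γ] (p : ℕ) [Fact p.Prime] (U : Subgroup Γ)
    (hU : ∃ P : Sylow p Γ, (P : Subgroup Γ) = U)
    (h : ∀ α : MulAut Γ, ¬ p ∣ orderOf α → (∀ x ∈ U, α x = x) → α = 1) : NoPAut p Γ := by
  intro α hα P hfix
  obtain ⟨P', hP'⟩ := hU
  obtain ⟨g, hg⟩ := MulAction.exists_smul_eq Γ P P'
  set β : MulAut Γ := MulAut.conj g * α * (MulAut.conj g)⁻¹ with hβ
  have hord : orderOf β = orderOf α := by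
    have := MulEquiv.orderOf_eq (MulAut.conj (MulAut.conj g)) α
    rw [← this]; rfl
  have hβfix : ∀ y ∈ U, β y = y := by
    intro y hy
    have hy' : y ∈ (P' : Subgroup Γ) := by rw [hP']; exact hy
    rw [← hg] at hy'
    have h1 : g⁻¹ * y * g ∈ (P : Subgroup Γ) := by
      have h0 : y ∈ (MulAut.conj g • (P : Subgroup Γ)) := hy'
      rw [Subgroup.mem_pointwise_smul_iff_inv_smul_mem] at h0
      simpa [MulAut.smul_def, MulAut.conj_apply] using h0
    have h2 := hfix _ h1
    show (MulAut.conj g) (α ((MulAut.conj g)⁻¹ y)) = y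
    rw [MulAut.conj_inv_apply, h2, MulAut.conj_apply]
    group
  have hβ1 : β = 1 := h β (by rw [hord]; exact hα) hβfix
  rw [hβ] at hβ1
  have : α = (MulAut.conj g)⁻¹ * 1 * MulAut.conj g := by
    rw [← hβ1]; group
  simpa using this

/-- `α` (of order prime to `p`, fixing the `p`-group `U` pointwise) fixes the opposite subgroup `V` -/
theorem patwf4_map_V {Γ : Type*} [Group Γ] (p : ℕ) [Fact p.Prime] (α : MulAut Γ) (hα : ¬ p ∣ orderOf α)
    (U V : Subgroup Γ) (hUp : IsPGroup p U) (hfix : ∀ x ∈ U, α x = x)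
    (n : Γ) (hn : U.map (MulAut.conj n).toMonoidHom = V) (hn' : V.map (MulAut.conj n).toMonoidHom = U)
    (hUV : U ⊓ V = ⊥)
    (hBV : ∀ y ∈ V, U.map (MulAut.conj y).toMonoidHom = U → y = 1)
    (hkey : ∀ g : Γ, U.map (MulAut.conj g).toMonoidHom ⊓ U = ⊥ →
      ∃ u ∈ U, U.map (MulAut.conj g).toMonoidHom = V.map (MulAut.conj u).toMonoidHom) :
    V.map α.toMonoidHom = V := by
  -- `α U = U`
  have hαU : U.map α.toMonoidHom = U := by
    ext x
    constructor
    · rintro ⟨y, hy, rfl⟩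
      show α y ∈ U
      rw [hfix y hy]; exact hy
    · intro hx
      exact ⟨x, hx, hfix x hx⟩
  -- `N_U(V) = 1`
  have hNV : ∀ x ∈ U, V.map (MulAut.conj x).toMonoidHom = V → x = 1 := by
    intro x hx hxV
    have hy : n * x * n⁻¹ ∈ V := by
      rw [← hn]
      exact ⟨x, hx, rfl⟩
    have h1 : U.map (MulAut.conj (n * x * n⁻¹)).toMonoidHom = U := by
      have e1 : U = (V.map (MulAut.conj n).toMonoidHom) := hn'.symm
      conv_lhs => rw [e1]
      rw [map_conj_mul, show n * x * n⁻¹ * n = n * x by group, ← map_conj_mul, hxV, hn']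
    have h2 := hBV _ hy h1
    have : x = n⁻¹ * (n * x * n⁻¹) * n := by group
    rw [this, h2]; group
  -- `α V = u V u⁻¹`
  have h1 : V.map α.toMonoidHom = U.map (MulAut.conj (α n)).toMonoidHom := by
    rw [← hn, map_conj_map, hαU]
  have h2 : U.map (MulAut.conj (α n)).toMonoidHom ⊓ U = ⊥ := by
    rw [← h1]
    conv_lhs => rw [← hαU]
    rw [← Subgroup.map_inf _ _ _ α.injective, inf_comm, hUV, Subgroup.map_bot]
  obtain ⟨u, hu, e⟩ := hkey (α n) h2
  rw [← h1] at e
  -- iterate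
  have hpow : ∀ k : ℕ, V.map (α ^ k).toMonoidHom = V.map (MulAut.conj (u ^ k)).toMonoidHom := by
    intro k
    induction k with
    | zero =>
      rw [pow_zero, pow_zero, map_one]
    | succ k ih =>
      have e1 : V.map (α ^ (k + 1)).toMonoidHom = (V.map (α ^ k).toMonoidHom).map α.toMonoidHom := by
        rw [Subgroup.map_map, pow_succ']
        rfl
      rw [e1, ih, map_conj_map, hfix _ (pow_mem hu k), e, map_conj_mul, pow_succ]
  have h3 := hpow (orderOf α)
  rw [pow_orderOf_eq_one] at h3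
  have h4 : V.map (MulAut.conj (u ^ orderOf α)).toMonoidHom = V := by
    rw [← h3]
    exact Subgroup.map_id V
  have h5 : u ^ orderOf α = 1 := hNV _ (pow_mem hu _) h4
  obtain ⟨j, hj⟩ := hUp ⟨u, hu⟩
  have hj' : u ^ p ^ j = 1 := by
    have := congrArg Subtype.val hj
    simpa using this
  have hcop : Nat.Coprime (orderOf α) (p ^ j) := by
    apply Nat.Coprime.pow_right
    exact ((Nat.Prime.coprime_iff_not_dvd (Fact.out)).mpr hα).symm
  have hu1 : u = 1 := by
    have hd1 : orderOf u ∣ orderOf α := orderOf_dvd_of_pow_eq_one h5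
    have hd2 : orderOf u ∣ p ^ j := orderOf_dvd_of_pow_eq_one hj'
    exact orderOf_eq_one_iff.mp (Nat.eq_one_of_dvd_coprimes hcop hd1 hd2)
  rw [e, hu1, map_one]
  exact Subgroup.map_id V

section F4

open Cfsg.Agent.Lead.Tw.F4

variable {K : Type*} [Field K] [Fintype K] [CharP K 2] {m : ℕ} (hK : Fintype.card K = 2 ^ (2 * m + 1))
  (hperf : ∀ x : K, ∃ y : K, y ^ 2 = x) (f : K ≃+* K) (hf : ∀ t, f t = t ^ (2 ^ m))
include hK hperf hf

theorem patwf4_core [Fact (Nat.Prime 2)] (hm : 1 ≤ m) : NoPAut 2 ↥(twistedF4 K (2 ^ m)) := by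
  have hcl := clsData hK hperf f hf
  apply patwf4_of_sylow 2 (CU1 chevF4 (twistedF4 K (2 ^ m))) (sylow_CU1 hK hperf f hf)
  intro α hα hfix
  obtain ⟨P, hP⟩ := sylow_CU1 hK hperf f hf
  have hUp : IsPGroup 2 ↥(CU1 chevF4 (twistedF4 K (2 ^ m))) := by
    rw [← hP]
    exact P.isPGroup'
  have hαU : (CU1 chevF4 (twistedF4 K (2 ^ m))).map α.toMonoidHom = CU1 chevF4 (twistedF4 K (2 ^ m)) := by
    ext x
    constructor
    · rintro ⟨y, hy, rfl⟩
      show α y ∈ _
      rw [hfix y hy]; exact hy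
    · intro hx
      exact ⟨x, hx, hfix x hx⟩
  have hαV : (CV1 chevF4 (twistedF4 K (2 ^ m))).map α.toMonoidHom = CV1 chevF4 (twistedF4 K (2 ^ m)) := by
    apply patwf4_map_V 2 α hα _ _ hUp hfix hcl.n₀ hcl.map_n₀_CU1 (hcl.map_n₀_CV1 hS) (CU1_inf_CV1 hF)
    · intro y hy hyU
      have h1 : y ∈ Subgroup.normalizer (CU1 chevF4 (twistedF4 K (2 ^ m)) : Set ↥(twistedF4 K (2 ^ m))) :=
        mem_normalizer_of_map_conj _ _ hyU
      rw [hcl.normalizer_CU1 hS hC] at h1
      have h2 : y ∈ CB1 chevF4 (twistedF4 K (2 ^ m)) ⊓ CV1 chevF4 (twistedF4 K (2 ^ m)) := ⟨h1, hy⟩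
      rw [CB1_inf_CV1 hF, Subgroup.mem_bot] at h2
      exact h2
    · intro g hg
      exact hcl.exists_conj_CV1 hS hC g hg
  have hall := eq_one_of_fix hK hperf f hf α hαU hαV hm
    (fun t => hfix _ (CXp_le_CU1 _ (XA_mem t))) (fun t u => hfix _ (CXp_le_CU1 _ (XB_mem t u)))
  exact MulEquiv.ext hall

end F4

section char23
variable {F : Type*} [Field F] [Fintype F]

/-- FAMILY PA-TWF4 -/
theorem noPAut_twistedF4 (m : ℕ) (hm : 1 ≤ m) (hF : Fintype.card F = 2 ^ (2 * m + 1)) :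
    haveI : Fact (Nat.Prime 2) := ⟨Nat.prime_two⟩
    NoPAut 2 (twistedF4 F (2 ^ m)) := by
  obtain ⟨hc, hperf, f, hf⟩ := exists_ree_setup 2 Nat.prime_two m hF
  have := hc
  have : Fact (Nat.Prime 2) := ⟨Nat.prime_two⟩
  exact patwf4_core hF hperf f hf hm

end char23

end Cfsg.Agent.Helper28.PA
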