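import Mathlib

set_option autoImplicit false

/-! A criterion for the simplicity of a finite group: a core-free maximal subgroup whose index
carries the full power of a prime `p` dividing the order, and a `p`-element whose normal closure
is the whole group. -/

namespace Cfsg.Agent.Helper9.SimpleCrit

variable {G : Type*} [Group G]

/-- If no nontrivial normal subgroup has index divisible by `p`, and some `p`-element has the whole
group as its normal closure, then the group is simple. -/
theorem isSimpleGroup_of_pElement [Finite G] [Nontrivial G] (p : ℕ) [Fact p.Prime] (x : G) (m : ℕ)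
    (hx : x ^ (p ^ m) = 1) (hcl : Subgroup.normalClosure ({x} : Set G) = ⊤)
    (hN : ∀ N : Subgroup G, N.Normal → N ≠ ⊥ → ¬ p ∣ N.index) : IsSimpleGroup G := by
  refine ⟨fun N hNn => ?_⟩
  by_cases hb : N = ⊥
  · exact Or.inl hb
  · right
    have hcop : Nat.Coprime (p ^ m) N.index :=
      Nat.Coprime.pow_left m ((Nat.Prime.coprime_iff_not_dvd Fact.out).2 (hN N hNn hb))
    have h1 : orderOf (QuotientGroup.mk (s := N) x) ∣ p ^ m := by
      apply orderOf_dvd_of_pow_eq_one
      rw [← QuotientGroup.mk_pow, hx, QuotientGroup.mk_one]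
    have h2 : orderOf (QuotientGroup.mk (s := N) x) ∣ N.index := by
      rw [Subgroup.index_eq_card]
      exact orderOf_dvd_natCard _
    have h3 : orderOf (QuotientGroup.mk (s := N) x) = 1 :=
      Nat.eq_one_of_dvd_coprimes hcop h1 h2
    have h4 : x ∈ N := by
      rw [orderOf_eq_one_iff] at h3
      exact (QuotientGroup.eq_one_iff x).1 h3
    have h5 : Subgroup.normalClosure ({x} : Set G) ≤ N :=
      Subgroup.normalClosure_le_normal (Set.singleton_subset_iff.2 h4)
    rw [hcl] at h5
    exact top_le_iff.1 h5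

/-- A normal subgroup not contained in a maximal subgroup `H` has order divisible by the index of
`H`. -/
theorem index_dvd_card_of_not_le [Finite G] (H : Subgroup G)
    (hmax : ∀ K : Subgroup G, H ≤ K → K = H ∨ K = ⊤) (N : Subgroup G) [hNn : N.Normal]
    (hle : ¬ N ≤ H) : H.index ∣ Nat.card N := by
  have hsup : H ⊔ N = ⊤ := by
    rcases hmax (H ⊔ N) le_sup_left with h | h
    · exact absurd (h ▸ le_sup_right) hle
    · exact h
  -- the orbit of the base coset under `N` is everything
  let q₀ : G ⧸ H := QuotientGroup.mk 1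
  have horb : MulAction.orbit N q₀ = Set.univ := by
    ext q
    simp only [Set.mem_univ, iff_true]
    obtain ⟨g, rfl⟩ := QuotientGroup.mk_surjective q
    have hg : g ∈ N ⊔ H := by
      rw [sup_comm, hsup]
      exact Subgroup.mem_top g
    rw [← SetLike.mem_coe, Subgroup.normal_mul] at hg
    obtain ⟨n, hn, h, hh, rfl⟩ := Set.mem_mul.1 hg
    refine ⟨⟨n, hn⟩, ?_⟩
    show (n : G) • q₀ = _
    show ((n * 1 : G) : G ⧸ H) = ((n * h : G) : G ⧸ H)
    rw [QuotientGroup.eq]
    simpa using hh
  have h1 : (MulAction.stabilizer N q₀).index = H.index := by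
    rw [MulAction.index_stabilizer, horb, Set.ncard_univ, Subgroup.index_eq_card]
  rw [← h1]
  exact Subgroup.index_dvd_card _

/-- The index of a nontrivial normal subgroup is prime to `p`. -/
theorem not_dvd_index_of_normal [Finite G] (H : Subgroup G)
    (hmax : ∀ K : Subgroup G, H ≤ K → K = H ∨ K = ⊤)
    (hcore : ∀ N : Subgroup G, N.Normal → N ≤ H → N = ⊥) (p k : ℕ)
    (hk : p ^ k ∣ H.index) (hk' : ¬ p ^ (k + 1) ∣ Nat.card G) (N : Subgroup G) (hNn : N.Normal)
    (hne : N ≠ ⊥) : ¬ p ∣ N.index := by
  intro hp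
  have hle : ¬ N ≤ H := fun h => hne (hcore N hNn h)
  have h1 : H.index ∣ Nat.card N := index_dvd_card_of_not_le H hmax N hle
  have h2 : p ^ k ∣ Nat.card N := hk.trans h1
  apply hk'
  rw [← Subgroup.card_mul_index N, pow_succ]
  exact Nat.mul_dvd_mul h2 hp

/-- The criterion: a core-free maximal subgroup whose index is divisible by the full power of `p`
dividing the order, and a `p`-element whose normal closure is everything. -/
theorem isSimpleGroup_of_maximal [Finite G] [Nontrivial G] (H : Subgroup G)
    (hmax : ∀ K : Subgroup G, H ≤ K → K = H ∨ K = ⊤)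
    (hcore : ∀ N : Subgroup G, N.Normal → N ≤ H → N = ⊥) (p k : ℕ) [Fact p.Prime]
    (hk : p ^ k ∣ H.index) (hk' : ¬ p ^ (k + 1) ∣ Nat.card G) (x : G) (m : ℕ)
    (hx : x ^ (p ^ m) = 1) (hcl : Subgroup.normalClosure ({x} : Set G) = ⊤) : IsSimpleGroup G :=
  isSimpleGroup_of_pElement p x m hx hcl
    (fun N hNn hne => not_dvd_index_of_normal H hmax hcore p k hk hk' N hNn hne)

end Cfsg.Agent.Helper9.SimpleCrit
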