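import Mathlib

set_option autoImplicit false

/-! A second checker for Todd–Coxeter coset enumeration logs, written for fast evaluation by the
kernel: records instead of separate fields, explicit recursors, forced evaluation of shared values,
walks in one direction only along rotated relators.

Nodes are the natural numbers below `N`; the node `N` is a dead end.  Node `u > 0` is defined from
its parent.  The entry of column `c` at node `u` with stamp `T > 0` asserts
`e c • co u = co (tgt c u)`, and the link at `u` with stamp `T > 0` asserts `co u = co (lnk u)`.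
Every fact has a certificate using only facts of smaller stamps. -/

namespace Cfsg.Agent.Helper9.TC2

/-- Evaluate the first argument before continuing. -/
noncomputable def seqN {β : Type} (x : ℕ) (k : ℕ → β) : β :=
  Nat.rec (motive := fun _ => β) (k 0) (fun y _ => k (Nat.succ y)) x

theorem seqN_eq {β : Type} (x : ℕ) (k : ℕ → β) : seqN x k = k x := by
  cases x <;> rfl

theorem brec_eq_cond {α : Type} (b : Bool) (x y : α) :
    Bool.rec (motive := fun _ => α) y x b = cond b x y := by
  cases b <;> rfl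

local notation "IF " b " THEN " x " ELSE " y => Bool.rec (motive := fun _ => _) y x b

/-- The table of a coset enumeration with its certificates, as records. -/
structure Tab where
  k : ℕ
  inv : ℕ → ℕ
  N : ℕ
  n : ℕ
  Tmax : ℕ
  wn : ℕ
  mn : ℕ
  subs : List (List ℕ)
  rot : ℕ → List ℕ
  ent : ℕ → ℕ → ℕ
  cer : ℕ → ℕ → ℕ
  lk : ℕ → ℕ
  lc : ℕ → ℕ
  pn : ℕ → ℕ
  cls : ℕ → ℕ
  rep : ℕ → ℕ
  tau : ℕ → ℕ → ℕ

namespace Tab

variable (D : Tab)

/-- The target of an entry. -/
def tgt (c u : ℕ) : ℕ := Nat.land (D.ent c u) D.mn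
/-- The stamp of an entry. -/
def stp (c u : ℕ) : ℕ := Nat.shiftRight (D.ent c u) D.wn
/-- The target of a link. -/
def lnk (u : ℕ) : ℕ := Nat.land (D.lk u) D.mn
/-- The stamp of a link. -/
def lstp (u : ℕ) : ℕ := Nat.shiftRight (D.lk u) D.wn
/-- The parent of a node. -/
def pnode (u : ℕ) : ℕ := Nat.land (D.pn u) D.mn
/-- The column of the definition of a node. -/
def pcol (u : ℕ) : ℕ := Nat.shiftRight (D.pn u) D.wn

end Tab

/-- `0 < s < T` as a boolean. -/
noncomputable def inRange (s T : ℕ) : Bool :=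
  IF Nat.ble 1 s THEN Nat.ble (Nat.succ s) T ELSE false

theorem ble_iff {a b : ℕ} : Nat.ble a b = true ↔ a ≤ b := by rw [Nat.ble_eq]

theorem inRange_iff {s T : ℕ} : inRange s T = true ↔ 0 < s ∧ s < T := by
  unfold inRange
  rw [brec_eq_cond]
  cases h : Nat.ble 1 s with
  | true =>
    rw [cond_true, ble_iff]
    have := ble_iff.1 h
    constructor
    · intro h2; exact ⟨this, h2⟩
    · intro h2; exact h2.2
  | false =>
    rw [cond_false]
    constructor
    · intro h2; exact absurd h2 (by simp)
    · intro h2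
      have : Nat.ble 1 s = true := ble_iff.2 h2.1
      rw [h] at this
      exact absurd this (by simp)

/-- Bounded universal quantifier over an interval, as a boolean. -/
noncomputable def allRange (lo len : ℕ) (p : ℕ → Bool) : Bool :=
  Nat.rec (motive := fun _ => Bool) true (fun i ih => p (Nat.add lo i) && ih) len

theorem allRange_succ (lo len : ℕ) (p : ℕ → Bool) :
    allRange lo (len + 1) p = (p (lo + len) && allRange lo len p) := rfl

theorem allRange_iff {lo len : ℕ} {p : ℕ → Bool} :
    allRange lo len p = true ↔ ∀ i, lo ≤ i → i < lo + len → p i = true := by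
  induction len with
  | zero =>
    exact ⟨fun _ i h1 h2 => absurd h2 (by omega), fun _ => rfl⟩
  | succ len ih =>
    rw [allRange_succ, Bool.and_eq_true, ih]
    constructor
    · rintro ⟨h1, h2⟩ i hi1 hi2
      by_cases h : i = lo + len
      · rw [h]; exact h1
      · exact h2 i hi1 (by omega)
    · intro h
      exact ⟨h _ (by omega) (by omega), fun i hi1 hi2 => h i hi1 (by omega)⟩

/-- Universal quantifier over a list as a boolean, evaluated from the head. -/
noncomputable def allList {α : Type} (l : List α) (p : α → Bool) : Bool :=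
  List.rec (motive := fun _ => Bool) true (fun a _ ih => p a && ih) l

theorem allList_iff {α : Type} {l : List α} {p : α → Bool} :
    allList l p = true ↔ ∀ a ∈ l, p a = true := by
  induction l with
  | nil => exact ⟨fun _ a ha => absurd ha (List.not_mem_nil), fun _ => rfl⟩
  | cons a l ih =>
    have : allList (a :: l) p = (p a && allList l p) := rfl
    rw [this, Bool.and_eq_true, ih]
    simp

/-- Follow the links with stamp below `T`. -/
noncomputable def normN (D : Tab) (T : ℕ) (fuel : ℕ) : ℕ → ℕ :=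
  Nat.rec (motive := fun _ => ℕ → ℕ) (fun u => u)
    (fun _ ih u => seqN (D.lk u) (fun r =>
      IF inRange (Nat.shiftRight r D.wn) T THEN ih (Nat.land r D.mn) ELSE u)) fuel

theorem normN_zero (D : Tab) (T u : ℕ) : normN D T 0 u = u := rfl

theorem normN_succ (D : Tab) (T f u : ℕ) :
    normN D T (f + 1) u = bif inRange (D.lstp u) T then normN D T f (D.lnk u) else u := by
  have h : normN D T (f + 1) u = seqN (D.lk u) (fun r =>
      Bool.rec (motive := fun _ => ℕ) u (normN D T f (Nat.land r D.mn))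
        (inRange (Nat.shiftRight r D.wn) T)) := rfl
  rw [h, seqN_eq, brec_eq_cond]
  rfl

/-- One step of a walk: follow the entry of column `c` at node `a`; the dead end `N` if there is
no entry with stamp below `T`. -/
noncomputable def stepN (D : Tab) (T c a : ℕ) : ℕ :=
  seqN a (fun a' => seqN (D.ent c a') (fun r =>
    IF inRange (Nat.shiftRight r D.wn) T THEN normN D T D.N (Nat.land r D.mn) ELSE D.N))

theorem stepN_eq (D : Tab) (T c a : ℕ) :
    stepN D T c a = bif inRange (D.stp c a) T then normN D T D.N (D.tgt c a) else D.N := by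
  unfold stepN
  rw [seqN_eq, seqN_eq, brec_eq_cond]
  rfl

/-- Walk along a word, from its right end. -/
noncomputable def walkN (D : Tab) (T : ℕ) (w : List ℕ) (s : ℕ) : ℕ :=
  List.rec (motive := fun _ => ℕ) (normN D T D.N s) (fun c _ ih => stepN D T c ih) w

theorem walkN_nil (D : Tab) (T s : ℕ) : walkN D T [] s = normN D T D.N s := rfl

theorem walkN_cons (D : Tab) (T c : ℕ) (w : List ℕ) (s : ℕ) :
    walkN D T (c :: w) s = stepN D T c (walkN D T w s) := rfl

/-- The two nodes `x`, `y` are the nodes `u`, `z` in some order. -/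
noncomputable def isPair (x y u z : ℕ) : Bool :=
  IF Nat.beq x u THEN Nat.beq y z ELSE (IF Nat.beq x z THEN Nat.beq y u ELSE false)

theorem isPair_iff {x y u z : ℕ} :
    isPair x y u z = true → (x = u ∧ y = z) ∨ (x = z ∧ y = u) := by
  unfold isPair
  rw [brec_eq_cond, brec_eq_cond]
  cases h1 : Nat.beq x u with
  | true =>
    rw [cond_true]
    intro h2
    exact Or.inl ⟨Nat.eq_of_beq_eq_true h1, Nat.eq_of_beq_eq_true h2⟩
  | false =>
    rw [cond_false]
    cases h3 : Nat.beq x z with
    | true =>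
      rw [cond_true]
      intro h2
      exact Or.inr ⟨Nat.eq_of_beq_eq_true h3, Nat.eq_of_beq_eq_true h2⟩
    | false =>
      rw [cond_false]
      intro h2
      exact absurd h2 (by simp)

/-! ### The checks of the entries -/

/-- Certificate by a rotated relator: its head is the column, and the walk along its tail from the
target arrives at the node. -/
noncomputable def chkRot (D : Tab) (c u T v A : ℕ) : Bool :=
  List.rec (motive := fun _ => Bool) false
    (fun h t _ => IF Nat.beq h c THEN Nat.beq (walkN D T t v) u ELSE false) (D.rot A)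

/-- Certificate by the inverse entry. -/
noncomputable def chkInv (D : Tab) (c u T v : ℕ) : Bool :=
  seqN (D.ent (D.inv c) v) (fun r =>
    IF inRange (Nat.shiftRight r D.wn) T THEN Nat.beq (Nat.land r D.mn) u ELSE false)

/-- Certificate by definition: the target is defined from the node by the column. -/
noncomputable def chkDef (D : Tab) (c u v : ℕ) : Bool :=
  seqN (D.pn v) (fun r =>
    IF Nat.beq (Nat.land r D.mn) u THEN
      (IF Nat.beq (Nat.shiftRight r D.wn) c THEN Nat.ble (Nat.succ u) v ELSE false)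
    ELSE false)

/-- Certificate by transfer from a node linked to this one. -/
noncomputable def chkTr (D : Tab) (c u T v A : ℕ) : Bool :=
  IF Nat.ble (Nat.succ A) D.N THEN
    seqN (D.ent c A) (fun r =>
      IF inRange (Nat.shiftRight r D.wn) T THEN
        (IF Nat.beq (normN D T D.N A) u THEN
          Nat.beq (normN D T D.N (Nat.land r D.mn)) v ELSE false)
      ELSE false)
  ELSE false

/-- Certificate by a word of the subgroup, scanned at the base node. -/
noncomputable def chkSub (D : Tab) (c u T v A B : ℕ) : Bool :=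
  IF Nat.beq ((D.subs.getD A []).getD B D.k) c THEN
    (IF Nat.beq (walkN D T ((D.subs.getD A []).drop (B + 1)) 0) u THEN
      Nat.beq (walkN D T ((D.subs.getD A []).take B) v) 0 ELSE false)
  ELSE false

/-- The check of a certificate of an entry. -/
noncomputable def chkCert (D : Tab) (c u T v : ℕ) : Bool :=
  seqN (D.cer c u) (fun q => seqN (Nat.land q 7) (fun ty =>
    IF Nat.beq ty 1 THEN chkRot D c u T v (Nat.shiftRight q 3)
    ELSE IF Nat.beq ty 2 THEN chkInv D c u T v
    ELSE IF Nat.beq ty 0 THEN chkDef D c u v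
    ELSE IF Nat.beq ty 3 THEN chkTr D c u T v (Nat.shiftRight q 3)
    ELSE IF Nat.beq ty 4 THEN
      chkSub D c u T v (Nat.land (Nat.shiftRight q 3) D.mn) (Nat.shiftRight q (Nat.add 3 D.wn))
    ELSE false))

/-- The check of the entry of column `c` at node `u`. -/
noncomputable def chkE (D : Tab) (c u : ℕ) : Bool :=
  seqN (D.ent c u) (fun r => seqN (Nat.shiftRight r D.wn) (fun T =>
    IF Nat.ble 1 T THEN
      seqN (Nat.land r D.mn) (fun v =>
        IF Nat.ble (Nat.succ v) D.N THEN chkCert D c u T v ELSE false)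
    ELSE true))

/-! ### The checks of the links -/

/-- Certificate of a link by a rotated relator. -/
noncomputable def chkLRot (D : Tab) (u T z A C : ℕ) : Bool :=
  IF Nat.beq C 0 THEN Nat.beq (walkN D T (D.rot A) u) z
  ELSE Nat.beq (walkN D T (D.rot A) z) u

/-- Certificate of a link by two entries of one column at linked nodes. -/
noncomputable def chkLCo (D : Tab) (u T z A B C : ℕ) : Bool :=
  IF Nat.ble (Nat.succ C) D.k THEN
  IF Nat.ble (Nat.succ A) D.N THEN
  IF Nat.ble (Nat.succ B) D.N THEN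
    seqN (D.ent C A) (fun r₁ => seqN (D.ent C B) (fun r₂ =>
      IF inRange (Nat.shiftRight r₁ D.wn) T THEN
      IF inRange (Nat.shiftRight r₂ D.wn) T THEN
      IF Nat.beq (normN D T D.N A) (normN D T D.N B) THEN
        isPair (normN D T D.N (Nat.land r₁ D.mn)) (normN D T D.N (Nat.land r₂ D.mn)) u z
      ELSE false ELSE false ELSE false))
  ELSE false ELSE false ELSE false

/-- Certificate of a link by an entry and an entry of the inverse column. -/
noncomputable def chkLCi (D : Tab) (u T z A B C : ℕ) : Bool :=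
  IF Nat.ble (Nat.succ C) D.k THEN
  IF Nat.ble (Nat.succ A) D.N THEN
  IF Nat.ble (Nat.succ B) D.N THEN
    seqN (D.ent C A) (fun r₁ => seqN (D.ent (D.inv C) B) (fun r₂ =>
      IF inRange (Nat.shiftRight r₁ D.wn) T THEN
      IF inRange (Nat.shiftRight r₂ D.wn) T THEN
      IF Nat.beq (normN D T D.N (Nat.land r₁ D.mn)) (normN D T D.N B) THEN
        isPair (normN D T D.N A) (normN D T D.N (Nat.land r₂ D.mn)) u z
      ELSE false ELSE false ELSE false))
  ELSE false ELSE false ELSE false

/-- Certificate of a link by a word of the subgroup, scanned at the base node. -/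
noncomputable def chkLSub (D : Tab) (u T z A B C : ℕ) : Bool :=
  IF Nat.ble (Nat.succ A) D.N THEN
  IF Nat.beq (walkN D T ((D.subs.getD B []).take C) A) 0 THEN
    isPair (walkN D T ((D.subs.getD B []).drop C) 0) A u z
  ELSE false ELSE false

/-- The check of a certificate of a link. -/
noncomputable def chkLCert (D : Tab) (u T z : ℕ) : Bool :=
  seqN (D.lc u) (fun q => seqN (Nat.land q 3) (fun ty =>
    seqN (Nat.land (Nat.shiftRight q 2) D.mn) (fun A =>
    seqN (Nat.land (Nat.shiftRight q (Nat.add 2 D.wn)) D.mn) (fun B =>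
    seqN (Nat.shiftRight q (Nat.add 2 (Nat.add D.wn D.wn))) (fun C =>
      IF Nat.beq ty 1 THEN chkLCo D u T z A B C
      ELSE IF Nat.beq ty 0 THEN chkLRot D u T z A C
      ELSE IF Nat.beq ty 2 THEN chkLCi D u T z A B C
      ELSE chkLSub D u T z A B C)))))

/-- The check of the link at node `u`. -/
noncomputable def chkL (D : Tab) (u : ℕ) : Bool :=
  seqN (D.lk u) (fun r => seqN (Nat.shiftRight r D.wn) (fun T =>
    IF Nat.ble 1 T THEN
      seqN (Nat.land r D.mn) (fun z =>
        IF Nat.ble (Nat.succ z) u THEN chkLCert D u T z ELSE false)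
    ELSE true))


/-! ### The final table -/

/-- The check of the class `i`: its representative is a node of this class, and the entries of the
representative follow the table. -/
noncomputable def chkFin (D : Tab) (i : ℕ) : Bool :=
  seqN (D.rep i) (fun ri =>
    IF Nat.ble (Nat.succ ri) D.N THEN
    IF Nat.beq (D.cls ri) i THEN
      allRange 0 D.k (fun c => seqN (D.ent c ri) (fun r =>
        IF inRange (Nat.shiftRight r D.wn) D.Tmax THEN
          seqN (D.tau c i) (fun j =>
            IF Nat.ble (Nat.succ j) D.n THEN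
              Nat.beq (normN D D.Tmax D.N (Nat.land r D.mn)) (D.rep j)
            ELSE false)
        ELSE false))
    ELSE false ELSE false)

/-- The check of the class of the node `u`. -/
noncomputable def chkCls (D : Tab) (u : ℕ) : Bool :=
  seqN (D.pn u) (fun r => seqN (Nat.land r D.mn) (fun p =>
    IF Nat.ble (Nat.succ p) u THEN
      seqN (Nat.shiftRight r D.wn) (fun c => seqN (D.cls p) (fun j =>
        IF Nat.ble (Nat.succ c) D.k THEN
        IF Nat.ble (Nat.succ j) D.n THEN Nat.beq (D.cls u) (D.tau c j)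
        ELSE false ELSE false))
    ELSE Nat.beq (D.cls u) 0))

/-! ### Soundness -/

section Sound

variable {G : Type*} [Group G]

/-- Conditions on the table that do not depend on the group. -/
structure Tab.WF (D : Tab) : Prop where
  inv_lt : ∀ c < D.k, D.inv c < D.k
  rot_lt : ∀ i, ∀ c ∈ D.rot i, c < D.k
  sub_lt : ∀ w ∈ D.subs, ∀ c ∈ w, c < D.k
  dead : ∀ c < D.k, D.stp c D.N = 0

/-- An interpretation of the columns in a group, relative to a subgroup. -/
structure Interp (H : Subgroup G) (D : Tab) where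
  e : ℕ → G
  e_inv : ∀ c < D.k, e (D.inv c) = (e c)⁻¹
  rot : ∀ i, ((D.rot i).map e).prod = 1
  sub : ∀ w ∈ D.subs, (w.map e).prod ∈ H

variable {H : Subgroup G} {D : Tab} (I : Interp H D)

/-- The group element of a node. -/
noncomputable def ge : ℕ → G
  | u => if h : D.pnode u < u then I.e (D.pcol u) * ge (D.pnode u) else 1
termination_by u => u

theorem ge_of_lt {u : ℕ} (h : D.pnode u < u) :
    ge I u = I.e (D.pcol u) * ge I (D.pnode u) := by
  rw [ge, dif_pos h]

theorem ge_of_not_lt {u : ℕ} (h : ¬ D.pnode u < u) : ge I u = 1 := by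
  rw [ge, dif_neg h]

/-- The coset of a node. -/
noncomputable def co (u : ℕ) : G ⧸ H := ((ge I u : G) : G ⧸ H)

theorem co_of_lt {u : ℕ} (h : D.pnode u < u) :
    co I u = I.e (D.pcol u) • co I (D.pnode u) := by
  unfold co
  rw [ge_of_lt I h]
  rfl

theorem co_zero : co I 0 = ((1 : G) : G ⧸ H) := by
  unfold co
  rw [ge_of_not_lt I (Nat.not_lt_zero _)]

/-- The action of a word on a coset. -/
noncomputable def act (w : List ℕ) (q : G ⧸ H) : G ⧸ H := (w.map I.e).prod • q

theorem act_nil (q : G ⧸ H) : act I [] q = q := by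
  unfold act; simp

theorem act_cons (c : ℕ) (w : List ℕ) (q : G ⧸ H) : act I (c :: w) q = I.e c • act I w q := by
  unfold act; rw [List.map_cons, List.prod_cons, mul_smul]

theorem act_append (w₁ w₂ : List ℕ) (q : G ⧸ H) :
    act I (w₁ ++ w₂) q = act I w₁ (act I w₂ q) := by
  unfold act; rw [List.map_append, List.prod_append, mul_smul]

theorem act_injective (w : List ℕ) {q q' : G ⧸ H} (h : act I w q = act I w q') : q = q' :=
  MulAction.injective _ h

theorem act_rot (i : ℕ) (q : G ⧸ H) : act I (D.rot i) q = q := by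
  unfold act
  rw [I.rot i, one_smul]

theorem act_sub {w : List ℕ} (hw : w ∈ D.subs ∨ w = []) : act I w (co I 0) = co I 0 := by
  rcases hw with hw | hw
  · unfold act
    rw [co_zero]
    have hm := I.sub _ hw
    rw [MulAction.Quotient.smul_mk, QuotientGroup.eq]
    simpa using H.inv_mem hm
  · rw [hw, act_nil]

/-- All facts with stamp below `T` hold. -/
def Valid (T : ℕ) : Prop :=
  (∀ c u, c < D.k → u < D.N → 0 < D.stp c u → D.stp c u < T →
    D.tgt c u < D.N ∧ I.e c • co I u = co I (D.tgt c u)) ∧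
  (∀ u, u < D.N → 0 < D.lstp u → D.lstp u < T → D.lnk u < u ∧ co I u = co I (D.lnk u))

variable {I}

theorem norm_sound {T : ℕ} (hV : Valid I T) (f : ℕ) {u : ℕ} (hu : u < D.N) :
    normN D T f u < D.N ∧ co I (normN D T f u) = co I u := by
  induction f generalizing u with
  | zero => exact ⟨hu, rfl⟩
  | succ f ih =>
    rw [normN_succ]
    cases h : inRange (D.lstp u) T with
    | false => exact ⟨hu, rfl⟩
    | true =>
      obtain ⟨h1, h2⟩ := inRange_iff.1 h
      obtain ⟨h3, h4⟩ := hV.2 u hu h1 h2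
      rw [cond_true]
      obtain ⟨h5, h6⟩ := ih (lt_trans h3 hu)
      exact ⟨h5, by rw [h6, ← h4]⟩

theorem step_sound {T c a : ℕ} (hV : Valid I T) (hwf : D.WF) (hc : c < D.k) (ha : a ≤ D.N) :
    stepN D T c a ≤ D.N ∧
      (stepN D T c a < D.N → a < D.N ∧ I.e c • co I a = co I (stepN D T c a)) := by
  rw [stepN_eq]
  cases h : inRange (D.stp c a) T with
  | false =>
    rw [cond_false]
    exact ⟨le_refl _, fun h' => absurd h' (lt_irrefl _)⟩
  | true =>
    rw [cond_true]
    obtain ⟨h1, h2⟩ := inRange_iff.1 h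
    have haN : a < D.N := by
      rcases Nat.lt_or_ge a D.N with h3 | h3
      · exact h3
      · have : a = D.N := le_antisymm ha h3
        rw [this, hwf.dead c hc] at h1
        exact absurd h1 (lt_irrefl 0)
    obtain ⟨h3, h4⟩ := hV.1 c a hc haN h1 h2
    obtain ⟨h5, h6⟩ := norm_sound hV D.N h3
    exact ⟨le_of_lt h5, fun _ => ⟨haN, by rw [h6, h4]⟩⟩

theorem walk_sound {T : ℕ} (hV : Valid I T) (hwf : D.WF) (w : List ℕ) (hw : ∀ c ∈ w, c < D.k)
    {s : ℕ} (hs : s < D.N) :
    walkN D T w s ≤ D.N ∧ (walkN D T w s < D.N → co I (walkN D T w s) = act I w (co I s)) := by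
  induction w with
  | nil =>
    rw [walkN_nil]
    obtain ⟨h1, h2⟩ := norm_sound hV D.N hs
    exact ⟨le_of_lt h1, fun _ => by rw [h2, act_nil]⟩
  | cons c w ih =>
    rw [walkN_cons]
    obtain ⟨h1, h2⟩ := ih (fun c' hc' => hw c' (List.mem_cons_of_mem _ hc'))
    obtain ⟨h3, h4⟩ := step_sound hV hwf (hw c List.mem_cons_self) h1
    refine ⟨h3, fun h5 => ?_⟩
    obtain ⟨h6, h7⟩ := h4 h5
    rw [act_cons, ← h2 h6, h7]

theorem getD_mem_or_nil (l : List (List ℕ)) (i : ℕ) : l.getD i [] ∈ l ∨ l.getD i [] = [] := by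
  by_cases h : i < l.length
  · left
    rw [List.getD_eq_getElem _ _ h]
    exact List.getElem_mem h
  · right
    rw [List.getD_eq_default _ _ (not_lt.1 h)]

theorem sub_lt' (hwf : D.WF) (A : ℕ) : ∀ c ∈ D.subs.getD A [], c < D.k := by
  intro c hc
  rcases getD_mem_or_nil D.subs A with h | h
  · exact hwf.sub_lt _ h c hc
  · rw [h] at hc
    exact absurd hc List.not_mem_nil

theorem split_at {wd : List ℕ} {m c k : ℕ} (hc : c < k) (h : wd.getD m k = c) :
    wd = wd.take m ++ c :: wd.drop (m + 1) := by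
  by_cases hm : m < wd.length
  · rw [List.getD_eq_getElem _ _ hm] at h
    rw [← h, ← List.drop_eq_getElem_cons hm, List.take_append_drop]
  · rw [List.getD_eq_default _ _ (not_lt.1 hm)] at h
    omega

theorem beq_iff {a b : ℕ} : Nat.beq a b = true ↔ a = b :=
  ⟨Nat.eq_of_beq_eq_true, fun h => by rw [h]; exact Nat.beq_refl b⟩

theorem cond_true_iff {b x : Bool} : (bif b then x else false) = true ↔ b = true ∧ x = true := by
  cases b <;> simp

theorem chkRot_sound {T c u v A : ℕ} (hV : Valid I T) (hwf : D.WF) (hu : u < D.N)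
    (hv : v < D.N) (h : chkRot D c u T v A = true) : I.e c • co I u = co I v := by
  unfold chkRot at h
  have hact := act_rot I A (co I v)
  have hlt := hwf.rot_lt A
  cases hr : D.rot A with
  | nil => rw [hr] at h; exact absurd h (by simp)
  | cons x t =>
    rw [hr] at h hact hlt
    have h' : (bif Nat.beq x c then Nat.beq (walkN D T t v) u else false) = true := by
      rw [← brec_eq_cond]; exact h
    rw [cond_true_iff, beq_iff, beq_iff] at h'
    obtain ⟨h1, h2⟩ := h'
    obtain ⟨_, h4⟩ := walk_sound hV hwf t (fun c' hc' => hlt c' (List.mem_cons_of_mem _ hc')) hv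
    rw [h2] at h4
    rw [act_cons, ← h4 hu, h1] at hact
    exact hact

theorem chkInv_sound {T c u v : ℕ} (hV : Valid I T) (hwf : D.WF) (hc : c < D.k)
    (hv : v < D.N) (h : chkInv D c u T v = true) : I.e c • co I u = co I v := by
  unfold chkInv at h
  rw [seqN_eq, brec_eq_cond, cond_true_iff, beq_iff] at h
  obtain ⟨h1, h2⟩ := h
  obtain ⟨h3, h4⟩ := inRange_iff.1 h1
  obtain ⟨_, h6⟩ := hV.1 (D.inv c) v (hwf.inv_lt c hc) hv h3 h4
  have h2' : D.tgt (D.inv c) v = u := h2
  rw [h2', I.e_inv c hc] at h6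
  rw [← h6, smul_inv_smul]

theorem chkDef_sound {c u v : ℕ} (h : chkDef D c u v = true) : I.e c • co I u = co I v := by
  unfold chkDef at h
  rw [seqN_eq, brec_eq_cond, brec_eq_cond, cond_true_iff, cond_true_iff, beq_iff, beq_iff,
    ble_iff] at h
  obtain ⟨h1, h2, h3⟩ := h
  have h1' : D.pnode v = u := h1
  have h2' : D.pcol v = c := h2
  have hlt : D.pnode v < v := by rw [h1']; exact h3
  rw [co_of_lt I hlt, h1', h2']

theorem chkTr_sound {T c u v A : ℕ} (hV : Valid I T) (hc : c < D.k)
    (h : chkTr D c u T v A = true) : I.e c • co I u = co I v := by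
  unfold chkTr at h
  rw [brec_eq_cond, cond_true_iff, seqN_eq, brec_eq_cond, cond_true_iff, brec_eq_cond,
    cond_true_iff, ble_iff, beq_iff, beq_iff] at h
  obtain ⟨hA, h1, h2, h3⟩ := h
  obtain ⟨h1a, h1b⟩ := inRange_iff.1 h1
  obtain ⟨h4, h5⟩ := hV.1 c A hc hA h1a h1b
  obtain ⟨_, h6⟩ := norm_sound hV D.N hA
  obtain ⟨_, h7⟩ := norm_sound hV D.N h4
  have h3' : normN D T D.N (D.tgt c A) = v := h3
  rw [h2] at h6
  rw [h3'] at h7
  rw [h6, h5, h7]

theorem chkSub_sound {T c u v A B : ℕ} (hV : Valid I T) (hwf : D.WF) (hc : c < D.k)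
    (hu : u < D.N) (hv : v < D.N) (h : chkSub D c u T v A B = true) :
    I.e c • co I u = co I v := by
  unfold chkSub at h
  rw [brec_eq_cond, cond_true_iff, brec_eq_cond, cond_true_iff, beq_iff, beq_iff, beq_iff] at h
  obtain ⟨h1, h2, h3⟩ := h
  have h0 : 0 < D.N := lt_of_le_of_lt (Nat.zero_le u) hu
  have hlt := sub_lt' hwf A
  have hsplit := split_at hc h1
  have hact := act_sub I (getD_mem_or_nil D.subs A)
  rw [hsplit, act_append, act_cons] at hact
  obtain ⟨_, e1⟩ := walk_sound hV hwf ((D.subs.getD A []).drop (B + 1))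
    (fun c' hc' => hlt c' (List.mem_of_mem_drop hc')) h0
  obtain ⟨_, e2⟩ := walk_sound hV hwf ((D.subs.getD A []).take B)
    (fun c' hc' => hlt c' (List.mem_of_mem_take hc')) hv
  rw [h2] at e1
  rw [h3] at e2
  rw [← e1 hu] at hact
  have e2' := e2 h0
  rw [e2'] at hact
  exact act_injective I _ hact

theorem chkCert_sound {T c u v : ℕ} (hV : Valid I T) (hwf : D.WF) (hc : c < D.k)
    (hu : u < D.N) (hv : v < D.N) (h : chkCert D c u T v = true) :
    I.e c • co I u = co I v := by
  unfold chkCert at h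
  rw [seqN_eq, seqN_eq] at h
  simp only [brec_eq_cond] at h
  cases t1 : Nat.beq (Nat.land (D.cer c u) 7) 1 with
  | true =>
    rw [t1, cond_true] at h
    exact chkRot_sound hV hwf hu hv h
  | false =>
    rw [t1, cond_false] at h
    cases t2 : Nat.beq (Nat.land (D.cer c u) 7) 2 with
    | true =>
      rw [t2, cond_true] at h
      exact chkInv_sound hV hwf hc hv h
    | false =>
      rw [t2, cond_false] at h
      cases t0 : Nat.beq (Nat.land (D.cer c u) 7) 0 with
      | true =>
        rw [t0, cond_true] at h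
        exact chkDef_sound h
      | false =>
        rw [t0, cond_false] at h
        cases t3 : Nat.beq (Nat.land (D.cer c u) 7) 3 with
        | true =>
          rw [t3, cond_true] at h
          exact chkTr_sound hV hc h
        | false =>
          rw [t3, cond_false] at h
          cases t4 : Nat.beq (Nat.land (D.cer c u) 7) 4 with
          | true =>
            rw [t4, cond_true] at h
            exact chkSub_sound hV hwf hc hu hv h
          | false =>
            rw [t4, cond_false] at h
            exact absurd h (by simp)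

theorem chkE_sound {T c u : ℕ} (hV : Valid I T) (hwf : D.WF) (hc : c < D.k) (hu : u < D.N)
    (hT : D.stp c u = T) (hpos : 0 < D.stp c u) (h : chkE D c u = true) :
    D.tgt c u < D.N ∧ I.e c • co I u = co I (D.tgt c u) := by
  unfold chkE at h
  rw [seqN_eq, seqN_eq, brec_eq_cond, seqN_eq, brec_eq_cond] at h
  have h' : (bif Nat.ble 1 (D.stp c u) then
      (bif Nat.ble (Nat.succ (D.tgt c u)) D.N then chkCert D c u (D.stp c u) (D.tgt c u)
        else false) else true) = true := h
  rw [ble_iff.2 hpos, cond_true, cond_true_iff, ble_iff, hT] at h'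
  exact ⟨h'.1, chkCert_sound hV hwf hc hu h'.1 h'.2⟩

theorem co_eq_of_isPair {x y u z : ℕ} (h : isPair x y u z = true) (hxy : co I x = co I y) :
    co I u = co I z := by
  rcases isPair_iff h with ⟨h1, h2⟩ | ⟨h1, h2⟩
  · rw [← h1, ← h2, hxy]
  · rw [← h1, ← h2, hxy]

theorem chkLRot_sound {T u z A C : ℕ} (hV : Valid I T) (hwf : D.WF) (hu : u < D.N)
    (hz : z < D.N) (h : chkLRot D u T z A C = true) : co I u = co I z := by
  unfold chkLRot at h
  rw [brec_eq_cond] at h
  have hlt := hwf.rot_lt A
  cases hC : Nat.beq C 0 with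
  | true =>
    rw [hC, cond_true, beq_iff] at h
    obtain ⟨_, e1⟩ := walk_sound hV hwf (D.rot A) hlt hu
    rw [h] at e1
    rw [e1 hz, act_rot]
  | false =>
    rw [hC, cond_false, beq_iff] at h
    obtain ⟨_, e1⟩ := walk_sound hV hwf (D.rot A) hlt hz
    rw [h] at e1
    rw [e1 hu, act_rot]

theorem chkLCo_sound {T u z A B C : ℕ} (hV : Valid I T)
    (h : chkLCo D u T z A B C = true) : co I u = co I z := by
  unfold chkLCo at h
  simp only [seqN_eq, brec_eq_cond, cond_true_iff, ble_iff, beq_iff] at h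
  obtain ⟨hC, hA, hB, h1, h2, h3, h4⟩ := h
  obtain ⟨h1a, h1b⟩ := inRange_iff.1 h1
  obtain ⟨h2a, h2b⟩ := inRange_iff.1 h2
  obtain ⟨t1, e1⟩ := hV.1 C A hC hA h1a h1b
  obtain ⟨t2, e2⟩ := hV.1 C B hC hB h2a h2b
  obtain ⟨_, n1⟩ := norm_sound hV D.N hA
  obtain ⟨_, n2⟩ := norm_sound hV D.N hB
  obtain ⟨_, n3⟩ := norm_sound hV D.N t1
  obtain ⟨_, n4⟩ := norm_sound hV D.N t2
  have e3 : co I A = co I B := by rw [← n1, h3, n2]
  apply co_eq_of_isPair h4
  have n3' : co I (normN D T D.N (Nat.land (D.ent C A) D.mn)) = co I (D.tgt C A) := n3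
  have n4' : co I (normN D T D.N (Nat.land (D.ent C B) D.mn)) = co I (D.tgt C B) := n4
  rw [n3', n4', ← e1, ← e2, e3]

theorem chkLCi_sound {T u z A B C : ℕ} (hV : Valid I T) (hwf : D.WF)
    (h : chkLCi D u T z A B C = true) : co I u = co I z := by
  unfold chkLCi at h
  simp only [seqN_eq, brec_eq_cond, cond_true_iff, ble_iff, beq_iff] at h
  obtain ⟨hC, hA, hB, h1, h2, h3, h4⟩ := h
  obtain ⟨h1a, h1b⟩ := inRange_iff.1 h1
  obtain ⟨h2a, h2b⟩ := inRange_iff.1 h2
  obtain ⟨t1, e1⟩ := hV.1 C A hC hA h1a h1b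
  obtain ⟨t2, e2⟩ := hV.1 (D.inv C) B (hwf.inv_lt C hC) hB h2a h2b
  obtain ⟨_, n1⟩ := norm_sound hV D.N hA
  obtain ⟨_, n2⟩ := norm_sound hV D.N hB
  obtain ⟨_, n3⟩ := norm_sound hV D.N t1
  obtain ⟨_, n4⟩ := norm_sound hV D.N t2
  have n3' : co I (normN D T D.N (Nat.land (D.ent C A) D.mn)) = co I (D.tgt C A) := n3
  have n4' : co I (normN D T D.N (Nat.land (D.ent (D.inv C) B) D.mn)) =
      co I (D.tgt (D.inv C) B) := n4
  have e3 : co I (D.tgt C A) = co I B := by rw [← n3', h3, n2]
  apply co_eq_of_isPair h4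
  rw [n1, n4', ← e2, ← e3, ← e1, I.e_inv C hC, inv_smul_smul]

theorem chkLSub_sound {T u z A B C : ℕ} (hV : Valid I T) (hwf : D.WF) (hu : u < D.N)
    (hz : z < D.N) (h : chkLSub D u T z A B C = true) : co I u = co I z := by
  unfold chkLSub at h
  rw [brec_eq_cond, cond_true_iff, brec_eq_cond, cond_true_iff, ble_iff, beq_iff] at h
  obtain ⟨hA, h1, h2⟩ := h
  have h0 : 0 < D.N := lt_of_le_of_lt (Nat.zero_le u) hu
  have hlt := sub_lt' hwf B
  have hact := act_sub I (getD_mem_or_nil D.subs B)
  rw [← List.take_append_drop C (D.subs.getD B []), act_append] at hact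
  obtain ⟨_, e1⟩ := walk_sound hV hwf ((D.subs.getD B []).drop C)
    (fun c' hc' => hlt c' (List.mem_of_mem_drop hc')) h0
  obtain ⟨_, e2⟩ := walk_sound hV hwf ((D.subs.getD B []).take C)
    (fun c' hc' => hlt c' (List.mem_of_mem_take hc')) hA
  rw [h1] at e2
  have e2' := e2 h0
  have ha : walkN D T ((D.subs.getD B []).drop C) 0 < D.N := by
    rcases isPair_iff h2 with ⟨h3, _⟩ | ⟨h3, _⟩
    · rw [h3]; exact hu
    · rw [h3]; exact hz
  rw [← e1 ha] at hact
  rw [e2'] at hact
  exact co_eq_of_isPair h2 (act_injective I _ hact)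

theorem chkLCert_sound {T u z : ℕ} (hV : Valid I T) (hwf : D.WF) (hu : u < D.N) (hz : z < D.N)
    (h : chkLCert D u T z = true) : co I u = co I z := by
  unfold chkLCert at h
  simp only [seqN_eq, brec_eq_cond] at h
  cases t1 : Nat.beq (Nat.land (D.lc u) 3) 1 with
  | true =>
    rw [t1, cond_true] at h
    exact chkLCo_sound hV h
  | false =>
    rw [t1, cond_false] at h
    cases t0 : Nat.beq (Nat.land (D.lc u) 3) 0 with
    | true =>
      rw [t0, cond_true] at h
      exact chkLRot_sound hV hwf hu hz h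
    | false =>
      rw [t0, cond_false] at h
      cases t2 : Nat.beq (Nat.land (D.lc u) 3) 2 with
      | true =>
        rw [t2, cond_true] at h
        exact chkLCi_sound hV hwf h
      | false =>
        rw [t2, cond_false] at h
        exact chkLSub_sound hV hwf hu hz h

theorem chkL_sound {T u : ℕ} (hV : Valid I T) (hwf : D.WF) (hu : u < D.N)
    (hT : D.lstp u = T) (hpos : 0 < D.lstp u) (h : chkL D u = true) :
    D.lnk u < u ∧ co I u = co I (D.lnk u) := by
  unfold chkL at h
  rw [seqN_eq, seqN_eq, brec_eq_cond, seqN_eq, brec_eq_cond] at h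
  have h' : (bif Nat.ble 1 (D.lstp u) then
      (bif Nat.ble (Nat.succ (D.lnk u)) u then chkLCert D u (D.lstp u) (D.lnk u)
        else false) else true) = true := h
  rw [ble_iff.2 hpos, cond_true, cond_true_iff, ble_iff, hT] at h'
  exact ⟨h'.1, chkLCert_sound hV hwf hu (lt_trans h'.1 hu) h'.2⟩

/-- All facts of a checked log hold. -/
theorem valid_of_checks (I : Interp H D) (hwf : D.WF)
    (hE : ∀ c < D.k, ∀ u < D.N, chkE D c u = true) (hL : ∀ u < D.N, chkL D u = true) :
    ∀ T, Valid I T := by
  intro T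
  induction T with
  | zero =>
    exact ⟨fun c u _ _ _ h => absurd h (Nat.not_lt_zero _),
      fun u _ _ h => absurd h (Nat.not_lt_zero _)⟩
  | succ T ih =>
    constructor
    · intro c u hc hu hpos hlt
      rcases Nat.lt_succ_iff_lt_or_eq.1 hlt with hlt' | heq
      · exact ih.1 c u hc hu hpos hlt'
      · exact chkE_sound ih hwf hc hu heq hpos (hE c hc u hu)
    · intro u hu hpos hlt
      rcases Nat.lt_succ_iff_lt_or_eq.1 hlt with hlt' | heq
      · exact ih.2 u hu hpos hlt'
      · exact chkL_sound ih hwf hu heq hpos (hL u hu)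


/-- The final table describes the action on the cosets of the representatives. -/
theorem chkFin_sound (I : Interp H D) (hV : Valid I D.Tmax) {i : ℕ} (h : chkFin D i = true) :
    D.rep i < D.N ∧ D.cls (D.rep i) = i ∧ ∀ c < D.k,
      D.tau c i < D.n ∧ I.e c • co I (D.rep i) = co I (D.rep (D.tau c i)) := by
  unfold chkFin at h
  rw [seqN_eq, brec_eq_cond, cond_true_iff, brec_eq_cond, cond_true_iff, ble_iff, beq_iff,
    allRange_iff] at h
  obtain ⟨h1, h2, h3⟩ := h
  refine ⟨h1, h2, fun c hc => ?_⟩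
  have h4 := h3 c (Nat.zero_le c) (by omega)
  rw [seqN_eq, brec_eq_cond, cond_true_iff, seqN_eq, brec_eq_cond, cond_true_iff, ble_iff,
    beq_iff] at h4
  obtain ⟨h5, h6, h7⟩ := h4
  obtain ⟨h5a, h5b⟩ := inRange_iff.1 h5
  obtain ⟨h8, h9⟩ := hV.1 c (D.rep i) hc h1 h5a h5b
  obtain ⟨_, h10⟩ := norm_sound hV D.N h8
  have h7' : normN D D.Tmax D.N (D.tgt c (D.rep i)) = D.rep (D.tau c i) := h7
  refine ⟨h6, ?_⟩
  rw [h9, ← h10, h7']

/-- Every coset is the coset of a representative. -/
theorem exists_rep (I : Interp H D) (hwf : D.WF)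
    (hgen : Subgroup.closure {g : G | ∃ c < D.k, g = I.e c} = ⊤)
    (hrep0 : D.rep 0 = 0)
    (hfin : ∀ i < D.n, ∀ c < D.k,
      D.tau c i < D.n ∧ I.e c • co I (D.rep i) = co I (D.rep (D.tau c i)))
    (hn : 0 < D.n) (q : G ⧸ H) : ∃ i < D.n, q = co I (D.rep i) := by
  let P : G → Prop := fun g => ∀ i < D.n, ∃ j < D.n, g • co I (D.rep i) = co I (D.rep j)
  have hP1 : P 1 := fun i hi => ⟨i, hi, one_smul _ _⟩
  have hPmul : ∀ g h, P g → P h → P (g * h) := by
    intro g h hg hh i hi
    obtain ⟨j, hj, e1⟩ := hh i hi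
    obtain ⟨l, hl, e2⟩ := hg j hj
    exact ⟨l, hl, by rw [mul_smul, e1, e2]⟩
  let K : Subgroup G :=
    { carrier := {g | P g ∧ P g⁻¹}
      one_mem' := ⟨hP1, by rw [inv_one]; exact hP1⟩
      mul_mem' := fun {a b} ha hb => ⟨hPmul a b ha.1 hb.1, by
        rw [mul_inv_rev]; exact hPmul _ _ hb.2 ha.2⟩
      inv_mem' := fun {a} ha => ⟨ha.2, by rw [inv_inv]; exact ha.1⟩ }
  have hK : K = ⊤ := by
    rw [eq_top_iff, ← hgen, Subgroup.closure_le]
    rintro g ⟨c, hc, rfl⟩
    refine ⟨fun i hi => ⟨D.tau c i, (hfin i hi c hc).1, (hfin i hi c hc).2⟩, ?_⟩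
    rw [← I.e_inv c hc]
    have hc' := hwf.inv_lt c hc
    exact fun i hi => ⟨D.tau (D.inv c) i, (hfin i hi _ hc').1, (hfin i hi _ hc').2⟩
  obtain ⟨g, rfl⟩ := QuotientGroup.mk_surjective q
  have hg : g ∈ K := by rw [hK]; exact Subgroup.mem_top g
  obtain ⟨j, hj, e⟩ := hg.1 0 hn
  refine ⟨j, hj, ?_⟩
  rw [← e, hrep0, co_zero, MulAction.Quotient.smul_mk, smul_eq_mul, mul_one]

/-- A permutation model of the table. -/
structure Model (I : Interp H D) where
  Ω : Type
  φ : G →* Equiv.Perm Ω
  ω : ℕ → Ω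
  ω_inj : ∀ i < D.n, ∀ j < D.n, ω i = ω j → i = j
  φ_e : ∀ c < D.k, ∀ i < D.n, φ (I.e c) (ω i) = ω (D.tau c i)
  φ_H : ∀ h ∈ H, φ h (ω 0) = ω 0

theorem model_ge (I : Interp H D) (M : Model I) (h : ∀ u < D.N, chkCls D u = true) :
    ∀ u < D.N, M.φ (ge I u) (M.ω 0) = M.ω (D.cls u) := by
  intro u
  induction u using Nat.strong_induction_on with
  | _ u ih =>
    intro hu
    have h2 := h u hu
    unfold chkCls at h2
    rw [seqN_eq, seqN_eq, brec_eq_cond] at h2
    cases hb : Nat.ble (Nat.succ (Nat.land (D.pn u) D.mn)) u with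
    | true =>
      rw [hb, cond_true, seqN_eq, seqN_eq, brec_eq_cond, cond_true_iff, brec_eq_cond,
        cond_true_iff, ble_iff, ble_iff, beq_iff] at h2
      obtain ⟨h3, h4, h5⟩ := h2
      have hlt : D.pnode u < u := ble_iff.1 hb
      have h3' : D.pcol u < D.k := h3
      have h4' : D.cls (D.pnode u) < D.n := h4
      have h5' : D.cls u = D.tau (D.pcol u) (D.cls (D.pnode u)) := h5
      rw [ge_of_lt I hlt, map_mul, Equiv.Perm.mul_apply, ih _ hlt (hlt.trans hu),
        M.φ_e _ h3' _ h4', h5']
    | false =>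
      rw [hb, cond_false, beq_iff] at h2
      have hnlt : ¬ D.pnode u < u := by
        intro hlt
        have : Nat.ble (Nat.succ (Nat.land (D.pn u) D.mn)) u = true := ble_iff.2 hlt
        rw [hb] at this
        exact absurd this (by simp)
      rw [ge_of_not_lt I hnlt, map_one, h2]
      rfl

/-- The value of the model at a coset. -/
noncomputable def modelMap (I : Interp H D) (M : Model I) : G ⧸ H → M.Ω :=
  Quotient.lift (fun g : G => M.φ g (M.ω 0)) (by
    intro a b hab
    have hab' : a⁻¹ * b ∈ H := QuotientGroup.leftRel_apply.1 hab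
    have := M.φ_H _ hab'
    show M.φ a (M.ω 0) = M.φ b (M.ω 0)
    have e : b = a * (a⁻¹ * b) := by group
    rw [e, map_mul, Equiv.Perm.mul_apply, this])

theorem modelMap_mk (I : Interp H D) (M : Model I) (g : G) :
    modelMap I M ((g : G) : G ⧸ H) = M.φ g (M.ω 0) := rfl

theorem modelMap_smul (I : Interp H D) (M : Model I) (g : G) (q : G ⧸ H) :
    modelMap I M (g • q) = M.φ g (modelMap I M q) := by
  obtain ⟨x, rfl⟩ := QuotientGroup.mk_surjective q
  rw [MulAction.Quotient.smul_mk, modelMap_mk, modelMap_mk, smul_eq_mul, map_mul,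
    Equiv.Perm.mul_apply]

/-- The main theorem: the subgroup has index `n`, and the model map is an equivariant injection
onto the points `ω i`, `i < n`. -/
theorem main (I : Interp H D) (M : Model I) (hwf : D.WF)
    (hgen : Subgroup.closure {g : G | ∃ c < D.k, g = I.e c} = ⊤) (hn : 0 < D.n)
    (hrep0 : D.rep 0 = 0)
    (hE : ∀ c < D.k, ∀ u < D.N, chkE D c u = true) (hL : ∀ u < D.N, chkL D u = true)
    (hF : ∀ i < D.n, chkFin D i = true) (hC : ∀ u < D.N, chkCls D u = true) :
    H.index = D.n ∧ Function.Injective (modelMap I M) ∧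
      (∀ q, ∃ i < D.n, modelMap I M q = M.ω i) ∧
      (∀ i < D.n, ∃ q, modelMap I M q = M.ω i) := by
  have hV := valid_of_checks I hwf hE hL D.Tmax
  have hfin := fun i hi => chkFin_sound I hV (hF i hi)
  have hrep := exists_rep I hwf hgen hrep0 (fun i hi => (hfin i hi).2.2) hn
  have hval : ∀ i < D.n, modelMap I M (co I (D.rep i)) = M.ω i := by
    intro i hi
    unfold co
    rw [modelMap_mk, model_ge I M hC _ (hfin i hi).1, (hfin i hi).2.1]
  have hinj : Function.Injective (modelMap I M) := by
    intro q q' hqq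
    obtain ⟨i, hi, rfl⟩ := hrep q
    obtain ⟨j, hj, rfl⟩ := hrep q'
    rw [hval i hi, hval j hj] at hqq
    rw [M.ω_inj i hi j hj hqq]
  have hsurj : ∀ q, ∃ i < D.n, modelMap I M q = M.ω i := by
    intro q
    obtain ⟨i, hi, rfl⟩ := hrep q
    exact ⟨i, hi, hval i hi⟩
  refine ⟨?_, hinj, hsurj, fun i hi => ⟨_, hval i hi⟩⟩
  have hbij : Function.Bijective (fun i : Fin D.n => co I (D.rep i)) := by
    constructor
    · intro i j hij
      have := congrArg (modelMap I M) hij
      simp only at this
      rw [hval i i.2, hval j j.2] at this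
      exact Fin.ext (M.ω_inj i i.2 j j.2 this)
    · intro q
      obtain ⟨i, hi, rfl⟩ := hrep q
      exact ⟨⟨i, hi⟩, rfl⟩
  unfold Subgroup.index
  rw [← Nat.card_congr (Equiv.ofBijective _ hbij), Nat.card_eq_fintype_card, Fintype.card_fin]

end Sound

end Cfsg.Agent.Helper9.TC2
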