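import Mathlib
import Cfsg.Agent.Lib.Helper9.TC2

set_option autoImplicit false

/-! Block trees: arrays of records stored as blocks of natural numbers in a binary search tree,
and word tables. -/

namespace Cfsg.Agent.Helper9.TC2

/-- A binary search tree of blocks. -/
inductive BT where
  | leaf (v : ℕ)
  | node (p : ℕ) (l r : BT)

/-- The block of key `j`. -/
noncomputable def BT.get (t : BT) : ℕ → ℕ :=
  BT.rec (motive := fun _ => ℕ → ℕ) (fun v _ => v)
    (fun p _ _ ihl ihr j => Bool.rec (motive := fun _ => ℕ) (ihl j) (ihr j) (Nat.ble p j)) t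

/-- The entry `i` of an array of records of `w` bits (mask `m`) in blocks of `2 ^ b` entries
(`mb = 2 ^ b - 1`). -/
noncomputable def bget (t : BT) (b w m mb i : ℕ) : ℕ :=
  seqN (Nat.shiftRight i b) (fun key =>
    Nat.land (Nat.shiftRight (t.get key) (Nat.mul w (Nat.land i mb))) m)

/-- The entry `i` of the column `c` of a family of arrays in one tree: the key of a block is
`c * 2 ^ sc + i / 2 ^ b`. -/
noncomputable def bget2 (t : BT) (sc b w m mb c i : ℕ) : ℕ :=
  seqN (Nat.lor (Nat.shiftLeft c sc) (Nat.shiftRight i b)) (fun key =>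
    Nat.land (Nat.shiftRight (t.get key) (Nat.mul w (Nat.land i mb))) m)

/-- A binary search tree of words. -/
inductive WT where
  | leaf (w : List ℕ)
  | node (p : ℕ) (l r : WT)

/-- The word of key `j`. -/
noncomputable def WT.get (t : WT) : ℕ → List ℕ :=
  WT.rec (motive := fun _ => ℕ → List ℕ) (fun w _ => w)
    (fun p _ _ ihl ihr j => Bool.rec (motive := fun _ => List ℕ) (ihl j) (ihr j) (Nat.ble p j)) t

/-- The word of key `j`, with `j` evaluated first. -/
noncomputable def WT.getF (t : WT) (j : ℕ) : List ℕ := seqN j (fun key => t.get key)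

/-- The words of a tree. -/
def WT.leaves : WT → List (List ℕ)
  | WT.leaf w => [w]
  | WT.node _ l r => l.leaves ++ r.leaves

theorem WT.get_mem_leaves (t : WT) (j : ℕ) : t.get j ∈ t.leaves := by
  induction t with
  | leaf w => exact List.mem_singleton.2 rfl
  | node p l r ihl ihr =>
    have h : (WT.node p l r).get j =
        Bool.rec (motive := fun _ => List ℕ) (l.get j) (r.get j) (Nat.ble p j) := rfl
    rw [h, brec_eq_cond]
    unfold WT.leaves
    cases Nat.ble p j with
    | true => exact List.mem_append_right _ ihr
    | false => exact List.mem_append_left _ ihl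

theorem WT.getF_mem_leaves (t : WT) (j : ℕ) : t.getF j ∈ t.leaves := by
  unfold WT.getF
  rw [seqN_eq]
  exact t.get_mem_leaves j

/-! ### Assembling checks over intervals -/

theorem ext_range {p : ℕ → Bool} {a len : ℕ} (h1 : ∀ u < a, p u = true)
    (h2 : allRange a len p = true) : ∀ u < a + len, p u = true := by
  intro u hu
  rcases Nat.lt_or_ge u a with h | h
  · exact h1 u h
  · exact allRange_iff.1 h2 u h hu

theorem range_zero {p : ℕ → Bool} : ∀ u < 0, p u = true :=
  fun _ h => absurd h (Nat.not_lt_zero _)

end Cfsg.Agent.Helper9.TC2
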