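import Mathlib
import Cfsg.Prelude.Def_SporCoxeter
import Cfsg.Agent.Lib.Helper9.TC2
import Cfsg.Agent.Lib.Helper9.TC2Pack

set_option autoImplicit false

/-! Glue between checked coset enumeration logs (second checker) and subgroups of groups presented
by a Coxeter graph and further relators.  A generator has one column if it is an involution of the
graph, and may have a second column for its inverse. -/

namespace Cfsg.Agent.Helper9.TC2

local notation "IF " b " THEN " x " ELSE " y => Bool.rec (motive := fun _ => _) y x b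

section Hom

variable {α : Type*} {K : Type*} [Group K]

theorem hom_mk_eq_prod (ψ : FreeGroup α →* K) (L : List (α × Bool)) :
    ψ (FreeGroup.mk L) = (L.map (fun p => ψ (FreeGroup.mk [p]))).prod := by
  induction L with
  | nil =>
    rw [← FreeGroup.one_eq_mk, map_one, List.map_nil, List.prod_nil]
  | cons p L ih =>
    have h1 : FreeGroup.mk (p :: L) = FreeGroup.mk [p] * FreeGroup.mk L := by
      rw [FreeGroup.mul_mk]; rfl
    rw [h1, map_mul, ih, List.map_cons, List.prod_cons]

theorem hom_eq_prod [DecidableEq α] (ψ : FreeGroup α →* K) (r : FreeGroup α) :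
    ψ r = (r.toWord.map (fun p => ψ (FreeGroup.mk [p]))).prod := by
  conv_lhs => rw [← FreeGroup.mk_toWord (x := r)]
  exact hom_mk_eq_prod ψ _

theorem mk_flip (p : α × Bool) :
    (FreeGroup.mk [(p.1, !p.2)] : FreeGroup α) = (FreeGroup.mk [p])⁻¹ := by
  rw [FreeGroup.inv_mk]
  rfl

end Hom

/-! ### The permutations of a table -/

section Perm

variable (D : Tab)

/-- The column `c` as a map of all natural numbers. -/
def sig (c i : ℕ) : ℕ := if i < D.n then D.tau c i else i

/-- At the point `i`, the columns map into the table and are inverted by their inverse columns. -/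
noncomputable def chkM1 (i : ℕ) : Bool :=
  allRange 0 D.k (fun c => seqN (D.tau c i) (fun j =>
    IF Nat.ble (Nat.succ j) D.n THEN Nat.beq (D.tau (D.inv c) j) i ELSE false))

/-- Run a word on a point, from the right end of the word. -/
noncomputable def runT (w : List ℕ) (i : ℕ) : ℕ :=
  List.rec (motive := fun _ => ℕ) i (fun c _ ih => seqN ih (fun j => D.tau c j)) w

theorem runT_nil (i : ℕ) : runT D [] i = i := rfl

theorem runT_cons (c : ℕ) (w : List ℕ) (i : ℕ) : runT D (c :: w) i = D.tau c (runT D w i) := by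
  show seqN (runT D w i) _ = _
  rw [seqN_eq]

/-- All words of the list fix the point `i`. -/
noncomputable def chkFix (ws : List (List ℕ)) (i : ℕ) : Bool :=
  allList ws (fun w => Nat.beq (runT D w i) i)

/-- The columns of the table are permutations. -/
structure PermOK : Prop where
  inv_lt : ∀ c < D.k, D.inv c < D.k
  inv_inv : ∀ c < D.k, D.inv (D.inv c) = c
  m1 : ∀ i < D.n, chkM1 D i = true

variable {D}

theorem PermOK.tau_lt (h : PermOK D) {c i : ℕ} (hc : c < D.k) (hi : i < D.n) :
    D.tau c i < D.n := by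
  have h1 := h.m1 i hi
  unfold chkM1 at h1
  rw [allRange_iff] at h1
  have h2 := h1 c (Nat.zero_le c) (by omega)
  rw [seqN_eq, brec_eq_cond, cond_true_iff, ble_iff] at h2
  exact h2.1

theorem PermOK.tau_tau (h : PermOK D) {c i : ℕ} (hc : c < D.k) (hi : i < D.n) :
    D.tau (D.inv c) (D.tau c i) = i := by
  have h1 := h.m1 i hi
  unfold chkM1 at h1
  rw [allRange_iff] at h1
  have h2 := h1 c (Nat.zero_le c) (by omega)
  rw [seqN_eq, brec_eq_cond, cond_true_iff, beq_iff] at h2
  exact h2.2

theorem sig_of_lt {c i : ℕ} (hi : i < D.n) : sig D c i = D.tau c i := by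
  unfold sig
  rw [if_pos hi]

theorem sig_of_ge {c i : ℕ} (hi : D.n ≤ i) : sig D c i = i := by
  unfold sig
  rw [if_neg (not_lt.2 hi)]

theorem PermOK.sig_sig (h : PermOK D) {c : ℕ} (hc : c < D.k) (i : ℕ) :
    sig D (D.inv c) (sig D c i) = i := by
  by_cases hi : i < D.n
  · rw [sig_of_lt hi, sig_of_lt (h.tau_lt hc hi), h.tau_tau hc hi]
  · rw [sig_of_ge (not_lt.1 hi), sig_of_ge (not_lt.1 hi)]

/-- The column `c` as a permutation of the natural numbers. -/
noncomputable def sigPerm (h : PermOK D) (c : ℕ) : Equiv.Perm ℕ :=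
  if hc : c < D.k then
    { toFun := sig D c
      invFun := sig D (D.inv c)
      left_inv := fun i => h.sig_sig hc i
      right_inv := fun i => by
        have := h.sig_sig (h.inv_lt c hc) i
        rw [h.inv_inv c hc] at this
        exact this }
  else 1

theorem sigPerm_apply (h : PermOK D) {c : ℕ} (hc : c < D.k) (i : ℕ) :
    sigPerm h c i = sig D c i := by
  unfold sigPerm
  rw [dif_pos hc]
  rfl

theorem sigPerm_inv (h : PermOK D) {c : ℕ} (hc : c < D.k) :
    sigPerm h (D.inv c) = (sigPerm h c)⁻¹ := by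
  apply Equiv.ext
  intro i
  rw [Equiv.Perm.inv_def, eq_comm, Equiv.symm_apply_eq, sigPerm_apply h hc,
    sigPerm_apply h (h.inv_lt c hc)]
  have := h.sig_sig (h.inv_lt c hc) i
  rw [h.inv_inv c hc] at this
  exact this.symm

theorem prod_sigPerm_apply (h : PermOK D) (w : List ℕ) (hw : ∀ c ∈ w, c < D.k) {i : ℕ}
    (hi : i < D.n) : (w.map (sigPerm h)).prod i = runT D w i ∧ runT D w i < D.n := by
  induction w with
  | nil => exact ⟨rfl, hi⟩
  | cons c w ih =>
    have hc : c < D.k := hw c List.mem_cons_self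
    obtain ⟨e1, e2⟩ := ih (fun c' hc' => hw c' (List.mem_cons_of_mem _ hc'))
    rw [List.map_cons, List.prod_cons, Equiv.Perm.mul_apply, e1, sigPerm_apply h hc,
      sig_of_lt e2, runT_cons]
    exact ⟨rfl, h.tau_lt hc e2⟩

theorem prod_sigPerm_apply_ge (h : PermOK D) (w : List ℕ) {i : ℕ}
    (hi : D.n ≤ i) : (w.map (sigPerm h)).prod i = i := by
  induction w with
  | nil => rfl
  | cons c w ih =>
    rw [List.map_cons, List.prod_cons, Equiv.Perm.mul_apply, ih]
    by_cases hc : c < D.k
    · rw [sigPerm_apply h hc, sig_of_ge hi]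
    · unfold sigPerm
      rw [dif_neg hc]
      rfl

theorem prod_sigPerm_eq_one (h : PermOK D) {ws : List (List ℕ)}
    (hf : ∀ i < D.n, chkFix D ws i = true)
    {w : List ℕ} (hmem : w ∈ ws) (hw : ∀ c ∈ w, c < D.k) : (w.map (sigPerm h)).prod = 1 := by
  apply Equiv.ext
  intro i
  by_cases hi : i < D.n
  · have h1 := hf i hi
    unfold chkFix at h1
    rw [(prod_sigPerm_apply h w hw hi).1, Nat.eq_of_beq_eq_true (allList_iff.1 h1 w hmem)]
    rfl
  · rw [prod_sigPerm_apply_ge h w (not_lt.1 hi)]
    rfl

end Perm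

/-! ### Counting -/

/-- The number of `i < n` with `p i`, with an accumulator. -/
noncomputable def cntAux (p : ℕ → Bool) (n : ℕ) : ℕ → ℕ :=
  Nat.rec (motive := fun _ => ℕ → ℕ) (fun acc => acc)
    (fun i ih acc => seqN (Bool.rec (motive := fun _ => ℕ) acc (Nat.succ acc) (p i)) ih) n

/-- The number of `i < n` with `p i`. -/
noncomputable def cnt (p : ℕ → Bool) (n : ℕ) : ℕ := cntAux p n 0

theorem cntAux_succ (p : ℕ → Bool) (n acc : ℕ) :
    cntAux p (n + 1) acc = cntAux p n (bif p n then acc + 1 else acc) := by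
  show seqN _ _ = _
  rw [seqN_eq, brec_eq_cond]
  rfl

theorem cntAux_eq (p : ℕ → Bool) (n acc : ℕ) :
    cntAux p n acc = acc + ((Finset.range n).filter (fun i => p i = true)).card := by
  induction n generalizing acc with
  | zero => simp [cntAux]
  | succ n ih =>
    rw [cntAux_succ, ih, Finset.range_add_one, Finset.filter_insert]
    cases hp : p n with
    | true =>
      rw [cond_true, if_pos rfl, Finset.card_insert_of_notMem (by simp)]
      omega
    | false =>
      rw [cond_false, if_neg (by simp)]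

theorem ncard_eq_cnt (p : ℕ → Bool) (n : ℕ) :
    Set.ncard {i | i < n ∧ p i = true} = cnt p n := by
  unfold cnt
  rw [cntAux_eq, zero_add]
  have : {i | i < n ∧ p i = true} = ((Finset.range n).filter (fun i => p i = true) : Set ℕ) := by
    ext i
    simp
  rw [this, Set.ncard_coe_finset]


/-! ### Coxeter presentations -/

section Cox

open Cfsg.Spor

variable {α : Type} [DecidableEq α] (edges : List (α × ℕ × α)) (extra : List (FreeGroup α))

/-- The relator of an ordered pair of nodes. -/
def pairRel (x y : α) : FreeGroup α := (FreeGroup.of x * FreeGroup.of y) ^ coxLabel edges x y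

/-- All relators, as a list. -/
def relList (nodes : List α) : List (FreeGroup α) :=
  nodes.flatMap (fun x => nodes.map (fun y => pairRel edges x y)) ++ extra

/-- The relators, as a set. -/
abbrev relSet : Set (FreeGroup α) := coxRelators edges ∪ {r | r ∈ extra}

/-- The column of a letter: its own column if it has one, the column of its inverse otherwise. -/
def colIdx (cols : List (α × Bool)) (p : α × Bool) : ℕ :=
  if p ∈ cols then cols.idxOf p else cols.idxOf (p.1, !p.2)

/-- The word of columns of an element of the free group. -/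
def colWord (cols : List (α × Bool)) (r : FreeGroup α) : List ℕ := r.toWord.map (colIdx cols)

/-- The column of the inverse of a column. -/
def invCol (cols : List (α × Bool)) (c : ℕ) : ℕ :=
  match cols[c]? with
  | some p => colIdx cols (p.1, !p.2)
  | none => c

/-- The interpretation of the columns in the presented group. -/
noncomputable def eCol (cols : List (α × Bool)) (c : ℕ) : PresentedGroup (relSet edges extra) :=
  match cols[c]? with
  | some p => PresentedGroup.mk (relSet edges extra) (FreeGroup.mk [p])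
  | none => 1

variable {edges extra}

theorem coxLabel_comm (x y : α) : coxLabel edges x y = coxLabel edges y x := by
  unfold coxLabel
  by_cases h : x = y
  · subst h; rfl
  · rw [if_neg h, if_neg (Ne.symm h)]
    have : (fun e : α × ℕ × α => decide ((e.1 = x ∧ e.2.2 = y) ∨ (e.1 = y ∧ e.2.2 = x))) =
        (fun e : α × ℕ × α => decide ((e.1 = y ∧ e.2.2 = x) ∨ (e.1 = x ∧ e.2.2 = y))) := by
      funext e
      exact decide_eq_decide.2 or_comm
    rw [this]

theorem mem_relList_of_mem {nodes : List α} (hn : ∀ x ∈ coxNodes edges, x ∈ nodes)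
    {r : FreeGroup α} (h : r ∈ relSet edges extra) : r ∈ relList edges extra nodes := by
  unfold relList
  rcases h with ⟨x, hx, y, hy, rfl⟩ | h
  · apply List.mem_append_left
    rw [List.mem_flatMap]
    exact ⟨x, hn x hx, List.mem_map.2 ⟨y, hn y hy, rfl⟩⟩
  · exact List.mem_append_right _ h

theorem mem_relSet_of_mem {nodes : List α} (hn : ∀ x ∈ nodes, x ∈ coxNodes edges)
    {r : FreeGroup α} (h : r ∈ relList edges extra nodes) : r ∈ relSet edges extra := by
  unfold relList at h
  rcases List.mem_append.1 h with h | h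
  · rw [List.mem_flatMap] at h
    obtain ⟨x, hx, h⟩ := h
    obtain ⟨y, hy, rfl⟩ := List.mem_map.1 h
    exact Or.inl ⟨x, hn x hx, y, hn y hy, rfl⟩
  · exact Or.inr h

/-- Conditions on the list of columns. -/
structure ColsOK (edges : List (α × ℕ × α)) (cols : List (α × Bool)) : Prop where
  pos : ∀ x : α, (x, true) ∈ cols
  nodup : cols.Nodup
  neg : ∀ x : α, (x, false) ∉ cols → x ∈ coxNodes edges
  negn : ∀ x : α, (x, false) ∈ cols → x ∉ coxNodes edges

variable {cols : List (α × Bool)}

theorem colIdx_lt (h : ColsOK edges cols) (p : α × Bool) : colIdx cols p < cols.length := by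
  unfold colIdx
  by_cases hp : p ∈ cols
  · rw [if_pos hp]; exact List.idxOf_lt_length_iff.2 hp
  · rw [if_neg hp]
    apply List.idxOf_lt_length_iff.2
    obtain ⟨x, b⟩ := p
    cases b with
    | true => exact absurd (h.pos x) hp
    | false => exact h.pos x

theorem colWord_lt (h : ColsOK edges cols) (r : FreeGroup α) :
    ∀ c ∈ colWord cols r, c < cols.length := by
  intro c hc
  unfold colWord at hc
  obtain ⟨p, _, rfl⟩ := List.mem_map.1 hc
  exact colIdx_lt h p

/-- A family indexed by the columns takes the value of a homomorphism at every letter. -/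
theorem E_colIdx {K : Type*} [Group K] (h : ColsOK edges cols) (ψ : FreeGroup α →* K) (E : ℕ → K)
    (hpos : ∀ x, E (cols.idxOf (x, true)) = ψ (FreeGroup.of x))
    (hneg : ∀ x, (x, false) ∈ cols → E (cols.idxOf (x, false)) = (ψ (FreeGroup.of x))⁻¹)
    (hinvol : ∀ x, (x, false) ∉ cols → (ψ (FreeGroup.of x))⁻¹ = ψ (FreeGroup.of x))
    (p : α × Bool) : E (colIdx cols p) = ψ (FreeGroup.mk [p]) := by
  obtain ⟨x, b⟩ := p
  have hf : (FreeGroup.mk [(x, false)] : FreeGroup α) = (FreeGroup.of x)⁻¹ := by
    unfold FreeGroup.of; rw [FreeGroup.inv_mk]; rfl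
  unfold colIdx
  cases b with
  | true =>
    rw [if_pos (h.pos x)]
    exact hpos x
  | false =>
    by_cases hp : (x, false) ∈ cols
    · rw [if_pos hp, hneg x hp, hf, map_inv]
    · rw [if_neg hp, hf, map_inv, hinvol x hp]
      exact hpos x

theorem prod_colWord {K : Type*} [Group K] (h : ColsOK edges cols) (ψ : FreeGroup α →* K)
    (E : ℕ → K)
    (hpos : ∀ x, E (cols.idxOf (x, true)) = ψ (FreeGroup.of x))
    (hneg : ∀ x, (x, false) ∈ cols → E (cols.idxOf (x, false)) = (ψ (FreeGroup.of x))⁻¹)
    (hinvol : ∀ x, (x, false) ∉ cols → (ψ (FreeGroup.of x))⁻¹ = ψ (FreeGroup.of x))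
    (r : FreeGroup α) : ((colWord cols r).map E).prod = ψ r := by
  rw [hom_eq_prod ψ r]
  unfold colWord
  rw [List.map_map]
  refine congrArg List.prod (List.map_congr_left (fun p _ => ?_))
  exact E_colIdx h ψ E hpos hneg hinvol p

theorem eCol_idxOf {p : α × Bool} (hp : p ∈ cols) :
    eCol edges extra cols (cols.idxOf p) =
      PresentedGroup.mk (relSet edges extra) (FreeGroup.mk [p]) := by
  unfold eCol
  rw [List.getElem?_idxOf hp]

theorem eCol_of_lt {c : ℕ} (h : c < cols.length) :
    eCol edges extra cols c = PresentedGroup.mk (relSet edges extra) (FreeGroup.mk [cols[c]]) := by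
  unfold eCol
  rw [List.getElem?_eq_getElem h]

theorem invCol_of_lt {c : ℕ} (h : c < cols.length) :
    invCol cols c = colIdx cols ((cols[c]).1, !(cols[c]).2) := by
  unfold invCol
  rw [List.getElem?_eq_getElem h]

theorem of_mul_self {x : α} (hx : x ∈ coxNodes edges) :
    (PresentedGroup.of x : PresentedGroup (relSet edges extra)) * PresentedGroup.of x = 1 := by
  have hmem : (FreeGroup.of x * FreeGroup.of x) ^ coxLabel edges x x ∈ relSet edges extra :=
    Or.inl ⟨x, hx, x, hx, rfl⟩
  have h1 : coxLabel edges x x = 1 := by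
    unfold coxLabel
    rw [if_pos rfl]
  rw [h1, pow_one] at hmem
  have := PresentedGroup.one_of_mem hmem
  rw [map_mul] at this
  exact this

theorem of_inv {x : α} (hx : x ∈ coxNodes edges) :
    (PresentedGroup.of x : PresentedGroup (relSet edges extra))⁻¹ = PresentedGroup.of x :=
  inv_eq_of_mul_eq_one_left (of_mul_self hx)

theorem prod_colWord_eCol (h : ColsOK edges cols) (r : FreeGroup α) :
    ((colWord cols r).map (eCol edges extra cols)).prod =
      PresentedGroup.mk (relSet edges extra) r := by
  apply prod_colWord h (PresentedGroup.mk (relSet edges extra)) (eCol edges extra cols)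
  · intro x
    rw [eCol_idxOf (h.pos x)]
    rfl
  · intro x hx
    rw [eCol_idxOf hx]
    have hf : (FreeGroup.mk [(x, false)] : FreeGroup α) = (FreeGroup.of x)⁻¹ := by
      unfold FreeGroup.of; rw [FreeGroup.inv_mk]; rfl
    rw [hf, map_inv]
  · intro x hx
    exact of_inv (h.neg x hx)

theorem eCol_invCol (h : ColsOK edges cols) {c : ℕ} (hc : c < cols.length) :
    eCol edges extra cols (invCol cols c) = (eCol edges extra cols c)⁻¹ := by
  rw [invCol_of_lt hc, eCol_of_lt hc]
  have h1 := E_colIdx h (PresentedGroup.mk (relSet edges extra)) (eCol edges extra cols)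
    (fun x => by rw [eCol_idxOf (h.pos x)]; rfl)
    (fun x hx => by
      rw [eCol_idxOf hx]
      have hf : (FreeGroup.mk [(x, false)] : FreeGroup α) = (FreeGroup.of x)⁻¹ := by
        unfold FreeGroup.of; rw [FreeGroup.inv_mk]; rfl
      rw [hf, map_inv])
    (fun x hx => of_inv (h.neg x hx)) ((cols[c]).1, !(cols[c]).2)
  rw [h1, mk_flip, map_inv]

theorem cox_hgen (h : ColsOK edges cols) (k : ℕ) (hk : k = cols.length) :
    Subgroup.closure {g : PresentedGroup (relSet edges extra) |
      ∃ c < k, g = eCol edges extra cols c} = ⊤ := by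
  rw [eq_top_iff, ← PresentedGroup.closure_range_of, Subgroup.closure_le]
  rintro _ ⟨x, rfl⟩
  apply Subgroup.subset_closure
  refine ⟨cols.idxOf (x, true), ?_, ?_⟩
  · rw [hk]
    exact List.idxOf_lt_length_iff.2 (h.pos x)
  · rw [eCol_idxOf (h.pos x)]
    rfl

/-- The words of a list are rotations of the words of another list, as named by a list of
sources. -/
def chkRotSrc (rws : List (List ℕ)) (src : List (ℕ × ℕ)) (leaves : List (List ℕ)) : Bool :=
  leaves.length == src.length &&
    (List.zipWith (fun w s => w == (rws.getD s.1 []).rotate s.2) leaves src).all id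

theorem chkRotSrc_sound {rws : List (List ℕ)} {src : List (ℕ × ℕ)} {leaves : List (List ℕ)}
    (h : chkRotSrc rws src leaves = true) :
    ∀ w ∈ leaves, ∃ v, (v ∈ rws ∨ v = []) ∧ ∃ m, w = v.rotate m := by
  unfold chkRotSrc at h
  rw [Bool.and_eq_true] at h
  obtain ⟨h1, h2⟩ := h
  have h1' : leaves.length = src.length := by simpa using h1
  intro w hw
  obtain ⟨i, hi, rfl⟩ := List.getElem_of_mem hw
  have hi' : i < src.length := by rw [← h1']; exact hi
  rw [List.all_eq_true] at h2
  have h3 := h2 (leaves[i] == (rws.getD (src[i]).1 []).rotate (src[i]).2) (by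
    rw [List.mem_iff_getElem]
    refine ⟨i, by rw [List.length_zipWith]; omega, ?_⟩
    rw [List.getElem_zipWith])
  have h4 : leaves[i] = (rws.getD (src[i]).1 []).rotate (src[i]).2 := by simpa using h3
  refine ⟨rws.getD (src[i]).1 [], getD_mem_or_nil rws _, (src[i]).2, h4⟩


/-- A certificate for the index of a subgroup of a Coxeter-presented group. -/
structure CoxCert (edges : List (α × ℕ × α)) (extra : List (FreeGroup α))
    (S : Set (FreeGroup α)) where
  cols : List (α × Bool)
  nodes : List α
  sgens : List (FreeGroup α)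
  D : Tab
  mwords : List (List ℕ)
  hcols : ColsOK edges cols
  hnodes1 : ∀ x ∈ nodes, x ∈ coxNodes edges
  hnodes2 : ∀ x ∈ coxNodes edges, x ∈ nodes
  hS : S = {s | s ∈ sgens}
  hk : D.k = cols.length
  hinv : ∀ c < D.k, D.inv c = invCol cols c
  hinv2 : ∀ c < D.k, D.inv (D.inv c) = c
  hrot : ∀ i, ∃ v, (v ∈ (relList edges extra nodes).map (colWord cols) ∨ v = []) ∧
    ∃ m, D.rot i = v.rotate m
  hsubs : D.subs = sgens.map (colWord cols)
  hdead : ∀ c < D.k, D.stp c D.N = 0
  hn0 : 0 < D.n
  hrep0 : D.rep 0 = 0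
  hE : ∀ c < D.k, ∀ u < D.N, chkE D c u = true
  hL : ∀ u < D.N, chkL D u = true
  hF : ∀ i < D.n, chkFin D i = true
  hC : ∀ u < D.N, chkCls D u = true
  hM1 : ∀ i < D.n, chkM1 D i = true
  hmw1 : ∀ x ∈ nodes, ∀ y ∈ nodes, x = y ∨ colWord cols (pairRel edges x y) ∈ mwords ∨
    colWord cols (pairRel edges y x) ∈ mwords
  hmw2 : ∀ r ∈ extra, colWord cols r ∈ mwords
  hM2 : ∀ i < D.n, chkFix D mwords i = true
  hM3 : chkFix D D.subs 0 = true

variable {S : Set (FreeGroup α)}

/-- The subgroup of a certificate. -/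
abbrev coxH (edges : List (α × ℕ × α)) (extra : List (FreeGroup α)) (S : Set (FreeGroup α)) :
    Subgroup (PresentedGroup (relSet edges extra)) :=
  (Subgroup.closure S).map (PresentedGroup.mk (relSet edges extra))

namespace CoxCert

variable (C : CoxCert edges extra S)

theorem mem_S {s : FreeGroup α} (hs : s ∈ C.sgens) : s ∈ S := by
  rw [C.hS]; exact hs

theorem mem_sgens {s : FreeGroup α} (hs : s ∈ S) : s ∈ C.sgens := by
  have := hs
  rw [C.hS] at this
  exact this

theorem inv_lt {c : ℕ} (hc : c < C.D.k) : C.D.inv c < C.D.k := by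
  have hc' : c < C.cols.length := by rw [← C.hk]; exact hc
  rw [C.hinv c hc, invCol_of_lt hc', C.hk]
  exact colIdx_lt C.hcols _

theorem rot_prop (i : ℕ) :
    (∀ c ∈ C.D.rot i, c < C.D.k) ∧
      ((C.D.rot i).map (eCol edges extra C.cols)).prod = 1 := by
  obtain ⟨v, hv, m, hm⟩ := C.hrot i
  rw [hm]
  rcases hv with hv | hv
  · obtain ⟨r, hr, rfl⟩ := List.mem_map.1 hv
    constructor
    · intro c hc
      rw [List.mem_rotate] at hc
      rw [C.hk]
      exact colWord_lt C.hcols r c hc
    · rw [List.map_rotate]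
      apply List.prod_rotate_eq_one_of_prod_eq_one
      rw [prod_colWord_eCol C.hcols]
      exact PresentedGroup.one_of_mem (mem_relSet_of_mem C.hnodes1 hr)
  · rw [hv, List.rotate_nil]
    exact ⟨fun c hc => absurd hc List.not_mem_nil, by simp⟩

theorem wf : C.D.WF where
  inv_lt := fun _ hc => C.inv_lt hc
  rot_lt := fun i => (C.rot_prop i).1
  sub_lt := by
    intro w hw c hc
    rw [C.hsubs] at hw
    obtain ⟨s, _, rfl⟩ := List.mem_map.1 hw
    rw [C.hk]
    exact colWord_lt C.hcols s c hc
  dead := C.hdead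

/-- The interpretation. -/
noncomputable def interp : Interp (coxH edges extra S) C.D where
  e := eCol edges extra C.cols
  e_inv := by
    intro c hc
    have hc' : c < C.cols.length := by rw [← C.hk]; exact hc
    rw [C.hinv c hc, eCol_invCol C.hcols hc']
  rot := fun i => (C.rot_prop i).2
  sub := by
    intro w hw
    rw [C.hsubs] at hw
    obtain ⟨s, hs, rfl⟩ := List.mem_map.1 hw
    rw [prod_colWord_eCol C.hcols]
    exact Subgroup.mem_map_of_mem _ (Subgroup.subset_closure (C.mem_S hs))

theorem permOK : PermOK C.D where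
  inv_lt := fun _ hc => C.inv_lt hc
  inv_inv := C.hinv2
  m1 := C.hM1

/-- The images of the generators in the permutation model. -/
noncomputable def fPerm (x : α) : Equiv.Perm ℕ := sigPerm C.permOK (C.cols.idxOf (x, true))

theorem idx_lt (x : α) : C.cols.idxOf (x, true) < C.D.k := by
  rw [C.hk]
  exact List.idxOf_lt_length_iff.2 (C.hcols.pos x)

theorem inv_idx_of_mem {x : α} (hx : (x, false) ∈ C.cols) :
    C.D.inv (C.cols.idxOf (x, true)) = C.cols.idxOf (x, false) := by
  have h1 := C.idx_lt x
  have h2 : C.cols.idxOf (x, true) < C.cols.length := by rw [← C.hk]; exact h1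
  rw [C.hinv _ h1, invCol_of_lt h2, List.getElem_idxOf h2]
  unfold colIdx
  show (if (x, false) ∈ C.cols then C.cols.idxOf (x, false) else C.cols.idxOf (x, true)) = _
  rw [if_pos hx]

theorem inv_idx_of_not_mem {x : α} (hx : (x, false) ∉ C.cols) :
    C.D.inv (C.cols.idxOf (x, true)) = C.cols.idxOf (x, true) := by
  have h1 := C.idx_lt x
  have h2 : C.cols.idxOf (x, true) < C.cols.length := by rw [← C.hk]; exact h1
  rw [C.hinv _ h1, invCol_of_lt h2, List.getElem_idxOf h2]
  unfold colIdx
  show (if (x, false) ∈ C.cols then C.cols.idxOf (x, false) else C.cols.idxOf (x, true)) = _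
  rw [if_neg hx]

theorem lift_fPerm (r : FreeGroup α) :
    FreeGroup.lift C.fPerm r = ((colWord C.cols r).map (sigPerm C.permOK)).prod := by
  symm
  apply prod_colWord C.hcols (FreeGroup.lift C.fPerm) (sigPerm C.permOK)
  · intro x
    rw [FreeGroup.lift_apply_of]
    rfl
  · intro x hx
    rw [FreeGroup.lift_apply_of, ← C.inv_idx_of_mem hx, sigPerm_inv C.permOK (C.idx_lt x)]
    rfl
  · intro x hx
    rw [FreeGroup.lift_apply_of]
    have := sigPerm_inv C.permOK (C.idx_lt x)
    rw [C.inv_idx_of_not_mem hx] at this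
    exact this.symm

theorem lift_mword {r : FreeGroup α} (h : colWord C.cols r ∈ C.mwords) :
    FreeGroup.lift C.fPerm r = 1 := by
  rw [C.lift_fPerm]
  apply prod_sigPerm_eq_one C.permOK C.hM2 h
  rw [C.hk]
  exact colWord_lt C.hcols r

theorem lift_eq_one : ∀ r ∈ relSet edges extra, FreeGroup.lift C.fPerm r = 1 := by
  intro r hr
  rcases hr with ⟨x, hx, y, hy, rfl⟩ | hr
  · have hx' := C.hnodes2 x hx
    have hy' := C.hnodes2 y hy
    rcases C.hmw1 x hx' y hy' with h | h | h
    · subst h
      have h1 : coxLabel edges x x = 1 := by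
        unfold coxLabel
        rw [if_pos rfl]
      rw [h1, pow_one, map_mul, FreeGroup.lift_apply_of]
      have hn : (x, false) ∉ C.cols := fun hm => C.hcols.negn x hm hx
      have := sigPerm_inv C.permOK (C.idx_lt x)
      rw [C.inv_idx_of_not_mem hn] at this
      show sigPerm C.permOK _ * sigPerm C.permOK _ = 1
      nth_rewrite 1 [this]
      exact inv_mul_cancel _
    · exact C.lift_mword h
    · have h1 := C.lift_mword h
      unfold pairRel at h1
      rw [map_pow, map_mul] at h1
      rw [map_pow, map_mul, coxLabel_comm x y]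
      have h2 : FreeGroup.lift C.fPerm (FreeGroup.of x) * FreeGroup.lift C.fPerm (FreeGroup.of y) =
          (FreeGroup.lift C.fPerm (FreeGroup.of y))⁻¹ *
            (FreeGroup.lift C.fPerm (FreeGroup.of y) * FreeGroup.lift C.fPerm (FreeGroup.of x)) *
            (FreeGroup.lift C.fPerm (FreeGroup.of y))⁻¹⁻¹ := by group
      rw [h2, conj_pow, h1, mul_one, mul_inv_cancel]
  · exact C.lift_mword (C.hmw2 r hr)

/-- The permutation representation. -/
noncomputable def phi : PresentedGroup (relSet edges extra) →* Equiv.Perm ℕ :=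
  PresentedGroup.toGroup C.lift_eq_one

theorem phi_mk (r : FreeGroup α) :
    C.phi (PresentedGroup.mk (relSet edges extra) r) =
      ((colWord C.cols r).map (sigPerm C.permOK)).prod := by
  rw [← C.lift_fPerm]
  rfl

theorem phi_mk_apply (r : FreeGroup α) {i : ℕ} (hi : i < C.D.n) :
    C.phi (PresentedGroup.mk (relSet edges extra) r) i = runT C.D (colWord C.cols r) i ∧
      runT C.D (colWord C.cols r) i < C.D.n := by
  rw [C.phi_mk]
  exact prod_sigPerm_apply C.permOK _ (by rw [C.hk]; exact colWord_lt C.hcols r) hi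

theorem phi_mk_apply_ge (r : FreeGroup α) {i : ℕ} (hi : C.D.n ≤ i) :
    C.phi (PresentedGroup.mk (relSet edges extra) r) i = i := by
  rw [C.phi_mk]
  exact prod_sigPerm_apply_ge C.permOK _ hi

theorem phi_e {c : ℕ} (hck : c < C.D.k) {i : ℕ} (hi : i < C.D.n) :
    C.phi (eCol edges extra C.cols c) i = C.D.tau c i := by
  have hck' : c < C.cols.length := by rw [← C.hk]; exact hck
  rw [eCol_of_lt hck']
  obtain ⟨h1, _⟩ := C.phi_mk_apply (FreeGroup.mk [C.cols[c]]) hi
  rw [h1]
  have h2 : colWord C.cols (FreeGroup.mk [C.cols[c]]) = [c] := by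
    unfold colWord
    have : (FreeGroup.mk [C.cols[c]]).toWord = [C.cols[c]] := by
      rw [FreeGroup.toWord_mk]
      exact FreeGroup.reduce.eq_of_red (by
        have : FreeGroup.Red [C.cols[c]] (FreeGroup.reduce [C.cols[c]]) := FreeGroup.reduce.red
        exact this) ▸ rfl
    rw [this, List.map_singleton]
    unfold colIdx
    rw [if_pos (List.getElem_mem hck'), C.hcols.nodup.idxOf_getElem c hck']
  rw [h2, runT_cons, runT_nil]


theorem phi_H : ∀ g ∈ coxH edges extra S, C.phi g 0 = 0 := by
  rintro _ ⟨s, hs, rfl⟩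
  induction hs using Subgroup.closure_induction with
  | mem s hs =>
    have h1 := (C.phi_mk_apply s C.hn0).1
    have h2 : colWord C.cols s ∈ C.D.subs := by
      rw [C.hsubs]
      exact List.mem_map.2 ⟨s, C.mem_sgens hs, rfl⟩
    have h3 := C.hM3
    unfold chkFix at h3
    have h4 := Nat.eq_of_beq_eq_true (allList_iff.1 h3 _ h2)
    exact h1.trans h4
  | one => rw [map_one, map_one]; rfl
  | mul a b _ _ iha ihb =>
    rw [map_mul, map_mul, Equiv.Perm.mul_apply]
    rw [ihb, iha]
  | inv a _ iha =>
    rw [map_inv, map_inv, Equiv.Perm.inv_eq_iff_eq]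
    exact iha.symm

/-- The permutation model. -/
noncomputable def model : Model C.interp where
  Ω := ℕ
  φ := C.phi
  ω := fun i => i
  ω_inj := fun _ _ _ _ h => h
  φ_e := fun _ hck _ hi => C.phi_e hck hi
  φ_H := C.phi_H

/-- The map from the cosets to the points of the table. -/
noncomputable def Phi :
    PresentedGroup (relSet edges extra) ⧸ coxH edges extra S → ℕ :=
  modelMap C.interp C.model

theorem main_aux :
    (coxH edges extra S).index = C.D.n ∧ Function.Injective C.Phi ∧
      (∀ q, C.Phi q < C.D.n) ∧ (∀ i < C.D.n, ∃ q, C.Phi q = i) := by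
  have hgen : Subgroup.closure {g : PresentedGroup (relSet edges extra) |
      ∃ c < C.D.k, g = C.interp.e c} = ⊤ := cox_hgen C.hcols C.D.k C.hk
  obtain ⟨h1, h2, h3, h4⟩ :=
    main C.interp C.model C.wf hgen C.hn0 C.hrep0 C.hE C.hL C.hF C.hC
  refine ⟨h1, h2, ?_, h4⟩
  intro q
  obtain ⟨i, hi, e⟩ := h3 q
  have : C.Phi q = i := e
  rw [this]
  exact hi

theorem index_eq : (coxH edges extra S).index = C.D.n := C.main_aux.1

theorem Phi_smul (g : PresentedGroup (relSet edges extra))
    (q : PresentedGroup (relSet edges extra) ⧸ coxH edges extra S) :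
    C.Phi (g • q) = C.phi g (C.Phi q) :=
  modelMap_smul C.interp C.model g q

end CoxCert

/-! ### Orbits of the subgroup -/

theorem smul_coe {G : Type*} [Group G] {H : Subgroup G} (g : H) (q : G ⧸ H) :
    g • q = (g : G) • q := rfl

/-- A certificate for the orbits of the subgroup on the points of the table: labels of the orbits,
a depth function, the index of a subgroup word decreasing the depth, and the roots. -/
structure OrbData where
  lab : ℕ → ℕ
  dep : ℕ → ℕ
  oj : ℕ → ℕ
  root : ℕ → ℕ

/-- At the point `i`, the labels are invariant under the subgroup words. -/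
noncomputable def chkO1 (D : Tab) (O : OrbData) (i : ℕ) : Bool :=
  allList D.subs (fun w => Nat.beq (O.lab (runT D w i)) (O.lab i))

/-- The point `i` is the root of its label or is moved to a point of smaller depth. -/
noncomputable def chkO2 (D : Tab) (O : OrbData) (i : ℕ) : Bool :=
  IF Nat.beq (O.root (O.lab i)) i THEN true
  ELSE Nat.ble (Nat.succ (O.dep (runT D (D.subs.getD (O.oj i) []) i))) (O.dep i)

namespace CoxCert

variable (C : CoxCert edges extra S) (O : OrbData)

/-- The labels, shifted, with `0` outside the table. -/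
def lab' (i : ℕ) : ℕ := if i < C.D.n then O.lab i + 1 else 0

theorem lab'_invariant (ho1 : ∀ i < C.D.n, chkO1 C.D O i = true) :
    ∀ g ∈ coxH edges extra S, ∀ x, C.lab' O (C.phi g x) = C.lab' O x := by
  rintro _ ⟨s, hs, rfl⟩
  induction hs using Subgroup.closure_induction with
  | mem s hs =>
    intro x
    by_cases hx : x < C.D.n
    · obtain ⟨h1, h2⟩ := C.phi_mk_apply s hx
      have h3 : colWord C.cols s ∈ C.D.subs := by
        rw [C.hsubs]
        exact List.mem_map.2 ⟨s, C.mem_sgens hs, rfl⟩
      have h5 := ho1 x hx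
      unfold chkO1 at h5
      have h4 := Nat.eq_of_beq_eq_true (allList_iff.1 h5 _ h3)
      rw [h1]
      unfold lab'
      rw [if_pos h2, if_pos hx, h4]
    · rw [C.phi_mk_apply_ge s (not_lt.1 hx)]
  | one => intro x; rw [map_one, map_one]; rfl
  | mul a b _ _ iha ihb =>
    intro x
    rw [map_mul, map_mul, Equiv.Perm.mul_apply, iha, ihb]
  | inv a _ iha =>
    intro x
    rw [map_inv, map_inv]
    have := iha ((C.phi (PresentedGroup.mk (relSet edges extra) a))⁻¹ x)
    have e : C.phi (PresentedGroup.mk (relSet edges extra) a)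
        ((C.phi (PresentedGroup.mk (relSet edges extra) a))⁻¹ x) = x := by
      rw [← Equiv.Perm.mul_apply, mul_inv_cancel]; rfl
    rw [e] at this
    exact this.symm

theorem reach (ho1 : ∀ i < C.D.n, chkO1 C.D O i = true)
    (ho2 : ∀ i < C.D.n, chkO2 C.D O i = true) {i₀ : ℕ}
    (hroot : O.root (O.lab i₀) = i₀) :
    ∀ d, ∀ i < C.D.n, O.dep i = d → O.lab i = O.lab i₀ →
      ∃ g ∈ coxH edges extra S, C.phi g i₀ = i := by
  intro d
  induction d using Nat.strong_induction_on with
  | _ d ih =>
    intro i hi hd hl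
    have h1 := ho2 i hi
    unfold chkO2 at h1
    rw [brec_eq_cond] at h1
    cases hb : Nat.beq (O.root (O.lab i)) i with
    | true =>
      have := Nat.eq_of_beq_eq_true hb
      rw [hl, hroot] at this
      exact ⟨1, Subgroup.one_mem _, by rw [map_one, this]; rfl⟩
    | false =>
      rw [hb, cond_false, ble_iff] at h1
      have h2 : O.dep (runT C.D (C.D.subs.getD (O.oj i) []) i) < O.dep i := h1
      rcases getD_mem_or_nil C.D.subs (O.oj i) with h3 | h3
      · have h3' : C.D.subs.getD (O.oj i) [] ∈ C.sgens.map (colWord C.cols) := by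
          rw [← C.hsubs]; exact h3
        obtain ⟨s, hs, hs'⟩ := List.mem_map.1 h3'
        rw [← hs'] at h2
        obtain ⟨e1, e2⟩ := C.phi_mk_apply s hi
        have hsH : PresentedGroup.mk (relSet edges extra) s ∈ coxH edges extra S :=
          Subgroup.mem_map_of_mem _ (Subgroup.subset_closure (C.mem_S hs))
        have hl' : O.lab (runT C.D (colWord C.cols s) i) = O.lab i₀ := by
          have := C.lab'_invariant O ho1 _ hsH i
          rw [e1] at this
          unfold lab' at this
          rw [if_pos e2, if_pos hi] at this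
          omega
        obtain ⟨g, hg, e3⟩ := ih _ (by rw [← hd]; exact h2) _ e2 rfl hl'
        refine ⟨(PresentedGroup.mk (relSet edges extra) s)⁻¹ * g,
          Subgroup.mul_mem _ (Subgroup.inv_mem _ hsH) hg, ?_⟩
        rw [map_mul, Equiv.Perm.mul_apply, e3, map_inv, Equiv.Perm.inv_eq_iff_eq, e1]
      · rw [h3] at h2
        exact absurd h2 (lt_irrefl _)

/-- The orbits of the subgroup on its cosets are the classes of the labels. -/
theorem orbit_image (ho1 : ∀ i < C.D.n, chkO1 C.D O i = true)
    (ho2 : ∀ i < C.D.n, chkO2 C.D O i = true) {i₀ : ℕ}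
    (hi₀ : i₀ < C.D.n) (hroot : O.root (O.lab i₀) = i₀) :
    ∃ q : PresentedGroup (relSet edges extra) ⧸ coxH edges extra S, C.Phi q = i₀ ∧
      C.Phi '' (MulAction.orbit (coxH edges extra S) q) =
        {i | i < C.D.n ∧ Nat.beq (O.lab i) (O.lab i₀) = true} := by
  obtain ⟨q, hq⟩ := C.main_aux.2.2.2 i₀ hi₀
  refine ⟨q, hq, ?_⟩
  ext i
  constructor
  · rintro ⟨_, ⟨g, rfl⟩, rfl⟩
    have h1 : C.Phi (g • q) = C.phi (g : PresentedGroup (relSet edges extra)) i₀ := by
      rw [smul_coe, C.Phi_smul, hq]
    have h2 := C.lab'_invariant O ho1 _ g.2 i₀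
    rw [← h1] at h2
    unfold lab' at h2
    rw [if_pos hi₀] at h2
    by_cases h3 : C.Phi (g • q) < C.D.n
    · rw [if_pos h3] at h2
      refine ⟨h3, ?_⟩
      have : O.lab (C.Phi (g • q)) = O.lab i₀ := by omega
      rw [this]
      exact Nat.beq_refl _
    · rw [if_neg h3] at h2
      omega
  · rintro ⟨hi, hl⟩
    obtain ⟨g, hg, e⟩ := C.reach O ho1 ho2 hroot _ i hi rfl (Nat.eq_of_beq_eq_true hl)
    refine ⟨(⟨g, hg⟩ : coxH edges extra S) • q, ⟨⟨g, hg⟩, rfl⟩, ?_⟩
    rw [smul_coe, C.Phi_smul, hq]
    exact e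

theorem orbit_ncard (ho1 : ∀ i < C.D.n, chkO1 C.D O i = true)
    (ho2 : ∀ i < C.D.n, chkO2 C.D O i = true) {i₀ : ℕ}
    (hi₀ : i₀ < C.D.n) (hroot : O.root (O.lab i₀) = i₀) :
    ∃ q : PresentedGroup (relSet edges extra) ⧸ coxH edges extra S, C.Phi q = i₀ ∧
      (MulAction.orbit (coxH edges extra S) q).ncard =
        cnt (fun i => Nat.beq (O.lab i) (O.lab i₀)) C.D.n := by
  obtain ⟨q, hq, e⟩ := C.orbit_image O ho1 ho2 hi₀ hroot
  refine ⟨q, hq, ?_⟩
  rw [← Set.ncard_image_of_injective _ C.main_aux.2.1, e, ncard_eq_cnt]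

end CoxCert

end Cox

end Cfsg.Agent.Helper9.TC2
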