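import Mathlib
import Cfsg.Agent.Lib.Helper9.TC2Cox

set_option autoImplicit false

/-! The action of the presented group on the points of the table, and the maximality of the
subgroup from the sizes of its orbits. -/

namespace Cfsg.Agent.Helper9.TC2

open Cfsg.Spor

section Prim

variable {α : Type} [DecidableEq α] {edges : List (α × ℕ × α)} {extra : List (FreeGroup α)}
  {S : Set (FreeGroup α)}

namespace CoxCert

variable (C : CoxCert edges extra S)

theorem cnt_eq_card (p : ℕ → Bool) (n : ℕ) :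
    cnt p n = ((Finset.range n).filter (fun i => p i = true)).card := by
  unfold cnt
  rw [cntAux_eq, zero_add]

theorem phi_lt (g : PresentedGroup (relSet edges extra)) {i : ℕ} (hi : i < C.D.n) :
    C.phi g i < C.D.n := by
  obtain ⟨r, rfl⟩ := PresentedGroup.mk_surjective _ g
  obtain ⟨h1, h2⟩ := C.phi_mk_apply r hi
  rw [h1]
  exact h2

theorem phi_ge (g : PresentedGroup (relSet edges extra)) {i : ℕ} (hi : C.D.n ≤ i) :
    C.phi g i = i := by
  obtain ⟨r, rfl⟩ := PresentedGroup.mk_surjective _ g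
  exact C.phi_mk_apply_ge r hi

theorem Phi_mk (g : PresentedGroup (relSet edges extra)) :
    C.Phi (QuotientGroup.mk g) = C.phi g 0 := rfl

theorem mem_of_phi_zero {g : PresentedGroup (relSet edges extra)} (h : C.phi g 0 = 0) :
    g ∈ coxH edges extra S := by
  have h1 : C.Phi (QuotientGroup.mk g) = C.Phi (QuotientGroup.mk 1) := by
    rw [C.Phi_mk, C.Phi_mk, h, map_one]
    rfl
  have h2 := C.main_aux.2.1 h1
  have h3 := QuotientGroup.eq.1 h2
  have h4 := Subgroup.inv_mem _ h3
  simpa using h4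

theorem phi_zero_iff {g : PresentedGroup (relSet edges extra)} :
    C.phi g 0 = 0 ↔ g ∈ coxH edges extra S :=
  ⟨C.mem_of_phi_zero, C.phi_H g⟩

theorem exists_phi_zero_eq {i : ℕ} (hi : i < C.D.n) :
    ∃ g : PresentedGroup (relSet edges extra), C.phi g 0 = i := by
  obtain ⟨q, hq⟩ := C.main_aux.2.2.2 i hi
  obtain ⟨g, rfl⟩ := QuotientGroup.mk_surjective q
  exact ⟨g, hq⟩

/-- The action on the natural numbers. -/
@[instance_reducible]
noncomputable def act : MulAction (PresentedGroup (relSet edges extra)) ℕ :=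
  MulAction.compHom ℕ C.phi

/-- A normal subgroup contained in the subgroup acts trivially. -/
theorem phi_eq_one_of_normal_le (N : Subgroup (PresentedGroup (relSet edges extra))) (hN : N.Normal)
    (hle : N ≤ coxH edges extra S) {g : PresentedGroup (relSet edges extra)} (hg : g ∈ N) :
    C.phi g = 1 := by
  ext i
  rw [Equiv.Perm.one_apply]
  by_cases hi : i < C.D.n
  · obtain ⟨x, hx⟩ := C.exists_phi_zero_eq hi
    have h1 : x⁻¹ * g * x ∈ N := by
      have := hN.conj_mem g hg x⁻¹
      rwa [inv_inv] at this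
    have h2 := C.phi_H _ (hle h1)
    have h3 : g * x = x * (x⁻¹ * g * x) := by group
    rw [← hx, ← Equiv.Perm.mul_apply, ← map_mul, h3, map_mul, Equiv.Perm.mul_apply, h2]
  · exact C.phi_ge g (not_lt.1 hi)

variable (O : OrbData)

/-- The subgroup is maximal, from the sizes of its orbits. -/
theorem maximal (ho1 : ∀ i < C.D.n, chkO1 C.D O i = true)
    (ho2 : ∀ i < C.D.n, chkO2 C.D O i = true) (L l₀ : ℕ) (sz : List ℕ)
    (hlab : ∀ i < C.D.n, O.lab i < L)
    (hroot : ∀ l < L, O.root l < C.D.n ∧ O.lab (O.root l) = l)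
    (hsz : ∀ l < L, cnt (fun i => Nat.beq (O.lab i) l) C.D.n = sz.getD l 0)
    (hl0 : O.lab 0 = l₀) (hone : sz.getD l₀ 0 = 1)
    (hsum : ∑ l ∈ Finset.range L, sz.getD l 0 = C.D.n)
    (hsub : ∀ T ∈ (Finset.range L).powerset, l₀ ∈ T → (∑ l ∈ T, sz.getD l 0) ∣ C.D.n →
      T = {l₀} ∨ T = Finset.range L) :
    ∀ K : Subgroup (PresentedGroup (relSet edges extra)), coxH edges extra S ≤ K →
      K = coxH edges extra S ∨ K = ⊤ := by
  classical
  intro K hHK
  set n := C.D.n with hn
  have hn0 : 0 < n := C.hn0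
  -- the orbit of the point 0 under K
  let B : Set ℕ := {i | ∃ g ∈ K, C.phi g 0 = i}
  have hBlt : ∀ i ∈ B, i < n := by
    rintro i ⟨g, -, rfl⟩
    exact C.phi_lt g hn0
  have h0B : (0 : ℕ) ∈ B := ⟨1, K.one_mem, by rw [map_one]; rfl⟩
  -- B is a union of classes of labels
  have hBun : ∀ i ∈ B, ∀ j < n, O.lab j = O.lab i → j ∈ B := by
    rintro i ⟨g, hg, rfl⟩ j hj hl
    have hi : C.phi g 0 < n := C.phi_lt g hn0
    obtain ⟨hr1, hr2⟩ := hroot _ (hlab _ hi)
    have hr3 : O.root (O.lab (O.root (O.lab (C.phi g 0)))) = O.root (O.lab (C.phi g 0)) := by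
      rw [hr2]
    obtain ⟨g₁, hg₁, e₁⟩ := C.reach O ho1 ho2 hr3 _ _ hi rfl hr2.symm
    obtain ⟨g₂, hg₂, e₂⟩ := C.reach O ho1 ho2 hr3 _ _ hj rfl (hl.trans hr2.symm)
    refine ⟨g₂ * g₁⁻¹ * g, K.mul_mem (K.mul_mem (hHK hg₂) (K.inv_mem (hHK hg₁))) hg, ?_⟩
    have e3 : (C.phi g₁)⁻¹ (C.phi g 0) = O.root (O.lab (C.phi g 0)) := by
      rw [Equiv.Perm.inv_eq_iff_eq, e₁]
    rw [map_mul, map_mul, Equiv.Perm.mul_apply, Equiv.Perm.mul_apply, map_inv, e3, e₂]
  -- the cardinality of B
  let Bf : Finset ℕ := (Finset.range n).filter (fun i => i ∈ B)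
  let T : Finset ℕ := (Finset.range L).filter (fun l => ∃ i ∈ B, O.lab i = l)
  have hBf : ∀ i, i ∈ Bf ↔ i ∈ B := by
    intro i
    simp only [Bf, Finset.mem_filter, Finset.mem_range]
    exact ⟨fun h => h.2, fun h => ⟨hBlt i h, h⟩⟩
  have hcard : Bf.card = ∑ l ∈ T, sz.getD l 0 := by
    have h1 : Bf.card = ∑ l ∈ Finset.range L, (Bf.filter (fun i => O.lab i = l)).card := by
      apply Finset.card_eq_sum_card_fiberwise
      intro i hi
      rw [Finset.mem_coe, Finset.mem_range]
      exact hlab i (hBlt i ((hBf i).1 (Finset.mem_coe.1 hi)))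
    rw [h1, Finset.sum_filter]
    apply Finset.sum_congr rfl
    intro l hl
    rw [Finset.mem_range] at hl
    split_ifs with hT
    · obtain ⟨i, hiB, hil⟩ := hT
      rw [← hsz l hl, cnt_eq_card]
      congr 1
      ext j
      simp only [Finset.mem_filter, Finset.mem_range, hBf]
      constructor
      · rintro ⟨hjB, hjl⟩
        refine ⟨hBlt j hjB, ?_⟩
        rw [hjl]
        exact Nat.beq_refl l
      · rintro ⟨hj, hjl⟩
        have hjl' : O.lab j = l := Nat.eq_of_beq_eq_true hjl
        exact ⟨hBun i hiB j hj (hjl'.trans hil.symm), hjl'⟩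
    · rw [Finset.card_eq_zero, Finset.filter_eq_empty_iff]
      intro j hj hjl
      exact hT ⟨j, (hBf j).1 hj, hjl⟩
  -- the index of the subgroup in K
  let _ : MulAction (PresentedGroup (relSet edges extra)) ℕ := C.act
  have hsm : ∀ (g : PresentedGroup (relSet edges extra)) (i : ℕ), g • i = C.phi g i := fun _ _ => rfl
  have horb : MulAction.orbit K (0 : ℕ) = B := by
    ext i
    constructor
    · rintro ⟨k, rfl⟩
      exact ⟨k, k.2, rfl⟩
    · rintro ⟨g, hg, rfl⟩
      exact ⟨⟨g, hg⟩, rfl⟩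
  have hstab : MulAction.stabilizer K (0 : ℕ) = (coxH edges extra S).subgroupOf K := by
    ext k
    rw [MulAction.mem_stabilizer_iff, Subgroup.mem_subgroupOf]
    show C.phi (k : PresentedGroup (relSet edges extra)) 0 = 0 ↔ _
    exact C.phi_zero_iff
  have hrel : (coxH edges extra S).relIndex K = Bf.card := by
    unfold Subgroup.relIndex
    rw [← hstab, MulAction.index_stabilizer, horb]
    have : B = (Bf : Set ℕ) := by
      ext i
      rw [Finset.mem_coe, hBf]
    rw [this, Set.ncard_coe_finset]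
  have hmul := Subgroup.relIndex_mul_index hHK
  rw [C.index_eq, hrel, hcard] at hmul
  have hTsub : T ∈ (Finset.range L).powerset := by
    rw [Finset.mem_powerset]
    exact Finset.filter_subset _ _
  have hl0T : l₀ ∈ T := by
    simp only [T, Finset.mem_filter, Finset.mem_range]
    exact ⟨hl0 ▸ hlab 0 hn0, 0, h0B, hl0⟩
  rcases hsub T hTsub hl0T (Dvd.intro _ hmul) with hT | hT
  · left
    rw [hT, Finset.sum_singleton, hone] at hcard
    rw [hcard] at hrel
    exact le_antisymm (Subgroup.relIndex_eq_one.1 hrel) hHK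
  · right
    rw [hT, hsum] at hmul
    have : K.index = 1 := by
      have h2 : n * K.index = n * 1 := by rw [mul_one]; exact hmul
      exact Nat.eq_of_mul_eq_mul_left hn0 h2
    exact Subgroup.index_eq_one.1 this

end CoxCert

end Prim

end Cfsg.Agent.Helper9.TC2
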