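import Mathlib
import Cfsg.Agent.Lib.Helper9.TC2Prim

set_option autoImplicit false

/-! A lower bound for the order of the presented group from a base and generators of the
successive stabilizers, given as columns defined by straight line programs. -/

namespace Cfsg.Agent.Helper9.TC2

open Cfsg.Spor

local notation "IF " b " THEN " x " ELSE " y => Bool.rec (motive := fun _ => _) y x b

/-- At the point `i`, the columns of the straight line program act as they are defined:
an entry `(0, w)` is the product of the columns of `w`, an entry `(_, c :: _)` the inverse of the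
column `c`. -/
noncomputable def chkSlp (D : Tab) (slp : List (ℕ × List ℕ)) (i : ℕ) : Bool :=
  allRange 0 slp.length (fun j =>
    match slp.getD j (0, []) with
    | (0, w) => Nat.beq (D.tau (Nat.add D.k j) i) (runT D w i)
    | (_, c :: _) => Nat.beq (D.tau (Nat.add D.k j) (D.tau c i)) i
    | (_, []) => false)

/-- The tree of the orbit of `β` at the point `x`: the point is outside the orbit (`idx = 0`), the
root, or the image of a point with a smaller index under a generating column. -/
noncomputable def chkTree (D : Tab) (idx par gi : ℕ → ℕ) (β : ℕ) (gens : List ℕ) (x : ℕ) : Bool :=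
  IF Nat.beq (idx x) 0 THEN true
  ELSE IF Nat.beq (idx x) 1 THEN Nat.beq x β
  ELSE (Nat.blt (gi x) gens.length && (Nat.blt (par x) D.n &&
    (Nat.beq (D.tau (gens.getD (gi x) 0) (par x)) x &&
      (Nat.ble 1 (idx (par x)) && Nat.blt (idx (par x)) (idx x)))))

section BSGS

variable {α : Type} [DecidableEq α] {edges : List (α × ℕ × α)} {extra : List (FreeGroup α)}
  {S : Set (FreeGroup α)}

namespace CoxCert

variable (C : CoxCert edges extra S)

theorem phi_inv_lt (g : PresentedGroup (relSet edges extra)) {i : ℕ} (hi : i < C.D.n) :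
    (C.phi g)⁻¹ i < C.D.n := by
  rw [← map_inv]
  exact C.phi_lt g⁻¹ hi

/-- A word of columns that have elements has an element. -/
theorem exists_elt_word (b : ℕ)
    (ih : ∀ c < b, ∃ g : PresentedGroup (relSet edges extra), ∀ i < C.D.n, C.phi g i = C.D.tau c i)
    (w : List ℕ) (hw : ∀ c ∈ w, c < b) :
    ∃ g : PresentedGroup (relSet edges extra), ∀ i < C.D.n, C.phi g i = runT C.D w i := by
  induction w with
  | nil => exact ⟨1, fun i _ => by rw [map_one, runT_nil]; rfl⟩
  | cons c w ihw =>
    obtain ⟨g₁, h₁⟩ := ih c (hw c List.mem_cons_self)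
    obtain ⟨g₂, h₂⟩ := ihw (fun c' hc' => hw c' (List.mem_cons_of_mem _ hc'))
    refine ⟨g₁ * g₂, fun i hi => ?_⟩
    rw [map_mul, Equiv.Perm.mul_apply, runT_cons, h₂ i hi]
    have : runT C.D w i < C.D.n := by
      rw [← h₂ i hi]
      exact C.phi_lt g₂ hi
    exact h₁ _ this

/-- Every column of the table and of the straight line program is the action of an element. -/
theorem exists_elt (slp : List (ℕ × List ℕ))
    (hslp : ∀ j < slp.length, ∀ c ∈ (slp.getD j (0, [])).2, c < C.D.k + j)
    (hchk : ∀ i < C.D.n, chkSlp C.D slp i = true) :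
    ∀ c < C.D.k + slp.length,
      ∃ g : PresentedGroup (relSet edges extra), ∀ i < C.D.n, C.phi g i = C.D.tau c i := by
  intro c
  induction c using Nat.strong_induction_on with
  | _ c ih =>
    intro hc
    by_cases hck : c < C.D.k
    · exact ⟨eCol edges extra C.cols c, fun i hi => C.phi_e hck hi⟩
    · obtain ⟨j, rfl⟩ : ∃ j, c = C.D.k + j := ⟨c - C.D.k, by omega⟩
      have hj : j < slp.length := by omega
      have ih' : ∀ c' < C.D.k + j, ∃ g : PresentedGroup (relSet edges extra),
          ∀ i < C.D.n, C.phi g i = C.D.tau c' i := fun c' hc' => ih c' hc' (by omega)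
      have hw := hslp j hj
      have hchk' : ∀ i < C.D.n,
          (match slp.getD j (0, []) with
          | (0, w) => Nat.beq (C.D.tau (Nat.add C.D.k j) i) (runT C.D w i)
          | (_, c :: _) => Nat.beq (C.D.tau (Nat.add C.D.k j) (C.D.tau c i)) i
          | (_, []) => false) = true := by
        intro i hi
        have := hchk i hi
        unfold chkSlp at this
        rw [allRange_iff] at this
        exact this j (Nat.zero_le _) (by omega)
      rcases hsl : slp.getD j (0, []) with ⟨kind, w⟩
      rw [hsl] at hw hchk'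
      match kind, w, hw, hchk' with
      | 0, w, hw, hchk' =>
        obtain ⟨g, hg⟩ := C.exists_elt_word _ ih' w hw
        refine ⟨g, fun i hi => ?_⟩
        rw [hg i hi]
        exact (Nat.eq_of_beq_eq_true (hchk' i hi)).symm
      | (kind + 1), (c' :: w), hw, hchk' =>
        obtain ⟨g, hg⟩ := ih' c' (hw c' List.mem_cons_self)
        refine ⟨g⁻¹, fun y hy => ?_⟩
        have hi : (C.phi g)⁻¹ y < C.D.n := C.phi_inv_lt g hy
        have h1 := hg _ hi
        rw [← Equiv.Perm.inv_eq_iff_eq.1 rfl] at h1
        have h2 := Nat.eq_of_beq_eq_true (hchk' _ hi)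
        rw [map_inv]
        rw [← h1] at h2
        exact h2.symm
      | (kind + 1), [], hw, hchk' =>
        exact absurd (hchk' 0 C.hn0) (by simp)

/-- The pointwise stabilizer of a list of points. -/
def PS (pts : List ℕ) : Subgroup (PresentedGroup (relSet edges extra)) where
  carrier := {g | ∀ b ∈ pts, C.phi g b = b}
  mul_mem' := by
    intro a b ha hb x hx
    rw [map_mul, Equiv.Perm.mul_apply, hb x hx, ha x hx]
  one_mem' := by
    intro x _
    rw [map_one]
    rfl
  inv_mem' := by
    intro a ha x hx
    rw [map_inv, Equiv.Perm.inv_eq_iff_eq, ha x hx]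

theorem mem_PS {pts : List ℕ} {g : PresentedGroup (relSet edges extra)} :
    g ∈ C.PS pts ↔ ∀ b ∈ pts, C.phi g b = b := Iff.rfl

/-- The points of a tree are in the orbit of the root. -/
theorem reach_tree (pts : List ℕ) (idx par gi : ℕ → ℕ) (β : ℕ) (gens : List ℕ)
    (hgens : ∀ c ∈ gens, ∃ g ∈ C.PS pts, ∀ i < C.D.n, C.phi g i = C.D.tau c i)
    (htr : ∀ x < C.D.n, chkTree C.D idx par gi β gens x = true) :
    ∀ m, ∀ x < C.D.n, idx x = m → m ≠ 0 → ∃ g ∈ C.PS pts, C.phi g β = x := by
  intro m
  induction m using Nat.strong_induction_on with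
  | _ m ih =>
    intro x hx hm hm0
    have h1 := htr x hx
    unfold chkTree at h1
    rw [brec_eq_cond] at h1
    cases hb : Nat.beq (idx x) 0 with
    | true =>
      exact absurd ((Nat.eq_of_beq_eq_true hb).symm.trans hm).symm hm0
    | false =>
      rw [hb, cond_false, brec_eq_cond] at h1
      cases hb1 : Nat.beq (idx x) 1 with
      | true =>
        rw [hb1, cond_true] at h1
        refine ⟨1, Subgroup.one_mem _, ?_⟩
        rw [map_one, Nat.eq_of_beq_eq_true h1]
        rfl
      | false =>
        rw [hb1, cond_false, Bool.and_eq_true, Bool.and_eq_true, Bool.and_eq_true,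
          Bool.and_eq_true] at h1
        obtain ⟨h2, h3, h4, h5, h6⟩ := h1
        have h2' : gi x < gens.length := by
          have := h2
          rw [Nat.blt_eq] at this
          exact this
        have h3' : par x < C.D.n := by
          have := h3
          rw [Nat.blt_eq] at this
          exact this
        have h5' : 1 ≤ idx (par x) := ble_iff.1 h5
        have h6' : idx (par x) < idx x := by
          have := h6
          rw [Nat.blt_eq] at this
          exact this
        have hmem : gens.getD (gi x) 0 ∈ gens := by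
          rw [List.getD_eq_getElem _ _ h2']
          exact List.getElem_mem h2'
        obtain ⟨g₁, hg₁, e₁⟩ := hgens _ hmem
        obtain ⟨g₂, hg₂, e₂⟩ := ih (idx (par x)) (by omega) (par x) h3' rfl (by omega)
        refine ⟨g₁ * g₂, Subgroup.mul_mem _ hg₁ hg₂, ?_⟩
        rw [map_mul, Equiv.Perm.mul_apply, e₂, e₁ _ h3']
        exact Nat.eq_of_beq_eq_true h4

/-- The conditions on the levels: base point, generating columns and size of the orbit. -/
def LevsOK (ktot : ℕ) (idx par gi : ℕ → ℕ → ℕ) :
    ℕ → List ℕ → List (ℕ × List ℕ × ℕ) → Prop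
  | _, _, [] => True
  | l, pts, (β, gens, m) :: rest =>
    β < C.D.n ∧ (∀ c ∈ gens, c < ktot ∧ ∀ b ∈ pts, C.D.tau c b = b) ∧
    (∀ x < C.D.n, chkTree C.D (idx l) (par l) (gi l) β gens x = true) ∧
    cnt (fun x => !(Nat.beq (idx l x) 0)) C.D.n = m ∧
    LevsOK ktot idx par gi (l + 1) (β :: pts) rest

/-- The product of the sizes of the orbits. -/
def levProd : List (ℕ × List ℕ × ℕ) → ℕ
  | [] => 1
  | (_, _, m) :: rest => m * levProd rest

/-- The base points of the levels, last first, before the given points. -/
def levPts : List (ℕ × List ℕ × ℕ) → List ℕ → List ℕ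
  | [], pts => pts
  | (β, _, _) :: rest, pts => levPts rest (β :: pts)

theorem PS_cons_le (β : ℕ) (pts : List ℕ) : C.PS (β :: pts) ≤ C.PS pts :=
  fun _ hg b hb => hg b (List.mem_cons_of_mem _ hb)

/-- The lower bound for the order of a pointwise stabilizer. -/
theorem card_PS_ge [Finite (PresentedGroup (relSet edges extra))] (ktot : ℕ)
    (idx par gi : ℕ → ℕ → ℕ)
    (helt : ∀ c < ktot, ∃ g : PresentedGroup (relSet edges extra),
      ∀ i < C.D.n, C.phi g i = C.D.tau c i) :
    ∀ (levs : List (ℕ × List ℕ × ℕ)) (l : ℕ) (pts : List ℕ), (∀ b ∈ pts, b < C.D.n) →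
      C.LevsOK ktot idx par gi l pts levs →
      levProd levs * Nat.card (C.PS (levPts levs pts)) ≤ Nat.card (C.PS pts) := by
  classical
  intro levs
  induction levs with
  | nil =>
    intro l pts _ _
    show 1 * _ ≤ _
    rw [one_mul]
    exact le_rfl
  | cons e rest ih =>
    obtain ⟨β, gens, m⟩ := e
    intro l pts hpts hok
    obtain ⟨hβ, hgens, htr, hcnt, hrest⟩ := hok
    have hpts' : ∀ b ∈ β :: pts, b < C.D.n := by
      intro b hb
      rcases List.mem_cons.1 hb with rfl | hb
      · exact hβ
      · exact hpts b hb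
    have h1 := ih (l + 1) (β :: pts) hpts' hrest
    show m * levProd rest * _ ≤ _
    -- the orbit of β under the stabilizer of the earlier points
    let _ : MulAction (PresentedGroup (relSet edges extra)) ℕ := C.act
    have hgens' : ∀ c ∈ gens, ∃ g ∈ C.PS pts, ∀ i < C.D.n, C.phi g i = C.D.tau c i := by
      intro c hc
      obtain ⟨hck, hfix⟩ := hgens c hc
      obtain ⟨g, hg⟩ := helt c hck
      refine ⟨g, fun b hb => ?_, hg⟩
      rw [hg b (hpts b hb), hfix b hb]
    have hreach := C.reach_tree pts (idx l) (par l) (gi l) β gens hgens' htr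
    have hsub : {x | x < C.D.n ∧ (!(Nat.beq (idx l x) 0)) = true} ⊆
        MulAction.orbit (C.PS pts) β := by
      rintro x ⟨hx, hx0⟩
      have hne : idx l x ≠ 0 := by
        intro h
        rw [h] at hx0
        simp at hx0
      obtain ⟨g, hg, e⟩ := hreach _ x hx rfl hne
      exact ⟨⟨g, hg⟩, e⟩
    have hfin : (MulAction.orbit (C.PS pts) β).Finite := Set.finite_range _
    have hm : m ≤ (MulAction.orbit (C.PS pts) β).ncard := by
      rw [← hcnt, ← ncard_eq_cnt]
      exact Set.ncard_le_ncard hsub hfin
    have hstab : MulAction.stabilizer (C.PS pts) β = (C.PS (β :: pts)).subgroupOf (C.PS pts) := by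
      ext k
      rw [MulAction.mem_stabilizer_iff, Subgroup.mem_subgroupOf]
      show C.phi (k : PresentedGroup (relSet edges extra)) β = β ↔ _
      constructor
      · intro h b hb
        rcases List.mem_cons.1 hb with rfl | hb
        · exact h
        · exact k.2 b hb
      · intro h
        exact h β List.mem_cons_self
    have hcard : Nat.card (C.PS pts) =
        Nat.card (C.PS (β :: pts)) * (MulAction.orbit (C.PS pts) β).ncard := by
      rw [← MulAction.index_stabilizer, hstab,
        ← Nat.card_congr (Subgroup.subgroupOfEquivOfLe (C.PS_cons_le β pts)).toEquiv]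
      exact (Subgroup.card_mul_index _).symm
    rw [hcard]
    calc m * levProd rest * Nat.card (C.PS (levPts ((β, gens, m) :: rest) pts))
        = m * (levProd rest * Nat.card (C.PS (levPts rest (β :: pts)))) := by
          rw [mul_assoc]
          rfl
      _ ≤ m * Nat.card (C.PS (β :: pts)) := Nat.mul_le_mul_left _ h1
      _ ≤ (MulAction.orbit (C.PS pts) β).ncard * Nat.card (C.PS (β :: pts)) :=
          Nat.mul_le_mul_right _ hm
      _ = _ := mul_comm _ _

theorem ker_le_PS (pts : List ℕ) : C.phi.ker ≤ C.PS pts := by
  intro g hg b _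
  rw [MonoidHom.mem_ker] at hg
  rw [hg]
  rfl

/-- The lower bound for the order of the group, with the kernel of the action. -/
theorem card_ge [Finite (PresentedGroup (relSet edges extra))] (ktot : ℕ)
    (idx par gi : ℕ → ℕ → ℕ)
    (helt : ∀ c < ktot, ∃ g : PresentedGroup (relSet edges extra),
      ∀ i < C.D.n, C.phi g i = C.D.tau c i)
    (levs : List (ℕ × List ℕ × ℕ)) (hok : C.LevsOK ktot idx par gi 0 [] levs) :
    levProd levs * Nat.card C.phi.ker ≤ Nat.card (PresentedGroup (relSet edges extra)) := by
  have h1 := C.card_PS_ge ktot idx par gi helt levs 0 [] (fun b hb => absurd hb List.not_mem_nil) hok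
  have h2 : Nat.card (C.PS []) = Nat.card (PresentedGroup (relSet edges extra)) := by
    have : C.PS [] = ⊤ := by
      ext g
      simp only [Subgroup.mem_top, iff_true]
      intro b hb
      exact absurd hb List.not_mem_nil
    rw [this, Subgroup.card_top]
  rw [h2] at h1
  have h3 : Nat.card C.phi.ker ≤ Nat.card (C.PS (levPts levs [])) :=
    Subgroup.card_le_of_le (C.ker_le_PS _)
  exact (Nat.mul_le_mul_left _ h3).trans h1

end CoxCert

end BSGS

end Cfsg.Agent.Helper9.TC2
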