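import Mathlib
import Cfsg.Agent.Lib.Helper9.TC2Cox

set_option autoImplicit false

/-! Upper bounds for the order of a presented group from a chain of subgroups generated by
generators, each a quotient of a group with a presentation on fewer generators. -/

namespace Cfsg.Agent.Helper9.TC2

open Cfsg.Spor

section Chain

variable {α β : Type} [DecidableEq α] [DecidableEq β]
  (edges : List (α × ℕ × α)) (extra : List (FreeGroup α))
  (edges' : List (β × ℕ × β)) (extra' : List (FreeGroup β))

/-- The relators of the second presentation are relators of the first, along a map of the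
generators. -/
def SubPres (ι : β → α) : Prop :=
  (∀ x ∈ coxNodes edges', ∀ y ∈ coxNodes edges', ι x ∈ coxNodes edges ∧ ι y ∈ coxNodes edges ∧
    coxLabel edges (ι x) (ι y) = coxLabel edges' x y) ∧
  ∀ r ∈ extra', FreeGroup.map ι r ∈ extra

variable {edges extra edges' extra'}

theorem SubPres.map_mem {ι : β → α} (h : SubPres edges extra edges' extra' ι) :
    ∀ r ∈ relSet edges' extra', FreeGroup.map ι r ∈ relSet edges extra := by
  rintro r (hr | hr)
  · obtain ⟨x, hx, y, hy, rfl⟩ := hr
    left
    obtain ⟨h1, h2, h3⟩ := h.1 x hx y hy
    refine ⟨ι x, h1, ι y, h2, ?_⟩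
    rw [map_pow, map_mul, FreeGroup.map.of, FreeGroup.map.of, h3]
  · right
    exact h.2 r hr

/-- The homomorphism from the group of the second presentation. -/
noncomputable def subPresHom {ι : β → α} (h : SubPres edges extra edges' extra' ι) :
    PresentedGroup (relSet edges' extra') →* PresentedGroup (relSet edges extra) :=
  PresentedGroup.toGroup (f := fun b => PresentedGroup.mk (relSet edges extra) (FreeGroup.of (ι b)))
    (by
      intro r hr
      have e : FreeGroup.lift (fun b => PresentedGroup.mk (relSet edges extra) (FreeGroup.of (ι b))) =
          (PresentedGroup.mk (relSet edges extra)).comp (FreeGroup.map ι) := by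
        apply FreeGroup.ext_hom
        intro b
        rw [FreeGroup.lift_apply_of, MonoidHom.comp_apply, FreeGroup.map.of]
      rw [e, MonoidHom.comp_apply]
      exact PresentedGroup.one_of_mem (h.map_mem r hr))

theorem subPresHom_of {ι : β → α} (h : SubPres edges extra edges' extra' ι) (b : β) :
    subPresHom h (PresentedGroup.of b) =
      PresentedGroup.mk (relSet edges extra) (FreeGroup.of (ι b)) :=
  PresentedGroup.toGroup.of _

theorem subPresHom_range {ι : β → α} (h : SubPres edges extra edges' extra' ι) :
    (subPresHom h).range = coxH edges extra (Set.range fun b => FreeGroup.of (ι b)) := by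
  rw [MonoidHom.range_eq_map, ← PresentedGroup.closure_range_of, MonoidHom.map_closure]
  unfold coxH
  rw [MonoidHom.map_closure]
  congr 1
  ext g
  constructor
  · rintro ⟨_, ⟨b, rfl⟩, rfl⟩
    exact ⟨_, ⟨b, rfl⟩, (subPresHom_of h b).symm⟩
  · rintro ⟨_, ⟨b, rfl⟩, rfl⟩
    exact ⟨_, ⟨b, rfl⟩, subPresHom_of h b⟩

/-- The subgroup generated by the images of the generators of the second presentation is finite of
order at most that of the group of the second presentation. -/
theorem card_coxH_le {ι : β → α} (h : SubPres edges extra edges' extra' ι)
    {S : Set (FreeGroup α)} (hS : S = Set.range fun b => FreeGroup.of (ι b)) {m : ℕ}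
    (hfin : Finite (PresentedGroup (relSet edges' extra')))
    (hm : Nat.card (PresentedGroup (relSet edges' extra')) ≤ m) :
    Finite (coxH edges extra S) ∧ Nat.card (coxH edges extra S) ≤ m := by
  subst hS
  rw [← subPresHom_range h]
  have hs : Function.Surjective (subPresHom h).rangeRestrict := (subPresHom h).rangeRestrict_surjective
  have hf : Finite (subPresHom h).range := Finite.of_surjective _ hs
  exact ⟨hf, (Nat.card_le_card_of_surjective _ hs).trans hm⟩

/-- The order of the presented group is at most the index times a bound for the order of the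
subgroup. -/
theorem CoxCert.card_le {S : Set (FreeGroup α)} (C : CoxCert edges extra S) {m : ℕ}
    (hfin : Finite (coxH edges extra S)) (hm : Nat.card (coxH edges extra S) ≤ m) :
    Finite (PresentedGroup (relSet edges extra)) ∧
      Nat.card (PresentedGroup (relSet edges extra)) ≤ C.D.n * m := by
  have hidx : (coxH edges extra S).index = C.D.n := C.index_eq
  have hne : (coxH edges extra S).index ≠ 0 := by
    rw [hidx]
    exact Nat.pos_iff_ne_zero.1 C.hn0
  have hfi : (coxH edges extra S).FiniteIndex := ⟨hne⟩
  have hq : Finite (PresentedGroup (relSet edges extra) ⧸ coxH edges extra S) :=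
    Subgroup.finite_quotient_of_finiteIndex
  have hG : Finite (PresentedGroup (relSet edges extra)) :=
    Finite.of_equiv _ (Subgroup.groupEquivQuotientProdSubgroup (s := coxH edges extra S)).symm
  refine ⟨hG, ?_⟩
  rw [← Subgroup.card_mul_index (coxH edges extra S), hidx, mul_comm]
  exact Nat.mul_le_mul_left _ hm

/-- With no subgroup generators, the index is the order. -/
theorem CoxCert.card_eq_of_empty (C : CoxCert edges extra (∅ : Set (FreeGroup α))) :
    Finite (PresentedGroup (relSet edges extra)) ∧
      Nat.card (PresentedGroup (relSet edges extra)) = C.D.n := by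
  have hH : coxH edges extra (∅ : Set (FreeGroup α)) = ⊥ := by
    unfold coxH
    rw [Subgroup.closure_empty, Subgroup.map_bot]
  have hidx : (coxH edges extra (∅ : Set (FreeGroup α))).index = C.D.n := C.index_eq
  rw [hH, Subgroup.index_bot] at hidx
  refine ⟨?_, hidx⟩
  apply Nat.finite_of_card_ne_zero
  rw [hidx]
  exact Nat.pos_iff_ne_zero.1 C.hn0

end Chain

end Cfsg.Agent.Helper9.TC2
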