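import Mathlib
import Cfsg.Agent.Lib.Helper9.TC2BSGS
import Cfsg.Agent.Lib.Helper9.TC2Chain
import Cfsg.Agent.Lib.Helper9.SimpleCrit

set_option autoImplicit false

/-! Simplicity and order of a presented group from certificates: an upper bound for the order, a
base with generators of the stabilizers, the orbits of the subgroup, and an element of prime power
order with trivial quotient. -/

namespace Cfsg.Agent.Helper9.TC2

open Cfsg.Spor

section Spor

variable {α : Type} [DecidableEq α] {edges : List (α × ℕ × α)} {extra : List (FreeGroup α)}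
  {S : Set (FreeGroup α)}

/-- If the presentation with one more relator `x` gives the trivial group, the normal closure of
`x` is everything. -/
theorem normalClosure_eq_top_of_trivial (x : FreeGroup α)
    (h : Nat.card (PresentedGroup (relSet edges (extra ++ [x]))) = 1) :
    Subgroup.normalClosure
      ({PresentedGroup.mk (relSet edges extra) x} : Set (PresentedGroup (relSet edges extra))) =
      ⊤ := by
  set M := Subgroup.normalClosure
    ({PresentedGroup.mk (relSet edges extra) x} : Set (PresentedGroup (relSet edges extra))) with hM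
  let π : PresentedGroup (relSet edges extra) →* PresentedGroup (relSet edges extra) ⧸ M :=
    QuotientGroup.mk' M
  let f : α → PresentedGroup (relSet edges extra) ⧸ M :=
    fun a => π (PresentedGroup.mk (relSet edges extra) (FreeGroup.of a))
  have e : FreeGroup.lift f = π.comp (PresentedGroup.mk (relSet edges extra)) := by
    apply FreeGroup.ext_hom
    intro a
    rw [FreeGroup.lift_apply_of, MonoidHom.comp_apply]
  have hrel : ∀ r ∈ relSet edges (extra ++ [x]), FreeGroup.lift f r = 1 := by
    intro r hr
    rw [e, MonoidHom.comp_apply]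
    rcases hr with hr | hr
    · have h1 : PresentedGroup.mk (relSet edges extra) r = 1 :=
        PresentedGroup.one_of_mem (x := r) (Or.inl hr)
      exact (QuotientGroup.eq_one_iff _).2 (h1 ▸ Subgroup.one_mem _)
    · have hr' : r ∈ extra ++ [x] := hr
      rcases List.mem_append.1 hr' with hr' | hr'
      · have h1 : PresentedGroup.mk (relSet edges extra) r = 1 :=
          PresentedGroup.one_of_mem (x := r) (Or.inr hr')
        exact (QuotientGroup.eq_one_iff _).2 (h1 ▸ Subgroup.one_mem _)
      · rw [List.mem_singleton] at hr'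
        subst hr'
        exact (QuotientGroup.eq_one_iff _).2 (Subgroup.subset_normalClosure rfl)
  let ψ : PresentedGroup (relSet edges (extra ++ [x])) →* PresentedGroup (relSet edges extra) ⧸ M :=
    PresentedGroup.toGroup hrel
  have hψ : Function.Surjective ψ := by
    intro q
    obtain ⟨g, rfl⟩ := QuotientGroup.mk_surjective q
    obtain ⟨r, rfl⟩ := PresentedGroup.mk_surjective _ g
    refine ⟨PresentedGroup.mk _ r, ?_⟩
    have : ψ.comp (PresentedGroup.mk (relSet edges (extra ++ [x]))) =
        π.comp (PresentedGroup.mk (relSet edges extra)) := by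
      apply FreeGroup.ext_hom
      intro a
      rw [MonoidHom.comp_apply, MonoidHom.comp_apply]
      exact PresentedGroup.toGroup.of hrel
    exact DFunLike.congr_fun this r
  have hfin : Finite (PresentedGroup (relSet edges (extra ++ [x]))) :=
    Nat.finite_of_card_ne_zero (by rw [h]; exact one_ne_zero)
  have hsub : Subsingleton (PresentedGroup (relSet edges (extra ++ [x]))) :=
    (Nat.card_eq_one_iff_unique.1 h).1
  have hsub' : Subsingleton (PresentedGroup (relSet edges extra) ⧸ M) := hψ.subsingleton
  exact QuotientGroup.subgroup_eq_top_of_subsingleton M hsub'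

/-- Simplicity and order from the certificates. -/
theorem CoxCert.isSimple_card (C : CoxCert edges extra S) (N₀ : ℕ)
    (hub : Finite (PresentedGroup (relSet edges extra)) ∧
      Nat.card (PresentedGroup (relSet edges extra)) ≤ N₀)
    (slp : List (ℕ × List ℕ))
    (hslp : ∀ j < slp.length, ∀ c ∈ (slp.getD j (0, [])).2, c < C.D.k + j)
    (hchk : ∀ i < C.D.n, chkSlp C.D slp i = true)
    (idx par gi : ℕ → ℕ → ℕ) (levs : List (ℕ × List ℕ × ℕ))
    (hok : C.LevsOK (C.D.k + slp.length) idx par gi 0 [] levs)
    (hprod : CoxCert.levProd levs = N₀)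
    (O : OrbData) (ho1 : ∀ i < C.D.n, chkO1 C.D O i = true)
    (ho2 : ∀ i < C.D.n, chkO2 C.D O i = true) (L l₀ : ℕ) (sz : List ℕ)
    (hlab : ∀ i < C.D.n, O.lab i < L)
    (hroot : ∀ l < L, O.root l < C.D.n ∧ O.lab (O.root l) = l)
    (hsz : ∀ l < L, cnt (fun i => Nat.beq (O.lab i) l) C.D.n = sz.getD l 0)
    (hl0 : O.lab 0 = l₀) (hone : sz.getD l₀ 0 = 1)
    (hsum : ∑ l ∈ Finset.range L, sz.getD l 0 = C.D.n)
    (hsub : ∀ T ∈ (Finset.range L).powerset, l₀ ∈ T → (∑ l ∈ T, sz.getD l 0) ∣ C.D.n →
      T = {l₀} ∨ T = Finset.range L)
    (p k : ℕ) [Fact p.Prime] (hk : p ^ k ∣ C.D.n) (hk' : ¬ p ^ (k + 1) ∣ N₀) (hN1 : 1 < N₀)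
    (x : FreeGroup α) (m : ℕ)
    (hx : ∀ i < C.D.n, (runT C.D (colWord C.cols x))^[p ^ m] i = i)
    (htriv : Nat.card (PresentedGroup (relSet edges (extra ++ [x]))) = 1) :
    IsSimpleGroup (PresentedGroup (relSet edges extra)) ∧
      Nat.card (PresentedGroup (relSet edges extra)) = N₀ := by
  obtain ⟨hfin, hle⟩ := hub
  have helt := C.exists_elt slp hslp hchk
  have hge := C.card_ge (C.D.k + slp.length) idx par gi helt levs hok
  rw [hprod] at hge
  have hN0 : 0 < N₀ := by omega
  have hkpos : 0 < Nat.card C.phi.ker := Nat.card_pos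
  -- the order and the kernel
  have hker1 : Nat.card C.phi.ker = 1 := by
    have h1 : N₀ * Nat.card C.phi.ker ≤ N₀ * 1 := by
      rw [mul_one]
      exact hge.trans hle
    have := Nat.le_of_mul_le_mul_left h1 hN0
    omega
  have hcard : Nat.card (PresentedGroup (relSet edges extra)) = N₀ := by
    rw [hker1, mul_one] at hge
    exact le_antisymm hle hge
  have hker : C.phi.ker = ⊥ := Subgroup.card_eq_one.1 hker1
  refine ⟨?_, hcard⟩
  -- core-free
  have hcore : ∀ N : Subgroup (PresentedGroup (relSet edges extra)), N.Normal →
      N ≤ coxH edges extra S → N = ⊥ := by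
    intro N hN hNH
    rw [eq_bot_iff]
    intro g hg
    have h1 := C.phi_eq_one_of_normal_le N hN hNH hg
    have h2 : g ∈ C.phi.ker := MonoidHom.mem_ker.2 h1
    rw [hker] at h2
    exact h2
  have hmax := C.maximal O ho1 ho2 L l₀ sz hlab hroot hsz hl0 hone hsum hsub
  have hnt : Nontrivial (PresentedGroup (relSet edges extra)) := by
    rw [← Finite.one_lt_card_iff_nontrivial, hcard]
    exact hN1
  -- the element
  have hxp : (PresentedGroup.mk (relSet edges extra) x) ^ (p ^ m) = 1 := by
    have h1 : (PresentedGroup.mk (relSet edges extra) x) ^ (p ^ m) ∈ C.phi.ker := by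
      rw [MonoidHom.mem_ker, map_pow]
      ext i
      rw [Equiv.Perm.one_apply, ← Equiv.Perm.iterate_eq_pow]
      by_cases hi : i < C.D.n
      · have hiter : ∀ N : ℕ, ∀ j < C.D.n,
            (⇑(C.phi (PresentedGroup.mk (relSet edges extra) x)))^[N] j =
              (runT C.D (colWord C.cols x))^[N] j ∧
              (runT C.D (colWord C.cols x))^[N] j < C.D.n := by
          intro N
          induction N with
          | zero => intro j hj; exact ⟨rfl, hj⟩
          | succ N ih =>
            intro j hj
            obtain ⟨e1, e2⟩ := C.phi_mk_apply x hj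
            rw [Function.iterate_succ_apply, Function.iterate_succ_apply, e1]
            exact ih _ e2
        rw [(hiter _ i hi).1]
        exact hx i hi
      · have hfix : ∀ N : ℕ,
            (⇑(C.phi (PresentedGroup.mk (relSet edges extra) x)))^[N] i = i := by
          intro N
          induction N with
          | zero => rfl
          | succ N ih =>
            rw [Function.iterate_succ_apply, C.phi_mk_apply_ge x (not_lt.1 hi)]
            exact ih
        exact hfix _
    rw [hker] at h1
    exact h1
  have hcl := normalClosure_eq_top_of_trivial (edges := edges) (extra := extra) x htriv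
  have hk1 : p ^ k ∣ (coxH edges extra S).index := by
    rw [C.index_eq]
    exact hk
  have hk2 : ¬ p ^ (k + 1) ∣ Nat.card (PresentedGroup (relSet edges extra)) := by
    rw [hcard]
    exact hk'
  exact SimpleCrit.isSimpleGroup_of_maximal (coxH edges extra S) hmax hcore p k hk1 hk2 _ m hxp hcl

end Spor

end Cfsg.Agent.Helper9.TC2
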