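import Mathlib
import Cfsg.Agent.Lib.Helper9.TC2Cox

set_option autoImplicit false

/-! Auxiliary columns of the permutation model: a column `k + j` stands for a word in the columns
below `k`.  Words in all columns are checked on the model, and expand to words in the columns
below `k` that act in the same way. -/

namespace Cfsg.Agent.Helper9.TC2

/-- Replace the auxiliary letters of a word by their words. -/
def expand (k : ℕ) (aux : List (List ℕ)) (w : List ℕ) : List ℕ :=
  w.flatMap (fun c => if c < k then [c] else aux.getD (c - k) [])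

/-- At the point `i`, the auxiliary columns act as their words and map into the table. -/
noncomputable def chkAux (D : Tab) (aux : List (List ℕ)) (i : ℕ) : Bool :=
  allRange 0 aux.length (fun j =>
    Nat.beq (D.tau (Nat.add D.k j) i) (runT D (aux.getD j []) i))

theorem runT_append (D : Tab) (w₁ w₂ : List ℕ) (i : ℕ) :
    runT D (w₁ ++ w₂) i = runT D w₁ (runT D w₂ i) := by
  induction w₁ with
  | nil => rfl
  | cons c w ih => rw [List.cons_append, runT_cons, runT_cons, ih]

theorem runT_lt {D : Tab} (h : PermOK D) (w : List ℕ) (hw : ∀ c ∈ w, c < D.k) {i : ℕ}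
    (hi : i < D.n) : runT D w i < D.n := by
  induction w with
  | nil => exact hi
  | cons c w ih =>
    rw [runT_cons]
    exact h.tau_lt (hw c List.mem_cons_self) (ih (fun c' hc' => hw c' (List.mem_cons_of_mem _ hc')))

theorem runT_expand {D : Tab} (h : PermOK D) {aux : List (List ℕ)}
    (haux : ∀ w ∈ aux, ∀ c ∈ w, c < D.k)
    (hchk : ∀ i < D.n, chkAux D aux i = true) (w : List ℕ)
    (hw : ∀ c ∈ w, c < D.k + aux.length) {i : ℕ} (hi : i < D.n) :
    runT D (expand D.k aux w) i = runT D w i ∧ runT D w i < D.n := by
  induction w with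
  | nil => exact ⟨rfl, hi⟩
  | cons c w ih =>
    obtain ⟨e1, e2⟩ := ih (fun c' hc' => hw c' (List.mem_cons_of_mem _ hc'))
    have hc := hw c List.mem_cons_self
    have hexp : expand D.k aux (c :: w) =
        (if c < D.k then [c] else aux.getD (c - D.k) []) ++ expand D.k aux w := by
      unfold expand
      rw [List.flatMap_cons]
    rw [hexp, runT_append, e1, runT_cons]
    by_cases hck : c < D.k
    · rw [if_pos hck, runT_cons, runT_nil]
      exact ⟨rfl, h.tau_lt hck e2⟩
    · rw [if_neg hck]
      have hj : c - D.k < aux.length := by omega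
      have h1 := hchk _ e2
      unfold chkAux at h1
      rw [allRange_iff] at h1
      have h2 := Nat.eq_of_beq_eq_true (h1 (c - D.k) (Nat.zero_le _) (by omega))
      have h3 : Nat.add D.k (c - D.k) = c := by
        show D.k + (c - D.k) = c
        omega
      rw [h3] at h2
      have hmem : aux.getD (c - D.k) [] ∈ aux := by
        rw [List.getD_eq_getElem _ _ hj]
        exact List.getElem_mem hj
      refine ⟨h2.symm, ?_⟩
      rw [h2]
      exact runT_lt h _ (haux _ hmem) e2

/-- Words checked with auxiliary columns give checked words in the columns below `k`. -/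
theorem chkFix_expand {D : Tab} (h : PermOK D) {aux : List (List ℕ)}
    (haux : ∀ w ∈ aux, ∀ c ∈ w, c < D.k)
    (hchk : ∀ i < D.n, chkAux D aux i = true) {ws : List (List ℕ)}
    (hws : ∀ w ∈ ws, ∀ c ∈ w, c < D.k + aux.length)
    (hfix : ∀ i < D.n, chkFix D ws i = true) :
    ∀ i < D.n, chkFix D (ws.map (expand D.k aux)) i = true := by
  intro i hi
  have h1 := hfix i hi
  unfold chkFix at h1 ⊢
  rw [allList_iff] at h1 ⊢
  intro w hw
  obtain ⟨v, hv, rfl⟩ := List.mem_map.1 hw
  rw [(runT_expand h haux hchk v (hws v hv) hi).1]
  exact h1 v hv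

end Cfsg.Agent.Helper9.TC2
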