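import Mathlib

/-!
PIECE S12-CHARP of S2512 (owner helper5): the characteristic of a field of odd order `p ^ a`.
-/

set_option autoImplicit false
set_option linter.style.haveILetI false

open Polynomial

namespace Cfsg.Agent.Helper5.S12

universe v v₁ v₂ u

/-- PIECE S12-CHARP. -/
theorem charP_of_card {F : Type u} [Field F] [Fintype F] (p a : ℕ) (hp : p.Prime) (ha : 1 ≤ a)
    (hF : Fintype.card F = p ^ a) (hodd : Odd (Fintype.card F)) : CharP F p ∧ p ≠ 2 := by
  constructor
  · have hc : CharP F (ringChar F) := ringChar.charP F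
    obtain ⟨n, hp', hcard⟩ := FiniteField.card F (ringChar F)
    have h1 : ringChar F ∣ p ^ a := by
      rw [← hF, hcard]
      exact dvd_pow_self _ n.ne_zero
    have h2 : ringChar F ∣ p := hp'.dvd_of_dvd_pow h1
    have h3 : ringChar F = p := (Nat.prime_dvd_prime_iff_eq hp' hp).1 h2
    rw [← h3]
    exact hc
  · rintro rfl
    rw [hF] at hodd
    have : Even (2 ^ a) := (Nat.even_pow.2 ⟨even_two, by omega⟩)
    exact (Nat.not_even_iff_odd.2 hodd) this

end Cfsg.Agent.Helper5.S12
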