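import Mathlib

/-!
PIECE S12-COMB of S2512 (owner helper5): arithmetic of `lcm` on a divisor-closed set `ω` of
naturals with the trichotomy `hK`.
-/

set_option autoImplicit false
set_option linter.style.haveILetI false

open Polynomial

namespace Cfsg.Agent.Helper5.S12

universe v v₁ v₂ u

theorem s12_comb_coprime_two {x : ℕ} (hx : Odd x) : Nat.Coprime 2 x :=
  (Nat.Prime.coprime_iff_not_dvd Nat.prime_two).2
    (fun h => (Nat.not_even_iff_odd.2 hx) (even_iff_two_dvd.2 h))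

theorem s12_comb_odd_lcm {x y : ℕ} (hx : Odd x) (hy : Odd y) : Odd (Nat.lcm x y) := by
  have h1 : Nat.lcm x y ∣ x * y := Nat.lcm_dvd_mul x y
  have h2 : Odd (x * y) := hx.mul hy
  exact Odd.of_dvd_nat h2 h1

/-- `lcm (2 x) y = 2 lcm x y` for odd `x`, `y`. -/
theorem s12_comb_lcm_two_mul {x y : ℕ} (hx : Odd x) (hy : Odd y) :
    Nat.lcm (2 * x) y = 2 * Nat.lcm x y := by
  have h1 : 2 * x = Nat.lcm 2 x := (s12_comb_coprime_two hx).lcm_eq_mul.symm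
  rw [h1, Nat.lcm_assoc, (s12_comb_coprime_two (s12_comb_odd_lcm hx hy)).lcm_eq_mul]

theorem s12_comb_lcm_mul_two {x y : ℕ} (hx : Odd x) (hy : Odd y) :
    Nat.lcm x (2 * y) = 2 * Nat.lcm x y := by
  rw [Nat.lcm_comm, s12_comb_lcm_two_mul hy hx, Nat.lcm_comm]

theorem s12_comb_lcm_two {x : ℕ} (hx : Odd x) : Nat.lcm x 2 = 2 * x := by
  rw [Nat.lcm_comm, (s12_comb_coprime_two hx).lcm_eq_mul]

/-- the lcm of two powers of `p` in a set is again a power of `p` in that set -/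
theorem s12_comb_pow_lcm (ω : Set ℕ) (p : ℕ) {u u' : ℕ} (hu : u ∈ ω) (hu' : u' ∈ ω)
    (hk : ∃ k, u = p ^ k) (hk' : ∃ k, u' = p ^ k) :
    Nat.lcm u u' ∈ ω ∧ ∃ k, Nat.lcm u u' = p ^ k := by
  obtain ⟨k, rfl⟩ := hk
  obtain ⟨k', rfl⟩ := hk'
  rcases le_total k k' with h | h
  · rw [Nat.lcm_eq_right (pow_dvd_pow p h)]
    exact ⟨hu', k', rfl⟩
  · rw [Nat.lcm_eq_left (pow_dvd_pow p h)]
    exact ⟨hu, k, rfl⟩

/-- splitting an odd element of `ω` whose double is not in `ω` -/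
theorem s12_comb_split (ω : Set ℕ) (p n M : ℕ)
    (hdiv : ∀ a ∈ ω, ∀ d, d ∣ a → d ∈ ω) (h2 : 2 ∈ ω)
    (hK : ∀ a ∈ ω, Odd a → 2 * a ∈ ω ∨ a ∣ M ∨ ((∃ k, a = p ^ k) ∧ ∃ j, 2 * n - 1 = p ^ j))
    (x : ℕ) (hx : x ∈ ω) (hxo : Odd x) (hx2 : 2 * x ∉ ω) :
    ∃ t u, t ∣ M ∧ u ∈ ω ∧ (∃ k, u = p ^ k) ∧ x = Nat.lcm t u := by
  have h1 : (1 : ℕ) ∈ ω := hdiv 2 h2 1 (one_dvd 2)
  rcases hK x hx hxo with h | h | h
  · exact absurd h hx2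
  · exact ⟨x, 1, h, h1, ⟨0, (pow_zero p).symm⟩, (Nat.lcm_one_right x).symm⟩
  · exact ⟨1, x, one_dvd M, hx, h.1, (Nat.lcm_one_left x).symm⟩

/-- PIECE S12-COMB (1/2). -/
theorem comb_cube (ω : Set ℕ) (p n M : ℕ) (hp : p.Prime)
    (hdiv : ∀ a ∈ ω, ∀ d, d ∣ a → d ∈ ω) (h2 : 2 ∈ ω) (hMo : Odd M) (hM : M ∈ ω)
    (hK : ∀ a ∈ ω, Odd a → 2 * a ∈ ω ∨ a ∣ M ∨ ((∃ k, a = p ^ k) ∧ ∃ j, 2 * n - 1 = p ^ j))
    (a b c : ℕ) (ha : a ∈ ω) (hb : b ∈ ω) (hc : c ∈ ω) (hao : Odd a) (hbo : Odd b) (hco : Odd c) :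
    ∃ a' ∈ ω, ∃ b' ∈ ω, ∃ c' ∈ ω,
      Nat.lcm a' (Nat.lcm b' c') = 2 * Nat.lcm a (Nat.lcm b c) := by
  have hbc : Odd (Nat.lcm b c) := s12_comb_odd_lcm hbo hco
  by_cases ha2 : 2 * a ∈ ω
  · exact ⟨2 * a, ha2, b, hb, c, hc, s12_comb_lcm_two_mul hao hbc⟩
  by_cases hb2 : 2 * b ∈ ω
  · refine ⟨a, ha, 2 * b, hb2, c, hc, ?_⟩
    rw [s12_comb_lcm_two_mul hbo hco, s12_comb_lcm_mul_two hao hbc]
  by_cases hc2 : 2 * c ∈ ω
  · refine ⟨a, ha, b, hb, 2 * c, hc2, ?_⟩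
    rw [s12_comb_lcm_mul_two hbo hco, s12_comb_lcm_mul_two hao hbc]
  obtain ⟨ta, ua, hta, hua, hka, rfl⟩ := s12_comb_split ω p n M hdiv h2 hK a ha hao ha2
  obtain ⟨tb, ub, htb, hub, hkb, rfl⟩ := s12_comb_split ω p n M hdiv h2 hK b hb hbo hb2
  obtain ⟨tc, uc, htc, huc, hkc, rfl⟩ := s12_comb_split ω p n M hdiv h2 hK c hc hco hc2
  have ht : Nat.lcm ta (Nat.lcm tb tc) ∈ ω :=
    hdiv M hM _ (Nat.lcm_dvd hta (Nat.lcm_dvd htb htc))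
  obtain ⟨hbcu, hkbc⟩ := s12_comb_pow_lcm ω p hub huc hkb hkc
  obtain ⟨hu, _⟩ := s12_comb_pow_lcm ω p hua hbcu hka hkbc
  have hall : Nat.lcm (Nat.lcm ta (Nat.lcm tb tc)) (Nat.lcm ua (Nat.lcm ub uc)) =
      Nat.lcm (Nat.lcm ta ua) (Nat.lcm (Nat.lcm tb ub) (Nat.lcm tc uc)) := by
    apply Nat.dvd_antisymm
    · apply Nat.lcm_dvd
      · apply Nat.lcm_dvd
        · exact (Nat.dvd_lcm_left ta ua).trans (Nat.dvd_lcm_left _ _)
        · apply Nat.lcm_dvd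
          · exact ((Nat.dvd_lcm_left tb ub).trans (Nat.dvd_lcm_left _ _)).trans
              (Nat.dvd_lcm_right _ _)
          · exact ((Nat.dvd_lcm_left tc uc).trans (Nat.dvd_lcm_right _ _)).trans
              (Nat.dvd_lcm_right _ _)
      · apply Nat.lcm_dvd
        · exact (Nat.dvd_lcm_right ta ua).trans (Nat.dvd_lcm_left _ _)
        · apply Nat.lcm_dvd
          · exact ((Nat.dvd_lcm_right tb ub).trans (Nat.dvd_lcm_left _ _)).trans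
              (Nat.dvd_lcm_right _ _)
          · exact ((Nat.dvd_lcm_right tc uc).trans (Nat.dvd_lcm_right _ _)).trans
              (Nat.dvd_lcm_right _ _)
    · apply Nat.lcm_dvd
      · apply Nat.lcm_dvd
        · exact (Nat.dvd_lcm_left ta _).trans (Nat.dvd_lcm_left _ _)
        · exact (Nat.dvd_lcm_left ua _).trans (Nat.dvd_lcm_right _ _)
      · apply Nat.lcm_dvd
        · apply Nat.lcm_dvd
          · exact ((Nat.dvd_lcm_left tb tc).trans (Nat.dvd_lcm_right ta _)).trans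
              (Nat.dvd_lcm_left _ _)
          · exact ((Nat.dvd_lcm_left ub uc).trans (Nat.dvd_lcm_right ua _)).trans
              (Nat.dvd_lcm_right _ _)
        · apply Nat.lcm_dvd
          · exact ((Nat.dvd_lcm_right tb tc).trans (Nat.dvd_lcm_right ta _)).trans
              (Nat.dvd_lcm_left _ _)
          · exact ((Nat.dvd_lcm_right ub uc).trans (Nat.dvd_lcm_right ua _)).trans
              (Nat.dvd_lcm_right _ _)
  refine ⟨Nat.lcm ta (Nat.lcm tb tc), ht, Nat.lcm ua (Nat.lcm ub uc), hu, 2, h2, ?_⟩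
  rw [← Nat.lcm_assoc, hall]
  exact s12_comb_lcm_two (s12_comb_odd_lcm hao hbc)

/-- PIECE S12-COMB (2/2). -/
theorem comb_square (ω : Set ℕ) (p n M : ℕ)
    (hdiv : ∀ a ∈ ω, ∀ d, d ∣ a → d ∈ ω) (h2 : 2 ∈ ω) (hMo : Odd M) (hM : M ∈ ω)
    (hK : ∀ a ∈ ω, Odd a → 2 * a ∈ ω ∨ a ∣ M ∨ ((∃ k, a = p ^ k) ∧ ∃ j, 2 * n - 1 = p ^ j))
    (hno : ¬ ∃ j, 2 * n - 1 = p ^ j)
    (a b : ℕ) (ha : a ∈ ω) (hb : b ∈ ω) (hao : Odd a) (hbo : Odd b) :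
    ∃ a' ∈ ω, ∃ b' ∈ ω, Nat.lcm a' b' = 2 * Nat.lcm a b := by
  rcases hK a ha hao with ha2 | haM | haU
  · exact ⟨2 * a, ha2, b, hb, s12_comb_lcm_two_mul hao hbo⟩
  · rcases hK b hb hbo with hb2 | hbM | hbU
    · exact ⟨a, ha, 2 * b, hb2, s12_comb_lcm_mul_two hao hbo⟩
    · exact ⟨Nat.lcm a b, hdiv M hM _ (Nat.lcm_dvd haM hbM), 2, h2,
        s12_comb_lcm_two (s12_comb_odd_lcm hao hbo)⟩
    · exact absurd hbU.2 hno
  · exact absurd haU.2 hno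

end Cfsg.Agent.Helper5.S12
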