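import Mathlib

/-!
# S3313 piece A5FIVE (helper9 for helper8): element of order 5, order 60, element orders of `A5`.
-/

set_option autoImplicit false

namespace Cfsg.Agent.Helper8.HJ

theorem a5five_orders : ∀ x : alternatingGroup (Fin 5),
    x = 1 ∨ (x ^ 2 = 1 ∧ x ≠ 1) ∨ (x ^ 3 = 1 ∧ x ≠ 1) ∨ (x ^ 5 = 1 ∧ x ≠ 1) := by
  decide +kernel

theorem a5five_exists : ∃ f : alternatingGroup (Fin 5), f ^ 5 = 1 ∧ f ≠ 1 := by
  decide +kernel

/-- PIECE A5FIVE.  `A5` has an element of order 5; its order is 60; elements have order 1, 2, 3 or 5. -/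
theorem a5_misc {B : Type*} [Group B] (e : B ≃* alternatingGroup (Fin 5)) :
    (∃ f : B, orderOf f = 5) ∧ Nat.card B = 60 ∧
      ∀ x : B, orderOf x = 1 ∨ orderOf x = 2 ∨ orderOf x = 3 ∨ orderOf x = 5 := by
  have : Fact (Nat.Prime 2) := ⟨Nat.prime_two⟩
  have : Fact (Nat.Prime 3) := ⟨Nat.prime_three⟩
  have : Fact (Nat.Prime 5) := ⟨Nat.prime_five⟩
  refine ⟨?_, ?_, ?_⟩
  · obtain ⟨f, hf5, hf1⟩ := a5five_exists
    refine ⟨e.symm f, ?_⟩
    rw [MulEquiv.orderOf_eq e.symm f]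
    exact orderOf_eq_prime hf5 hf1
  · rw [Nat.card_congr e.toEquiv, Nat.card_eq_fintype_card]
    decide +kernel
  · intro x
    rw [← MulEquiv.orderOf_eq e x]
    rcases a5five_orders (e x) with h | h | h | h
    · left; rw [h, orderOf_one]
    · right; left; exact orderOf_eq_prime h.1 h.2
    · right; right; left; exact orderOf_eq_prime h.1 h.2
    · right; right; right; exact orderOf_eq_prime h.1 h.2

end Cfsg.Agent.Helper8.HJ
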