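import Mathlib

/-!
# S3313 piece A5INV (helper9 for helper8): `A5` has 15 involutions, transported to `B ≅ A5`.
-/

set_option autoImplicit false

namespace Cfsg.Agent.Helper8.HJ

theorem a5inv_card : Fintype.card {x : alternatingGroup (Fin 5) // x ^ 2 = 1 ∧ x ≠ 1} = 15 := by
  decide +kernel

theorem a5inv_orderOf_two_iff {B : Type*} [Group B] (x : B) : orderOf x = 2 ↔ x ^ 2 = 1 ∧ x ≠ 1 :=
  orderOf_eq_prime_iff

/-- PIECE A5INV.  `A5` has 15 involutions. -/
theorem a5_card_invol {B : Type*} [Group B] (e : B ≃* alternatingGroup (Fin 5)) :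
    Nat.card {x : B // orderOf x = 2} = 15 := by
  rw [← a5inv_card, ← Nat.card_eq_fintype_card]
  apply Nat.card_congr
  refine e.toEquiv.subtypeEquiv ?_
  intro x
  rw [← MulEquiv.orderOf_eq e x, a5inv_orderOf_two_iff]
  rfl

end Cfsg.Agent.Helper8.HJ
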