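import Mathlib
import Cfsg.Agent.Lib.Helper8.HJDefs
import Cfsg.Agent.Lib.Helper14.ZS4CLASS

/-!
# S3313 piece J120 (helper9 for helper8): `C = C_G(z)` has exactly 120 involutions outside `Q`.
-/

set_option autoImplicit false

namespace Cfsg.Agent.Helper8.HJ

open Cfsg

section

variable {G : Type*} [Group G]

theorem j120_sq_of_two {a : G} (h : orderOf a = 2) : a * a = 1 := by
  have h1 := pow_orderOf_eq_one a
  rw [h, pow_two] at h1
  exact h1

theorem j120_inv_of_two {a : G} (h : orderOf a = 2) : a⁻¹ = a :=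
  inv_eq_of_mul_eq_one_left (j120_sq_of_two h)

theorem j120_ne_one_of_two {a : G} (h : orderOf a = 2) : a ≠ 1 := by
  rintro rfl
  rw [orderOf_one] at h
  omega

theorem j120_order_two {a : G} (h1 : a * a = 1) (h2 : a ≠ 1) : orderOf a = 2 := by
  have : Fact (Nat.Prime 2) := ⟨Nat.prime_two⟩
  exact orderOf_eq_prime (by rw [pow_two]; exact h1) h2

theorem j120_orderOf_conj (g a : G) : orderOf (g * a * g⁻¹) = orderOf a := by
  rw [← MulAut.conj_apply, MulEquiv.orderOf_eq]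

variable {z : G} {Q K : Subgroup G}

/-- an involution of `K` lies in `C`, outside `Q` -/
theorem j120_invK (c : ZCfg z Q K) {k : G} (hk : k ∈ K) (hk2 : orderOf k = 2) :
    k ∈ Subgroup.centralizer ({z} : Set G) ∧ k ∉ Q :=
  ⟨c.hKC hk, fun hq => j120_ne_one_of_two hk2 (c.hinf k hk hq)⟩

/-- the decomposition of an involution of `C` outside `Q` -/
theorem j120_decomp (c : ZCfg z Q K) {v : G} (hvC : v ∈ Subgroup.centralizer ({z} : Set G))
    (hvQ : v ∉ Q) (hv : orderOf v = 2) :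
    ∃ k ∈ K, orderOf k = 2 ∧ ∃ q ∈ Q, (k * q * k⁻¹ * q⁻¹ = 1 ∨ k * q * k⁻¹ * q⁻¹ = z) ∧ v = k * q := by
  obtain ⟨k, hk, q, hq, rfl⟩ := c.hsup v hvC
  have hvv : k * q * (k * q) = 1 := j120_sq_of_two hv
  have hkC : k ∈ Subgroup.centralizer ({z} : Set G) := c.hKC hk
  have hq' : k⁻¹ * q * k ∈ Q := by
    have := c.hnorm k⁻¹ (Subgroup.inv_mem _ hkC) q hq
    rwa [inv_inv] at this
  have hkk : k * k = (k⁻¹ * q * k * q)⁻¹ := by
    apply eq_inv_of_mul_eq_one_left
    have : k * k * (k⁻¹ * q * k * q) = k * q * (k * q) := by group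
    rw [this, hvv]
  have hkk1 : k * k = 1 := by
    apply c.hinf _ (K.mul_mem hk hk)
    rw [hkk]
    exact Q.inv_mem (Q.mul_mem hq' hq)
  have hk1 : k ≠ 1 := by
    rintro rfl
    apply hvQ
    rw [one_mul]
    exact hq
  have hk2 : orderOf k = 2 := j120_order_two hkk1 hk1
  have hkinv : k⁻¹ = k := j120_inv_of_two hk2
  refine ⟨k, hk, hk2, q, hq, ?_, rfl⟩
  have hconj : k * q * k⁻¹ = q⁻¹ := by
    rw [hkinv]
    apply eq_inv_of_mul_eq_one_left
    have h3 : k * q * k * q = k * q * (k * q) := by group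
    rw [h3]
    exact hvv
  have hz2 : z⁻¹ = z := j120_inv_of_two c.hz
  rw [hconj]
  rcases c.hsq q hq with h | h
  · left
    rw [← mul_inv_rev, h, inv_one]
  · right
    rw [← mul_inv_rev, h, hz2]

/-- `R_k` has at most 8 elements -/
theorem j120_card_R [Finite G] {k : G}
    (h4 : Nat.card ↥(Q ⊓ Subgroup.centralizer ({k} : Set G)) = 4) :
    Set.ncard {x : G | x ∈ Q ∧ (k * x * k⁻¹ * x⁻¹ = 1 ∨ k * x * k⁻¹ * x⁻¹ = z)} ≤ 8 := by
  have hsplit : {x : G | x ∈ Q ∧ (k * x * k⁻¹ * x⁻¹ = 1 ∨ k * x * k⁻¹ * x⁻¹ = z)} =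
      {x : G | x ∈ Q ∧ k * x * k⁻¹ * x⁻¹ = 1} ∪ {x : G | x ∈ Q ∧ k * x * k⁻¹ * x⁻¹ = z} := by
    ext x
    simp only [Set.mem_ofPred_eq, Set.mem_union]
    tauto
  have h0 : Set.ncard {x : G | x ∈ Q ∧ k * x * k⁻¹ * x⁻¹ = 1} = 4 := by
    rw [← h4, ← Nat.card_coe_set_eq]
    apply Nat.card_congr
    apply Equiv.setCongr
    ext x
    simp only [Set.mem_ofPred_eq, Subgroup.coe_inf, Set.mem_inter_iff, SetLike.mem_coe,
      Subgroup.mem_centralizer_singleton_iff]
    constructor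
    · rintro ⟨hq, h⟩
      refine ⟨hq, ?_⟩
      have : k * x = x * k := by
        have h' : k * x * k⁻¹ * x⁻¹ * x * k = 1 * x * k := by rw [h]
        rw [one_mul] at h'
        rw [← h']
        group
      exact this.symm
    · rintro ⟨hq, h⟩
      refine ⟨hq, ?_⟩
      rw [← h]
      group
  have h1 : Set.ncard {x : G | x ∈ Q ∧ k * x * k⁻¹ * x⁻¹ = z} ≤
      Set.ncard {x : G | x ∈ Q ∧ k * x * k⁻¹ * x⁻¹ = 1} := by
    by_cases hne : ∃ x0 : G, x0 ∈ Q ∧ k * x0 * k⁻¹ * x0⁻¹ = z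
    · obtain ⟨x0, hx0Q, hx0⟩ := hne
      apply Set.ncard_le_ncard_of_injOn (fun x => x0⁻¹ * x)
      · rintro x ⟨hxQ, hx⟩
        refine ⟨Q.mul_mem (Q.inv_mem hx0Q) hxQ, ?_⟩
        have e0 : k * x0 * k⁻¹ = z * x0 := by rw [← hx0]; group
        have e1 : k * x * k⁻¹ = z * x := by rw [← hx]; group
        have e2 : k * (x0⁻¹ * x) * k⁻¹ = (k * x0 * k⁻¹)⁻¹ * (k * x * k⁻¹) := by group
        rw [e2, e0, e1]
        group
      · intro a _ b _ h
        exact mul_left_cancel h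
    · have hempty : {x : G | x ∈ Q ∧ k * x * k⁻¹ * x⁻¹ = z} = ∅ := by
        ext x
        simp only [Set.mem_ofPred_eq, Set.mem_empty_iff_false, iff_false]
        intro hx
        exact hne ⟨x, hx⟩
      rw [hempty, Set.ncard_empty]
      exact Nat.zero_le _
  rw [hsplit]
  have := Set.ncard_union_le {x : G | x ∈ Q ∧ k * x * k⁻¹ * x⁻¹ = 1}
    {x : G | x ∈ Q ∧ k * x * k⁻¹ * x⁻¹ = z}
  omega

omit [Group G] in
/-- cardinality of a filter as an `ncard` -/
theorem j120_card_filter [Fintype G] (p : G → Prop) [DecidablePred p] :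
    (Finset.univ.filter p).card = Set.ncard {x : G | p x} := by
  rw [Set.ncard_eq_toFinset_card']
  congr 1
  ext x
  simp

/-- the centralizer of `k` in the group `↥C` -/
theorem j120_card_cent (k : G) (hkC : k ∈ Subgroup.centralizer ({z} : Set G)) :
    Nat.card ↥(Subgroup.centralizer ({(⟨k, hkC⟩ : ↥(Subgroup.centralizer ({z} : Set G)))} :
      Set ↥(Subgroup.centralizer ({z} : Set G)))) =
    Nat.card ↥(Subgroup.centralizer ({k} : Set G) ⊓ Subgroup.centralizer ({z} : Set G)) := by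
  apply Nat.card_congr
  refine
    { toFun := fun x => ⟨x.1.1, ?_, x.1.2⟩
      invFun := fun y => ⟨⟨y.1, y.2.2⟩, ?_⟩
      left_inv := fun x => rfl
      right_inv := fun y => rfl }
  · have h := Subgroup.mem_centralizer_singleton_iff.mp x.2
    show x.1.1 ∈ Subgroup.centralizer ({k} : Set G)
    rw [Subgroup.mem_centralizer_singleton_iff]
    exact congrArg Subtype.val h
  · rw [Subgroup.mem_centralizer_singleton_iff]
    apply Subtype.ext
    exact Subgroup.mem_centralizer_singleton_iff.mp y.2.1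

end

/-- PIECE J120. -/
theorem card_J {G : Type*} [Group G] [Finite G] {z : G} {Q K : Subgroup G} (c : ZCfg z Q K)
    (hC : Nat.card ↥(Subgroup.centralizer ({z} : Set G)) = 1920)
    (h15 : Nat.card {x : K // orderOf x = 2} = 15)
    (hv16 : ∀ v : G, v ∈ Subgroup.centralizer ({z} : Set G) → v ∉ Q → orderOf v = 2 →
      Nat.card ↥(Subgroup.centralizer ({v} : Set G) ⊓ Subgroup.centralizer ({z} : Set G)) = 16)
    (hv4 : ∀ v : G, v ∈ Subgroup.centralizer ({z} : Set G) → v ∉ Q → orderOf v = 2 →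
      Nat.card ↥(Q ⊓ Subgroup.centralizer ({v} : Set G)) = 4) :
    Nat.card {v : G // v ∈ Subgroup.centralizer ({z} : Set G) ∧ v ∉ Q ∧ orderOf v = 2} = 120 := by
  classical
  have : Fintype G := Fintype.ofFinite G
  rw [Nat.card_eq_fintype_card, Fintype.card_subtype]
  -- the involutions of `K`
  have hIK : (Finset.univ.filter fun k : G => k ∈ K ∧ orderOf k = 2).card = 15 := by
    rw [← h15, ← Fintype.card_subtype, ← Nat.card_eq_fintype_card]
    apply Nat.card_congr
    refine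
      { toFun := fun x => ⟨⟨x.1, x.2.1⟩, ?_⟩
        invFun := fun y => ⟨y.1.1, y.1.2, ?_⟩
        left_inv := fun x => rfl
        right_inv := fun y => rfl }
    · rw [← Subgroup.orderOf_coe]; exact x.2.2
    · rw [Subgroup.orderOf_coe]; exact y.2
  apply le_antisymm
  · -- at most `15 * 8`
    have hsub : (Finset.univ.filter fun v : G =>
        v ∈ Subgroup.centralizer ({z} : Set G) ∧ v ∉ Q ∧ orderOf v = 2) ⊆
        (Finset.univ.filter fun k : G => k ∈ K ∧ orderOf k = 2).biUnion fun k =>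
          (Finset.univ.filter fun x : G =>
            x ∈ Q ∧ (k * x * k⁻¹ * x⁻¹ = 1 ∨ k * x * k⁻¹ * x⁻¹ = z)).image fun x => k * x := by
      intro v hv
      rw [Finset.mem_filter] at hv
      obtain ⟨k, hk, hk2, q, hq, hR, rfl⟩ := j120_decomp c hv.2.1 hv.2.2.1 hv.2.2.2
      rw [Finset.mem_biUnion]
      refine ⟨k, Finset.mem_filter.mpr ⟨Finset.mem_univ _, hk, hk2⟩, ?_⟩
      rw [Finset.mem_image]
      exact ⟨q, Finset.mem_filter.mpr ⟨Finset.mem_univ _, hq, hR⟩, rfl⟩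
    refine le_trans (Finset.card_le_card hsub) (le_trans Finset.card_biUnion_le ?_)
    have hle : ∀ k ∈ (Finset.univ.filter fun k : G => k ∈ K ∧ orderOf k = 2),
        ((Finset.univ.filter fun x : G =>
            x ∈ Q ∧ (k * x * k⁻¹ * x⁻¹ = 1 ∨ k * x * k⁻¹ * x⁻¹ = z)).image fun x => k * x).card ≤ 8 := by
      intro k hk
      rw [Finset.mem_filter] at hk
      obtain ⟨hkC, hkQ⟩ := j120_invK c hk.2.1 hk.2.2
      refine le_trans Finset.card_image_le ?_
      rw [j120_card_filter]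
      exact j120_card_R (hv4 k hkC hkQ hk.2.2)
    refine le_trans (Finset.sum_le_sum hle) ?_
    rw [Finset.sum_const, hIK]
    norm_num
  · -- at least `1920 / 16`
    have hpos : 0 < (Finset.univ.filter fun k : G => k ∈ K ∧ orderOf k = 2).card := by
      rw [hIK]; norm_num
    obtain ⟨k, hk⟩ := Finset.card_pos.mp hpos
    rw [Finset.mem_filter] at hk
    obtain ⟨hkC, hkQ⟩ := j120_invK c hk.2.1 hk.2.2
    have hcls := Cfsg.Agent.Helper23.ZS4.class_card
      (G := ↥(Subgroup.centralizer ({z} : Set G))) ⟨k, hkC⟩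
    rw [j120_card_cent k hkC, hv16 k hkC hkQ hk.2.2, hC] at hcls
    have h120 : Set.ncard {x' : ↥(Subgroup.centralizer ({z} : Set G)) |
        ∃ g : ↥(Subgroup.centralizer ({z} : Set G)), x' = g * ⟨k, hkC⟩ * g⁻¹} = 120 := by
      omega
    rw [j120_card_filter, ← h120, ← Set.ncard_image_of_injective _ Subtype.val_injective]
    apply Set.ncard_le_ncard _ (Set.toFinite _)
    rintro _ ⟨x', ⟨g, rfl⟩, rfl⟩
    refine ⟨(g * ⟨k, hkC⟩ * g⁻¹).2, ?_, ?_⟩
    · intro hq
      apply hkQ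
      have h1 := c.hnorm (g⁻¹ : ↥(Subgroup.centralizer ({z} : Set G))).1
        (g⁻¹ : ↥(Subgroup.centralizer ({z} : Set G))).2 _ hq
      have h2 : ((g⁻¹ : ↥(Subgroup.centralizer ({z} : Set G))) : G) *
          ((g * ⟨k, hkC⟩ * g⁻¹ : ↥(Subgroup.centralizer ({z} : Set G))) : G) *
          ((g⁻¹ : ↥(Subgroup.centralizer ({z} : Set G))) : G)⁻¹ = k := by
        simp only [Subgroup.coe_mul, Subgroup.coe_inv]
        group
      rwa [h2] at h1
    · have h3 : ((g * ⟨k, hkC⟩ * g⁻¹ : ↥(Subgroup.centralizer ({z} : Set G))) : G) =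
          (g : G) * k * (g : G)⁻¹ := by
        simp only [Subgroup.coe_mul, Subgroup.coe_inv]
      rw [h3, j120_orderOf_conj]
      exact hk.2.2

end Cfsg.Agent.Helper8.HJ
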