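import Mathlib

set_option autoImplicit false

/-! Homomorphisms from products of cyclic groups to commutative groups. -/

namespace Cfsg.Agent.Helper9.AbHom

/-- The homomorphism from `ZMod n` to a commutative group sending `1` to an element of order
dividing `n`. -/
noncomputable def zmodHom {A : Type*} [CommGroup A] (n : ℕ) (a : A) (h : a ^ n = 1) :
    ZMod n →+ Additive A :=
  ZMod.lift n ⟨zmultiplesHom (Additive A) (Additive.ofMul a), by
    change ((n : ℤ) • Additive.ofMul a : Additive A) = 0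
    rw [natCast_zsmul]
    change Additive.ofMul (a ^ n) = 0
    rw [h]
    rfl⟩

theorem zmodHom_one {A : Type*} [CommGroup A] (n : ℕ) (a : A) (h : a ^ n = 1) :
    zmodHom n a h 1 = Additive.ofMul a := by
  have h1 : (1 : ZMod n) = ((1 : ℤ) : ZMod n) := by simp
  unfold zmodHom
  rw [h1, ZMod.lift_coe]
  change ((1 : ℤ) • Additive.ofMul a : Additive A) = _
  rw [one_zsmul]

/-- Three elements of a commutative group of orders dividing `n1`, `n2`, `n3` lie in the range
of a homomorphism from `ZMod n1 × ZMod n2 × ZMod n3`. -/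
theorem exists_hom_three {A : Type*} [CommGroup A] (n1 n2 n3 : ℕ) (a1 a2 a3 : A)
    (h1 : a1 ^ n1 = 1) (h2 : a2 ^ n2 = 1) (h3 : a3 ^ n3 = 1) :
    ∃ φ : Multiplicative (ZMod n1 × ZMod n2 × ZMod n3) →* A,
      a1 ∈ φ.range ∧ a2 ∈ φ.range ∧ a3 ∈ φ.range := by
  let F : ZMod n1 × ZMod n2 × ZMod n3 →+ Additive A :=
    (zmodHom n1 a1 h1).coprod ((zmodHom n2 a2 h2).coprod (zmodHom n3 a3 h3))
  refine ⟨AddMonoidHom.toMultiplicativeLeft F, ⟨Multiplicative.ofAdd (1, 0, 0), ?_⟩,
    ⟨Multiplicative.ofAdd (0, 1, 0), ?_⟩, ⟨Multiplicative.ofAdd (0, 0, 1), ?_⟩⟩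
  · change Additive.toMul (F (1, 0, 0)) = a1
    have : F (1, 0, 0) = Additive.ofMul a1 := by
      simp only [F, AddMonoidHom.coprod_apply, map_zero, add_zero, zmodHom_one]
    rw [this]
    rfl
  · change Additive.toMul (F (0, 1, 0)) = a2
    have : F (0, 1, 0) = Additive.ofMul a2 := by
      simp only [F, AddMonoidHom.coprod_apply, map_zero, add_zero, zero_add, zmodHom_one]
    rw [this]
    rfl
  · change Additive.toMul (F (0, 0, 1)) = a3
    have : F (0, 0, 1) = Additive.ofMul a3 := by
      simp only [F, AddMonoidHom.coprod_apply, map_zero, zero_add, zmodHom_one]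
    rw [this]
    rfl

end Cfsg.Agent.Helper9.AbHom
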