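import Mathlib
import Cfsg.Agent.Lib.Helper9.TitsBM

set_option autoImplicit false

/-! Five by five matrices over the field with two elements, given by their columns as bit
vectors. -/

namespace Cfsg.Agent.Helper9.BM5

open Cfsg.Agent.Helper9.TitsBM (mv mul bit bit_xor mv_zero mv_cons bit_testBit_mv getD_mul bit_inj)

/-- A matrix: the list of its columns, as bit vectors. -/
abbrev BM : Type := List ℕ

/-- The identity matrix. -/
def one : BM := [1, 2, 4, 8, 16]

/-- The matrix. -/
def toMat (M : BM) : Matrix (Fin 5) (Fin 5) (ZMod 2) :=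
  Matrix.of fun i j => bit ((M.getD j.val 0).testBit i.val)

theorem toMat_apply (M : BM) (i j : Fin 5) :
    toMat M i j = bit ((M.getD j.val 0).testBit i.val) := rfl

theorem toMat_mul (M N : BM) (hM : M.length = 5) : toMat (mul M N) = toMat M * toMat N := by
  ext i j
  rw [Matrix.mul_apply, toMat_apply, getD_mul, bit_testBit_mv, hM,
    ← Fin.sum_univ_eq_sum_range
      (fun k => bit ((M.getD k 0).testBit i.val) * bit ((N.getD j.val 0).testBit k)) 5]
  rfl

theorem toMat_one : toMat one = 1 := by decide

theorem length_mul (M N : BM) : (mul M N).length = N.length := List.length_map _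

/-- A test for inequality. -/
def neqB (M N : BM) : Bool :=
  (List.range 5).any fun j => (List.range 5).any fun i =>
    (M.getD j 0).testBit i != (N.getD j 0).testBit i

theorem toMat_ne_of_neqB (M N : BM) (h : neqB M N = true) : toMat M ≠ toMat N := by
  intro e
  unfold neqB at h
  rw [List.any_eq_true] at h
  obtain ⟨j, hj, h⟩ := h
  rw [List.any_eq_true] at h
  obtain ⟨i, hi, h⟩ := h
  rw [List.mem_range] at hi hj
  have h1 := congrFun (congrFun e ⟨i, hi⟩) ⟨j, hj⟩
  rw [toMat_apply, toMat_apply] at h1
  rw [bit_inj _ _ h1] at h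
  simp at h

/-- The matrix of a code of twenty five bits. -/
def cols5 (x : ℕ) : BM :=
  [Nat.land x 31, Nat.land (Nat.shiftRight x 5) 31, Nat.land (Nat.shiftRight x 10) 31,
    Nat.land (Nat.shiftRight x 15) 31, Nat.land (Nat.shiftRight x 20) 31]

theorem length_cols5 (x : ℕ) : (cols5 x).length = 5 := rfl

/-- The value of a word of columns in a family of matrices: the first letter is the left
factor. -/
def evW (g : ℕ → BM) : List ℕ → BM
  | [] => one
  | c :: w => mul (g c) (evW g w)

theorem length_evW (g : ℕ → BM) (w : List ℕ) : (evW g w).length = 5 := by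
  cases w with
  | nil => rfl
  | cons c w => rw [evW, length_mul]; exact length_evW g w

theorem unit_zmod2 : ∀ x y : ZMod 2, x * y = 1 → x = 1 := by decide

theorem det_of_mul_self (M : BM) (hM : M.length = 5) (h : mul M M = one) : (toMat M).det = 1 := by
  have h1 : toMat M * toMat M = 1 := by rw [← toMat_mul M M hM, h, toMat_one]
  have h2 := congrArg Matrix.det h1
  rw [Matrix.det_mul, Matrix.det_one] at h2
  exact unit_zmod2 _ _ h2

end Cfsg.Agent.Helper9.BM5
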