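import Mathlib

set_option autoImplicit false

/-! A subgroup `F` of a group and an involution `z` outside `F` which commutes with `F`: the
subgroup `F ∪ F z`, its order, and its normal subgroups when `F` is simple and not abelian. -/

namespace Cfsg.Agent.Helper9.CentralTwo

variable {G : Type*} [Group G]

theorem comm_of (F : Subgroup G) (z : G) (hz : z * z = 1) (hc : ∀ f ∈ F, z * f = f * z) {b : G}
    (hb : b ∈ F ∨ b * z ∈ F) : z * b = b * z := by
  rcases hb with hb | hb
  · exact hc b hb
  · have h := hc (b * z) hb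
    have e : z * (b * z) * z = b * z * z * z := by rw [h]
    rw [mul_assoc b z z, hz, mul_one, mul_assoc z (b * z) z, mul_assoc b z z, hz, mul_one] at e
    exact e

/-- The subgroup `F ∪ F z`. -/
def ext (F : Subgroup G) (z : G) (hz : z * z = 1) (hc : ∀ f ∈ F, z * f = f * z) : Subgroup G where
  carrier := {b | b ∈ F ∨ b * z ∈ F}
  one_mem' := Or.inl F.one_mem
  mul_mem' := by
    rintro x y hx hy
    have cy := comm_of F z hz hc hy
    rcases hx with hx | hx <;> rcases hy with hy | hy
    · exact Or.inl (F.mul_mem hx hy)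
    · right
      rw [mul_assoc]
      exact F.mul_mem hx hy
    · right
      have : x * y * z = x * z * y := by rw [mul_assoc, mul_assoc, cy]
      rw [this]
      exact F.mul_mem hx hy
    · left
      have h1 : x * y = (x * z) * (y * z) := by
        rw [mul_assoc, ← mul_assoc z y z, cy, mul_assoc y z z, hz, mul_one]
      rw [h1]
      exact F.mul_mem hx hy
  inv_mem' := by
    rintro x hx
    have cx := comm_of F z hz hc hx
    have hzi : z⁻¹ = z := inv_eq_of_mul_eq_one_right hz
    rcases hx with hx | hx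
    · exact Or.inl (F.inv_mem hx)
    · right
      have h1 : x⁻¹ * z = (x * z)⁻¹ := by
        rw [mul_inv_rev, hzi]
        have : z * x⁻¹ = x⁻¹ * z := by
          have e : x⁻¹ * (z * x) * x⁻¹ = x⁻¹ * (x * z) * x⁻¹ := by rw [cx]
          rw [← mul_assoc, mul_assoc (x⁻¹ * z), mul_inv_cancel, mul_one, inv_mul_cancel_left] at e
          exact e.symm
        exact this.symm
      rw [h1]
      exact F.inv_mem hx

variable (F : Subgroup G) (z : G) (hz : z * z = 1) (hc : ∀ f ∈ F, z * f = f * z)

theorem mem_ext {b : G} : b ∈ ext F z hz hc ↔ b ∈ F ∨ b * z ∈ F := Iff.rfl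

theorem le_ext : F ≤ ext F z hz hc := fun _ h => Or.inl h

theorem z_mem_ext : z ∈ ext F z hz hc := Or.inr (by rw [hz]; exact F.one_mem)

/-- The order of `F ∪ F z`. -/
theorem card_ext (hzF : z ∉ F) : Nat.card (ext F z hz hc) = Nat.card F * 2 := by
  have hidx : (F.subgroupOf (ext F z hz hc)).index = 2 := by
    rw [Subgroup.index_eq_two_iff]
    refine ⟨⟨z, z_mem_ext F z hz hc⟩, fun b => ?_⟩
    rw [Subgroup.mem_subgroupOf, Subgroup.mem_subgroupOf]
    show Xor ((b : G) * z ∈ F) ((b : G) ∈ F)
    rcases b.2 with hb | hb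
    · refine Or.inr ⟨hb, fun h => hzF ?_⟩
      have := F.mul_mem (F.inv_mem hb) h
      rwa [inv_mul_cancel_left] at this
    · refine Or.inl ⟨hb, fun h => hzF ?_⟩
      have := F.mul_mem (F.inv_mem h) hb
      rwa [inv_mul_cancel_left] at this
  have h1 := Subgroup.card_mul_index (F.subgroupOf (ext F z hz hc))
  rw [hidx] at h1
  rw [← h1]
  congr 1
  exact Nat.card_congr (Subgroup.subgroupOfEquivOfLe (le_ext F z hz hc)).toEquiv

/-- A nontrivial subgroup of `F ∪ F z` normalized by it contains `z` or `F`, when `F` is simple and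
not abelian. -/
theorem mem_or_le_of_normal [IsSimpleGroup F] (f₁ f₂ : G) (hf₁ : f₁ ∈ F) (hf₂ : f₂ ∈ F)
    (hne : f₁ * f₂ ≠ f₂ * f₁) (N : Subgroup G) (hNle : N ≤ ext F z hz hc)
    (hNn : ∀ n ∈ N, ∀ t ∈ ext F z hz hc, t * n * t⁻¹ ∈ N) (hN : N ≠ ⊥) : z ∈ N ∨ F ≤ N := by
  have hzi : z⁻¹ = z := inv_eq_of_mul_eq_one_right hz
  have hnorm : (N.subgroupOf F).Normal := by
    refine ⟨fun n hn g => ?_⟩
    rw [Subgroup.mem_subgroupOf] at hn ⊢
    exact hNn _ hn _ (le_ext F z hz hc g.2)
  rcases hnorm.eq_bot_or_eq_top with hbot | htop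
  · left
    -- an element of `N` other than `1`
    obtain ⟨n, hn, hn1⟩ : ∃ n ∈ N, n ≠ 1 := by
      by_contra hcon
      push Not at hcon
      exact hN ((Subgroup.eq_bot_iff_forall N).2 hcon)
    have hNF : ∀ x ∈ N, x ∈ F → x = 1 := by
      intro x hx hxF
      have : (⟨x, hxF⟩ : F) ∈ N.subgroupOf F := Subgroup.mem_subgroupOf.2 hx
      rw [hbot, Subgroup.mem_bot] at this
      exact congrArg Subtype.val this
    rcases hNle hn with hnF | hnF
    · exact absurd (hNF n hn hnF) hn1
    · -- `n z` is central in `F`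
      have hcomm : ∀ y ∈ F, (n * z) * y = y * (n * z) := by
        intro y hy
        have h1 : n * (y * n⁻¹ * y⁻¹) ∈ N :=
          N.mul_mem hn (hNn _ (N.inv_mem hn) _ (le_ext F z hz hc hy))
        have h2 : n * (y * n⁻¹ * y⁻¹) = (n * z) * y * (n * z)⁻¹ * y⁻¹ := by
          rw [mul_inv_rev, hzi]
          have e1 : n * z * y * (z * n⁻¹) * y⁻¹ = n * (z * y * z) * n⁻¹ * y⁻¹ := by group
          rw [e1, hc y hy, mul_assoc y z z, hz, mul_one]
          group
        have h3 : (n * z) * y * (n * z)⁻¹ * y⁻¹ ∈ F :=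
          F.mul_mem (F.mul_mem (F.mul_mem hnF hy) (F.inv_mem hnF)) (F.inv_mem hy)
        have h4 := hNF _ (h2 ▸ h1) h3
        have h5 : (n * z) * y = (n * z) * y * (n * z)⁻¹ * y⁻¹ * (y * (n * z)) := by group
        rw [h5, h4, one_mul]
      -- the centre of `F`
      have hcen : (⟨n * z, hnF⟩ : F) ∈ Subgroup.center F := by
        rw [Subgroup.mem_center_iff]
        intro y
        apply Subtype.ext
        exact (hcomm y y.2).symm
      rcases (inferInstance : (Subgroup.center F).Normal).eq_bot_or_eq_top with hcb | hct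
      · rw [hcb, Subgroup.mem_bot] at hcen
        have h6 : n * z = 1 := congrArg Subtype.val hcen
        have h7 : n = z := by
          have := eq_inv_of_mul_eq_one_left h6
          rwa [hzi] at this
        rw [← h7]
        exact hn
      · exfalso
        have h8 : (⟨f₁, hf₁⟩ : F) ∈ Subgroup.center F := by rw [hct]; exact Subgroup.mem_top _
        rw [Subgroup.mem_center_iff] at h8
        have h9 := congrArg Subtype.val (h8 ⟨f₂, hf₂⟩)
        exact hne h9.symm
  · right
    intro x hx
    have : (⟨x, hx⟩ : F) ∈ N.subgroupOf F := by rw [htop]; exact Subgroup.mem_top _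
    exact Subgroup.mem_subgroupOf.1 this

end Cfsg.Agent.Helper9.CentralTwo
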