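import Mathlib
import Cfsg.Prelude.Def_Chevalley

set_option autoImplicit false

/-! The Chevalley groups of a datum over isomorphic fields are isomorphic (the entrywise map of
matrices carries `x_r(t)` to `x_r(f t)`; this first step is as in `Helper6.FieldMap`). -/

namespace Cfsg.Agent.Helper9.ChevFieldIso

open Cfsg Cfsg.Lie Cfsg.Lie.ChevalleyDatum

variable {K L : Type*} [Field K] [Field L]

theorem xMat_map' (D : ChevalleyDatum) (f : K →+* L) (r : Fin D.nroots) (t : K) :
    (D.xMat K r t).map f = D.xMat L r (f t) := by
  ext row col
  simp only [Matrix.map_apply]
  unfold ChevalleyDatum.xMat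
  simp only [Matrix.of_apply]
  rcases col with i | s
  · rcases row with i' | u
    · simp only
      split_ifs <;> simp
    · simp only
      split_ifs <;> simp
  · simp only
    by_cases hs : s = r
    · simp only [hs, if_true]
      rcases row with i | u
      · simp
      · simp only
        split_ifs <;> simp
    · simp only [hs, if_false]
      by_cases hs2 : s.val = D.negIdx.getD r.val 0
      · simp only [hs2, if_true]
        rcases row with i | u
        · simp
        · simp only
          split_ifs <;> simp
      · simp only [hs2, if_false]
        rcases row with i | u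
        · simp
        · simp only [map_add, map_list_sum, List.map_map]
          congr 1
          · split_ifs <;> simp
          · congr 1
            apply List.map_congr_left
            intro km _
            simp

/-- The entrywise map on the general linear groups. -/
noncomputable def glMap (D : ChevalleyDatum) (f : K →+* L) : GL D.Idx K →* GL D.Idx L :=
  Matrix.GeneralLinearGroup.map f

theorem glMap_val (D : ChevalleyDatum) (f : K →+* L) (g : GL D.Idx K) :
    ((glMap D f g : GL D.Idx L) : Matrix D.Idx D.Idx L) = (g : Matrix D.Idx D.Idx K).map f := rfl

theorem glMap_mem (D : ChevalleyDatum) (f : K →+* L) {g : GL D.Idx K} (hg : g ∈ D.group K) :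
    glMap D f g ∈ D.group L := by
  have h : D.group K ≤ (D.group L).comap (glMap D f) := by
    unfold ChevalleyDatum.group
    rw [Subgroup.closure_le]
    rintro g ⟨r, t, hg⟩
    apply Subgroup.subset_closure
    refine ⟨r, f t, ?_⟩
    rw [glMap_val, hg, xMat_map']
  exact h hg

theorem glMap_symm (D : ChevalleyDatum) (e : K ≃+* L) (g : GL D.Idx K) :
    glMap D (e.symm : L →+* K) (glMap D (e : K →+* L) g) = g := by
  apply Units.ext
  rw [glMap_val, glMap_val]
  ext i j
  simp

/-- The isomorphism of the Chevalley groups over isomorphic fields. -/
noncomputable def groupCongr (D : ChevalleyDatum) (e : K ≃+* L) : D.group K ≃* D.group L where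
  toFun g := ⟨glMap D (e : K →+* L) g.1, glMap_mem D _ g.2⟩
  invFun g := ⟨glMap D (e.symm : L →+* K) g.1, glMap_mem D _ g.2⟩
  left_inv g := Subtype.ext (glMap_symm D e g.1)
  right_inv g := by
    apply Subtype.ext
    have := glMap_symm D e.symm g.1
    simpa using this
  map_mul' g h := Subtype.ext (map_mul (glMap D (e : K →+* L)) g.1 h.1)

end Cfsg.Agent.Helper9.ChevFieldIso
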