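import Mathlib

set_option autoImplicit false

/-! A criterion for the simplicity of the commutator subgroup of a finite group in which it has
index two: every nontrivial normal subgroup of the group contains the commutator subgroup, and the
order of the commutator subgroup is not a square. -/

namespace Cfsg.Agent.Helper9.CommSimple

/-- In a finite group whose order is not a square, with an automorphism `α` such that the normal
subgroups mapped to themselves by `α` are trivial, a normal subgroup `N` with `α (α N) = N` is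
trivial. -/
theorem eq_bot_or_top_of_auto {D : Type*} [Group D] [Finite D] (α : D ≃* D)
    (h1 : ∀ M : Subgroup D, M.Normal → M.map α.toMonoidHom = M → M = ⊥ ∨ M = ⊤)
    (N : Subgroup D) (hN : N.Normal) (h2 : (N.map α.toMonoidHom).map α.toMonoidHom = N)
    (h3 : ∀ m : ℕ, m * m ≠ Nat.card D) : N = ⊥ ∨ N = ⊤ := by
  have hinj : Function.Injective α.toMonoidHom := α.injective
  have hN2n : (N.map α.toMonoidHom).Normal := hN.map _ α.surjective
  have hI : (N ⊓ N.map α.toMonoidHom).map α.toMonoidHom = N ⊓ N.map α.toMonoidHom := by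
    rw [Subgroup.map_inf _ _ _ hinj, h2, inf_comm]
  have hJ : (N ⊔ N.map α.toMonoidHom).map α.toMonoidHom = N ⊔ N.map α.toMonoidHom := by
    rw [Subgroup.map_sup, h2, sup_comm]
  rcases h1 (N ⊓ N.map α.toMonoidHom) inferInstance hI with hbot | htop
  · rcases h1 (N ⊔ N.map α.toMonoidHom) inferInstance hJ with hbot' | htop'
    · left
      exact le_bot_iff.1 (hbot' ▸ le_sup_left)
    · exfalso
      have e1 : (N.map α.toMonoidHom).index = Nat.card N := by
        rw [← Subgroup.relIndex_top_right, ← htop', Subgroup.relIndex_sup_right,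
          ← Subgroup.inf_relIndex_right, inf_comm, hbot, Subgroup.relIndex_bot_left]
      have e2 : Nat.card (N.map α.toMonoidHom) = Nat.card N := Subgroup.card_map_of_injective hinj
      have e3 := Subgroup.card_mul_index (N.map α.toMonoidHom)
      rw [e1, e2] at e3
      exact h3 _ e3
  · right
    exact top_le_iff.1 (htop ▸ inf_le_left)

variable {G : Type*} [Group G]

/-- The criterion. -/
theorem isSimpleGroup_commutator [Finite G] (hidx : (commutator G).index = 2)
    (hmin : ∀ M : Subgroup G, M.Normal → M ≠ ⊥ → commutator G ≤ M)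
    (hsq : ∀ m : ℕ, m * m ≠ Nat.card (commutator G)) (hnt : Nontrivial (commutator G)) :
    IsSimpleGroup (commutator G) := by
  obtain ⟨a, ha⟩ := Subgroup.index_eq_two_iff'.1 hidx
  have ha1 : a ∉ commutator G := by
    have h := ha 1
    rw [mul_one] at h
    rcases h with ⟨_, h2⟩ | ⟨_, h2⟩
    · exact absurd (Subgroup.one_mem _) h2
    · exact h2
  have ha2 : a * a ∈ commutator G := by
    rcases ha a with ⟨h1, _⟩ | ⟨h1, _⟩
    · exact h1
    · exact absurd h1 ha1
  have hcoset : ∀ g : G, g ∉ commutator G → a * g ∈ commutator G := by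
    intro g hg
    rcases ha g with ⟨h1, _⟩ | ⟨h1, _⟩
    · exact h1
    · exact absurd h1 hg
  let α : commutator G ≃* commutator G := MulAut.conjNormal a
  have hα : ∀ x : commutator G, ((α x : commutator G) : G) = a * x * a⁻¹ :=
    fun x => MulAut.conjNormal_apply a x
  -- normal subgroups mapped to themselves
  have h1 : ∀ M : Subgroup (commutator G), M.Normal → M.map α.toMonoidHom = M → M = ⊥ ∨ M = ⊤ := by
    intro M hM hMα
    have hnorm : (M.map (commutator G).subtype).Normal := by
      refine ⟨fun n hn g => ?_⟩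
      obtain ⟨m, hm, rfl⟩ := Subgroup.mem_map.1 hn
      have hD : ∀ d : G, ∀ hd : d ∈ commutator G, ∀ m' ∈ M,
          d * ((m' : commutator G) : G) * d⁻¹ ∈ M.map (commutator G).subtype := by
        intro d hd m' hm'
        refine Subgroup.mem_map.2 ⟨⟨d, hd⟩ * m' * ⟨d, hd⟩⁻¹, hM.conj_mem m' hm' ⟨d, hd⟩, rfl⟩
      by_cases hg : g ∈ commutator G
      · exact hD g hg m hm
      · have hd := hcoset g hg
        obtain ⟨m', hm', e⟩ := Subgroup.mem_map.1 (hD (a * g) hd m hm)
        -- m' = α m'' with m'' in M
        have hm'' : m' ∈ M.map α.toMonoidHom := by rw [hMα]; exact hm'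
        obtain ⟨m'', hm''M, e'⟩ := Subgroup.mem_map.1 hm''
        refine Subgroup.mem_map.2 ⟨m'', hm''M, ?_⟩
        have e2 : ((m' : commutator G) : G) = a * m'' * a⁻¹ := by
          rw [← e']
          exact hα m''
        have e3 : (commutator G).subtype m' = (m' : G) := rfl
        rw [e3, e2] at e
        show ((m'' : commutator G) : G) = g * (commutator G).subtype m * g⁻¹
        have e4 : (commutator G).subtype m = (m : G) := rfl
        rw [e4]
        have : a * ((m'' : commutator G) : G) * a⁻¹ = a * (g * (m : G) * g⁻¹) * a⁻¹ := by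
          rw [e]
          group
        exact mul_left_cancel (mul_right_cancel this)
    by_cases hb : M.map (commutator G).subtype = ⊥
    · left
      rw [eq_bot_iff]
      intro m hm
      have : (commutator G).subtype m ∈ M.map (commutator G).subtype := Subgroup.mem_map_of_mem _ hm
      rw [hb, Subgroup.mem_bot] at this
      rw [Subgroup.mem_bot]
      exact Subtype.ext this
    · right
      have hle := hmin _ hnorm hb
      rw [eq_top_iff]
      intro d _
      obtain ⟨m, hm, e⟩ := Subgroup.mem_map.1 (hle d.2)
      have : m = d := Subtype.ext e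
      rw [← this]
      exact hm
  refine ⟨fun N hN => ?_⟩
  apply eq_bot_or_top_of_auto α h1 N hN ?_ hsq
  -- the square of the automorphism is inner
  ext x
  constructor
  · intro hx
    obtain ⟨y, hy, rfl⟩ := Subgroup.mem_map.1 hx
    obtain ⟨n, hn, rfl⟩ := Subgroup.mem_map.1 hy
    have e : α.toMonoidHom (α.toMonoidHom n) = ⟨a * a, ha2⟩ * n * ⟨a * a, ha2⟩⁻¹ := by
      apply Subtype.ext
      show ((α (α n) : commutator G) : G) = (a * a) * n * (a * a)⁻¹
      rw [hα, hα]
      group
    rw [e]
    exact hN.conj_mem n hn _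
  · intro hx
    refine Subgroup.mem_map.2 ⟨α.toMonoidHom (⟨a * a, ha2⟩⁻¹ * x * ⟨a * a, ha2⟩), ?_, ?_⟩
    · refine Subgroup.mem_map_of_mem _ ?_
      have := hN.conj_mem x hx ⟨a * a, ha2⟩⁻¹
      rwa [inv_inv] at this
    · apply Subtype.ext
      show ((α (α (⟨a * a, ha2⟩⁻¹ * x * ⟨a * a, ha2⟩)) : commutator G) : G) = x
      rw [hα, hα]
      show a * (a * ((a * a)⁻¹ * (x : G) * (a * a)) * a⁻¹) * a⁻¹ = x
      group

end Cfsg.Agent.Helper9.CommSimple
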