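import Mathlib
import Cfsg.Prelude.Def_SporCoxeter

set_option autoImplicit false

namespace Cfsg.Agent.Helper9

open Cfsg.Spor

variable {α : Type*} [DecidableEq α] {edges : List (α × ℕ × α)} {extra : List (FreeGroup α)}

/-- The Coxeter relation between two nodes holds in the presented group. -/
theorem cox_rel {x y : α} (hx : x ∈ coxNodes edges) (hy : y ∈ coxNodes edges) :
    ((PresentedGroup.of x : CoxPresented α edges extra) * PresentedGroup.of y) ^ coxLabel edges x y = 1 := by
  have hmem : (FreeGroup.of x * FreeGroup.of y) ^ coxLabel edges x y ∈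
      coxRelators edges ∪ {r | r ∈ extra} :=
    Or.inl ⟨x, hx, y, hy, rfl⟩
  have := PresentedGroup.one_of_mem hmem
  simpa [PresentedGroup.of] using this

/-- Every node is an involution (or trivial) in the presented group. -/
theorem cox_sq {x : α} (hx : x ∈ coxNodes edges) :
    (PresentedGroup.of x : CoxPresented α edges extra) * PresentedGroup.of x = 1 := by
  have := cox_rel (extra := extra) hx hx
  have hl : coxLabel edges x x = 1 := by simp [coxLabel]
  rw [hl, pow_one] at this
  exact this

/-- A further relator holds in the presented group. -/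
theorem cox_extra {r : FreeGroup α} (hr : r ∈ extra) :
    PresentedGroup.mk (coxRelators edges ∪ {r | r ∈ extra}) r = 1 :=
  PresentedGroup.one_of_mem (Or.inr hr)

/-- In any commutative quotient, two nodes joined by an odd-labelled relation have the same image. -/
theorem cox_ab_eq {A : Type*} [CommGroup A] (π : CoxPresented α edges extra →* A) {x y : α}
    (hx : x ∈ coxNodes edges) (hy : y ∈ coxNodes edges) (hodd : Odd (coxLabel edges x y)) :
    π (PresentedGroup.of x) = π (PresentedGroup.of y) := by
  have hxx : π (PresentedGroup.of x) * π (PresentedGroup.of x) = 1 := by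
    rw [← map_mul, cox_sq hx, map_one]
  have hyy : π (PresentedGroup.of y) * π (PresentedGroup.of y) = 1 := by
    rw [← map_mul, cox_sq hy, map_one]
  have hxy : (π (PresentedGroup.of x) * π (PresentedGroup.of y)) ^ coxLabel edges x y = 1 := by
    rw [← map_mul, ← map_pow, cox_rel hx hy, map_one]
  obtain ⟨k, hk⟩ := hodd
  set u := π (PresentedGroup.of x) with hu
  set v := π (PresentedGroup.of y) with hv
  have h2 : (u * v) ^ 2 = 1 := by
    rw [mul_pow, pow_two, pow_two, hxx, hyy, one_mul]
  rw [hk, pow_succ, pow_mul, h2, one_pow, one_mul] at hxy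
  -- u * v = 1 and v * v = 1 so u = v
  calc u = u * (v * v) := by rw [hyy, mul_one]
    _ = (u * v) * v := by rw [mul_assoc]
    _ = v := by rw [hxy, one_mul]

end Cfsg.Agent.Helper9
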