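import Mathlib
import Cfsg.Prelude.Def_DStar

set_option autoImplicit false

namespace Cfsg.Agent.Helper9

open Subgroup

variable {G : Type*} [Group G]

/-- If the commutators of the generators are central in the generated subgroup, the subgroup has
class at most two. -/
theorem class_two_of_gens (T : Set G)
    (h : ∀ s ∈ T, ∀ t ∈ T, s * t * s⁻¹ * t⁻¹ ∈ centralizer T) :
    ⁅⁅closure T, closure T⁆, closure T⁆ = ⊥ := by
  set K := closure T with hK
  have hC : centralizer (K : Set G) = centralizer T := centralizer_closure T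
  -- central elements commute with K
  have hcent : ∀ z ∈ centralizer T, ∀ g ∈ K, g * z * g⁻¹ = z := by
    intro z hz g hg
    rw [← hC, mem_centralizer_iff] at hz
    rw [hz g hg, mul_inv_cancel_right]
  have step1 : ∀ g ∈ K, ∀ t ∈ T, g * t * g⁻¹ * t⁻¹ ∈ centralizer T := by
    intro g hg t ht
    induction hg using closure_induction with
    | mem x hx => exact h x hx t ht
    | one => simp
    | mul x y hx hy ihx ihy =>
      have e : x * y * t * (x * y)⁻¹ * t⁻¹ = (x * (y * t * y⁻¹ * t⁻¹) * x⁻¹) * (x * t * x⁻¹ * t⁻¹) := by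
        group
      rw [e, hcent _ ihy x hx]
      exact mul_mem ihy ihx
    | inv x hx ihx =>
      have e : x⁻¹ * t * x⁻¹⁻¹ * t⁻¹ = x⁻¹ * (x * t * x⁻¹ * t⁻¹)⁻¹ * x⁻¹⁻¹ := by group
      rw [e, hcent _ (inv_mem ihx) x⁻¹ (inv_mem hx)]
      exact inv_mem ihx
  have step2 : ∀ g ∈ K, ∀ k ∈ K, g * k * g⁻¹ * k⁻¹ ∈ centralizer T := by
    intro g hg k hk
    induction hk using closure_induction with
    | mem x hx => exact step1 g hg x hx
    | one => simp
    | mul x y hx hy ihx ihy =>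
      have e : g * (x * y) * g⁻¹ * (x * y)⁻¹ = (g * x * g⁻¹ * x⁻¹) * (x * (g * y * g⁻¹ * y⁻¹) * x⁻¹) := by
        group
      rw [e, hcent _ ihy x hx]
      exact mul_mem ihx ihy
    | inv x hx ihx =>
      have e : g * x⁻¹ * g⁻¹ * x⁻¹⁻¹ = x⁻¹ * (g * x * g⁻¹ * x⁻¹)⁻¹ * x⁻¹⁻¹ := by group
      rw [e, hcent _ (inv_mem ihx) x⁻¹ (inv_mem hx)]
      exact inv_mem ihx
  rw [commutator_eq_bot_iff_le_centralizer, hC, commutator_le]
  intro g hg k hk
  rw [commutatorElement_def]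
  exact step2 g hg k hk

variable {S : Type*} [Group S]

/-- key step: an element `b` of an abelian subgroup `B` whose commutators with a member `A` of the
`D*` family all lie in `C_B(A)` commutes with `A`. -/
theorem mem_dStarFamily_comm_step (A B : Subgroup S)
    (hA : A ∈ Cfsg.dStarFamily S)
    (hB : ∀ b ∈ B, ∀ b' ∈ B, b * b' = b' * b)
    (b : S) (hb : b ∈ B)
    (hcomm : ∀ a ∈ A, b * a * b⁻¹ * a⁻¹ ∈ B ⊓ centralizer (A : Set S)) :
    ∀ a ∈ A, a * b = b * a := by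
  apply hA.2 b
  have hK : A ⊔ zpowers b = closure ((A : Set S) ∪ {b}) := by
    rw [Subgroup.closure_union, Subgroup.closure_eq, Subgroup.zpowers_eq_closure]
  rw [hK]
  apply class_two_of_gens
  have hZ : ∀ z ∈ B ⊓ centralizer (A : Set S), z ∈ centralizer ((A : Set S) ∪ {b}) := by
    intro z hz
    rw [mem_centralizer_iff]
    rintro y (hy | hy)
    · exact (mem_centralizer_iff.mp hz.2) y hy
    · rw [Set.mem_singleton_iff] at hy
      rw [hy]; exact hB b hb z hz.1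
  have hAc := hA.1
  rintro s (hs | hs) t (ht | ht)
  · have h1 : s * t = t * s := congrArg Subtype.val (hAc.is_comm.comm ⟨s, hs⟩ ⟨t, ht⟩)
    have h2 : s * t * s⁻¹ * t⁻¹ = 1 := by rw [h1]; group
    rw [h2]; exact one_mem _
  · rw [Set.mem_singleton_iff] at ht
    rw [ht]
    have h2 : s * b * s⁻¹ * b⁻¹ = (b * s * b⁻¹ * s⁻¹)⁻¹ := by group
    rw [h2]; exact inv_mem (hZ _ (hcomm s hs))
  · rw [Set.mem_singleton_iff] at hs
    rw [hs]
    exact hZ _ (hcomm t ht)
  · rw [Set.mem_singleton_iff] at hs ht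
    rw [hs, ht]
    simp

/-- A member of the `D*` family centralizes every abelian subgroup that it normalizes
(in a nilpotent group). -/
theorem comm_of_mem_dStarFamily [Group.IsNilpotent S] (A B : Subgroup S)
    (hA : A ∈ Cfsg.dStarFamily S)
    (hB : ∀ b ∈ B, ∀ b' ∈ B, b * b' = b' * b)
    (hnorm : ∀ a ∈ A, ∀ b ∈ B, a * b * a⁻¹ ∈ B) :
    ∀ a ∈ A, ∀ b ∈ B, a * b = b * a := by
  let D : ℕ → Subgroup S := fun i => Nat.rec B (fun _ X => ⁅X, A⁆) i
  have hD0 : D 0 = B := rfl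
  have hDs : ∀ i, D (i + 1) = ⁅D i, A⁆ := fun i => rfl
  have hDB : ∀ i, D i ≤ B := by
    intro i
    induction i with
    | zero => exact le_rfl
    | succ i ih =>
      rw [hDs, commutator_le]
      intro g hg a ha
      have hgB := ih hg
      rw [commutatorElement_def]
      have e : g * a * g⁻¹ * a⁻¹ = g * (a * g⁻¹ * a⁻¹) := by group
      rw [e]; exact B.mul_mem hgB (hnorm a ha _ (B.inv_mem hgB))
  have hDl : ∀ i, D i ≤ Subgroup.lowerCentralSeries (⊤ : Subgroup S) i := by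
    intro i
    induction i with
    | zero => exact le_top
    | succ i ih => rw [hDs, Subgroup.lowerCentralSeries_succ]; exact commutator_mono ih le_top
  obtain ⟨n, hn⟩ := Subgroup.nilpotent_iff_lowerCentralSeries.mp ‹Group.IsNilpotent S›
  have hDn : D n = ⊥ := eq_bot_iff.mpr (hn ▸ hDl n)
  have key : ∀ m i, D (i + m) = ⊥ → D i ≤ B ⊓ centralizer (A : Set S) := by
    intro m
    induction m with
    | zero => intro i h; rw [add_zero] at h; rw [h]; exact bot_le
    | succ m ih =>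
      intro i h
      have h1 : D (i + 1) ≤ B ⊓ centralizer (A : Set S) := by
        apply ih (i + 1)
        have e : i + 1 + m = i + (m + 1) := by omega
        rw [e]; exact h
      intro b hb
      refine Subgroup.mem_inf.mpr ⟨hDB i hb, ?_⟩
      rw [mem_centralizer_iff]
      intro a ha
      refine mem_dStarFamily_comm_step A B hA hB b (hDB i hb) ?_ a ha
      intro a' ha'
      apply h1
      rw [hDs, ← commutatorElement_def]
      exact commutator_mem_commutator hb ha'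
  intro a ha b hb
  have h2 := key n 0 (by rw [zero_add]; exact hDn) (hD0 ▸ hb)
  exact (mem_centralizer_iff.mp h2.2) a ha

/-- All conjugates of a member of the `D*` family commute with it. -/
theorem conj_comm_of_mem_dStarFamily [Finite S] [Group.IsNilpotent S] (A : Subgroup S)
    (hA : A ∈ Cfsg.dStarFamily S) :
    ∀ g : S, ∀ a ∈ A, ∀ a' ∈ A, (g * a * g⁻¹) * a' = a' * (g * a * g⁻¹) := by
  classical
  have hAc : ∀ a ∈ A, ∀ a' ∈ A, a * a' = a' * a := fun a ha a' ha' =>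
    congrArg Subtype.val (hA.1.is_comm.comm ⟨a, ha⟩ ⟨a', ha'⟩)
  let P : Subgroup S → Prop := fun C =>
    A ≤ C ∧ ∀ g ∈ C, ∀ a ∈ A, ∀ a' ∈ A, (g * a * g⁻¹) * a' = a' * (g * a * g⁻¹)
  have hPA : P A := ⟨le_rfl, fun g hg a ha a' ha' =>
    hAc _ (A.mul_mem (A.mul_mem hg ha) (A.inv_mem hg)) a' ha'⟩
  obtain ⟨C, hAC, hCmax⟩ := (Set.toFinite {C | P C}).exists_le_maximal hPA
  have hPC : P C := hCmax.prop
  have inner : ∀ g ∈ normalizer (C : Set S), ∀ a ∈ A, ∀ a' ∈ A,
      a' * (g⁻¹ * a * g) = (g⁻¹ * a * g) * a' := by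
    intro g hg a ha a' ha'
    let Y : Set S := {y | ∃ c ∈ C, ∃ a ∈ A, y = (c * g⁻¹) * a * (c * g⁻¹)⁻¹}
    have hYcomm : ∀ y ∈ Y, ∀ y' ∈ Y, y * y' = y' * y := by
      rintro y ⟨c, hc, a₁, ha₁, rfl⟩ y' ⟨c', hc', a₂, ha₂, rfl⟩
      have hw : (c' * g⁻¹)⁻¹ * (c * g⁻¹) ∈ C := by
        have e : (c' * g⁻¹)⁻¹ * (c * g⁻¹) = g * (c'⁻¹ * c) * g⁻¹ := by group
        rw [e]
        exact (mem_normalizer_iff.mp hg _).mp (C.mul_mem (C.inv_mem hc') hc)
      have h1 := hPC.2 _ hw a₁ ha₁ a₂ ha₂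
      calc (c * g⁻¹) * a₁ * (c * g⁻¹)⁻¹ * ((c' * g⁻¹) * a₂ * (c' * g⁻¹)⁻¹)
          = (c' * g⁻¹) * (((c' * g⁻¹)⁻¹ * (c * g⁻¹)) * a₁ * ((c' * g⁻¹)⁻¹ * (c * g⁻¹))⁻¹ * a₂)
              * (c' * g⁻¹)⁻¹ := by group
        _ = (c' * g⁻¹) * (a₂ * (((c' * g⁻¹)⁻¹ * (c * g⁻¹)) * a₁ * ((c' * g⁻¹)⁻¹ * (c * g⁻¹))⁻¹))
              * (c' * g⁻¹)⁻¹ := by rw [h1]
        _ = (c' * g⁻¹) * a₂ * (c' * g⁻¹)⁻¹ * ((c * g⁻¹) * a₁ * (c * g⁻¹)⁻¹) := by group
    have hBc : IsMulCommutative (closure Y) := Subgroup.isMulCommutative_closure hYcomm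
    have hBcomm : ∀ b ∈ closure Y, ∀ b' ∈ closure Y, b * b' = b' * b := fun b hb b' hb' =>
      congrArg Subtype.val (hBc.is_comm.comm ⟨b, hb⟩ ⟨b', hb'⟩)
    have hnorm : ∀ a₀ ∈ A, ∀ b ∈ closure Y, a₀ * b * a₀⁻¹ ∈ closure Y := by
      intro a₀ ha₀ b hb
      induction hb using closure_induction with
      | mem y hy =>
        obtain ⟨c, hc, a₁, ha₁, rfl⟩ := hy
        apply Subgroup.subset_closure
        refine ⟨a₀ * c, C.mul_mem (hPC.1 ha₀) hc, a₁, ha₁, ?_⟩
        group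
      | one => simp
      | mul x y hx hy ihx ihy =>
        have e : a₀ * (x * y) * a₀⁻¹ = (a₀ * x * a₀⁻¹) * (a₀ * y * a₀⁻¹) := by group
        rw [e]; exact mul_mem ihx ihy
      | inv x hx ihx =>
        have e : a₀ * x⁻¹ * a₀⁻¹ = (a₀ * x * a₀⁻¹)⁻¹ := by group
        rw [e]; exact inv_mem ihx
    have hmem : g⁻¹ * a * g ∈ closure Y := by
      apply Subgroup.subset_closure
      refine ⟨1, C.one_mem, a, ha, ?_⟩
      group
    exact comm_of_mem_dStarFamily A (closure Y) hA hBcomm hnorm a' ha' _ hmem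
  have hPN : P (normalizer (C : Set S)) := by
    refine ⟨hPC.1.trans le_normalizer, ?_⟩
    intro g hg a ha a' ha'
    have h1 := inner g⁻¹ (inv_mem hg) a ha a' ha'
    rw [inv_inv] at h1
    exact h1.symm
  have hNC : normalizer (C : Set S) = C :=
    le_antisymm (hCmax.le_of_ge hPN le_normalizer) le_normalizer
  have hCtop : C = ⊤ :=
    (normalizerCondition_iff_only_full_group_self_normalizing.mp
      Group.normalizerCondition_of_isNilpotent) C hNC
  intro g a ha a' ha'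
  exact hPC.2 g (hCtop ▸ mem_top g) a ha a' ha'

/-- Any two members of the `D*` family of a finite nilpotent group commute. -/
theorem dStarFamily_comm [Finite S] [Group.IsNilpotent S] (A B : Subgroup S)
    (hA : A ∈ Cfsg.dStarFamily S) (hB : B ∈ Cfsg.dStarFamily S) :
    ∀ a ∈ A, ∀ b ∈ B, a * b = b * a := by
  let Y : Set S := {y | ∃ g : S, ∃ a ∈ A, y = g * a * g⁻¹}
  have hYcomm : ∀ y ∈ Y, ∀ y' ∈ Y, y * y' = y' * y := by
    rintro y ⟨g, a₁, ha₁, rfl⟩ y' ⟨g', a₂, ha₂, rfl⟩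
    have h1 := conj_comm_of_mem_dStarFamily A hA (g'⁻¹ * g) a₁ ha₁ a₂ ha₂
    calc g * a₁ * g⁻¹ * (g' * a₂ * g'⁻¹)
        = g' * ((g'⁻¹ * g) * a₁ * (g'⁻¹ * g)⁻¹ * a₂) * g'⁻¹ := by group
      _ = g' * (a₂ * ((g'⁻¹ * g) * a₁ * (g'⁻¹ * g)⁻¹)) * g'⁻¹ := by rw [h1]
      _ = g' * a₂ * g'⁻¹ * (g * a₁ * g⁻¹) := by group
  have hTc : IsMulCommutative (closure Y) := Subgroup.isMulCommutative_closure hYcomm
  have hTcomm : ∀ b ∈ closure Y, ∀ b' ∈ closure Y, b * b' = b' * b := fun b hb b' hb' =>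
    congrArg Subtype.val (hTc.is_comm.comm ⟨b, hb⟩ ⟨b', hb'⟩)
  have hnorm : ∀ b₀ ∈ B, ∀ t ∈ closure Y, b₀ * t * b₀⁻¹ ∈ closure Y := by
    intro b₀ _ t ht
    induction ht using closure_induction with
    | mem y hy =>
      obtain ⟨g, a₁, ha₁, rfl⟩ := hy
      apply Subgroup.subset_closure
      refine ⟨b₀ * g, a₁, ha₁, ?_⟩
      group
    | one => simp
    | mul x y hx hy ihx ihy =>
      have e : b₀ * (x * y) * b₀⁻¹ = (b₀ * x * b₀⁻¹) * (b₀ * y * b₀⁻¹) := by group
      rw [e]; exact mul_mem ihx ihy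
    | inv x hx ihx =>
      have e : b₀ * x⁻¹ * b₀⁻¹ = (b₀ * x * b₀⁻¹)⁻¹ := by group
      rw [e]; exact inv_mem ihx
  intro a ha b hb
  have hmem : a ∈ closure Y := by
    apply Subgroup.subset_closure
    refine ⟨1, a, ha, ?_⟩
    group
  exact (comm_of_mem_dStarFamily B (closure Y) hB hTcomm hnorm b hb a hmem).symm

/-- `D*(S)` is a member of the family that generates it. -/
theorem dStar_mem_dStarFamily [Finite S] [Group.IsNilpotent S] :
    Cfsg.dStar S ∈ Cfsg.dStarFamily S := by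
  constructor
  · rw [← le_centralizer_iff_isMulCommutative]
    unfold Cfsg.dStar
    apply sSup_le
    intro A hA
    rw [le_centralizer_iff]
    apply sSup_le
    intro B hB
    intro b hb
    rw [mem_centralizer_iff]
    intro a ha
    exact dStarFamily_comm A B hA hB a ha b hb
  · intro x hx a ha
    have h1 : Cfsg.dStar S ≤ centralizer {x} := by
      unfold Cfsg.dStar
      apply sSup_le
      intro A hA a' ha'
      rw [mem_centralizer_singleton_iff]
      apply hA.2 x _ a' ha'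
      rw [eq_bot_iff, ← hx]
      have hle : A ⊔ zpowers x ≤ Cfsg.dStar S ⊔ zpowers x :=
        sup_le_sup_right (le_sSup hA) _
      exact commutator_mono (commutator_mono hle hle) hle
    exact mem_centralizer_singleton_iff.mp (h1 ha)

end Cfsg.Agent.Helper9
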