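import Mathlib
import Cfsg.Prelude.Def_DStar
import Cfsg.Prelude.Def_PLocal
import Cfsg.Agent.Lib.Helper9.DStar
import Cfsg.Agent.Lib.Helper9.ThompsonRepl

set_option autoImplicit false

namespace Cfsg.Agent.Helper9

open Subgroup

variable {S : Type*} [Group S]

/-- The `D*` family is invariant under automorphisms. -/
theorem map_mem_dStarFamily (φ : S ≃* S) {A : Subgroup S} (hA : A ∈ Cfsg.dStarFamily S) :
    A.map φ.toMonoidHom ∈ Cfsg.dStarFamily S := by
  refine ⟨?_, ?_⟩
  · have := hA.1
    infer_instance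
  · intro x hx a' ha'
    obtain ⟨a, ha, rfl⟩ := ha'
    have hK : (A ⊔ zpowers (φ.symm x)).map φ.toMonoidHom = A.map φ.toMonoidHom ⊔ zpowers x := by
      rw [Subgroup.map_sup, MonoidHom.map_zpowers]
      simp
    have h2 : ⁅⁅A ⊔ zpowers (φ.symm x), A ⊔ zpowers (φ.symm x)⁆, A ⊔ zpowers (φ.symm x)⁆ = ⊥ := by
      apply (Subgroup.map_eq_bot_iff_of_injective (f := φ.toMonoidHom) _ φ.injective).mp
      rw [Subgroup.map_commutator, Subgroup.map_commutator, hK]
      exact hx
    have h3 := hA.2 (φ.symm x) h2 a ha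
    have h4 := congrArg φ h3
    simpa using h4

theorem dStar_characteristic : (Cfsg.dStar S).Characteristic := by
  rw [Subgroup.characteristic_iff_map_le]
  intro φ
  rw [Subgroup.map_le_iff_le_comap]
  unfold Cfsg.dStar
  apply sSup_le
  intro A hA
  rw [← Subgroup.map_le_iff_le_comap]
  exact le_sSup (map_mem_dStarFamily φ hA)

theorem dStar_normal : (Cfsg.dStar S).Normal := by
  have := dStar_characteristic (S := S)
  infer_instance

theorem center_le_dStar : Subgroup.center S ≤ Cfsg.dStar S := by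
  apply le_sSup
  refine ⟨inferInstance, ?_⟩
  intro x _ a ha
  exact ((Subgroup.mem_center_iff.mp ha) x).symm

/-- `D*(S)` lies in every abelian subgroup of largest order. -/
theorem dStar_le_of_maxAbelian [Finite S] [Group.IsNilpotent S] :
    ∀ A ∈ Cfsg.maxAbelianSubgroups S, Cfsg.dStar S ≤ A := by
  set D := Cfsg.dStar S with hD
  have hDmem : D ∈ Cfsg.dStarFamily S := dStar_mem_dStarFamily
  have hDn : D.Normal := dStar_normal
  have hDc : ∀ d ∈ D, ∀ d' ∈ D, d * d' = d' * d := fun d hd d' hd' =>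
    congrArg Subtype.val (hDmem.1.is_comm.comm ⟨d, hd⟩ ⟨d', hd'⟩)
  have main : ∀ k : ℕ, ∀ A ∈ Cfsg.maxAbelianSubgroups S,
      Nat.card D - Nat.card ↥(A ⊓ D) = k → D ≤ A := by
    intro k
    induction k using Nat.strong_induction_on with
    | _ k ih =>
      intro A hA hk
      have hAc : ∀ a ∈ A, ∀ a' ∈ A, a * a' = a' * a := fun a ha a' ha' =>
        congrArg Subtype.val (hA.1.is_comm.comm ⟨a, ha⟩ ⟨a', ha'⟩)
      have hnormal : D ≤ normalizer (A : Set S) := by
        by_contra hN
        obtain ⟨Astar, hAstar, hlt, hle⟩ := thompson_replacement hA D hDc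
          (fun a _ d hd => hDn.conj_mem d hd a) hN
        have hcard : Nat.card ↥(A ⊓ D) < Nat.card ↥(Astar ⊓ D) := by
          by_contra hcon
          rw [not_lt] at hcon
          exact absurd (Subgroup.eq_of_le_of_card_ge hlt.le hcon) hlt.ne
        have hcardD : Nat.card ↥(Astar ⊓ D) ≤ Nat.card D :=
          Subgroup.card_le_of_le inf_le_right
        have := ih (Nat.card D - Nat.card ↥(Astar ⊓ D)) (by omega) Astar hAstar rfl
        exact hN (this.trans hle)
      have hcomm := comm_of_mem_dStarFamily D A hDmem hAc (fun d hd a ha => by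
        have := (mem_normalizer_iff.mp (hnormal hd) a).mp ha
        exact this)
      rw [← Cfsg.Agent.Helper15.MaxAbelian.centralizer_eq hA]
      intro d hd
      rw [mem_centralizer_iff]
      intro a ha
      exact (hcomm d hd a ha).symm
  intro A hA
  exact main _ A hA rfl

theorem dStar_le_centerThompson [Finite S] [Group.IsNilpotent S] :
    Cfsg.dStar S ≤ Cfsg.thompsonSubgroupA S ⊓
      Subgroup.centralizer (Cfsg.thompsonSubgroupA S : Set S) := by
  apply le_inf
  · obtain ⟨A₀, hA₀⟩ := Cfsg.Agent.Helper15.exists_maxAbelian S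
    exact (dStar_le_of_maxAbelian A₀ hA₀).trans (le_sSup hA₀)
  · rw [le_centralizer_iff]
    unfold Cfsg.thompsonSubgroupA
    apply sSup_le
    intro A hA a ha
    rw [mem_centralizer_iff]
    intro d hd
    have hdA : d ∈ A := dStar_le_of_maxAbelian A hA hd
    exact congrArg Subtype.val (hA.1.is_comm.comm ⟨d, hdA⟩ ⟨a, ha⟩)

theorem dStar_le_of_maximal_normal_abelian [Finite S] [Group.IsNilpotent S]
    (A : Subgroup S) (hAn : A.Normal) (hAc : IsMulCommutative A)
    (hmax : ∀ B : Subgroup S, B.Normal → IsMulCommutative B → A ≤ B → B = A) :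
    Cfsg.dStar S ≤ A := by
  set D := Cfsg.dStar S with hD
  have hDmem : D ∈ Cfsg.dStarFamily S := dStar_mem_dStarFamily
  have hDn : D.Normal := dStar_normal
  have hAcomm : ∀ a ∈ A, ∀ a' ∈ A, a * a' = a' * a := fun a ha a' ha' =>
    congrArg Subtype.val (hAc.is_comm.comm ⟨a, ha⟩ ⟨a', ha'⟩)
  have hcomm := comm_of_mem_dStarFamily D A hDmem hAcomm (fun d _ a ha => hAn.conj_mem a ha d)
  have hDA : IsMulCommutative ↥(D ⊔ A) := by
    apply Cfsg.Agent.Helper15.isMulCommutative_sup
    · exact le_centralizer_iff_isMulCommutative.mpr hDmem.1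
    · exact le_centralizer_iff_isMulCommutative.mpr hAc
    · intro d hd
      rw [mem_centralizer_iff]
      intro a ha
      exact (hcomm d hd a ha).symm
  have hn : (D ⊔ A).Normal := Subgroup.sup_normal D A
  have := hmax (D ⊔ A) hn hDA le_sup_right
  rw [← this]
  exact le_sup_left

end Cfsg.Agent.Helper9
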