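import Mathlib
import Cfsg.Prelude.Def_DStar
import Cfsg.Prelude.Def_PLocal
import Cfsg.Agent.Lib.Helper9.DStar
import Cfsg.Agent.Lib.Helper9.DStar2
import Cfsg.Agent.Lib.Helper9.Basic
import Cfsg.Agent.Lib.Helper9.CentricRadical
import Cfsg.Agent.Lib.Helper15.PCore

set_option autoImplicit false

namespace Cfsg.Agent.Helper9

open Subgroup
open scoped commutatorElement

variable {G : Type*} [Group G]

theorem map_conj_eq_of_normal (N : Subgroup G) [N.Normal] (g : G) :
    N.map (MulAut.conj g).toMonoidHom = N := by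
  apply map_conj_eq_self_of_mem_normalizer
  rw [Subgroup.normalizer_eq_top]
  trivial

/-- the class-two condition on `⟨A, x⟩`, written in the ambient group. -/
def ClassTwoCond (A : Subgroup G) (x : G) : Prop :=
  ⁅⁅A ⊔ zpowers x, A ⊔ zpowers x⁆, A ⊔ zpowers x⁆ = ⊥

/-- Ambient version of the family behind `D*`: `A` is a member for the subgroup `R`. -/
def AmbDStar (R A : Subgroup G) : Prop :=
  A ≤ R ∧ (∀ a ∈ A, ∀ b ∈ A, a * b = b * a) ∧
    ∀ x ∈ R, ClassTwoCond A x → ∀ a ∈ A, a * x = x * a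

theorem classTwoCond_map {G' : Type*} [Group G'] (f : G →* G') (hf : Function.Injective f)
    (A : Subgroup G) (x : G) :
    ClassTwoCond (A.map f) (f x) ↔ ClassTwoCond A x := by
  unfold ClassTwoCond
  have hK : (A ⊔ zpowers x).map f = A.map f ⊔ zpowers (f x) := by
    rw [Subgroup.map_sup, MonoidHom.map_zpowers]
  rw [← hK, ← Subgroup.map_commutator, ← Subgroup.map_commutator,
    Subgroup.map_eq_bot_iff_of_injective _ hf]

theorem classTwoCond_mono {A B : Subgroup G} (h : A ≤ B) {x : G} (hx : ClassTwoCond B x) :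
    ClassTwoCond A x := by
  unfold ClassTwoCond at hx ⊢
  rw [eq_bot_iff, ← hx]
  have hle : A ⊔ zpowers x ≤ B ⊔ zpowers x := sup_le_sup_right h _
  exact commutator_mono (commutator_mono hle hle) hle

theorem mem_dStarFamily_iff_ambDStar (R : Subgroup G) (A' : Subgroup R) :
    A' ∈ Cfsg.dStarFamily R ↔ AmbDStar R (A'.map R.subtype) := by
  constructor
  · rintro ⟨hc, hx⟩
    refine ⟨?_, ?_, ?_⟩
    · rintro _ ⟨a, _, rfl⟩
      exact a.2
    · rintro _ ⟨a, ha, rfl⟩ _ ⟨b, hb, rfl⟩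
      have := congrArg Subtype.val (hc.is_comm.comm ⟨a, ha⟩ ⟨b, hb⟩)
      exact congrArg R.subtype this
    · intro x hxR hcl
      rintro _ ⟨a, ha, rfl⟩
      have h1 : ClassTwoCond A' (⟨x, hxR⟩ : R) :=
        (classTwoCond_map R.subtype R.subtype_injective A' ⟨x, hxR⟩).mp hcl
      have := hx ⟨x, hxR⟩ h1 a ha
      exact congrArg R.subtype this
  · rintro ⟨_, hc, hx⟩
    refine ⟨⟨⟨?_⟩⟩, ?_⟩
    · rintro ⟨a, ha⟩ ⟨b, hb⟩
      apply Subtype.ext
      apply R.subtype_injective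
      exact hc _ ⟨a, ha, rfl⟩ _ ⟨b, hb, rfl⟩
    · intro x hcl a ha
      apply R.subtype_injective
      have h1 : ClassTwoCond (A'.map R.subtype) (R.subtype x) :=
        (classTwoCond_map R.subtype R.subtype_injective A' x).mpr hcl
      exact hx _ x.2 h1 _ ⟨a, ha, rfl⟩

theorem ambDStar_iff_subgroupOf {R A : Subgroup G} (hAR : A ≤ R) :
    AmbDStar R A ↔ A.subgroupOf R ∈ Cfsg.dStarFamily R := by
  rw [mem_dStarFamily_iff_ambDStar, Subgroup.map_subgroupOf_eq_of_le hAR]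

theorem AmbDStar.mono {R R' A : Subgroup G} (h : AmbDStar R A) (hA : A ≤ R') (hR : R' ≤ R) :
    AmbDStar R' A :=
  ⟨hA, h.2.1, fun x hx => h.2.2 x (hR hx)⟩

theorem AmbDStar.map {R A : Subgroup G} (h : AmbDStar R A) (φ : G ≃* G) :
    AmbDStar (R.map φ.toMonoidHom) (A.map φ.toMonoidHom) := by
  refine ⟨Subgroup.map_mono h.1, ?_, ?_⟩
  · rintro _ ⟨a, ha, rfl⟩ _ ⟨b, hb, rfl⟩
    have := congrArg φ (h.2.1 a ha b hb)
    simpa using this
  · rintro _ ⟨x, hx, rfl⟩ hcl _ ⟨a, ha, rfl⟩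
    have h1 : ClassTwoCond A x := (classTwoCond_map φ.toMonoidHom φ.injective A x).mp hcl
    have := congrArg φ (h.2.2 x hx h1 a ha)
    simpa using this

theorem AmbDStar.comm {R A B : Subgroup G} [Finite R] [Group.IsNilpotent R]
    (hA : AmbDStar R A) (hB : AmbDStar R B) :
    ∀ a ∈ A, ∀ b ∈ B, a * b = b * a := by
  intro a ha b hb
  have hA' := (ambDStar_iff_subgroupOf hA.1).mp hA
  have hB' := (ambDStar_iff_subgroupOf hB.1).mp hB
  have := dStarFamily_comm _ _ hA' hB' ⟨a, hA.1 ha⟩ (by exact ha) ⟨b, hB.1 hb⟩ (by exact hb)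
  exact congrArg Subtype.val this

theorem ambDStar_dStarOf (R : Subgroup G) [Finite R] [Group.IsNilpotent R] :
    AmbDStar R (Cfsg.dStarOf R) := by
  unfold Cfsg.dStarOf
  rw [← mem_dStarFamily_iff_ambDStar]
  exact dStar_mem_dStarFamily

theorem AmbDStar.le_dStarOf {R A : Subgroup G} (hA : AmbDStar R A) : A ≤ Cfsg.dStarOf R := by
  have hA' := (ambDStar_iff_subgroupOf hA.1).mp hA
  have h1 : A.subgroupOf R ≤ Cfsg.dStar R := le_sSup hA'
  have h2 := Subgroup.map_mono (f := R.subtype) h1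
  rwa [Subgroup.map_subgroupOf_eq_of_le hA.1] at h2


/-- If `C_G(P) ≤ O_p(G)` for a normal subgroup `P`, the preimage of `O_p(G / C_G(P))` lies in
`O_p(G)`. -/
theorem comap_pCore_le_pCore {p : ℕ} [Fact p.Prime] (P : Subgroup G) [P.Normal]
    (hc : centralizer (P : Set G) ≤ Cfsg.pCore p G) :
    (Cfsg.pCore p (G ⧸ centralizer (P : Set G))).comap
      (QuotientGroup.mk' (centralizer (P : Set G))) ≤ Cfsg.pCore p G := by
  apply le_pCore' (comap_pCore_normal p _)
  rintro ⟨t, ht⟩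
  obtain ⟨k, hk⟩ := powCond_comap_pCore p (centralizer (P : Set G)) t ht
  obtain ⟨m, hm⟩ := pCore_isPGroup' p G ⟨_, hc hk⟩
  refine ⟨k + m, ?_⟩
  apply Subtype.ext
  have hm' : (t ^ p ^ k) ^ p ^ m = 1 := congrArg Subtype.val hm
  show t ^ p ^ (k + m) = 1
  rw [pow_add, pow_mul]
  exact hm'

/-- Key step: an element `y` of `G` making `⟨V, y⟩` of class at most two centralizes `D*(S)`,
when `V` is an abelian normal subgroup containing `D*(S)` on which the action is `p`-stable. -/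
theorem centralizes_dStarOf_of_classTwo [Finite G] {p : ℕ} [Fact p.Prime] (S : Sylow p G)
    (V : Subgroup G) [V.Normal] (hVc : ∀ a ∈ V, ∀ b ∈ V, a * b = b * a)
    (hDV : Cfsg.dStarOf (S : Subgroup G) ≤ V) (hst : Cfsg.IsPStableOn p V)
    (y : G) (hy : ClassTwoCond V y) :
    ∀ d ∈ Cfsg.dStarOf (S : Subgroup G), d * y = y * d := by
  have : Group.IsNilpotent (S : Subgroup G) := S.2.isNilpotent
  set D := Cfsg.dStarOf (S : Subgroup G) with hDdef
  have hD : AmbDStar (S : Subgroup G) D := ambDStar_dStarOf _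
  set C := centralizer (V : Set G) with hCdef
  set K := V ⊔ zpowers y with hK
  have hVK : V ≤ K := le_sup_left
  have hyK : zpowers y ≤ K := le_sup_right
  have hq : ⁅⁅V, zpowers y⁆, zpowers y⁆ = ⊥ := by
    rw [eq_bot_iff]
    have : ⁅⁅K, K⁆, K⁆ = ⊥ := hy
    rw [← this]
    exact commutator_mono (commutator_mono hVK hyK) hyK
  have h1 := hst y hq
  have h2 : (QuotientGroup.mk' C y) ∈
      ((S.mapSurjective (QuotientGroup.mk'_surjective C) : Sylow p (G ⧸ C)) : Subgroup (G ⧸ C)) :=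
    Cfsg.Agent.Helper15.pCore_le_sylow _ h1
  rw [Sylow.coe_mapSurjective] at h2
  obtain ⟨s, hs, hsy⟩ := h2
  have hcC' : s⁻¹ * y ∈ C := by
    rw [← QuotientGroup.eq]
    exact hsy
  obtain ⟨c, hcC, hsyc⟩ : ∃ c ∈ C, y = s * c := ⟨s⁻¹ * y, hcC', by group⟩
  have hcV : ∀ v ∈ V, v * c = c * v := fun v hv => (mem_centralizer_iff.mp hcC) v hv
  -- the commutators
  have hw : ∀ d ∈ D, d * s * d⁻¹ * s⁻¹ = d * y * d⁻¹ * y⁻¹ := by
    intro d hd
    have h3 := hcV d⁻¹ (inv_mem (hDV hd))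
    rw [hsyc]
    have : d * (s * c) * d⁻¹ * (s * c)⁻¹ = d * s * (c * d⁻¹) * c⁻¹ * s⁻¹ := by group
    rw [this, ← h3]
    group
  have hwV : ∀ d ∈ D, d * y * d⁻¹ * y⁻¹ ∈ V := by
    intro d hd
    have h3 : y * d⁻¹ * y⁻¹ ∈ V := ‹V.Normal›.conj_mem _ (inv_mem (hDV hd)) y
    have : d * y * d⁻¹ * y⁻¹ = d * (y * d⁻¹ * y⁻¹) := by group
    rw [this]
    exact mul_mem (hDV hd) h3
  have hwy : ∀ d ∈ D, (d * y * d⁻¹ * y⁻¹) * y = y * (d * y * d⁻¹ * y⁻¹) := by
    intro d hd
    have h3 : ⁅d, y⁆ ∈ ⁅K, K⁆ :=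
      commutator_mem_commutator (hVK (hDV hd)) (hyK (mem_zpowers y))
    have h4 : ⁅⁅d, y⁆, y⁆ ∈ ⁅⁅K, K⁆, K⁆ :=
      commutator_mem_commutator h3 (hyK (mem_zpowers y))
    have h5 : ⁅⁅K, K⁆, K⁆ = ⊥ := hy
    rw [h5, mem_bot, commutatorElement_eq_one_iff_commute] at h4
    have h6 : ⁅d, y⁆ = d * y * d⁻¹ * y⁻¹ := commutatorElement_def d y
    rw [h6] at h4
    exact h4.eq
  have hws : ∀ d ∈ D, (d * y * d⁻¹ * y⁻¹) * s = s * (d * y * d⁻¹ * y⁻¹) := by
    intro d hd
    have h3 := hcV _ (hwV d hd)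
    have h4 := hwy d hd
    have hs' : s = y * c⁻¹ := by rw [hsyc]; group
    set w := d * y * d⁻¹ * y⁻¹ with hwdef
    have h5 : w * c⁻¹ = c⁻¹ * w := by
      have : w * c⁻¹ = c⁻¹ * (c * w) * c⁻¹ := by group
      rw [this, ← h3]
      group
    rw [hs', ← mul_assoc, h4, mul_assoc, h5, mul_assoc]
  -- class two
  have hcl : ClassTwoCond D s := by
    unfold ClassTwoCond
    have hclos : D ⊔ zpowers s = closure ((D : Set G) ∪ {s}) := by
      rw [Subgroup.closure_union, closure_eq, zpowers_eq_closure]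
    rw [hclos]
    apply class_two_of_gens
    have hwcent : ∀ d ∈ D, d * y * d⁻¹ * y⁻¹ ∈ centralizer ((D : Set G) ∪ {s}) := by
      intro d hd
      rw [mem_centralizer_iff]
      rintro h (hh | hh)
      · exact hVc _ (hDV hh) _ (hwV d hd)
      · rw [Set.mem_singleton_iff] at hh
        rw [hh]
        exact (hws d hd).symm
    rintro a (ha | ha) b (hb | hb)
    · have : a * b * a⁻¹ * b⁻¹ = 1 := by
        rw [hD.2.1 a ha b hb]
        group
      rw [this]
      exact one_mem _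
    · rw [Set.mem_singleton_iff] at hb
      rw [hb, hw a ha]
      exact hwcent a ha
    · rw [Set.mem_singleton_iff] at ha
      rw [ha]
      have : s * b * s⁻¹ * b⁻¹ = (b * s * b⁻¹ * s⁻¹)⁻¹ := by group
      rw [this, hw b hb]
      exact inv_mem (hwcent b hb)
    · rw [Set.mem_singleton_iff] at ha hb
      rw [ha, hb]
      have : s * s * s⁻¹ * s⁻¹ = 1 := by group
      rw [this]
      exact one_mem _
  intro d hd
  have h3 := hD.2.2 s hs hcl d hd
  have h4 := hcV d (hDV hd)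
  rw [hsyc, ← mul_assoc, h3, mul_assoc, h4, mul_assoc]

/-- The `D*`-theorem. -/
theorem dStarOf_sylow_normal [Finite G] {p : ℕ} [Fact p.Prime]
    (hc : centralizer (Cfsg.pCore p G : Set G) ≤ Cfsg.pCore p G)
    (hst : ∀ (P : Subgroup G) [P.Normal], IsPGroup p P → Cfsg.IsPStableOn p P) (S : Sylow p G) :
    (Cfsg.dStarOf (S : Subgroup G)).Normal := by
  have : Group.IsNilpotent (S : Subgroup G) := S.2.isNilpotent
  set Q := Cfsg.pCore p G with hQdef
  set D := Cfsg.dStarOf (S : Subgroup G) with hDdef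
  have hQS : Q ≤ (S : Subgroup G) := Cfsg.Agent.Helper15.pCore_le_sylow S
  have hQp : IsPGroup p Q := pCore_isPGroup' p G
  have : Group.IsNilpotent Q := hQp.isNilpotent
  have hD : AmbDStar (S : Subgroup G) D := ambDStar_dStarOf _
  have hDn : ∀ s ∈ (S : Subgroup G), ∀ d ∈ D, s * d * s⁻¹ ∈ D := by
    intro s hs d hd
    obtain ⟨d', hd', rfl⟩ := hd
    have hn : (Cfsg.dStar (S : Subgroup G)).Normal := dStar_normal
    exact ⟨⟨s, hs⟩ * d' * ⟨s, hs⟩⁻¹, hn.conj_mem d' hd' ⟨s, hs⟩, rfl⟩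
  -- step 1
  have hDQ : D ≤ Q := by
    intro a ha
    have hza : zpowers a ≤ D := zpowers_le.mpr ha
    have h1 : ⁅Q, zpowers a⁆ ≤ D := by
      rw [commutator_le]
      intro q hq z hz
      rw [commutatorElement_def]
      exact mul_mem (hDn q (hQS hq) z (hza hz)) (inv_mem (hza hz))
    have h2 : ⁅D, zpowers a⁆ = ⊥ := by
      rw [commutator_eq_bot_iff_le_centralizer]
      intro d hd
      rw [mem_centralizer_iff]
      intro h hh
      exact hD.2.1 h (hza hh) d hd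
    have hq : ⁅⁅Q, zpowers a⁆, zpowers a⁆ = ⊥ := by
      rw [eq_bot_iff, ← h2]
      exact commutator_mono h1 le_rfl
    have h3 := hst Q hQp a hq
    exact comap_pCore_le_pCore Q hc h3
  -- step 2
  have hDQ' : AmbDStar Q D := hD.mono hDQ hQS
  have hDg : ∀ g : G, AmbDStar Q (D.map (MulAut.conj g).toMonoidHom) := by
    intro g
    have h1 := hDQ'.map (MulAut.conj g)
    have h2 : Q.map (MulAut.conj g).toMonoidHom = Q := map_conj_eq_of_normal Q g
    rwa [h2] at h1
  have hconj : ∀ g : G, ∀ d ∈ D, ∀ d' ∈ D, d * (g * d' * g⁻¹) = (g * d' * g⁻¹) * d := by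
    intro g d hd d' hd'
    exact AmbDStar.comm hDQ' (hDg g) d hd _ ⟨d', hd', by simp⟩
  -- step 3
  set V := normalClosure (D : Set G) with hVdef
  have hDV : D ≤ V := le_normalClosure
  have hVQ : V ≤ Q := normalClosure_le_normal hDQ
  have hVgen : V = closure (Group.conjugatesOfSet (D : Set G)) := rfl
  have hVc' : V ≤ centralizer (V : Set G) := by
    rw [hVgen, centralizer_closure, closure_le]
    intro x hx
    rw [SetLike.mem_coe, mem_centralizer_iff]
    intro z hz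
    obtain ⟨d, hd, hdx⟩ := Group.mem_conjugatesOfSet_iff.mp hx
    obtain ⟨d', hd', hdz⟩ := Group.mem_conjugatesOfSet_iff.mp hz
    obtain ⟨g, rfl⟩ := isConj_iff.mp hdx
    obtain ⟨h, rfl⟩ := isConj_iff.mp hdz
    have e := hconj (g⁻¹ * h) d hd d' hd'
    have e1 : g * d * g⁻¹ * (h * d' * h⁻¹) =
        g * (d * ((g⁻¹ * h) * d' * (g⁻¹ * h)⁻¹)) * g⁻¹ := by group
    rw [e1, e]
    group
  have hVc : ∀ a ∈ V, ∀ b ∈ V, a * b = b * a := fun a ha b hb =>
    ((mem_centralizer_iff.mp (hVc' ha)) b hb).symm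
  have hVp : IsPGroup p V := hQp.to_le hVQ
  have hstV := hst V hVp
  -- step 4
  have hVS : AmbDStar (S : Subgroup G) V := by
    refine ⟨hVQ.trans hQS, hVc, ?_⟩
    intro x _ hx
    have hle : V ≤ centralizer {x} := by
      rw [hVgen, closure_le]
      intro z hz
      obtain ⟨d, hd, hdz⟩ := Group.mem_conjugatesOfSet_iff.mp hz
      obtain ⟨g, rfl⟩ := isConj_iff.mp hdz
      rw [SetLike.mem_coe, mem_centralizer_singleton_iff]
      have hy : ClassTwoCond V (g⁻¹ * x * g) := by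
        have h1 := (classTwoCond_map (MulAut.conj g⁻¹).toMonoidHom (MulAut.conj g⁻¹).injective
          V x).mpr hx
        have h2 : V.map (MulAut.conj g⁻¹).toMonoidHom = V := map_conj_eq_of_normal V g⁻¹
        rw [h2] at h1
        simpa using h1
      have h3 := centralizes_dStarOf_of_classTwo S V hVc hDV hstV _ hy d hd
      have e1 : g * d * g⁻¹ * x = g * (d * (g⁻¹ * x * g)) * g⁻¹ := by group
      rw [e1, h3]
      group
    intro v hv
    exact (mem_centralizer_singleton_iff.mp (hle hv))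
  have hVD : V ≤ D := hVS.le_dStarOf
  have hDeq : D = V := le_antisymm hDV hVD
  rw [hDeq]
  exact normalClosure_normal

end Cfsg.Agent.Helper9
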