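import Mathlib
import Cfsg.Prelude.Def_SporadicB

set_option autoImplicit false

/-! Non-split double covers from a surjection with kernel of order two. -/

namespace Cfsg.Agent.Helper9

open Cfsg

universe u v

/-- A group in which every hom to a group of exponent two kills a generating set has no subgroup
of index two. -/
theorem no_index_two_of_gens {P : Type u} [Group P] (S : Set P) (hS : Subgroup.closure S = ⊤)
    (h : ∀ (Q : Type u) [Group Q] (f : P →* Q), (∀ q : Q, q ^ 2 = 1) → ∀ s ∈ S, f s = 1) :
    ∀ L : Subgroup P, L.index ≠ 2 := by
  intro L hL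
  have hn : L.Normal := Subgroup.normal_of_index_eq_two hL
  have hcard : Nat.card (P ⧸ L) = 2 := by
    rw [← Subgroup.index_eq_card, hL]
  have hfin : Finite (P ⧸ L) := Nat.finite_of_card_ne_zero (by rw [hcard]; norm_num)
  have hq : ∀ q : P ⧸ L, q ^ 2 = 1 := by
    intro q
    rw [← hcard]
    exact pow_card_eq_one'
  have hker := h (P ⧸ L) (QuotientGroup.mk' L) hq
  have hle : Subgroup.closure S ≤ L := by
    rw [Subgroup.closure_le]
    intro s hs
    have := hker s hs
    rw [QuotientGroup.mk'_apply, QuotientGroup.eq_one_iff] at this
    exact this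
  rw [hS, top_le_iff] at hle
  rw [hle, Subgroup.index_top] at hL
  norm_num at hL

/-- A surjection with kernel of order two onto a group with trivial centre, from a group with no
subgroup of index two, is a non-split double cover. -/
theorem isNonsplitDoubleCover_of_surjective {P : Type u} {K : Type v} [Group P] [Group K]
    (π : P →* K) (hπ : Function.Surjective π) (hker : Nat.card π.ker = 2)
    (hK : Subgroup.center K = ⊥) (h2 : ∀ L : Subgroup P, L.index ≠ 2) :
    IsNonsplitDoubleCover P K := by
  have hcen : Subgroup.center P = π.ker := by
    apply le_antisymm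
    · intro c hc
      rw [MonoidHom.mem_ker]
      have h1 : π c ∈ Subgroup.center K := by
        rw [Subgroup.mem_center_iff]
        intro k
        obtain ⟨g, rfl⟩ := hπ k
        rw [← map_mul, ← map_mul, Subgroup.mem_center_iff.1 hc g]
      rw [hK, Subgroup.mem_bot] at h1
      exact h1
    · intro z hz
      rw [Subgroup.mem_center_iff]
      intro g
      by_cases hz1 : z = 1
      · subst hz1
        rw [mul_one, one_mul]
      · have hconj : g * z * g⁻¹ ∈ π.ker := (inferInstance : π.ker.Normal).conj_mem z hz g
        obtain ⟨y, -, hy⟩ := (Nat.card_eq_two_iff' (1 : π.ker)).1 hker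
        have e1 : (⟨z, hz⟩ : π.ker) = y := hy _ (by
          intro h
          exact hz1 (congrArg Subtype.val h))
        have e2 : (⟨g * z * g⁻¹, hconj⟩ : π.ker) = y := hy _ (by
          intro h
          have h' : g * z * g⁻¹ = 1 := congrArg Subtype.val h
          apply hz1
          have : z = g⁻¹ * (g * z * g⁻¹) * g := by group
          rw [this, h']
          group)
        have e3 : g * z * g⁻¹ = z := congrArg Subtype.val (e2.trans e1.symm)
        calc g * z = g * z * g⁻¹ * g := by group
          _ = z * g := by rw [e3]
  refine ⟨?_, ?_, ?_⟩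
  · rw [hcen, hker]
  · exact ⟨(QuotientGroup.quotientMulEquivOfEq hcen).trans
      (QuotientGroup.quotientKerEquivOfSurjective π hπ)⟩
  · intro L hL
    have h3 := hL.index_eq_card
    rw [hcen, hker] at h3
    exact h2 L h3

end Cfsg.Agent.Helper9
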