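import Mathlib
import Cfsg.Prelude.Def_Transfer
import Cfsg.Agent.Lib.Helper9.ThompsonRepl

set_option autoImplicit false

namespace Cfsg.Agent.Helper9

open Subgroup

variable {X : Type*} [Group X]

/-- elementwise form of "elementary abelian 2-subgroup" -/
def EA2 (A : Subgroup X) : Prop :=
  (∀ a ∈ A, ∀ b ∈ A, a * b = b * a) ∧ ∀ a ∈ A, a * a = 1

theorem ea2_iff (A : Subgroup X) : Cfsg.IsElementaryAbelian 2 A ↔ EA2 A := by
  constructor
  · rintro ⟨hc, h2⟩
    refine ⟨fun a ha b hb => ?_, fun a ha => ?_⟩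
    · exact congrArg Subtype.val (hc.is_comm.comm ⟨a, ha⟩ ⟨b, hb⟩)
    · rw [← pow_two]
      exact h2 a ha
  · rintro ⟨hc, h2⟩
    refine ⟨⟨⟨fun a b => Subtype.ext (hc a a.2 b b.2)⟩⟩, fun a ha => ?_⟩
    rw [pow_two]
    exact h2 a ha

theorem EA2.mono {A B : Subgroup X} (hA : EA2 A) (h : B ≤ A) : EA2 B :=
  ⟨fun a ha b hb => hA.1 a (h ha) b (h hb), fun a ha => hA.2 a (h ha)⟩

theorem inv_eq_self_of_mul_self {a : X} (ha : a * a = 1) : a⁻¹ = a :=
  inv_eq_of_mul_eq_one_left ha

/-- the subgroup `H ∪ H a` for an involution `a` centralizing `H` -/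
def adjoinInv (H : Subgroup X) (a : X) (ha : a * a = 1) (hc : ∀ h ∈ H, a * h = h * a) :
    Subgroup X where
  carrier := {x | x ∈ H ∨ x * a ∈ H}
  one_mem' := Or.inl (one_mem H)
  mul_mem' := by
    rintro b c (hb | hb) (hc' | hc')
    · exact Or.inl (mul_mem hb hc')
    · right
      show b * c * a ∈ H
      rw [mul_assoc]
      exact mul_mem hb hc'
    · right
      show b * c * a ∈ H
      rw [mul_assoc, ← hc c hc', ← mul_assoc]
      exact mul_mem hb hc'
    · left
      have h1 := hc _ hc'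
      have h2 : a * c = c * a := mul_right_cancel (b := a) (by rw [mul_assoc]; exact h1)
      have : b * c = (b * a) * (c * a) := by
        rw [← h2, mul_assoc, ← mul_assoc a a c, ha, one_mul]
      show b * c ∈ H
      rw [this]
      exact mul_mem hb hc'
  inv_mem' := by
    rintro b (hb | hb)
    · exact Or.inl (inv_mem hb)
    · right
      show b⁻¹ * a ∈ H
      have h0 : a * b⁻¹ ∈ H := by
        have := inv_mem hb
        rwa [mul_inv_rev, inv_eq_self_of_mul_self ha] at this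
      have h1 := hc _ h0
      have h2 : b⁻¹ * a = a * b⁻¹ := by
        have : a * (a * b⁻¹) = b⁻¹ := by rw [← mul_assoc, ha, one_mul]
        rw [this] at h1
        calc b⁻¹ * a = (a * b⁻¹ * a) * a := by rw [← h1]
          _ = a * b⁻¹ := by rw [mul_assoc, ha, mul_one]
      rw [h2]
      exact h0

theorem mem_adjoinInv {H : Subgroup X} {a : X} (ha : a * a = 1) (hc : ∀ h ∈ H, a * h = h * a)
    (x : X) : x ∈ adjoinInv H a ha hc ↔ x ∈ H ∨ x * a ∈ H := Iff.rfl

theorem sup_zpowers_eq_adjoinInv {H : Subgroup X} {a : X} (ha : a * a = 1)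
    (hc : ∀ h ∈ H, a * h = h * a) : H ⊔ zpowers a = adjoinInv H a ha hc := by
  apply le_antisymm
  · apply sup_le
    · intro x hx
      exact Or.inl hx
    · rw [zpowers_le]
      right
      rw [ha]
      exact one_mem H
  · rintro x (hx | hx)
    · exact mem_sup_left hx
    · have : x = (x * a) * a⁻¹ := by group
      rw [this]
      exact mul_mem (mem_sup_left hx) (inv_mem (mem_sup_right (mem_zpowers a)))

theorem mem_sup_zpowers_iff {H : Subgroup X} {a : X} (ha : a * a = 1)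
    (hc : ∀ h ∈ H, a * h = h * a) (x : X) : x ∈ H ⊔ zpowers a ↔ x ∈ H ∨ x * a ∈ H := by
  rw [sup_zpowers_eq_adjoinInv ha hc]
  exact Iff.rfl

theorem card_sup_zpowers [Finite X] {H : Subgroup X} {a : X} (ha : a * a = 1)
    (hc : ∀ h ∈ H, a * h = h * a) (haH : a ∉ H) :
    Nat.card ↥(H ⊔ zpowers a) = 2 * Nat.card H := by
  have hle : H ≤ H ⊔ zpowers a := le_sup_left
  have hidx : H.relIndex (H ⊔ zpowers a) = 2 := by
    rw [relIndex_eq_two_iff]
    refine ⟨a, mem_sup_right (mem_zpowers a), fun b hb => ?_⟩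
    rcases (mem_sup_zpowers_iff ha hc b).mp hb with h | h
    · refine Or.inr ⟨h, fun h' => haH ?_⟩
      have : a = b⁻¹ * (b * a) := by group
      rw [this]
      exact mul_mem (inv_mem h) h'
    · refine Or.inl ⟨h, fun h' => haH ?_⟩
      have : a = b⁻¹ * (b * a) := by group
      rw [this]
      exact mul_mem (inv_mem h') h
  rw [card_eq_card_mul_relIndex hle, hidx, mul_comm]

theorem ea2_sup_zpowers {H : Subgroup X} (hH : EA2 H) {a : X} (ha : a * a = 1)
    (hc : ∀ h ∈ H, a * h = h * a) : EA2 (H ⊔ zpowers a) := by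
  have key : ∀ x ∈ H ⊔ zpowers a, ∃ h ∈ H, x = h ∨ x = h * a := by
    intro x hx
    rcases (mem_sup_zpowers_iff ha hc x).mp hx with h | h
    · exact ⟨x, h, Or.inl rfl⟩
    · refine ⟨x * a, h, Or.inr ?_⟩
      rw [mul_assoc, ha, mul_one]
  constructor
  · intro x hx y hy
    obtain ⟨h, hh, hx' | hx'⟩ := key x hx <;> obtain ⟨k, hk, hy' | hy'⟩ := key y hy <;>
      rw [hx', hy']
    · exact hH.1 h hh k hk
    · rw [← mul_assoc, hH.1 h hh k hk, mul_assoc, mul_assoc, hc h hh]
    · rw [mul_assoc, hc k hk, ← mul_assoc, hH.1 h hh k hk, mul_assoc]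
    · have e1 : h * a * (k * a) = h * k * (a * a) := by
        rw [mul_assoc, ← mul_assoc a k a, hc k hk]
        group
      have e2 : k * a * (h * a) = k * h * (a * a) := by
        rw [mul_assoc, ← mul_assoc a h a, hc h hh]
        group
      rw [e1, e2, hH.1 h hh k hk]
  · intro x hx
    obtain ⟨h, hh, hx' | hx'⟩ := key x hx <;> rw [hx']
    · exact hH.2 h hh
    · have e1 : h * a * (h * a) = h * h * (a * a) := by
        rw [mul_assoc, ← mul_assoc a h a, hc h hh]
        group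
      rw [e1, hH.2 h hh, ha, one_mul]

/-- an involution normalizing an elementary abelian 2-group `U` centralizes at least `√|U|`
elements -/
theorem card_le_card_centralizer_sq [Finite X] (U : Subgroup X) (hU : EA2 U) (t : X)
    (ht : t * t = 1) (hn : ∀ u ∈ U, t * u * t⁻¹ ∈ U) :
    Nat.card U ≤ Nat.card ↥(U ⊓ centralizer {t}) ^ 2 := by
  have htinv : t⁻¹ = t := inv_eq_self_of_mul_self ht
  let φ : ↥U →* ↥U := MonoidHom.mk'
    (fun u => ⟨(u : X) * (t * (u : X)⁻¹ * t⁻¹), mul_mem u.2 (hn _ (inv_mem u.2))⟩) (by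
      intro u v
      apply Subtype.ext
      show ((u * v : ↥U) : X) * (t * ((u * v : ↥U) : X)⁻¹ * t⁻¹) =
        (u : X) * (t * (u : X)⁻¹ * t⁻¹) * ((v : X) * (t * (v : X)⁻¹ * t⁻¹))
      rw [Subgroup.coe_mul]
      have hu' : t * (u : X)⁻¹ * t⁻¹ ∈ U := hn _ (inv_mem u.2)
      have hv' : t * (v : X)⁻¹ * t⁻¹ ∈ U := hn _ (inv_mem v.2)
      have e1 : t * ((u : X) * (v : X))⁻¹ * t⁻¹ =
          (t * (v : X)⁻¹ * t⁻¹) * (t * (u : X)⁻¹ * t⁻¹) := by group
      rw [e1]
      have h1 := hU.1 _ (mul_mem v.2 hv') _ hu'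
      calc (u : X) * v * (t * (v : X)⁻¹ * t⁻¹ * (t * (u : X)⁻¹ * t⁻¹))
          = u * ((v * (t * (v : X)⁻¹ * t⁻¹)) * (t * (u : X)⁻¹ * t⁻¹)) := by group
        _ = u * ((t * (u : X)⁻¹ * t⁻¹) * (v * (t * (v : X)⁻¹ * t⁻¹))) := by rw [h1]
        _ = _ := by group)
  have hφ : ∀ u : ↥U, ((φ u : ↥U) : X) = (u : X) * (t * (u : X)⁻¹ * t⁻¹) := fun u => rfl
  have hker : ∀ u : ↥U, u ∈ φ.ker ↔ (u : X) ∈ centralizer {t} := by
    intro u
    rw [MonoidHom.mem_ker, mem_centralizer_singleton_iff, ← Subtype.coe_inj, hφ, Subgroup.coe_one]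
    constructor
    · intro h
      have : (u : X) * t = ((u : X) * (t * (u : X)⁻¹ * t⁻¹)) * (t * u) := by group
      rw [this, h, one_mul]
    · intro h
      have : (u : X) * (t * (u : X)⁻¹ * t⁻¹) = ((u : X) * t) * (u : X)⁻¹ * t⁻¹ := by group
      rw [this, h]
      group
  have hrange : φ.range ≤ φ.ker := by
    rintro _ ⟨u, rfl⟩
    rw [hker, mem_centralizer_singleton_iff, hφ]
    set w := (u : X) * (t * (u : X)⁻¹ * t⁻¹) with hw
    have hwU : w ∈ U := (φ u).2
    have hwinv : w⁻¹ = w := inv_eq_self_of_mul_self (hU.2 w hwU)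
    have h1 : t * w * t⁻¹ = w⁻¹ := by
      rw [hw, htinv]
      have e : t * ((u : X) * (t * (u : X)⁻¹ * t)) * t = t * u * t * (u : X)⁻¹ * (t * t) := by
        group
      rw [e, ht, mul_one]
      have e2 : ((u : X) * (t * (u : X)⁻¹ * t))⁻¹ = t⁻¹ * u * t⁻¹ * (u : X)⁻¹ := by group
      rw [e2, htinv]
    rw [hwinv] at h1
    calc w * t = (t * w * t⁻¹) * t := by rw [h1]
      _ = t * w := by group
  have hcardker : Nat.card φ.ker = Nat.card ↥(U ⊓ centralizer {t}) := by
    have h1 : φ.ker = (centralizer {t}).subgroupOf U := by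
      ext u
      rw [hker, mem_subgroupOf]
    rw [h1, ← inf_subgroupOf_left]
    exact Nat.card_congr (Subgroup.subgroupOfEquivOfLe inf_le_left).toEquiv
  have h1 : φ.ker.index * Nat.card φ.ker = Nat.card U := φ.ker.index_mul_card
  rw [index_ker] at h1
  have h2 : Nat.card φ.range ≤ Nat.card φ.ker := Subgroup.card_le_of_le hrange
  rw [← h1, ← hcardker, pow_two]
  exact Nat.mul_le_mul_right _ h2

section Main

variable [Finite X]

/-- number of elements of `E` centralizing `B` -/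
noncomputable def cE (E B : Subgroup X) : ℕ := Nat.card ↥(E ⊓ centralizer (B : Set X))

theorem centralizer_sup_zpowers (B : Subgroup X) (a : X) :
    centralizer ((B ⊔ zpowers a : Subgroup X) : Set X) = centralizer (B : Set X) ⊓ centralizer {a} := by
  apply le_antisymm
  · apply le_inf
    · exact centralizer_le (le_sup_left (a := B) (b := zpowers a))
    · apply centralizer_le
      intro x hx
      rw [Set.mem_singleton_iff] at hx
      rw [hx]
      exact mem_sup_right (mem_zpowers a)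
  · intro x hx
    have h1 : x ∈ centralizer (B : Set X) := hx.1
    have h2 : x ∈ centralizer {a} := hx.2
    have h3 : B ⊔ zpowers a ≤ centralizer {x} := by
      apply sup_le
      · intro b hb
        rw [mem_centralizer_singleton_iff]
        exact (mem_centralizer_iff.mp h1 b hb)
      · rw [zpowers_le, mem_centralizer_singleton_iff]
        exact (mem_centralizer_singleton_iff.mp h2).symm
    rw [mem_centralizer_iff]
    intro y hy
    exact (mem_centralizer_singleton_iff.mp (h3 hy))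

theorem cE_step (E : Subgroup X) [hEn : E.Normal] (hE : EA2 E) {A : Subgroup X} (hA : EA2 A)
    {B : Subgroup X} (hBA : B ≤ A) (hne : B ≠ A) :
    ∃ B' : Subgroup X, B ≤ B' ∧ B' ≤ A ∧ Nat.card B' = 2 * Nat.card B ∧ cE E B ≤ (cE E B') ^ 2 := by
  obtain ⟨a, haA, haB⟩ := SetLike.exists_of_lt (lt_of_le_of_ne hBA hne)
  have ha : a * a = 1 := hA.2 a haA
  have hc : ∀ b ∈ B, a * b = b * a := fun b hb => hA.1 a haA b (hBA hb)
  refine ⟨B ⊔ zpowers a, le_sup_left, sup_le hBA (zpowers_le.mpr haA), card_sup_zpowers ha hc haB, ?_⟩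
  unfold cE
  rw [centralizer_sup_zpowers, ← inf_assoc]
  apply card_le_card_centralizer_sq _ (hE.mono inf_le_left) a ha
  intro u hu
  have huE : u ∈ E := hu.1
  have huB : u ∈ centralizer (B : Set X) := hu.2
  refine mem_inf.mpr ⟨hEn.conj_mem u huE a, ?_⟩
  rw [mem_centralizer_iff]
  intro b hb
  have h1 := mem_centralizer_iff.mp huB b hb
  have h2 := hc b hb
  have h3 : b * a⁻¹ = a⁻¹ * b := by
    calc b * a⁻¹ = a⁻¹ * (a * b) * a⁻¹ := by group
      _ = a⁻¹ * (b * a) * a⁻¹ := by rw [h2]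
      _ = a⁻¹ * b := by group
  calc b * (a * u * a⁻¹) = (b * a) * u * a⁻¹ := by group
    _ = (a * b) * u * a⁻¹ := by rw [h2]
    _ = a * (b * u) * a⁻¹ := by group
    _ = a * (u * b) * a⁻¹ := by rw [h1]
    _ = a * u * (b * a⁻¹) := by group
    _ = a * u * (a⁻¹ * b) := by rw [h3]
    _ = a * u * a⁻¹ * b := by group

theorem cE_pow (E : Subgroup X) [hEn : E.Normal] (hE : EA2 E) {A : Subgroup X} (hA : EA2 A) :
    ∀ r : ℕ, ∀ B : Subgroup X, B ≤ A → Nat.card A = 2 ^ r * Nat.card B →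
      cE E B ≤ (cE E A) ^ (2 ^ r) := by
  intro r
  induction r with
  | zero =>
    intro B hBA hcard
    have : B = A := Subgroup.eq_of_le_of_card_ge hBA (by omega)
    rw [this]
    simp
  | succ r ih =>
    intro B hBA hcard
    have hne : B ≠ A := by
      intro h
      rw [h] at hcard
      have hpos : 0 < Nat.card A := Nat.card_pos
      have : 2 ^ (r + 1) ≥ 2 := by
        calc 2 ^ (r + 1) = 2 * 2 ^ r := by ring
          _ ≥ 2 * 1 := Nat.mul_le_mul_left 2 (Nat.one_le_two_pow)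
      nlinarith
    obtain ⟨B', hBB', hB'A, hcB', hc⟩ := cE_step E hE hA hBA hne
    have h1 : Nat.card A = 2 ^ r * Nat.card B' := by
      rw [hcB', hcard]
      ring
    have h2 := ih B' hB'A h1
    calc cE E B ≤ (cE E B') ^ 2 := hc
      _ ≤ ((cE E A) ^ (2 ^ r)) ^ 2 := Nat.pow_le_pow_left h2 2
      _ = (cE E A) ^ (2 ^ (r + 1)) := by rw [← pow_mul, pow_succ]

theorem exists_hyperplane (E : Subgroup X) [hEn : E.Normal] (hE : EA2 E) {A : Subgroup X}
    (hA : EA2 A) :
    ∀ r : ℕ, ∀ B : Subgroup X, B ≤ A → Nat.card A = 2 ^ (r + 1) * Nat.card B →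
      ∃ A₁ : Subgroup X, B ≤ A₁ ∧ A₁ ≤ A ∧ Nat.card A = 2 * Nat.card A₁ := by
  intro r
  induction r with
  | zero =>
    intro B hBA hcard
    exact ⟨B, le_rfl, hBA, by simpa using hcard⟩
  | succ r ih =>
    intro B hBA hcard
    have hne : B ≠ A := by
      intro h
      rw [h] at hcard
      have hpos : 0 < Nat.card A := Nat.card_pos
      have : 2 ^ (r + 1 + 1) ≥ 2 := by
        calc 2 ^ (r + 1 + 1) = 2 * 2 ^ (r + 1) := by ring
          _ ≥ 2 * 1 := Nat.mul_le_mul_left 2 (Nat.one_le_two_pow)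
      nlinarith
    obtain ⟨B', hBB', hB'A, hcB', -⟩ := cE_step E hE hA hBA hne
    have h1 : Nat.card A = 2 ^ (r + 1) * Nat.card B' := by
      rw [hcB', hcard]
      ring
    obtain ⟨A₁, h2, h3, h4⟩ := ih B' hB'A h1
    exact ⟨A₁, hBB'.trans h2, h3, h4⟩

/-- an elementary abelian subgroup of order `2 ^ m` (`m ≤ 3`) not inside `E` is centralized by an
element of `E` outside it -/
theorem exists_centralizing_outside (E : Subgroup X) [hEn : E.Normal] (hE : EA2 E)
    (hE32 : 32 ≤ Nat.card E) {A : Subgroup X} (hA : EA2 A) (hAE : ¬ A ≤ E) {m : ℕ} (hm : m ≤ 3)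
    (hcard : Nat.card A = 2 ^ m) :
    ∃ e ∈ E, (∀ a ∈ A, e * a = a * e) ∧ e ∉ A := by
  by_contra hcon
  set D := A ⊓ E with hD
  have hDA : D ≤ A := inf_le_left
  have hDne : D ≠ A := fun h => hAE (h ▸ inf_le_right)
  -- `C_E(A) ≤ D`
  have hle : E ⊓ centralizer (A : Set X) ≤ D := by
    intro e he
    have heE : e ∈ E := he.1
    have heA : e ∈ centralizer (A : Set X) := he.2
    by_contra hne
    apply hcon
    refine ⟨e, heE, fun a ha => ((mem_centralizer_iff.mp heA) a ha).symm, fun h => hne ⟨h, heE⟩⟩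
  have hcD : cE E D = Nat.card E := by
    unfold cE
    have : E ⊓ centralizer (D : Set X) = E := by
      rw [inf_eq_left]
      intro e he
      rw [mem_centralizer_iff]
      intro d hd
      exact hE.1 d hd.2 e he
    rw [this]
  have hdvd : Nat.card D ∣ 2 ^ m := hcard ▸ Subgroup.card_dvd_of_le hDA
  obtain ⟨j, hj, hjc⟩ := (Nat.dvd_prime_pow Nat.prime_two).mp hdvd
  have hjm : j ≠ m := by
    intro h
    apply hDne
    apply Subgroup.eq_of_le_of_card_ge hDA
    rw [hcard, hjc, h]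
  have hjlt : j < m := lt_of_le_of_ne hj hjm
  have hcA : Nat.card A = 2 ^ (m - j) * Nat.card D := by
    rw [hcard, hjc, ← pow_add]
    congr 1
    omega
  have hpow := cE_pow E hE hA (m - j) D hDA hcA
  rw [hcD] at hpow
  have hcEA : cE E A ≤ 2 ^ j := by
    rw [← hjc]
    exact Subgroup.card_le_of_le hle
  have h2 : (cE E A) ^ (2 ^ (m - j)) ≤ (2 ^ j) ^ (2 ^ (m - j)) := Nat.pow_le_pow_left hcEA _
  have h3 : 32 ≤ (2 ^ j) ^ (2 ^ (m - j)) := hE32.trans (hpow.trans h2)
  interval_cases m <;> interval_cases j <;> norm_num at h3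

/-- the step of the chain: an `E8` not inside `E` commutes with an `E8` meeting `E` in a larger
subgroup -/
theorem e8_step (E : Subgroup X) [hEn : E.Normal] (hE : EA2 E)
    (hE32 : 32 ≤ Nat.card E) {A : Subgroup X} (hA : EA2 A) (hAE : ¬ A ≤ E)
    (hcard : Nat.card A = 8) :
    ∃ A' : Subgroup X, EA2 A' ∧ Nat.card A' = 8 ∧ (∀ a ∈ A, ∀ b ∈ A', a * b = b * a) ∧
      Nat.card ↥(A ⊓ E) < Nat.card ↥(A' ⊓ E) := by
  obtain ⟨e, heE, heA, heA'⟩ := exists_centralizing_outside E hE hE32 hA hAE (m := 3) le_rfl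
    (by rw [hcard]; norm_num)
  set D := A ⊓ E with hD
  have hDA : D ≤ A := inf_le_left
  have hDne : D ≠ A := fun h => hAE (h ▸ inf_le_right)
  have hdvd : Nat.card D ∣ 2 ^ 3 := by
    have := Subgroup.card_dvd_of_le hDA
    rw [hcard] at this
    exact this
  obtain ⟨j, hj, hjc⟩ := (Nat.dvd_prime_pow Nat.prime_two).mp hdvd
  have hjm : j ≠ 3 := by
    intro h
    apply hDne
    apply Subgroup.eq_of_le_of_card_ge hDA
    rw [hcard, hjc, h]
    norm_num
  have hjlt : j < 3 := lt_of_le_of_ne hj hjm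
  have hcA : Nat.card A = 2 ^ ((2 - j) + 1) * Nat.card D := by
    rw [hcard, hjc, ← pow_add]
    have : 2 - j + 1 + j = 3 := by omega
    rw [this]
    norm_num
  obtain ⟨A₁, hDA₁, hA₁A, hcA₁⟩ := exists_hyperplane E hE hA (2 - j) D hDA hcA
  have hcA₁' : Nat.card A₁ = 4 := by omega
  have he2 : e * e = 1 := hE.2 e heE
  have hec : ∀ h ∈ A₁, e * h = h * e := fun h hh => heA h (hA₁A hh)
  have heA₁ : e ∉ A₁ := fun h => heA' (hA₁A h)
  refine ⟨A₁ ⊔ zpowers e, ea2_sup_zpowers (hA.mono hA₁A) he2 hec, ?_, ?_, ?_⟩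
  · rw [card_sup_zpowers he2 hec heA₁, hcA₁']
  · intro a ha b hb
    rcases (mem_sup_zpowers_iff he2 hec b).mp hb with h | h
    · exact hA.1 a ha b (hA₁A h)
    · have h1 : Commute a (b * e) := hA.1 a ha _ (hA₁A h)
      have h2 : Commute a e := (heA a ha).symm
      have h3 : Commute a ((b * e) * e⁻¹) := h1.mul_right h2.inv_right
      rw [mul_inv_cancel_right] at h3
      exact h3.eq
  · have hecD : ∀ h ∈ D, e * h = h * e := fun h hh => heA h (hDA hh)
    have heD : e ∉ D := fun h => heA' (hDA h)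
    have h1 : D ⊔ zpowers e ≤ (A₁ ⊔ zpowers e) ⊓ E := by
      apply sup_le
      · exact le_inf (hDA₁.trans le_sup_left) inf_le_right
      · rw [zpowers_le]
        exact ⟨mem_sup_right (mem_zpowers e), heE⟩
    have h2 := Subgroup.card_le_of_le h1
    rw [card_sup_zpowers he2 hecD heD] at h2
    have hpos : 0 < Nat.card D := Nat.card_pos
    omega

end Main

end Cfsg.Agent.Helper9
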