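import Mathlib
import Cfsg.Agent.Lib.Helper9.F4

set_option autoImplicit false

/-! The field with sixteen elements, as pairs over the field with four elements: `y² = y + ω`. -/

namespace Cfsg.Agent.Helper9

/-- The field with sixteen elements: `re + im * y` with `y² = y + ω`. -/
structure F16 : Type where
  re : F4
  im : F4
deriving DecidableEq, Fintype

namespace F16

/-- Addition. -/
def add (a b : F16) : F16 := ⟨a.re + b.re, a.im + b.im⟩

/-- Multiplication. -/
def mul (a b : F16) : F16 :=
  ⟨a.re * b.re + a.im * b.im * F4.w, a.re * b.im + a.im * b.re + a.im * b.im⟩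

/-- Inverse: the fourteenth power. -/
def inv (a : F16) : F16 :=
  let a2 := mul a a
  let a4 := mul a2 a2
  let a8 := mul a4 a4
  mul a8 (mul a4 a2)

instance : Zero F16 := ⟨⟨0, 0⟩⟩

instance : One F16 := ⟨⟨1, 0⟩⟩

instance : Add F16 := ⟨add⟩

instance : Mul F16 := ⟨mul⟩

instance : Neg F16 := ⟨id⟩

instance : Inv F16 := ⟨inv⟩

instance : Field F16 where
  add_assoc := by decide +kernel
  zero_add := by decide +kernel
  add_zero := by decide +kernel
  add_comm := by decide +kernel
  neg_add_cancel := by decide +kernel
  mul_assoc := by decide +kernel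
  one_mul := by decide +kernel
  mul_one := by decide +kernel
  zero_mul := by decide +kernel
  mul_zero := by decide +kernel
  left_distrib := by decide +kernel
  right_distrib := by decide +kernel
  mul_comm := by decide +kernel
  exists_pair_ne := ⟨0, 1, by decide⟩
  mul_inv_cancel := by decide +kernel
  inv_zero := by decide +kernel
  nsmul := nsmulRec
  zsmul := zsmulRec
  npow := npowRec
  zpow := zpowRec
  nnqsmul := _
  qsmul := _

theorem card : Fintype.card F16 = 16 := by decide +kernel

end F16

end Cfsg.Agent.Helper9
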