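import Mathlib

set_option autoImplicit false

/-! The field with nine elements, as pairs over the field with three elements: `i² = -1`. -/

namespace Cfsg.Agent.Helper9

/-- The field with nine elements: `re + im * i` with `i² = -1`. -/
structure F9 : Type where
  re : ZMod 3
  im : ZMod 3
deriving DecidableEq, Fintype

namespace F9

/-- The identity, forcing the evaluation of its argument. -/
def nf (x : ZMod 3) : ZMod 3 :=
  match (x : Fin 3) with
  | 0 => 0
  | 1 => 1
  | 2 => 2

theorem nf_eq : ∀ x : ZMod 3, nf x = x := by decide

/-- Addition. -/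
def add (a b : F9) : F9 := ⟨nf (a.re + b.re), nf (a.im + b.im)⟩

/-- Negation. -/
def neg (a : F9) : F9 := ⟨nf (-a.re), nf (-a.im)⟩

/-- Multiplication. -/
def mul (a b : F9) : F9 :=
  ⟨nf (a.re * b.re - a.im * b.im), nf (a.re * b.im + a.im * b.re)⟩

/-- Inverse: the conjugate times the norm. -/
def inv (a : F9) : F9 :=
  let n := nf (a.re * a.re + a.im * a.im)
  ⟨nf (a.re * n), nf (-(a.im * n))⟩

instance : Zero F9 := ⟨⟨0, 0⟩⟩

instance : One F9 := ⟨⟨1, 0⟩⟩

instance : Add F9 := ⟨add⟩

instance : Mul F9 := ⟨mul⟩

instance : Neg F9 := ⟨neg⟩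

instance : Inv F9 := ⟨inv⟩

instance : Field F9 where
  add_assoc := by decide +kernel
  zero_add := by decide +kernel
  add_zero := by decide +kernel
  add_comm := by decide +kernel
  neg_add_cancel := by decide +kernel
  mul_assoc := by decide +kernel
  one_mul := by decide +kernel
  mul_one := by decide +kernel
  zero_mul := by decide +kernel
  mul_zero := by decide +kernel
  left_distrib := by decide +kernel
  right_distrib := by decide +kernel
  mul_comm := by decide +kernel
  exists_pair_ne := ⟨0, 1, by decide⟩
  mul_inv_cancel := by decide +kernel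
  inv_zero := by decide +kernel
  nsmul := nsmulRec
  zsmul := zsmulRec
  npow := npowRec
  zpow := zpowRec
  nnqsmul := _
  qsmul := _

theorem card : Fintype.card F9 = 9 := by decide +kernel

/-- The cube of an element is its conjugate. -/
theorem pow_three : ∀ x : F9, x ^ 3 = ⟨x.re, nf (-x.im)⟩ := by decide +kernel

end F9

end Cfsg.Agent.Helper9
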