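import Mathlib
import Cfsg.Agent.Lib.Helper9.TC2Prim
import Cfsg.Agent.Lib.Helper9.TC2BSGS

set_option autoImplicit false

/-! Deciding equations in a presented group of known order on the base points of a stabilizer
chain, and the decomposition into double cosets of the subgroup. -/

namespace Cfsg.Agent.Helper9.TC2

open Cfsg.Spor

section Word

variable {α : Type} [DecidableEq α] {edges : List (α × ℕ × α)} {extra : List (FreeGroup α)}
  {S : Set (FreeGroup α)}

namespace CoxCert

variable (C : CoxCert edges extra S)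

/-- When the product of the sizes of the orbits is the order of the group, the pointwise
stabilizer of the base points is trivial. -/
theorem PS_base_eq_bot [Finite (PresentedGroup (relSet edges extra))] (ktot : ℕ)
    (idx par gi : ℕ → ℕ → ℕ)
    (helt : ∀ c < ktot, ∃ g : PresentedGroup (relSet edges extra),
      ∀ i < C.D.n, C.phi g i = C.D.tau c i)
    (levs : List (ℕ × List ℕ × ℕ)) (hok : C.LevsOK ktot idx par gi 0 [] levs)
    (hcard : Nat.card (PresentedGroup (relSet edges extra)) = levProd levs) :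
    C.PS (levPts levs []) = ⊥ := by
  have h1 := C.card_PS_ge ktot idx par gi helt levs 0 [] (fun b hb => absurd hb List.not_mem_nil) hok
  have h2 : Nat.card (C.PS []) = Nat.card (PresentedGroup (relSet edges extra)) := by
    have : C.PS [] = ⊤ := by
      ext g
      simp only [Subgroup.mem_top, iff_true]
      intro b hb
      exact absurd hb List.not_mem_nil
    rw [this, Subgroup.card_top]
  rw [h2, hcard] at h1
  have hpos : 0 < levProd levs := by
    rw [← hcard]
    exact Nat.card_pos
  have h3 : Nat.card (C.PS (levPts levs [])) ≤ 1 := by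
    have h4 : levProd levs * Nat.card (C.PS (levPts levs [])) ≤ levProd levs * 1 := by
      rw [mul_one]
      exact h1
    exact Nat.le_of_mul_le_mul_left h4 hpos
  have h5 : 0 < Nat.card (C.PS (levPts levs [])) := Nat.card_pos
  exact Subgroup.card_eq_one.1 (by omega)

/-- A word which fixes the base points is trivial. -/
theorem mk_eq_one_of_base (pts : List ℕ) (hPS : C.PS pts = ⊥) (hpts : ∀ b ∈ pts, b < C.D.n)
    (x : FreeGroup α) (hx : ∀ b ∈ pts, runT C.D (colWord C.cols x) b = b) :
    PresentedGroup.mk (relSet edges extra) x = 1 := by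
  have h : PresentedGroup.mk (relSet edges extra) x ∈ C.PS pts := by
    intro b hb
    rw [(C.phi_mk_apply x (hpts b hb)).1]
    exact hx b hb
  rw [hPS, Subgroup.mem_bot] at h
  exact h

/-- A word which moves a point is not trivial. -/
theorem mk_ne_one_of_moves (x : FreeGroup α) {i : ℕ} (hi : i < C.D.n)
    (hx : runT C.D (colWord C.cols x) i ≠ i) :
    PresentedGroup.mk (relSet edges extra) x ≠ 1 := by
  intro h
  have h1 := (C.phi_mk_apply x hi).1
  rw [h, map_one] at h1
  exact hx h1.symm

variable (O : OrbData)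

/-- The decomposition into double cosets of the subgroup, from the orbits. -/
theorem double_coset (ho1 : ∀ i < C.D.n, chkO1 C.D O i = true)
    (ho2 : ∀ i < C.D.n, chkO2 C.D O i = true) (L : ℕ)
    (hlab : ∀ i < C.D.n, O.lab i < L)
    (hroot : ∀ l < L, O.root l < C.D.n ∧ O.lab (O.root l) = l)
    (X : ℕ → PresentedGroup (relSet edges extra))
    (hX : ∀ l < L, O.lab (C.phi (X l) 0) = l)
    (g : PresentedGroup (relSet edges extra)) :
    ∃ l < L, ∃ h ∈ coxH edges extra S, ∃ h' ∈ coxH edges extra S, g = h * X l * h' := by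
  have hn0 : 0 < C.D.n := C.hn0
  have hi : C.phi g 0 < C.D.n := C.phi_lt g hn0
  set l := O.lab (C.phi g 0) with hl
  have hlL : l < L := hlab _ hi
  obtain ⟨hr1, hr2⟩ := hroot l hlL
  have hr3 : O.root (O.lab (O.root l)) = O.root l := by rw [hr2]
  obtain ⟨g₁, hg₁, e₁⟩ := C.reach O ho1 ho2 hr3 _ _ hi rfl (hl.symm.trans hr2.symm)
  have hi' : C.phi (X l) 0 < C.D.n := C.phi_lt (X l) hn0
  obtain ⟨g₂, hg₂, e₂⟩ := C.reach O ho1 ho2 hr3 _ _ hi' rfl ((hX l hlL).trans hr2.symm)
  have e3 : (C.phi g₂)⁻¹ (C.phi (X l) 0) = O.root l := by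
    rw [Equiv.Perm.inv_eq_iff_eq, e₂]
  have e4 : C.phi (g₁ * g₂⁻¹ * X l) 0 = C.phi g 0 := by
    rw [map_mul, map_mul, Equiv.Perm.mul_apply, Equiv.Perm.mul_apply, map_inv, e3, e₁]
  have e5 : C.phi ((g₁ * g₂⁻¹ * X l)⁻¹ * g) 0 = 0 := by
    rw [map_mul, Equiv.Perm.mul_apply, ← e4, map_inv, Equiv.Perm.inv_eq_iff_eq]
  have h6 := C.phi_zero_iff.1 e5
  refine ⟨l, hlL, g₁ * g₂⁻¹, Subgroup.mul_mem _ hg₁ (Subgroup.inv_mem _ hg₂), _, h6, ?_⟩
  group

end CoxCert

end Word

end Cfsg.Agent.Helper9.TC2
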