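import Mathlib
import Cfsg.Prelude.Def_Spor_Fi24
import Cfsg.Agent.Lib.Helper9.TC2Spor
import Cfsg.Agent.Lib.Helper9.TC2Word
import Cfsg.Agent.Lib.Helper9.TCData.P0C0.Cert
import Cfsg.Agent.Lib.Helper9.TCData.P0C1.Cert
import Cfsg.Agent.Lib.Helper9.TCData.Fi23C3.Cert
import Cfsg.Agent.Lib.Helper9.TCData.Fi23C4.Cert

set_option autoImplicit false
set_option maxRecDepth 1000000

/-! In the presented group Fi24 the relation `(d c b d e f d h i)^10 = 1` holds: the subgroup
generated by `l, k, a, b, c, d, e, f, h, i` is a quotient of a group presented by some of the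
relators, in which the relation is checked. -/

namespace Cfsg.Agent.Helper9.TC2

open Cfsg.Spor

variable {α β : Type} [DecidableEq α] [DecidableEq β]
  {edges : List (α × ℕ × α)} {extra : List (FreeGroup α)}
  {edges' : List (β × ℕ × β)} {extra' : List (FreeGroup β)}

theorem subPresHom_mk {ι : β → α} (h : SubPres edges extra edges' extra' ι) (w : FreeGroup β) :
    subPresHom h (PresentedGroup.mk (relSet edges' extra') w) =
      PresentedGroup.mk (relSet edges extra) (FreeGroup.map ι w) := by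
  have e : (subPresHom h).comp (PresentedGroup.mk (relSet edges' extra')) =
      (PresentedGroup.mk (relSet edges extra)).comp (FreeGroup.map ι) := by
    apply FreeGroup.ext_hom
    intro b
    rw [MonoidHom.comp_apply, MonoidHom.comp_apply, FreeGroup.map.of]
    exact subPresHom_of h b
  exact DFunLike.congr_fun e w

end Cfsg.Agent.Helper9.TC2

namespace Cfsg.Agent.Helper9.Fi24Spider

open Cfsg Cfsg.Agent.Helper9 Cfsg.Agent.Helper9.TC2 Cfsg.Agent.Helper9.TCData Cfsg.Spor

/-- The group presented on `l, k, a, b, c, d, e, f, h, i`. -/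
abbrev P0 : Type := PresentedGroup (relSet P0C0.edges P0C0.extra)

theorem sub1 : SubPres P0C0.edges P0C0.extra P0C1.edges P0C1.extra P0C0.iota :=
  ⟨by decide +kernel, by decide +kernel⟩

theorem sub2 : SubPres P0C1.edges P0C1.extra Fi23C3.edges Fi23C3.extra P0C1.iota :=
  ⟨by decide +kernel, by decide +kernel⟩

theorem sub3 : SubPres Fi23C3.edges Fi23C3.extra Fi23C4.edges Fi23C4.extra Fi23C3.iota :=
  ⟨by decide +kernel, by decide +kernel⟩

theorem hub : Finite P0 ∧ Nat.card P0 ≤ 9904359628800 := by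
  have h4 := Fi23C4.cert.card_eq_of_empty
  have hH3 := card_coxH_le sub3 rfl h4.1 (le_of_eq h4.2)
  have h3 := Fi23C3.cert.card_le hH3.1 hH3.2
  have hH2 := card_coxH_le sub2 rfl h3.1 h3.2
  have h2 := P0C1.cert.card_le hH2.1 hH2.2
  have hH1 := card_coxH_le sub1 rfl h2.1 h2.2
  have h1 := P0C0.cert.card_le hH1.1 hH1.2
  refine ⟨h1.1, h1.2.trans ?_⟩
  rw [P0C0.cert_n, P0C1.cert_n, Fi23C3.cert_n, Fi23C4.cert_n]

theorem hslp : ∀ j < P0C0.slp.length, ∀ c ∈ (P0C0.slp.getD j (0, [])).2, c < P0C0.tab.k + j := by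
  decide +kernel

theorem hok : P0C0.cert.LevsOK (P0C0.tab.k + P0C0.slp.length) P0C0.lidx P0C0.lpar P0C0.lgi 0 []
    P0C0.levs := by
  unfold P0C0.levs
  refine ⟨by decide, by decide +kernel, P0C0.hT0, by decide +kernel, ?_⟩
  refine ⟨by decide, by decide +kernel, P0C0.hT1, by decide +kernel, ?_⟩
  refine ⟨by decide, by decide +kernel, P0C0.hT2, by decide +kernel, ?_⟩
  refine ⟨by decide, by decide +kernel, P0C0.hT3, by decide +kernel, ?_⟩
  refine ⟨by decide, by decide +kernel, P0C0.hT4, by decide +kernel, ?_⟩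
  refine ⟨by decide, by decide +kernel, P0C0.hT5, by decide +kernel, ?_⟩
  refine ⟨by decide, by decide +kernel, P0C0.hT6, by decide +kernel, ?_⟩
  refine ⟨by decide, by decide +kernel, P0C0.hT7, by decide +kernel, ?_⟩
  refine ⟨by decide, by decide +kernel, P0C0.hT8, by decide +kernel, ?_⟩
  trivial

theorem hprod : CoxCert.levProd P0C0.levs = 9904359628800 := by decide +kernel

theorem cardP0 : Nat.card P0 = 9904359628800 := by
  have hfin : Finite (PresentedGroup (relSet P0C0.edges P0C0.extra)) := hub.1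
  have helt := P0C0.cert.exists_elt P0C0.slp hslp P0C0.hSlp
  have hge := P0C0.cert.card_ge (P0C0.tab.k + P0C0.slp.length) P0C0.lidx P0C0.lpar P0C0.lgi helt
    P0C0.levs hok
  rw [hprod] at hge
  have hkpos : 0 < Nat.card P0C0.cert.phi.ker := Nat.card_pos
  have h1 : 9904359628800 * 1 ≤ 9904359628800 * Nat.card P0C0.cert.phi.ker :=
    Nat.mul_le_mul_left _ hkpos
  rw [mul_one] at h1
  exact le_antisymm hub.2 (h1.trans hge)

/-- The base points. -/
def pts : List ℕ := CoxCert.levPts P0C0.levs []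

theorem hPS : P0C0.cert.PS pts = ⊥ := by
  have hfin : Finite (PresentedGroup (relSet P0C0.edges P0C0.extra)) := hub.1
  exact P0C0.cert.PS_base_eq_bot (P0C0.tab.k + P0C0.slp.length) P0C0.lidx P0C0.lpar
    P0C0.lgi (P0C0.cert.exists_elt P0C0.slp hslp P0C0.hSlp) P0C0.levs hok
    (cardP0.trans hprod.symm)

theorem hpts : ∀ b ∈ pts, b < P0C0.cert.D.n := by decide +kernel

/-- The word of the relation. -/
def spiderP : FreeGroup (Fin 10) :=
  (FreeGroup.of 5 * FreeGroup.of 4 * FreeGroup.of 3 * FreeGroup.of 5 * FreeGroup.of 6 *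
    FreeGroup.of 7 * FreeGroup.of 5 * FreeGroup.of 8 * FreeGroup.of 9) ^ 10

theorem spiderP_one : (PresentedGroup.mk (relSet P0C0.edges P0C0.extra) spiderP : P0) = 1 := by
  apply P0C0.cert.mk_eq_one_of_base pts hPS hpts
  decide +kernel

/-- The generators, in the presented group Fi24. -/
def iotaG : Fin 10 → Fi24.Gen := ![.l, .k, .a, .b, .c, .d, .e, .f, .h, .i]

theorem subG : SubPres Fi24.edges Fi24.extra P0C0.edges P0C0.extra iotaG :=
  ⟨by decide +kernel, by decide +kernel⟩

theorem map_spiderP : FreeGroup.map iotaG spiderP =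
    (Fi24.d * Fi24.c * Fi24.b * Fi24.d * Fi24.e * Fi24.f * Fi24.d * Fi24.h * Fi24.i) ^ 10 := by
  decide +kernel

/-- The relation holds in the presented group Fi24. -/
theorem spider_one : (PresentedGroup.mk (relSet Fi24.edges Fi24.extra)
    ((Fi24.d * Fi24.c * Fi24.b * Fi24.d * Fi24.e * Fi24.f * Fi24.d * Fi24.h * Fi24.i) ^ 10) :
      PresentedGroup (relSet Fi24.edges Fi24.extra)) = 1 := by
  have h := congrArg (subPresHom subG) spiderP_one
  rw [subPresHom_mk, map_one, map_spiderP] at h
  exact h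

end Cfsg.Agent.Helper9.Fi24Spider
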