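import Mathlib
import Cfsg.Agent.Lib.Helper9.TC2Prim

set_option autoImplicit false

/-! The action of a presented group on the points of its table as a subgroup of the symmetric
group on `Fin n`, and embeddings of simple groups. -/

namespace Cfsg.Agent.Helper9.TC2

open Cfsg.Spor

section Inj

variable {P Q : Type*} [Group P] [Group Q]

/-- A homomorphism from a simple group which does not kill some element is injective. -/
theorem injective_of_simple [IsSimpleGroup P] (f : P →* Q) (x : P) (hx : f x ≠ 1) :
    Function.Injective f := by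
  rw [← MonoidHom.ker_eq_bot_iff]
  have hn : f.ker.Normal := inferInstance
  rcases hn.eq_bot_or_eq_top with h | h
  · exact h
  · exfalso
    apply hx
    rw [← MonoidHom.mem_ker, h]
    exact Subgroup.mem_top x

/-- The range of an injective homomorphism from a simple group of known order. -/
theorem simple_card_range (f : P →* Q) (hf : Function.Injective f) (hs : IsSimpleGroup P) (N : ℕ)
    (hc : Nat.card P = N) : IsSimpleGroup f.range ∧ Nat.card f.range = N := by
  have e : P ≃* f.range := MonoidHom.ofInjective hf
  exact ⟨e.isSimpleGroup_congr.1 hs, (Nat.card_congr e.toEquiv).symm.trans hc⟩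

end Inj

section Fin

variable {α : Type} [DecidableEq α] {edges : List (α × ℕ × α)} {extra : List (FreeGroup α)}
  {S : Set (FreeGroup α)}

namespace CoxCert

variable (C : CoxCert edges extra S)

/-- The action on `Fin n`. -/
noncomputable def phiFin : PresentedGroup (relSet edges extra) →* Equiv.Perm (Fin C.D.n) where
  toFun g :=
    { toFun := fun i => ⟨C.phi g i, C.phi_lt g i.2⟩
      invFun := fun i => ⟨C.phi g⁻¹ i, C.phi_lt g⁻¹ i.2⟩
      left_inv := by
        intro i
        apply Fin.ext
        show C.phi g⁻¹ (C.phi g i) = i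
        rw [map_inv]
        exact Equiv.symm_apply_apply _ _
      right_inv := by
        intro i
        apply Fin.ext
        show C.phi g (C.phi g⁻¹ i) = i
        rw [map_inv]
        exact Equiv.apply_symm_apply _ _ }
  map_one' := by
    ext i
    show C.phi 1 i = i
    rw [map_one]
    rfl
  map_mul' := by
    intro g h
    ext i
    show C.phi (g * h) i = C.phi g (C.phi h i)
    rw [map_mul]
    rfl

theorem phiFin_apply (g : PresentedGroup (relSet edges extra)) (i : Fin C.D.n) :
    ((C.phiFin g) i : ℕ) = C.phi g i := rfl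

theorem phiFin_injective [IsSimpleGroup (PresentedGroup (relSet edges extra))] (hn : 1 < C.D.n) :
    Function.Injective C.phiFin := by
  obtain ⟨g, hg⟩ := C.exists_phi_zero_eq hn
  apply injective_of_simple C.phiFin g
  intro h
  have h1 := congrArg (fun f : Equiv.Perm (Fin C.D.n) => ((f ⟨0, C.hn0⟩ : Fin C.D.n) : ℕ)) h
  simp only [phiFin_apply, Equiv.Perm.coe_one, id_eq] at h1
  rw [hg] at h1
  exact absurd h1 (by norm_num)

theorem phiFin_transitive (i j : Fin C.D.n) :
    ∃ g : PresentedGroup (relSet edges extra), C.phiFin g i = j := by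
  obtain ⟨gi, hgi⟩ := C.exists_phi_zero_eq i.2
  obtain ⟨gj, hgj⟩ := C.exists_phi_zero_eq j.2
  refine ⟨gj * gi⁻¹, ?_⟩
  apply Fin.ext
  rw [phiFin_apply, map_mul, Equiv.Perm.mul_apply, map_inv]
  have : (C.phi gi)⁻¹ (i : ℕ) = 0 := by
    rw [Equiv.Perm.inv_eq_iff_eq, hgi]
  rw [this, hgj]

end CoxCert

end Fin

end Cfsg.Agent.Helper9.TC2
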