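import Mathlib
import Cfsg.Agent.S1690
import Cfsg.Agent.S1697
import Cfsg.Agent.Lib.Helper9.Fi24Spider
import Cfsg.Agent.Lib.Helper9.CentralTwo
import Cfsg.Agent.Lib.Helper9.TC2Word
import Cfsg.Agent.Lib.Helper9.TC2Fin

set_option autoImplicit false
set_option maxRecDepth 1000000

/-! In the presented group Fi24 the subgroup generated by all the generators but `k` is the direct
product of the group of order two generated by `l` and a copy of the presented group Fi23. -/

namespace Cfsg.Agent.Helper9.Fi24K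

open Cfsg Cfsg.Agent.Helper9 Cfsg.Agent.Helper9.TC2 Cfsg.Agent.Helper9.TCData Cfsg.Spor

/-- A homomorphism of a free group maps into a subgroup which contains the images of the
generators. -/
theorem free_mem {α H : Type*} [Group H] (f : FreeGroup α →* H) (C : Subgroup H)
    (h : ∀ x, f (FreeGroup.of x) ∈ C) (w : FreeGroup α) : f w ∈ C := by
  have h1 : (⊤ : Subgroup (FreeGroup α)) ≤ C.comap f := by
    rw [← FreeGroup.closure_range_of, Subgroup.closure_le]
    rintro _ ⟨x, rfl⟩
    exact h x
  exact h1 (Subgroup.mem_top w)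

/-- The presented group Fi24. -/
abbrev G : Type := PresentedGroup (relSet Fi24.edges Fi24.extra)

/-- The quotient map. -/
abbrev mkG : FreeGroup Fi24.Gen →* G := PresentedGroup.mk (relSet Fi24.edges Fi24.extra)

/-- The certificate of the index. -/
noncomputable abbrev C := Cfsg.Agent.S1690.cert

/-- The generators of the subgroup. -/
abbrev S : Set (FreeGroup Fi24.Gen) := {Fi24.a, Fi24.b, Fi24.c, Fi24.d, Fi24.e, Fi24.f, Fi24.g,
  Fi24.h, Fi24.i, Fi24.j, Fi24.l}

/-- The subgroup. -/
abbrev K : Subgroup G := coxH Fi24.edges Fi24.extra S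

/-- The image of `l`. -/
def z : G := mkG Fi24.l

/-- The generators of Fi23 as generators of Fi24. -/
def iota : Fi23.Gen → Fi24.Gen
  | .a => .a
  | .b => .b
  | .c => .c
  | .d => .d
  | .e => .e
  | .f => .f
  | .g => .g
  | .j => .j
  | .h => .h
  | .i => .i

theorem hnodes : ∀ x : Fi24.Gen, x ∈ coxNodes Fi24.edges := by
  intro x
  cases x <;> decide

theorem hz : z * z = 1 := of_mul_self (hnodes Fi24.Gen.l)

theorem hzi : z⁻¹ = z := inv_eq_of_mul_eq_one_right hz

theorem hlabel : ∀ x : Fi23.Gen, coxLabel Fi24.edges Fi24.Gen.l (iota x) = 2 := by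
  intro x
  cases x <;> decide

/-- The image of `l` commutes with the images of the generators of Fi23. -/
theorem z_comm (x : Fi23.Gen) : z * mkG (FreeGroup.of (iota x)) = mkG (FreeGroup.of (iota x)) * z := by
  have hmem : (FreeGroup.of Fi24.Gen.l * FreeGroup.of (iota x)) ^
      coxLabel Fi24.edges Fi24.Gen.l (iota x) ∈ relSet Fi24.edges Fi24.extra :=
    Or.inl ⟨_, hnodes _, _, hnodes _, rfl⟩
  rw [hlabel, pow_two] at hmem
  have h1 := PresentedGroup.one_of_mem hmem
  rw [map_mul, map_mul] at h1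
  have hx : mkG (FreeGroup.of (iota x)) * mkG (FreeGroup.of (iota x)) = 1 :=
    of_mul_self (hnodes (iota x))
  have h2 : z * mkG (FreeGroup.of (iota x)) * (z * mkG (FreeGroup.of (iota x))) = 1 := h1
  calc z * mkG (FreeGroup.of (iota x))
      = z * mkG (FreeGroup.of (iota x)) * (z * mkG (FreeGroup.of (iota x))) *
          (mkG (FreeGroup.of (iota x)) * z) := by
        have : z * mkG (FreeGroup.of (iota x)) * (z * mkG (FreeGroup.of (iota x))) *
            (mkG (FreeGroup.of (iota x)) * z) = z * mkG (FreeGroup.of (iota x)) * z *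
            (mkG (FreeGroup.of (iota x)) * mkG (FreeGroup.of (iota x))) * z := by group
        rw [this, hx, mul_one, mul_assoc, hz, mul_one]
    _ = mkG (FreeGroup.of (iota x)) * z := by rw [h2, one_mul]

/-- The generators mapped to Fi24. -/
noncomputable def tau : FreeGroup Fi23.Gen →* G := mkG.comp (FreeGroup.map iota)

/-- All generators mapped to `l`. -/
noncomputable def chi : FreeGroup Fi23.Gen →* G := FreeGroup.lift (fun _ => z)

/-- The generators mapped to their products with `l`. -/
noncomputable def sigma : FreeGroup Fi23.Gen →* G :=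
  FreeGroup.lift (fun x => mkG (FreeGroup.of (iota x)) * z)

theorem tau_of (x : Fi23.Gen) : tau (FreeGroup.of x) = mkG (FreeGroup.of (iota x)) := by
  rw [tau, MonoidHom.comp_apply, FreeGroup.map.of]

theorem tau_comm (w : FreeGroup Fi23.Gen) : Commute (tau w) z := by
  have h := free_mem tau (Subgroup.centralizer ({z} : Set G)) (fun x => by
    rw [tau_of, Subgroup.mem_centralizer_iff]
    intro y hy
    rw [Set.mem_singleton_iff.1 hy]
    exact z_comm x) w
  rw [Subgroup.mem_centralizer_iff] at h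
  exact (h z rfl).symm

theorem chi_mem (w : FreeGroup Fi23.Gen) : chi w ∈ Subgroup.zpowers z :=
  free_mem chi (Subgroup.zpowers z) (fun x => by
    rw [chi, FreeGroup.lift_apply_of]
    exact Subgroup.mem_zpowers z) w

theorem tau_chi_comm (m n : FreeGroup Fi23.Gen) : Commute (tau m) (chi n) := by
  obtain ⟨k, hk⟩ := Subgroup.mem_zpowers_iff.1 (chi_mem n)
  rw [← hk]
  exact (tau_comm m).zpow_right k

theorem sigma_eq (w : FreeGroup Fi23.Gen) : sigma w = tau w * chi w := by
  have e : sigma = (tau.noncommCoprod chi tau_chi_comm).comp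
      ((MonoidHom.id _).prod (MonoidHom.id _)) := by
    apply FreeGroup.ext_hom
    intro x
    rw [sigma, FreeGroup.lift_apply_of, MonoidHom.comp_apply, MonoidHom.prod_apply,
      MonoidHom.noncommCoprod_apply, MonoidHom.id_apply, tau_of, chi, FreeGroup.lift_apply_of]
  rw [e, MonoidHom.comp_apply, MonoidHom.prod_apply, MonoidHom.noncommCoprod_apply]
  rfl

theorem subK : SubPres Fi24.edges Fi24.extra Fi23.edges [] iota :=
  ⟨by decide +kernel, by intro r hr; exact absurd hr List.not_mem_nil⟩

theorem chi_of (x : Fi23.Gen) : chi (FreeGroup.of x) = z := by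
  rw [chi, FreeGroup.lift_apply_of]

theorem z7 : z * z * z * z * z * z * z = z := by
  simp only [hz, one_mul]

theorem z9 : z * z * z * z * z * z * z * z * z = z := by
  simp only [hz, one_mul]

theorem map_spider : FreeGroup.map iota
    ((Fi23.d * Fi23.c * Fi23.b * Fi23.d * Fi23.e * Fi23.f * Fi23.d * Fi23.h * Fi23.i) ^ 10) =
    (Fi24.d * Fi24.c * Fi24.b * Fi24.d * Fi24.e * Fi24.f * Fi24.d * Fi24.h * Fi24.i) ^ 10 := by
  decide +kernel

theorem map_e7 : FreeGroup.map iota
    ((Fi23.a * Fi23.b * Fi23.c * Fi23.d * Fi23.e * Fi23.f * Fi23.h) ^ 9) =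
    (Fi24.a * Fi24.b * Fi24.c * Fi24.d * Fi24.e * Fi24.f * Fi24.h) ^ 9 := by
  decide +kernel

theorem e7_eq : mkG ((Fi24.a * Fi24.b * Fi24.c * Fi24.d * Fi24.e * Fi24.f * Fi24.h) ^ 9) = z := by
  have hmem : Fi24.l * (((Fi24.a * Fi24.b * Fi24.c * Fi24.d * Fi24.e * Fi24.f * Fi24.h) ^ 9)⁻¹) ∈
      relSet Fi24.edges Fi24.extra := Or.inr (by
    show _ ∈ Fi24.extra
    unfold Fi24.extra
    exact List.mem_cons_self)
  have h1 := PresentedGroup.one_of_mem hmem
  rw [map_mul, map_inv, mul_inv_eq_one] at h1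
  exact h1.symm

/-- The relators of Fi23 hold. -/
theorem rels_fi23 : ∀ r ∈ relSet Fi23.edges Fi23.extra,
    FreeGroup.lift (fun x => mkG (FreeGroup.of (iota x)) * z) r = 1 := by
  intro r hr
  show sigma r = 1
  rw [sigma_eq]
  rcases hr with hr | hr
  · have h1 : FreeGroup.map iota r ∈ relSet Fi24.edges Fi24.extra := subK.map_mem r (Or.inl hr)
    have h2 : tau r = 1 := PresentedGroup.one_of_mem h1
    obtain ⟨x, hx, y, hy, rfl⟩ := hr
    rw [h2, one_mul, map_pow, map_mul, chi_of, chi_of, hz, one_pow]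
  · have hr' : r ∈ Fi23.extra := hr
    unfold Fi23.extra at hr'
    rcases List.mem_cons.1 hr' with rfl | hr'
    · have h2 : tau ((Fi23.d * Fi23.c * Fi23.b * Fi23.d * Fi23.e * Fi23.f * Fi23.d * Fi23.h *
          Fi23.i) ^ 10) = 1 := by
        rw [tau, MonoidHom.comp_apply, map_spider]
        exact Fi24Spider.spider_one
      rw [h2, one_mul, map_pow]
      simp only [map_mul, chi_of]
      rw [z9, show (10 : ℕ) = 2 * 5 from rfl, pow_mul, pow_two, hz, one_pow]
    · rcases List.mem_cons.1 hr' with rfl | hr'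
      · have h2 : tau ((Fi23.a * Fi23.b * Fi23.c * Fi23.d * Fi23.e * Fi23.f * Fi23.h) ^ 9) = z := by
          rw [tau, MonoidHom.comp_apply, map_e7]
          exact e7_eq
        rw [h2, map_pow]
        simp only [map_mul, chi_of]
        rw [z7, show (9 : ℕ) = 2 * 4 + 1 from rfl, pow_succ, pow_mul, pow_two, hz, one_pow, one_mul, hz]
      · exact absurd hr' List.not_mem_nil

/-- The homomorphism from the presented group Fi23. -/
noncomputable def psi : Fi23 →* G := PresentedGroup.toGroup rels_fi23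

theorem psi_of (x : Fi23.Gen) : psi (PresentedGroup.of x) = mkG (FreeGroup.of (iota x)) * z :=
  PresentedGroup.toGroup.of rels_fi23

theorem hpt : (1 : ℕ) < C.D.n := by decide

theorem z_ne_one : z ≠ 1 := by
  apply C.mk_ne_one_of_moves Fi24.l hpt
  decide +kernel

theorem al_ne_one : mkG (FreeGroup.of (iota Fi23.Gen.a)) * z ≠ 1 := by
  have h : mkG (FreeGroup.of (iota Fi23.Gen.a)) * z = mkG (Fi24.a * Fi24.l) := by
    rw [map_mul]
    rfl
  rw [h]
  apply C.mk_ne_one_of_moves (Fi24.a * Fi24.l) hpt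
  decide +kernel

theorem psi_inj : Function.Injective psi := by
  have := Cfsg.Agent.S1697.result.1
  exact injective_of_simple psi (PresentedGroup.of Fi23.Gen.a) (by
    rw [psi_of]
    exact al_ne_one)

/-- The copy of Fi23. -/
noncomputable def F : Subgroup G := psi.range

theorem cardF : Nat.card F = 4089470473293004800 := by
  rw [← Cfsg.Agent.S1697.result.2]
  exact (Nat.card_congr (MonoidHom.ofInjective psi_inj).toEquiv).symm

instance simpleF : IsSimpleGroup F := by
  have := Cfsg.Agent.S1697.result.1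
  exact (MonoidHom.ofInjective psi_inj).symm.isSimpleGroup

theorem psi_mk (w : FreeGroup Fi23.Gen) :
    psi (PresentedGroup.mk (relSet Fi23.edges Fi23.extra) w) = sigma w := rfl

theorem hc : ∀ f ∈ F, z * f = f * z := by
  rintro _ ⟨y, rfl⟩
  obtain ⟨w, rfl⟩ := PresentedGroup.mk_surjective _ y
  rw [psi_mk, sigma_eq]
  obtain ⟨k, hk⟩ := Subgroup.mem_zpowers_iff.1 (chi_mem w)
  have h1 : Commute z (chi w) := by
    rw [← hk]
    exact (Commute.refl z).zpow_right k
  have h2 : Commute z (tau w) := (tau_comm w).symm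
  exact (h2.mul_right h1).eq

/-- Two elements of the copy of Fi23 which do not commute. -/
theorem not_comm : psi (PresentedGroup.of Fi23.Gen.a) * psi (PresentedGroup.of Fi23.Gen.b) ≠
    psi (PresentedGroup.of Fi23.Gen.b) * psi (PresentedGroup.of Fi23.Gen.a) := by
  rw [psi_of, psi_of]
  intro h
  have h1 : mkG ((Fi24.a * Fi24.l * Fi24.b * Fi24.l) * (Fi24.b * Fi24.l * Fi24.a * Fi24.l)⁻¹) = 1 := by
    rw [map_mul, map_inv, mul_inv_eq_one]
    simp only [map_mul]
    simp only [mul_assoc] at h ⊢
    exact h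
  revert h1
  apply C.mk_ne_one_of_moves _ hpt
  decide +kernel

theorem z_not_mem : z ∉ F := by
  intro hzF
  have hcen : (⟨z, hzF⟩ : F) ∈ Subgroup.center F := by
    rw [Subgroup.mem_center_iff]
    intro y
    apply Subtype.ext
    exact (hc y y.2).symm
  rcases (inferInstance : (Subgroup.center F).Normal).eq_bot_or_eq_top with hcb | hct
  · rw [hcb, Subgroup.mem_bot] at hcen
    exact z_ne_one (congrArg Subtype.val hcen)
  · have h8 : (⟨psi (PresentedGroup.of Fi23.Gen.a), ⟨_, rfl⟩⟩ : F) ∈ Subgroup.center F := by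
      rw [hct]
      exact Subgroup.mem_top _
    rw [Subgroup.mem_center_iff] at h8
    have h9 := congrArg Subtype.val (h8 ⟨psi (PresentedGroup.of Fi23.Gen.b), ⟨_, rfl⟩⟩)
    exact not_comm h9.symm

/-- The subgroup `F ∪ F l`. -/
noncomputable def T : Subgroup G := CentralTwo.ext F z hz hc

theorem gen_mem_T (x : Fi23.Gen) : mkG (FreeGroup.of (iota x)) ∈ T :=
  Or.inr ⟨PresentedGroup.of x, psi_of x⟩

theorem K_le_T : K ≤ T := by
  show (Subgroup.closure S).map mkG ≤ T
  rw [Subgroup.map_le_iff_le_comap, Subgroup.closure_le]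
  rintro s (rfl | rfl | rfl | rfl | rfl | rfl | rfl | rfl | rfl | rfl | rfl)
  · exact gen_mem_T .a
  · exact gen_mem_T .b
  · exact gen_mem_T .c
  · exact gen_mem_T .d
  · exact gen_mem_T .e
  · exact gen_mem_T .f
  · exact gen_mem_T .g
  · exact gen_mem_T .h
  · exact gen_mem_T .i
  · exact gen_mem_T .j
  · exact CentralTwo.z_mem_ext F z hz hc

theorem mk_mem_K {s : FreeGroup Fi24.Gen} (hs : s ∈ S) : mkG s ∈ K :=
  Subgroup.mem_map_of_mem _ (Subgroup.subset_closure hs)

theorem z_mem_K : z ∈ K := mk_mem_K (by simp [S])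

theorem gen_mem_K (x : Fi23.Gen) : mkG (FreeGroup.of (iota x)) ∈ K := by
  cases x <;> exact mk_mem_K (by simp [S, iota])

theorem F_le_K : F ≤ K := by
  rintro _ ⟨y, rfl⟩
  obtain ⟨w, rfl⟩ := PresentedGroup.mk_surjective _ y
  rw [psi_mk]
  exact free_mem sigma K (fun x => by
    rw [sigma, FreeGroup.lift_apply_of]
    exact K.mul_mem (gen_mem_K x) z_mem_K) w

theorem T_le_K : T ≤ K := by
  rintro b (hb | hb)
  · exact F_le_K hb
  · have h1 := K.mul_mem (F_le_K hb) z_mem_K
    rwa [mul_assoc, hz, mul_one] at h1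

theorem K_eq_T : K = T := le_antisymm K_le_T T_le_K

theorem cardK : Nat.card K = 2 * 4089470473293004800 := by
  rw [K_eq_T, T, CentralTwo.card_ext F z hz hc z_not_mem, cardF, mul_comm]

theorem finK : Finite K := Nat.finite_of_card_ne_zero (by rw [cardK]; norm_num)

theorem finG : Finite G := (C.card_le finK (le_of_eq cardK)).1

theorem cardG : Nat.card G = 2 * 1255205709190661721292800 := by
  have h1 : K.index = 306936 := C.index_eq
  have h2 := Subgroup.card_mul_index K
  rw [h1, cardK] at h2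
  rw [← h2]

/-- The subgroup has no nontrivial normal subgroup of the whole group. -/
theorem hcore : ∀ N : Subgroup G, N.Normal → N ≤ K → N = ⊥ := by
  intro N hN hNK
  by_contra hne
  have hNT : N ≤ T := hNK.trans K_le_T
  rcases CentralTwo.mem_or_le_of_normal F z hz hc _ _ ⟨PresentedGroup.of Fi23.Gen.a, rfl⟩
    ⟨PresentedGroup.of Fi23.Gen.b, rfl⟩ not_comm N hNT (fun n hn t _ => hN.conj_mem n hn t) hne
    with h | h
  · have h1 := C.phi_eq_one_of_normal_le N hN hNK h
    have h2 := (C.phi_mk_apply Fi24.l hpt).1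
    have h3 : C.phi (mkG Fi24.l) = 1 := h1
    rw [h3] at h2
    revert h2
    decide +kernel
  · have h0 : psi (PresentedGroup.of Fi23.Gen.a) ∈ N := h ⟨_, rfl⟩
    have h1 := C.phi_eq_one_of_normal_le N hN hNK h0
    have e : psi (PresentedGroup.of Fi23.Gen.a) = mkG (Fi24.a * Fi24.l) := by
      rw [psi_of, map_mul]
      rfl
    rw [e] at h1
    have h2 := (C.phi_mk_apply (Fi24.a * Fi24.l) hpt).1
    rw [h1] at h2
    revert h2
    decide +kernel

end Cfsg.Agent.Helper9.Fi24K
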