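import Mathlib
import Cfsg.Agent.Lib.Helper9.TC2Cox

set_option autoImplicit false

/-! The subgroup generated by one generator of a presented group, and homomorphisms to groups of
exponent two. -/

namespace Cfsg.Agent.Helper9.TC2

open Cfsg.Spor

section Cyc

variable {α : Type} [DecidableEq α] {edges : List (α × ℕ × α)} {extra : List (FreeGroup α)}

/-- The subgroup generated by an element with a power among the relators. -/
theorem card_coxH_single_le (x : FreeGroup α) (k : ℕ) (hk : 0 < k)
    (hx : x ^ k ∈ relSet edges extra) :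
    Finite (coxH edges extra {s | s ∈ [x]}) ∧ Nat.card (coxH edges extra {s | s ∈ [x]}) ≤ k := by
  have hS : ({s | s ∈ [x]} : Set (FreeGroup α)) = {x} := by
    ext s
    simp
  have hH : coxH edges extra {s | s ∈ [x]} =
      Subgroup.zpowers (PresentedGroup.mk (relSet edges extra) x) := by
    unfold coxH
    rw [hS, ← Subgroup.zpowers_eq_closure, MonoidHom.map_zpowers]
  have hpow : (PresentedGroup.mk (relSet edges extra) x) ^ k = 1 := by
    rw [← map_pow]
    exact PresentedGroup.one_of_mem hx
  have hfo : IsOfFinOrder (PresentedGroup.mk (relSet edges extra) x) :=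
    isOfFinOrder_iff_pow_eq_one.2 ⟨k, hk, hpow⟩
  rw [hH]
  refine ⟨hfo.finite_zpowers.to_subtype, ?_⟩
  rw [Nat.card_zpowers]
  exact orderOf_le_of_pow_eq_one hk hpow

/-- With no subgroup generators (as a list), the index is the order. -/
theorem CoxCert.card_eq_of_nil {S : Set (FreeGroup α)} (C : CoxCert edges extra S)
    (hS : ∀ s, s ∉ S) :
    Finite (PresentedGroup (relSet edges extra)) ∧
      Nat.card (PresentedGroup (relSet edges extra)) = C.D.n := by
  have hS' : S = ∅ := Set.eq_empty_iff_forall_notMem.2 hS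
  have hH : coxH edges extra S = ⊥ := by
    unfold coxH
    rw [hS', Subgroup.closure_empty, Subgroup.map_bot]
  have hidx : (coxH edges extra S).index = C.D.n := C.index_eq
  rw [hH, Subgroup.index_bot] at hidx
  refine ⟨?_, hidx⟩
  apply Nat.finite_of_card_ne_zero
  rw [hidx]
  exact Nat.pos_iff_ne_zero.1 C.hn0

end Cyc

section Exp2

variable {Q : Type*} [Group Q]

theorem comm_of_sq (hQ : ∀ q : Q, q ^ 2 = 1) (a b : Q) : a * b = b * a := by
  have ha : a⁻¹ = a := by
    rw [inv_eq_iff_mul_eq_one, ← pow_two]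
    exact hQ a
  have hb : b⁻¹ = b := by
    rw [inv_eq_iff_mul_eq_one, ← pow_two]
    exact hQ b
  have hab : (a * b)⁻¹ = a * b := by
    rw [inv_eq_iff_mul_eq_one, ← pow_two]
    exact hQ (a * b)
  rw [← hab, mul_inv_rev, ha, hb]

/-- In a group of exponent two, the image of a word on two generators. -/
theorem exp2_word2 (hQ : ∀ q : Q, q ^ 2 = 1) (ψ : FreeGroup (Fin 2) →* Q)
    (L : List (Fin 2 × Bool)) :
    ψ (FreeGroup.mk L) = ψ (FreeGroup.of 0) ^ (L.countP (fun p => p.1 = 0)) *
      ψ (FreeGroup.of 1) ^ (L.countP (fun p => p.1 = 1)) := by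
  have hinv : ∀ q : Q, q⁻¹ = q := by
    intro q
    rw [inv_eq_iff_mul_eq_one, ← pow_two]
    exact hQ q
  induction L with
  | nil =>
    rw [← FreeGroup.one_eq_mk, map_one]
    simp
  | cons p L ih =>
    have h1 : FreeGroup.mk (p :: L) = FreeGroup.mk [p] * FreeGroup.mk L := by
      rw [FreeGroup.mul_mk]; rfl
    rw [h1, map_mul, ih]
    obtain ⟨i, b⟩ := p
    have h2 : ψ (FreeGroup.mk [(i, b)]) = ψ (FreeGroup.of i) := by
      cases b
      · have : (FreeGroup.mk [(i, false)] : FreeGroup (Fin 2)) = (FreeGroup.of i)⁻¹ := rfl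
        rw [this, map_inv, hinv]
      · rfl
    rw [h2]
    fin_cases i
    · simp only [List.countP_cons]
      simp only [Fin.zero_eta, decide_true, if_true, Fin.isValue, zero_ne_one, decide_false,
        Bool.false_eq_true, if_false, add_zero, pow_succ]
      rw [← mul_assoc, comm_of_sq hQ (ψ (FreeGroup.of 0)) (ψ (FreeGroup.of 0) ^ _)]
    · simp only [List.countP_cons]
      simp only [Fin.mk_one, Fin.isValue, one_ne_zero, decide_false, Bool.false_eq_true, if_false,
        add_zero, decide_true, if_true, pow_succ]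
      rw [← mul_assoc, comm_of_sq hQ (ψ (FreeGroup.of 1)) (ψ (FreeGroup.of 0) ^ _), mul_assoc,
        comm_of_sq hQ (ψ (FreeGroup.of 1)) (ψ (FreeGroup.of 1) ^ _)]

end Exp2

end Cfsg.Agent.Helper9.TC2
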