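import Mathlib
import Cfsg.Agent.Lib.Helper9.TC2Pack

set_option autoImplicit false

/-! Labelled coset tables.  A group `P` with central elements `zc i`, a subgroup `H`, points
`sg x` of `P ⧸ H` for the nodes `x < n` of a table, and for every entry `c, x` a label, an integer
vector `l`, with the claim `e c • sg x = zeta l • sg (tau c x)`.  Every claim has a certificate
using claims of smaller stamps only, or is a definition, or holds by the choice of a central
element (free entries).  Tracing a relator of known central value around a closed path of the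
table gives a central element in `H`. -/

namespace Cfsg.Agent.Helper9.LTC

open Cfsg.Agent.Helper9.TC2
open scoped IsMulCommutative

/-! ### Integer vectors as lists -/

/-- Sum of two vectors. -/
def vadd : List ℤ → List ℤ → List ℤ
  | [], b => b
  | x :: a, [] => x :: a
  | x :: a, y :: b => Int.add x y :: vadd a b

/-- The opposite vector. -/
def vneg : List ℤ → List ℤ
  | [] => []
  | x :: a => Int.neg x :: vneg a

/-- Difference of two vectors. -/
def vsub (a b : List ℤ) : List ℤ := vadd a (vneg b)

/-- A multiple of a vector. -/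
def vsmul (k : ℤ) : List ℤ → List ℤ
  | [] => []
  | x :: a => Int.mul k x :: vsmul k a

/-- The vector is zero. -/
def isZeroV : List ℤ → Bool
  | [] => true
  | x :: a => decide (x = 0) && isZeroV a

/-- Equality of vectors up to zeros at the end. -/
def veq : List ℤ → List ℤ → Bool
  | [], b => isZeroV b
  | x :: a, [] => isZeroV (x :: a)
  | x :: a, y :: b => decide (x = y) && veq a b

/-- The unit vector. -/
def unitV : ℕ → List ℤ
  | 0 => [1]
  | j + 1 => 0 :: unitV j

/-- The coordinates of a vector. -/
def vec (l : List ℤ) : ℕ → ℤ := fun i => l.getD i 0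

theorem vec_nil : vec [] = 0 := by
  funext i
  simp [vec]

theorem vec_cons_zero (x : ℤ) (a : List ℤ) : vec (x :: a) 0 = x := rfl

theorem vec_cons_succ (x : ℤ) (a : List ℤ) (i : ℕ) : vec (x :: a) (i + 1) = vec a i := rfl

theorem vec_vadd (a b : List ℤ) : vec (vadd a b) = vec a + vec b := by
  induction a generalizing b with
  | nil =>
    rw [vec_nil, zero_add]
    rfl
  | cons x a ih =>
    cases b with
    | nil =>
      rw [vec_nil, add_zero]
      rfl
    | cons y b =>
      funext i
      cases i with
      | zero => rfl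
      | succ i =>
        show vec (vadd a b) i = vec a i + vec b i
        rw [ih b]
        rfl

theorem vec_vneg (a : List ℤ) : vec (vneg a) = - vec a := by
  induction a with
  | nil =>
    rw [vec_nil, neg_zero]
    rfl
  | cons x a ih =>
    funext i
    cases i with
    | zero => rfl
    | succ i =>
      show vec (vneg a) i = - vec a i
      rw [ih]
      rfl

theorem vec_vsub (a b : List ℤ) : vec (vsub a b) = vec a - vec b := by
  unfold vsub
  rw [vec_vadd, vec_vneg, sub_eq_add_neg]

theorem vec_vsmul (k : ℤ) (a : List ℤ) : vec (vsmul k a) = k • vec a := by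
  induction a with
  | nil =>
    rw [vec_nil, smul_zero]
    rfl
  | cons x a ih =>
    funext i
    cases i with
    | zero => rfl
    | succ i =>
      show vec (vsmul k a) i = (k • vec (x :: a)) (i + 1)
      rw [ih]
      rfl

theorem vec_isZeroV {a : List ℤ} (h : isZeroV a = true) : vec a = 0 := by
  induction a with
  | nil => exact vec_nil
  | cons x a ih =>
    unfold isZeroV at h
    rw [Bool.and_eq_true, decide_eq_true_iff] at h
    funext i
    cases i with
    | zero => exact h.1
    | succ i =>
      show vec a i = 0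
      rw [ih h.2]
      rfl

theorem vec_veq {a b : List ℤ} (h : veq a b = true) : vec a = vec b := by
  induction a generalizing b with
  | nil =>
    rw [vec_nil]
    exact (vec_isZeroV h).symm
  | cons x a ih =>
    cases b with
    | nil =>
      rw [vec_nil]
      exact vec_isZeroV h
    | cons y b =>
      unfold veq at h
      rw [Bool.and_eq_true, decide_eq_true_iff] at h
      funext i
      cases i with
      | zero => exact h.1
      | succ i =>
        show vec a i = vec b i
        rw [ih h.2]

theorem vec_unitV (j : ℕ) : vec (unitV j) = Pi.single j 1 := by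
  induction j with
  | zero =>
    funext i
    cases i with
    | zero => rfl
    | succ i =>
      show vec [] i = _
      rw [vec_nil]
      simp
  | succ j ih =>
    funext i
    cases i with
    | zero =>
      show (0 : ℤ) = _
      simp
    | succ i =>
      show vec (unitV j) i = _
      rw [ih]
      by_cases h : i = j
      · subst h
        simp
      · rw [Pi.single_eq_of_ne h, Pi.single_eq_of_ne (by omega)]

/-- An integer combination of vectors. -/
def vcomb : List ℤ → List (List ℤ) → List ℤ
  | [], _ => []
  | _ :: _, [] => []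
  | c :: cs, v :: vs => vadd (vsmul c v) (vcomb cs vs)

/-- A binary search tree of vectors. -/
inductive ZT where
  | leaf (v : List ℤ)
  | node (p : ℕ) (l r : ZT)

/-- The vector of key `j`. -/
noncomputable def ZT.get (t : ZT) : ℕ → List ℤ :=
  ZT.rec (motive := fun _ => ℕ → List ℤ) (fun v _ => v)
    (fun p _ _ ihl ihr j => Bool.rec (motive := fun _ => List ℤ) (ihl j) (ihr j) (Nat.ble p j)) t

/-- The vector of key `j`, with `j` evaluated first. -/
noncomputable def ZT.getF (t : ZT) (j : ℕ) : List ℤ := seqN j (fun key => t.get key)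

/-! ### Central elements -/

section Central

variable {P : Type*} [Group P]

/-- The product of powers of the central elements. -/
noncomputable def zeta (zc : ℕ → Subgroup.center P) (d : ℕ) (f : ℕ → ℤ) : Subgroup.center P :=
  ∏ i ∈ Finset.range d, zc i ^ f i

variable (zc : ℕ → Subgroup.center P) (d : ℕ)

theorem zeta_zero : zeta zc d 0 = 1 := by
  unfold zeta
  simp

theorem zeta_add (f g : ℕ → ℤ) : zeta zc d (f + g) = zeta zc d f * zeta zc d g := by
  unfold zeta
  rw [← Finset.prod_mul_distrib]
  refine Finset.prod_congr rfl (fun i _ => ?_)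
  rw [Pi.add_apply, zpow_add]

theorem zeta_neg (f : ℕ → ℤ) : zeta zc d (-f) = (zeta zc d f)⁻¹ := by
  unfold zeta
  rw [← Finset.prod_inv_distrib]
  refine Finset.prod_congr rfl (fun i _ => ?_)
  rw [Pi.neg_apply, zpow_neg]

theorem zeta_sub (f g : ℕ → ℤ) : zeta zc d (f - g) = zeta zc d f * (zeta zc d g)⁻¹ := by
  rw [sub_eq_add_neg, zeta_add, zeta_neg]

theorem zeta_smul (k : ℤ) (f : ℕ → ℤ) : zeta zc d (k • f) = zeta zc d f ^ k := by
  unfold zeta
  rw [← Finset.prod_zpow]
  refine Finset.prod_congr rfl (fun i _ => ?_)
  rw [Pi.smul_apply, smul_eq_mul, mul_comm, zpow_mul]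

theorem zeta_single {j : ℕ} (hj : j < d) : zeta zc d (Pi.single j 1) = zc j := by
  unfold zeta
  rw [Finset.prod_eq_single j]
  · rw [Pi.single_eq_same, zpow_one]
  · intro i _ hij
    rw [Pi.single_eq_of_ne hij, zpow_zero]
  · intro h
    exact absurd (Finset.mem_range.2 hj) h

/-- The vectors `l` with `zeta l = 1` are closed under integer combinations. -/
theorem zeta_vcomb (cs : List ℤ) (vs : List (List ℤ))
    (h : ∀ v ∈ vs, zeta zc d (vec v) = 1) : zeta zc d (vec (vcomb cs vs)) = 1 := by
  induction cs generalizing vs with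
  | nil =>
    unfold vcomb
    rw [vec_nil, zeta_zero]
  | cons c cs ih =>
    cases vs with
    | nil =>
      unfold vcomb
      rw [vec_nil, zeta_zero]
    | cons v vs =>
      unfold vcomb
      rw [vec_vadd, zeta_add, vec_vsmul, zeta_smul, h v (List.mem_cons_self),
        ih vs (fun w hw => h w (List.mem_cons_of_mem _ hw)), one_zpow, one_mul]

theorem smul_comm_center (H : Subgroup P) (z : Subgroup.center P) (g : P) (y : P ⧸ H) :
    g • ((z : P) • y) = (z : P) • (g • y) := by
  rw [← mul_smul, ← mul_smul]
  congr 1
  exact (Subgroup.mem_center_iff.1 z.2 g)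

/-- A central element fixing a point of `P ⧸ H` lies in `H`. -/
theorem mem_of_central_fix (H : Subgroup P) (z : Subgroup.center P) (y : P ⧸ H)
    (h : (z : P) • y = y) : (z : P) ∈ H := by
  obtain ⟨g, rfl⟩ := QuotientGroup.mk_surjective y
  rw [MulAction.Quotient.smul_mk, smul_eq_mul] at h
  have h2 := QuotientGroup.eq.1 h
  have h3 : ((z : P) * g)⁻¹ * g = (z : P)⁻¹ := by
    rw [← Subgroup.mem_center_iff.1 z.2 g]
    group
  rw [h3] at h2
  exact (Subgroup.inv_mem_iff H).1 h2

end Central

/-! ### The table -/

/-- A labelled coset table with certificates. -/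
structure LTab where
  k : ℕ
  n : ℕ
  d : ℕ
  m : ℕ
  Tmax : ℕ
  inv : ℕ → ℕ
  tau : ℕ → ℕ → ℕ
  stp : ℕ → ℕ → ℕ
  cer : ℕ → ℕ → ℕ
  lab : ℕ → ℕ → List ℤ
  pn : ℕ → ℕ
  pc : ℕ → ℕ
  rk : ℕ → ℕ
  nrot : ℕ
  rotH : ℕ → ℕ
  rotB : ℕ → List ℕ
  rotA : ℕ → List ℤ
  hcols : List ℕ
  freeC : ℕ → ℕ
  freeX : ℕ → ℕ

/-- Walk along a list of columns, the head first, through entries of stamps below `T`, adding
the labels. -/
noncomputable def walk (D : LTab) (T : ℕ) : List ℕ → ℕ → List ℤ → Option (ℕ × List ℤ)
  | [], x, acc => some (x, acc)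
  | c :: w, x, acc =>
    seqN (D.stp c x) (fun s =>
      bif Nat.blt c D.k && inRange s T then
        seqN (D.tau c x) (fun x' =>
          bif Nat.blt x' D.n then walk D T w x' (vadd acc (D.lab c x)) else none)
      else none)

theorem walk_nil (D : LTab) (T x : ℕ) (acc : List ℤ) : walk D T [] x acc = some (x, acc) := rfl

theorem walk_cons (D : LTab) (T c : ℕ) (w : List ℕ) (x : ℕ) (acc : List ℤ) :
    walk D T (c :: w) x acc =
      bif Nat.blt c D.k && inRange (D.stp c x) T then
        (bif Nat.blt (D.tau c x) D.n then walk D T w (D.tau c x) (vadd acc (D.lab c x)) else none)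
      else none := by
  show seqN _ _ = _
  rw [seqN_eq]
  congr 1
  rw [seqN_eq]

/-- The check of the entry of column `c` at node `x`. -/
noncomputable def chkEnt (D : LTab) (c x : ℕ) : Bool :=
  seqN (D.stp c x) (fun T => seqN (D.tau c x) (fun t => seqN (D.cer c x) (fun q =>
    seqN (Nat.land q 7) (fun ty => seqN (Nat.shiftRight q 3) (fun A =>
      Nat.ble 1 T && Nat.blt t D.n &&
      (bif Nat.beq ty 0 then
        Nat.beq (D.pn t) x && Nat.beq (D.pc t) c && Nat.blt (D.rk x) (D.rk t) && isZeroV (D.lab c x)
      else bif Nat.beq ty 1 then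
        Nat.blt A D.nrot && Nat.beq (D.rotH A) c &&
          (match walk D T (D.rotB A) t [] with
            | some (x', β) => Nat.beq x' x && decide (D.lab c x = vsub (D.rotA A) β)
            | none => false)
      else bif Nat.beq ty 2 then
        Nat.blt (D.inv c) D.k && inRange (D.stp (D.inv c) t) T && Nat.beq (D.tau (D.inv c) t) x &&
          decide (D.lab c x = vneg (D.lab (D.inv c) t))
      else bif Nat.beq ty 3 then
        Nat.beq x 0 && Nat.beq t 0 && isZeroV (D.lab c x) && D.hcols.contains c
      else bif Nat.beq ty 4 then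
        Nat.beq (D.freeC A) c && Nat.beq (D.freeX A) x && Nat.blt (D.m + A) D.d &&
          decide (D.lab c x = unitV (D.m + A))
      else false))))))

theorem chkEnt_eq (D : LTab) (c x : ℕ) :
    chkEnt D c x =
      (Nat.ble 1 (D.stp c x) && Nat.blt (D.tau c x) D.n &&
      (bif Nat.beq (Nat.land (D.cer c x) 7) 0 then
        Nat.beq (D.pn (D.tau c x)) x && Nat.beq (D.pc (D.tau c x)) c &&
          Nat.blt (D.rk x) (D.rk (D.tau c x)) &&
          isZeroV (D.lab c x)
      else bif Nat.beq (Nat.land (D.cer c x) 7) 1 then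
        Nat.blt (Nat.shiftRight (D.cer c x) 3) D.nrot &&
          Nat.beq (D.rotH (Nat.shiftRight (D.cer c x) 3)) c &&
          (match walk D (D.stp c x) (D.rotB (Nat.shiftRight (D.cer c x) 3)) (D.tau c x) [] with
            | some (x', β) => Nat.beq x' x &&
                decide (D.lab c x = vsub (D.rotA (Nat.shiftRight (D.cer c x) 3)) β)
            | none => false)
      else bif Nat.beq (Nat.land (D.cer c x) 7) 2 then
        Nat.blt (D.inv c) D.k && inRange (D.stp (D.inv c) (D.tau c x)) (D.stp c x) &&
          Nat.beq (D.tau (D.inv c) (D.tau c x)) x &&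
          decide (D.lab c x = vneg (D.lab (D.inv c) (D.tau c x)))
      else bif Nat.beq (Nat.land (D.cer c x) 7) 3 then
        Nat.beq x 0 && Nat.beq (D.tau c x) 0 && isZeroV (D.lab c x) && D.hcols.contains c
      else bif Nat.beq (Nat.land (D.cer c x) 7) 4 then
        Nat.beq (D.freeC (Nat.shiftRight (D.cer c x) 3)) c &&
          Nat.beq (D.freeX (Nat.shiftRight (D.cer c x) 3)) x &&
          Nat.blt (D.m + Nat.shiftRight (D.cer c x) 3) D.d &&
          decide (D.lab c x = unitV (D.m + Nat.shiftRight (D.cer c x) 3))
      else false)) := by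
  unfold chkEnt
  simp only [seqN_eq]

/-- The relation read off a closed path: the rotated relator `i` traced from the node `s`. -/
noncomputable def relVec (D : LTab) (i s : ℕ) : Option (List ℤ) :=
  match walk D (D.Tmax + 1) (D.rotB i ++ [D.rotH i]) s [] with
    | some (s', β) => bif Nat.beq s' s && Nat.blt i D.nrot then some (vsub (D.rotA i) β) else none
    | none => none

/-! ### Soundness -/

section Sound

variable {P : Type*} [Group P]

/-- The product of a list of columns, the head acting first. -/
def wprod (e : ℕ → P) : List ℕ → P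
  | [] => 1
  | c :: w => wprod e w * e c

theorem wprod_append (e : ℕ → P) (a b : List ℕ) : wprod e (a ++ b) = wprod e b * wprod e a := by
  induction a with
  | nil => simp [wprod]
  | cons c a ih =>
    show wprod e (a ++ b) * e c = wprod e b * (wprod e a * e c)
    rw [ih, mul_assoc]

theorem wprod_eq_prod (e : ℕ → P) (w : List ℕ) : wprod e w = (w.reverse.map e).prod := by
  induction w with
  | nil => rfl
  | cons c w ih =>
    show wprod e w * e c = _
    rw [ih, List.reverse_cons, List.map_append, List.prod_append]
    simp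

/-! ### The rotated relators -/

/-- The rotated relators are rotations of the labelled relators. -/
def chkRotSrc (D : LTab) (rws : List (List ℕ)) (rls : List (List ℤ)) (src : List (ℕ × ℕ)) : Bool :=
  (List.range D.nrot).all (fun i =>
    decide ((D.rotH i :: (D.rotB i).reverse) =
      (rws.getD (src.getD i (0, 0)).1 []).rotate (src.getD i (0, 0)).2) &&
    decide (D.rotA i = rls.getD (src.getD i (0, 0)).1 []))

theorem prod_rotate_of_central {P : Type*} [Group P] (l : List P) (m : ℕ)
    (h : l.prod ∈ Subgroup.center P) : (l.rotate m).prod = l.prod := by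
  rw [List.rotate_eq_drop_append_take_mod, List.prod_append]
  have h1 : l.prod = (l.take (m % l.length)).prod * (l.drop (m % l.length)).prod := by
    rw [← List.prod_append, List.take_append_drop]
  have h2 := Subgroup.mem_center_iff.1 h (l.take (m % l.length)).prod
  rw [h1] at h2 ⊢
  rw [mul_assoc] at h2
  exact (mul_left_cancel h2).symm

theorem rot_ok_of_chk {P : Type*} [Group P] (D : LTab) (e : ℕ → P) (zc : ℕ → Subgroup.center P)
    (rws : List (List ℕ)) (rls : List (List ℤ)) (src : List (ℕ × ℕ))
    (hchk : chkRotSrc D rws rls src = true)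
    (hrel : ∀ j, ((rws.getD j []).map e).prod = (zeta zc D.d (vec (rls.getD j [])) : P)) :
    ∀ i < D.nrot, e (D.rotH i) * wprod e (D.rotB i) = (zeta zc D.d (vec (D.rotA i)) : P) := by
  intro i hi
  unfold chkRotSrc at hchk
  rw [List.all_eq_true] at hchk
  have h := hchk i (List.mem_range.2 hi)
  rw [Bool.and_eq_true, decide_eq_true_iff, decide_eq_true_iff] at h
  obtain ⟨h1, h2⟩ := h
  have h3 : e (D.rotH i) * wprod e (D.rotB i) = ((D.rotH i :: (D.rotB i).reverse).map e).prod := by
    rw [List.map_cons, List.prod_cons, wprod_eq_prod]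
  rw [h3, h1, h2, ← hrel, List.map_rotate]
  apply prod_rotate_of_central
  rw [hrel]
  exact (zeta zc D.d _).2

/-- The group element of a node: the product of the columns along the tree. -/
noncomputable def ge (D : LTab) (e : ℕ → P) : ℕ → P
  | u => if h : D.rk (D.pn u) < D.rk u then e (D.pc u) * ge D e (D.pn u) else 1
termination_by u => D.rk u

theorem ge_of_lt (D : LTab) (e : ℕ → P) {u : ℕ} (h : D.rk (D.pn u) < D.rk u) :
    ge D e u = e (D.pc u) * ge D e (D.pn u) := by
  rw [ge, dif_pos h]

theorem ge_zero (D : LTab) (e : ℕ → P) (h0 : D.rk 0 = 0) : ge D e 0 = 1 := by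
  rw [ge, dif_neg (by rw [h0]; exact Nat.not_lt_zero _)]

variable (H : Subgroup P)

/-- The point of a node. -/
noncomputable def sg (D : LTab) (e : ℕ → P) (u : ℕ) : P ⧸ H := ((ge D e u : P) : P ⧸ H)

theorem sg_of_lt (D : LTab) (e : ℕ → P) {u : ℕ} (h : D.rk (D.pn u) < D.rk u) :
    sg H D e u = e (D.pc u) • sg H D e (D.pn u) := by
  unfold sg
  rw [ge_of_lt D e h]
  rfl

theorem sg_zero (D : LTab) (e : ℕ → P) (h0 : D.rk 0 = 0) : sg H D e 0 = ((1 : P) : P ⧸ H) := by
  unfold sg
  rw [ge_zero D e h0]

/-- An interpretation of a labelled table. -/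
structure LInterp (D : LTab) where
  e : ℕ → P
  zc : ℕ → Subgroup.center P
  e_inv : ∀ c < D.k, e c * e (D.inv c) = 1
  rot_ok : ∀ i < D.nrot,
    e (D.rotH i) * wprod e (D.rotB i) = (zeta zc D.d (vec (D.rotA i)) : P)
  hcols_ok : ∀ c ∈ D.hcols, e c ∈ H
  free_ok : ∀ i, D.m + i < D.d → Nat.land (D.cer (D.freeC i) (D.freeX i)) 7 = 4 →
    Nat.shiftRight (D.cer (D.freeC i) (D.freeX i)) 3 = i →
    e (D.freeC i) • sg H D e (D.freeX i) =
      (zc (D.m + i) : P) • sg H D e (D.tau (D.freeC i) (D.freeX i))

variable {H} {D : LTab} (I : LInterp H D)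

/-- The claim of an entry. -/
def Ent (c x : ℕ) : Prop :=
  I.e c • sg H D I.e x = (zeta I.zc D.d (vec (D.lab c x)) : P) • sg H D I.e (D.tau c x)

theorem zeta_smul_smul (f g : ℕ → ℤ) (y : P ⧸ H) :
    (zeta I.zc D.d f : P) • ((zeta I.zc D.d g : P) • y) = (zeta I.zc D.d (f + g) : P) • y := by
  rw [← mul_smul, zeta_add]
  rfl

theorem walk_sound {T : ℕ}
    (hV : ∀ c < D.k, ∀ x < D.n, 0 < D.stp c x → D.stp c x < T → Ent I c x)
    (w : List ℕ) : ∀ (x : ℕ) (acc : List ℤ) (x' : ℕ) (acc' : List ℤ), x < D.n →
      walk D T w x acc = some (x', acc') →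
      x' < D.n ∧ wprod I.e w • sg H D I.e x =
        (zeta I.zc D.d (vec acc' - vec acc) : P) • sg H D I.e x' := by
  induction w with
  | nil =>
    intro x acc x' acc' hx h
    rw [walk_nil] at h
    obtain ⟨rfl, rfl⟩ := Prod.mk.inj (Option.some.inj h)
    refine ⟨hx, ?_⟩
    rw [sub_self, zeta_zero]
    show (1 : P) • _ = (1 : P) • _
    rfl
  | cons c w ih =>
    intro x acc x' acc' hx h
    rw [walk_cons] at h
    cases h1 : (Nat.blt c D.k && inRange (D.stp c x) T) with
    | false =>
      rw [h1, cond_false] at h
      exact absurd h (by simp)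
    | true =>
      rw [h1, cond_true] at h
      cases h2 : Nat.blt (D.tau c x) D.n with
      | false =>
        rw [h2, cond_false] at h
        exact absurd h (by simp)
      | true =>
        rw [h2, cond_true] at h
        rw [Bool.and_eq_true, Nat.blt_eq, inRange_iff] at h1
        rw [Nat.blt_eq] at h2
        obtain ⟨hx', h3⟩ := ih _ _ _ _ h2 h
        refine ⟨hx', ?_⟩
        have h4 := hV c h1.1 x hx h1.2.1 h1.2.2
        unfold Ent at h4
        show (wprod I.e w * I.e c) • _ = _
        rw [mul_smul, h4, smul_comm_center, h3, zeta_smul_smul, vec_vadd]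
        congr 3
        abel

theorem ent_of_chk (hr0 : D.rk 0 = 0) {c x : ℕ} (hc : c < D.k)
    (hchk : chkEnt D c x = true)
    (hV : ∀ c' < D.k, ∀ x' < D.n, 0 < D.stp c' x' → D.stp c' x' < D.stp c x → Ent I c' x') :
    Ent I c x := by
  rw [chkEnt_eq, Bool.and_eq_true, Bool.and_eq_true, Nat.ble_eq, Nat.blt_eq] at hchk
  obtain ⟨⟨hT, ht⟩, h⟩ := hchk
  cases h0 : Nat.beq (Nat.land (D.cer c x) 7) 0 with
  | true =>
    rw [h0, cond_true, Bool.and_eq_true, Bool.and_eq_true, Bool.and_eq_true, Nat.blt_eq] at h
    obtain ⟨⟨⟨h1, h2⟩, h3⟩, h4⟩ := h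
    have h1' := Nat.eq_of_beq_eq_true h1
    have h2' := Nat.eq_of_beq_eq_true h2
    unfold Ent
    rw [vec_isZeroV h4, zeta_zero, sg_of_lt H D I.e (u := D.tau c x) (by rw [h1']; exact h3),
      h1', h2']
    show _ = (1 : P) • _
    rw [one_smul]
  | false =>
    rw [h0, cond_false] at h
    cases h1 : Nat.beq (Nat.land (D.cer c x) 7) 1 with
    | true =>
      rw [h1, cond_true, Bool.and_eq_true, Bool.and_eq_true, Nat.blt_eq] at h
      obtain ⟨⟨hA, h2⟩, h3⟩ := h
      have h2' := Nat.eq_of_beq_eq_true h2
      cases hw : walk D (D.stp c x) (D.rotB (Nat.shiftRight (D.cer c x) 3)) (D.tau c x) [] with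
      | none =>
        rw [hw] at h3
        exact absurd h3 (by simp)
      | some r =>
        obtain ⟨x', β⟩ := r
        rw [hw] at h3
        simp only [Bool.and_eq_true, decide_eq_true_iff] at h3
        obtain ⟨h4, h5⟩ := h3
        have h4' := Nat.eq_of_beq_eq_true h4
        rw [h4'] at hw
        obtain ⟨-, h6⟩ := walk_sound I hV _ _ _ _ _ ht hw
        have h7 := I.rot_ok (Nat.shiftRight (D.cer c x) 3) hA
        rw [h2'] at h7
        unfold Ent
        rw [h5, vec_vsub]
        rw [vec_nil, sub_zero] at h6
        -- e c • sg x' = zeta (a - β) • sg t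
        have h8 : I.e c • ((zeta I.zc D.d (vec β) : P) • sg H D I.e x) =
            (zeta I.zc D.d (vec (D.rotA (Nat.shiftRight (D.cer c x) 3))) : P) •
              sg H D I.e (D.tau c x) := by
          rw [← h6, ← mul_smul, h7]
        rw [smul_comm_center] at h8
        have h9 := congrArg (fun y => (zeta I.zc D.d (- vec β) : P) • y) h8
        try simp only at h9
        rw [zeta_smul_smul, zeta_smul_smul, neg_add_cancel, zeta_zero] at h9
        rw [show ((1 : Subgroup.center P) : P) = 1 from rfl, one_smul] at h9
        rw [h9, neg_add_eq_sub]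
    | false =>
      rw [h1, cond_false] at h
      cases h2 : Nat.beq (Nat.land (D.cer c x) 7) 2 with
      | true =>
        rw [h2, cond_true] at h
        simp only [Bool.and_eq_true, decide_eq_true_iff, Nat.blt_eq, inRange_iff] at h
        obtain ⟨⟨⟨h3, h4⟩, h5⟩, h6⟩ := h
        have h5' := Nat.eq_of_beq_eq_true h5
        have h7 := hV (D.inv c) h3 (D.tau c x) ht h4.1 h4.2
        unfold Ent at h7 ⊢
        rw [h5'] at h7
        rw [h6, vec_vneg]
        have h8 := congrArg (fun y => I.e c • y) h7
        try simp only at h8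
        rw [← mul_smul, I.e_inv c hc, one_smul, smul_comm_center] at h8
        have h9 := congrArg (fun y => (zeta I.zc D.d (- vec (D.lab (D.inv c) (D.tau c x))) : P) • y) h8
        try simp only at h9
        rw [zeta_smul_smul, neg_add_cancel, zeta_zero] at h9
        rw [show ((1 : Subgroup.center P) : P) = 1 from rfl, one_smul] at h9
        exact h9.symm
      | false =>
        rw [h2, cond_false] at h
        cases h3 : Nat.beq (Nat.land (D.cer c x) 7) 3 with
        | true =>
          rw [h3, cond_true] at h
          simp only [Bool.and_eq_true, List.contains_iff_mem] at h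
          obtain ⟨⟨⟨h4, h5⟩, h6⟩, h7⟩ := h
          have h4' := Nat.eq_of_beq_eq_true h4
          have h5' := Nat.eq_of_beq_eq_true h5
          unfold Ent
          rw [vec_isZeroV h6, zeta_zero, h5', h4', sg_zero H D I.e hr0]
          show _ = (1 : P) • _
          rw [one_smul, MulAction.Quotient.smul_mk, smul_eq_mul, mul_one]
          apply QuotientGroup.eq.2
          rw [mul_one]
          exact (Subgroup.inv_mem_iff H).2 (I.hcols_ok c h7)
        | false =>
          rw [h3, cond_false] at h
          cases h4 : Nat.beq (Nat.land (D.cer c x) 7) 4 with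
          | true =>
            rw [h4, cond_true] at h
            simp only [Bool.and_eq_true, decide_eq_true_iff, Nat.blt_eq] at h
            obtain ⟨⟨⟨h5, h6⟩, h7⟩, h8⟩ := h
            have h5' := Nat.eq_of_beq_eq_true h5
            have h6' := Nat.eq_of_beq_eq_true h6
            have h9 := I.free_ok (Nat.shiftRight (D.cer c x) 3) h7
              (by rw [h5', h6']; exact Nat.eq_of_beq_eq_true h4) (by rw [h5', h6'])
            rw [h5', h6'] at h9
            unfold Ent
            rw [h8, vec_unitV, zeta_single _ _ h7]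
            exact h9
          | false =>
            rw [h4, cond_false] at h
            exact absurd h (by simp)

/-- All entries are valid. -/
theorem valid (h0 : D.rk 0 = 0)
    (hchk : ∀ c < D.k, ∀ x < D.n, chkEnt D c x = true) :
    ∀ c < D.k, ∀ x < D.n, Ent I c x := by
  have key : ∀ T, ∀ c < D.k, ∀ x < D.n, D.stp c x = T → Ent I c x := by
    intro T
    induction T using Nat.strong_induction_on with
    | _ T ih =>
      intro c hc x hx hT
      refine ent_of_chk I h0 hc (hchk c hc x hx) ?_
      intro c' hc' x' hx' _ hlt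
      exact ih (D.stp c' x') (by rw [← hT]; exact hlt) c' hc' x' hx' rfl
  intro c hc x hx
  exact key _ c hc x hx rfl

theorem stp_le (hchk : ∀ c < D.k, ∀ x < D.n, chkEnt D c x = true) :
    ∀ c < D.k, ∀ x < D.n, 0 < D.stp c x := by
  intro c hc x hx
  have h := hchk c hc x hx
  rw [chkEnt_eq, Bool.and_eq_true, Bool.and_eq_true, Nat.ble_eq] at h
  exact h.1.1

/-- The relation of a closed path: a central element in the subgroup. -/
theorem relVec_sound (h0 : D.rk 0 = 0)
    (hchk : ∀ c < D.k, ∀ x < D.n, chkEnt D c x = true)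
    {i s : ℕ} (hs : s < D.n) {ρ : List ℤ} (h : relVec D i s = some ρ) :
    (zeta I.zc D.d (vec ρ) : P) ∈ H := by
  unfold relVec at h
  cases hw : walk D (D.Tmax + 1) (D.rotB i ++ [D.rotH i]) s [] with
  | none =>
    rw [hw] at h
    exact absurd h (by simp)
  | some r =>
    obtain ⟨s', β⟩ := r
    rw [hw] at h
    simp only at h
    cases hb : (Nat.beq s' s && Nat.blt i D.nrot) with
    | false =>
      rw [hb, cond_false] at h
      exact absurd h (by simp)
    | true =>
      rw [hb, cond_true] at h
      rw [Bool.and_eq_true, Nat.blt_eq] at hb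
      obtain ⟨hb, hi⟩ := hb
      have hs' := Nat.eq_of_beq_eq_true hb
      subst hs'
      have hρ := Option.some.inj h
      have hV := valid I h0 hchk
      obtain ⟨-, h1⟩ := walk_sound I (T := D.Tmax + 1)
        (fun c hc x hx _ _ => hV c hc x hx) _ _ _ _ _ hs hw
      rw [wprod_append, vec_nil, sub_zero] at h1
      have h2 : wprod I.e [D.rotH i] = I.e (D.rotH i) := by
        show 1 * _ = _
        rw [one_mul]
      rw [h2, I.rot_ok i hi] at h1
      have h3 := congrArg (fun y => (zeta I.zc D.d (- vec β) : P) • y) h1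
      try simp only at h3
      rw [zeta_smul_smul, zeta_smul_smul, neg_add_cancel, zeta_zero] at h3
      rw [show ((1 : Subgroup.center P) : P) = 1 from rfl, one_smul] at h3
      rw [← hρ, vec_vsub, sub_eq_neg_add]
      exact mem_of_central_fix H _ _ h3

end Sound

end Cfsg.Agent.Helper9.LTC
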