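import Mathlib
import Cfsg.Agent.Lib.Helper9.LTC

set_option autoImplicit false

/-! Labelled coset tables: the nodes of the points of the tree, and the central elements of the
free entries.  A map `nd` from `P ⧸ H` to the nodes that follows the table and whose fibres are
orbits of a central subgroup `Z` gives, for every entry, a central element of `Z` relating the
two sides of the entry. -/

namespace Cfsg.Agent.Helper9.LTC

open Cfsg.Agent.Helper9.TC2

/-- The check of the tree at the node `t`. -/
noncomputable def chkNode (D : LTab) (t : ℕ) : Bool :=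
  bif Nat.beq t 0 then Nat.beq (D.rk 0) 0
  else seqN (D.pn t) (fun p => seqN (D.pc t) (fun c =>
    Nat.blt p D.n && Nat.blt c D.k && Nat.beq (D.tau c p) t && Nat.blt (D.rk p) (D.rk t)))

theorem chkNode_zero {D : LTab} (h : chkNode D 0 = true) : D.rk 0 = 0 := by
  unfold chkNode at h
  rw [show Nat.beq 0 0 = true from rfl, cond_true] at h
  exact Nat.eq_of_beq_eq_true h

theorem chkNode_pos {D : LTab} {t : ℕ} (ht : t ≠ 0) (h : chkNode D t = true) :
    D.pn t < D.n ∧ D.pc t < D.k ∧ D.tau (D.pc t) (D.pn t) = t ∧ D.rk (D.pn t) < D.rk t := by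
  unfold chkNode at h
  have h0 : Nat.beq t 0 = false := by
    cases hb : Nat.beq t 0 with
    | true => exact absurd (Nat.eq_of_beq_eq_true hb) ht
    | false => rfl
  rw [h0, cond_false, seqN_eq, seqN_eq] at h
  simp only [Bool.and_eq_true, Nat.blt_eq] at h
  obtain ⟨⟨⟨h1, h2⟩, h3⟩, h4⟩ := h
  exact ⟨h1, h2, Nat.eq_of_beq_eq_true h3, h4⟩

/-- The free entries lie in the table. -/
noncomputable def chkFree (D : LTab) : Bool :=
  allRange 0 (D.d - D.m) (fun i => Nat.blt (D.freeC i) D.k && Nat.blt (D.freeX i) D.n &&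
    Nat.blt (D.tau (D.freeC i) (D.freeX i)) D.n)

theorem chkFree_spec {D : LTab} (h : chkFree D = true) {i : ℕ} (hi : D.m + i < D.d) :
    D.freeC i < D.k ∧ D.freeX i < D.n ∧ D.tau (D.freeC i) (D.freeX i) < D.n := by
  unfold chkFree at h
  rw [allRange_iff] at h
  have h1 := h i (Nat.zero_le i) (by omega)
  simp only [Bool.and_eq_true, Nat.blt_eq] at h1
  exact ⟨h1.1.1, h1.1.2, h1.2⟩

section

variable {P : Type*} [Group P]

/-- A map from the points to the nodes that follows the table, with fibres in orbits of a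
central subgroup. -/
structure NodeMap (H : Subgroup P) (D : LTab) (e : ℕ → P) (Z : Subgroup P) where
  nd : P ⧸ H → ℕ
  nd_one : nd ((1 : P) : P ⧸ H) = 0
  nd_smul : ∀ c < D.k, ∀ q, nd q < D.n → nd (e c • q) = D.tau c (nd q)
  fibre : ∀ q q', nd q = nd q' → ∃ k : Subgroup.center P, (k : P) ∈ Z ∧ q = (k : P) • q'

variable {H : Subgroup P} {D : LTab} {e : ℕ → P} {Z : Subgroup P} (N : NodeMap H D e Z)

theorem NodeMap.nd_sg (hnode : ∀ t < D.n, chkNode D t = true) (hn : 0 < D.n) :
    ∀ t < D.n, N.nd (sg H D e t) = t := by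
  have h0 : D.rk 0 = 0 := chkNode_zero (hnode 0 hn)
  have key : ∀ r, ∀ t < D.n, D.rk t = r → N.nd (sg H D e t) = t := by
    intro r
    induction r using Nat.strong_induction_on with
    | _ r ih =>
      intro t ht hr
      by_cases ht0 : t = 0
      · subst ht0
        rw [sg_zero H D e h0]
        exact N.nd_one
      · obtain ⟨h1, h2, h3, h4⟩ := chkNode_pos ht0 (hnode t ht)
        rw [sg_of_lt H D e h4]
        have h5 := ih (D.rk (D.pn t)) (by rw [← hr]; exact h4) (D.pn t) h1 rfl
        rw [N.nd_smul _ h2 _ (by rw [h5]; exact h1), h5, h3]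
  intro t ht
  exact key _ t ht rfl

/-- The central element of a free entry. -/
noncomputable def NodeMap.zfree (_N : NodeMap H D e Z) (i : ℕ) : Subgroup.center P := by
  classical
  exact if h : ∃ k : Subgroup.center P, (k : P) ∈ Z ∧
      e (D.freeC i) • sg H D e (D.freeX i) =
        (k : P) • sg H D e (D.tau (D.freeC i) (D.freeX i)) then Classical.choose h else 1

theorem NodeMap.zfree_mem (i : ℕ) : (N.zfree i : P) ∈ Z := by
  classical
  unfold NodeMap.zfree
  by_cases h : ∃ k : Subgroup.center P, (k : P) ∈ Z ∧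
      e (D.freeC i) • sg H D e (D.freeX i) =
        (k : P) • sg H D e (D.tau (D.freeC i) (D.freeX i))
  · rw [dif_pos h]
    exact (Classical.choose_spec h).1
  · rw [dif_neg h]
    exact Z.one_mem

theorem NodeMap.zfree_spec (hnode : ∀ t < D.n, chkNode D t = true) (hn : 0 < D.n)
    (hfree : chkFree D = true) {i : ℕ} (hi : D.m + i < D.d) :
    e (D.freeC i) • sg H D e (D.freeX i) =
      (N.zfree i : P) • sg H D e (D.tau (D.freeC i) (D.freeX i)) := by
  classical
  obtain ⟨h1, h2, h3⟩ := chkFree_spec hfree hi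
  have h4 : N.nd (e (D.freeC i) • sg H D e (D.freeX i)) =
      N.nd (sg H D e (D.tau (D.freeC i) (D.freeX i))) := by
    rw [N.nd_smul _ h1 _ (by rw [N.nd_sg hnode hn _ h2]; exact h2), N.nd_sg hnode hn _ h2,
      N.nd_sg hnode hn _ h3]
  have h : ∃ k : Subgroup.center P, (k : P) ∈ Z ∧
      e (D.freeC i) • sg H D e (D.freeX i) =
        (k : P) • sg H D e (D.tau (D.freeC i) (D.freeX i)) := N.fibre _ _ h4
  unfold NodeMap.zfree
  rw [dif_pos h]
  exact (Classical.choose_spec h).2

end

end Cfsg.Agent.Helper9.LTC
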