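import Mathlib
import Cfsg.Agent.Lib.Helper9.LTC
import Cfsg.Agent.Lib.Helper9.LTCNode

set_option autoImplicit false

/-! Labelled coset tables with labels modulo `q`: the central elements `zc i` satisfy
`zc i ^ q = 1`, and the labels of the entries are checked modulo `q` only.  Labels may be stored as
numbers, the digits in base `q` being the coordinates. -/

namespace Cfsg.Agent.Helper9.LTCM

open Cfsg.Agent.Helper9.TC2 Cfsg.Agent.Helper9.LTC
open scoped IsMulCommutative

/-- All entries are multiples of `q`. -/
def isZeroM (q : ℤ) : List ℤ → Bool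
  | [] => true
  | x :: a => decide (Int.emod x q = 0) && isZeroM q a

/-- Equality of vectors modulo `q`. -/
def veqM (q : ℤ) (a b : List ℤ) : Bool := isZeroM q (vsub a b)

/-- The digits of a number in base `q`, as a vector of length `d`. -/
noncomputable def unpackZ (q d : ℕ) : ℕ → List ℤ :=
  Nat.rec (motive := fun _ => ℕ → List ℤ) (fun _ => [])
    (fun _ ih N => seqN (Nat.div N q) (fun N' => Int.ofNat (Nat.mod N q) :: ih N')) d

theorem dvd_of_isZeroM {q : ℤ} {a : List ℤ} (h : isZeroM q a = true) (i : ℕ) : q ∣ vec a i := by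
  induction a generalizing i with
  | nil =>
    rw [vec_nil]
    exact dvd_zero q
  | cons x a ih =>
    unfold isZeroM at h
    rw [Bool.and_eq_true, decide_eq_true_iff] at h
    cases i with
    | zero => exact Int.dvd_of_emod_eq_zero h.1
    | succ i => exact ih h.2 i

section Central

variable {P : Type*} [Group P] (zc : ℕ → Subgroup.center P) (d : ℕ)

theorem zeta_eq_one_of_dvd {q : ℤ} (hq : ∀ i, zc i ^ q = 1) {f : ℕ → ℤ} (h : ∀ i, q ∣ f i) :
    zeta zc d f = 1 := by
  unfold zeta
  apply Finset.prod_eq_one
  intro i _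
  obtain ⟨k, hk⟩ := h i
  rw [hk, zpow_mul, hq i, one_zpow]

theorem zeta_of_isZeroM {q : ℤ} (hq : ∀ i, zc i ^ q = 1) {a : List ℤ}
    (h : isZeroM q a = true) : zeta zc d (vec a) = 1 :=
  zeta_eq_one_of_dvd zc d hq (dvd_of_isZeroM h)

theorem zeta_of_veqM {q : ℤ} (hq : ∀ i, zc i ^ q = 1) {a b : List ℤ}
    (h : veqM q a b = true) : zeta zc d (vec a) = zeta zc d (vec b) := by
  have h1 := zeta_of_isZeroM zc d hq h
  rw [vec_vsub, zeta_sub] at h1
  exact mul_inv_eq_one.1 h1

end Central

/-! ### The check of an entry -/

/-- The check of the entry of column `c` at node `x`, the labels modulo `q`. -/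
noncomputable def chkEntM (q : ℤ) (D : LTab) (c x : ℕ) : Bool :=
  seqN (D.stp c x) (fun T => seqN (D.tau c x) (fun t => seqN (D.cer c x) (fun cq =>
    seqN (Nat.land cq 7) (fun ty => seqN (Nat.shiftRight cq 3) (fun A =>
      Nat.ble 1 T && Nat.blt t D.n &&
      (bif Nat.beq ty 0 then
        Nat.beq (D.pn t) x && Nat.beq (D.pc t) c && Nat.blt (D.rk x) (D.rk t) &&
          isZeroM q (D.lab c x)
      else bif Nat.beq ty 1 then
        Nat.blt A D.nrot && Nat.beq (D.rotH A) c &&
          (match walk D T (D.rotB A) t [] with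
            | some (x', β) => Nat.beq x' x && veqM q (D.lab c x) (vsub (D.rotA A) β)
            | none => false)
      else bif Nat.beq ty 2 then
        Nat.blt (D.inv c) D.k && inRange (D.stp (D.inv c) t) T && Nat.beq (D.tau (D.inv c) t) x &&
          veqM q (D.lab c x) (vneg (D.lab (D.inv c) t))
      else bif Nat.beq ty 3 then
        Nat.beq x 0 && Nat.beq t 0 && isZeroM q (D.lab c x) && D.hcols.contains c
      else bif Nat.beq ty 4 then
        Nat.beq (D.freeC A) c && Nat.beq (D.freeX A) x && Nat.blt (D.m + A) D.d &&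
          veqM q (D.lab c x) (unitV (D.m + A))
      else false))))))

theorem chkEntM_eq (q : ℤ) (D : LTab) (c x : ℕ) :
    chkEntM q D c x =
      (Nat.ble 1 (D.stp c x) && Nat.blt (D.tau c x) D.n &&
      (bif Nat.beq (Nat.land (D.cer c x) 7) 0 then
        Nat.beq (D.pn (D.tau c x)) x && Nat.beq (D.pc (D.tau c x)) c &&
          Nat.blt (D.rk x) (D.rk (D.tau c x)) &&
          isZeroM q (D.lab c x)
      else bif Nat.beq (Nat.land (D.cer c x) 7) 1 then
        Nat.blt (Nat.shiftRight (D.cer c x) 3) D.nrot &&
          Nat.beq (D.rotH (Nat.shiftRight (D.cer c x) 3)) c &&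
          (match walk D (D.stp c x) (D.rotB (Nat.shiftRight (D.cer c x) 3)) (D.tau c x) [] with
            | some (x', β) => Nat.beq x' x &&
                veqM q (D.lab c x) (vsub (D.rotA (Nat.shiftRight (D.cer c x) 3)) β)
            | none => false)
      else bif Nat.beq (Nat.land (D.cer c x) 7) 2 then
        Nat.blt (D.inv c) D.k && inRange (D.stp (D.inv c) (D.tau c x)) (D.stp c x) &&
          Nat.beq (D.tau (D.inv c) (D.tau c x)) x &&
          veqM q (D.lab c x) (vneg (D.lab (D.inv c) (D.tau c x)))
      else bif Nat.beq (Nat.land (D.cer c x) 7) 3 then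
        Nat.beq x 0 && Nat.beq (D.tau c x) 0 && isZeroM q (D.lab c x) && D.hcols.contains c
      else bif Nat.beq (Nat.land (D.cer c x) 7) 4 then
        Nat.beq (D.freeC (Nat.shiftRight (D.cer c x) 3)) c &&
          Nat.beq (D.freeX (Nat.shiftRight (D.cer c x) 3)) x &&
          Nat.blt (D.m + Nat.shiftRight (D.cer c x) 3) D.d &&
          veqM q (D.lab c x) (unitV (D.m + Nat.shiftRight (D.cer c x) 3))
      else false)) := by
  unfold chkEntM
  simp only [seqN_eq]

/-- The relation read off a closed path is congruent to `ρ` modulo `q`. -/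
noncomputable def relVecM (q : ℤ) (D : LTab) (i s : ℕ) (ρ : List ℤ) : Bool :=
  match relVec D i s with
    | some ρ' => veqM q ρ' ρ
    | none => false

section Sound

variable {P : Type*} [Group P] {H : Subgroup P} {D : LTab} (I : LInterp H D)

theorem ent_of_chkM {q : ℤ} (hq : ∀ i, I.zc i ^ q = 1) (hr0 : D.rk 0 = 0) {c x : ℕ} (hc : c < D.k)
    (hchk : chkEntM q D c x = true)
    (hV : ∀ c' < D.k, ∀ x' < D.n, 0 < D.stp c' x' → D.stp c' x' < D.stp c x → Ent I c' x') :
    Ent I c x := by
  rw [chkEntM_eq, Bool.and_eq_true, Bool.and_eq_true, Nat.ble_eq, Nat.blt_eq] at hchk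
  obtain ⟨⟨hT, ht⟩, h⟩ := hchk
  cases h0 : Nat.beq (Nat.land (D.cer c x) 7) 0 with
  | true =>
    rw [h0, cond_true, Bool.and_eq_true, Bool.and_eq_true, Bool.and_eq_true, Nat.blt_eq] at h
    obtain ⟨⟨⟨h1, h2⟩, h3⟩, h4⟩ := h
    have h1' := Nat.eq_of_beq_eq_true h1
    have h2' := Nat.eq_of_beq_eq_true h2
    unfold Ent
    rw [zeta_of_isZeroM I.zc D.d hq h4, sg_of_lt H D I.e (u := D.tau c x) (by rw [h1']; exact h3),
      h1', h2']
    show _ = (1 : P) • _
    rw [one_smul]
  | false =>
    rw [h0, cond_false] at h
    cases h1 : Nat.beq (Nat.land (D.cer c x) 7) 1 with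
    | true =>
      rw [h1, cond_true, Bool.and_eq_true, Bool.and_eq_true, Nat.blt_eq] at h
      obtain ⟨⟨hA, h2⟩, h3⟩ := h
      have h2' := Nat.eq_of_beq_eq_true h2
      cases hw : walk D (D.stp c x) (D.rotB (Nat.shiftRight (D.cer c x) 3)) (D.tau c x) [] with
      | none =>
        rw [hw] at h3
        exact absurd h3 (by simp)
      | some r =>
        obtain ⟨x', β⟩ := r
        rw [hw] at h3
        simp only [Bool.and_eq_true] at h3
        obtain ⟨h4, h5⟩ := h3
        have h4' := Nat.eq_of_beq_eq_true h4
        rw [h4'] at hw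
        obtain ⟨-, h6⟩ := walk_sound I hV _ _ _ _ _ ht hw
        have h7 := I.rot_ok (Nat.shiftRight (D.cer c x) 3) hA
        rw [h2'] at h7
        unfold Ent
        rw [zeta_of_veqM I.zc D.d hq h5, vec_vsub]
        rw [vec_nil, sub_zero] at h6
        have h8 : I.e c • ((zeta I.zc D.d (vec β) : P) • sg H D I.e x) =
            (zeta I.zc D.d (vec (D.rotA (Nat.shiftRight (D.cer c x) 3))) : P) •
              sg H D I.e (D.tau c x) := by
          rw [← h6, ← mul_smul, h7]
        rw [smul_comm_center] at h8
        have h9 := congrArg (fun y => (zeta I.zc D.d (- vec β) : P) • y) h8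
        try simp only at h9
        rw [zeta_smul_smul, zeta_smul_smul, neg_add_cancel, zeta_zero] at h9
        rw [show ((1 : Subgroup.center P) : P) = 1 from rfl, one_smul] at h9
        rw [h9, neg_add_eq_sub]
    | false =>
      rw [h1, cond_false] at h
      cases h2 : Nat.beq (Nat.land (D.cer c x) 7) 2 with
      | true =>
        rw [h2, cond_true] at h
        simp only [Bool.and_eq_true, Nat.blt_eq, inRange_iff] at h
        obtain ⟨⟨⟨h3, h4⟩, h5⟩, h6⟩ := h
        have h5' := Nat.eq_of_beq_eq_true h5
        have h7 := hV (D.inv c) h3 (D.tau c x) ht h4.1 h4.2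
        unfold Ent at h7 ⊢
        rw [h5'] at h7
        rw [zeta_of_veqM I.zc D.d hq h6, vec_vneg]
        have h8 := congrArg (fun y => I.e c • y) h7
        try simp only at h8
        rw [← mul_smul, I.e_inv c hc, one_smul, smul_comm_center] at h8
        have h9 := congrArg (fun y => (zeta I.zc D.d (- vec (D.lab (D.inv c) (D.tau c x))) : P) • y) h8
        try simp only at h9
        rw [zeta_smul_smul, neg_add_cancel, zeta_zero] at h9
        rw [show ((1 : Subgroup.center P) : P) = 1 from rfl, one_smul] at h9
        exact h9.symm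
      | false =>
        rw [h2, cond_false] at h
        cases h3 : Nat.beq (Nat.land (D.cer c x) 7) 3 with
        | true =>
          rw [h3, cond_true] at h
          simp only [Bool.and_eq_true, List.contains_iff_mem] at h
          obtain ⟨⟨⟨h4, h5⟩, h6⟩, h7⟩ := h
          have h4' := Nat.eq_of_beq_eq_true h4
          have h5' := Nat.eq_of_beq_eq_true h5
          unfold Ent
          rw [zeta_of_isZeroM I.zc D.d hq h6, h5', h4', sg_zero H D I.e hr0]
          show _ = (1 : P) • _
          rw [one_smul, MulAction.Quotient.smul_mk, smul_eq_mul, mul_one]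
          apply QuotientGroup.eq.2
          rw [mul_one]
          exact (Subgroup.inv_mem_iff H).2 (I.hcols_ok c h7)
        | false =>
          rw [h3, cond_false] at h
          cases h4 : Nat.beq (Nat.land (D.cer c x) 7) 4 with
          | true =>
            rw [h4, cond_true] at h
            simp only [Bool.and_eq_true, Nat.blt_eq] at h
            obtain ⟨⟨⟨h5, h6⟩, h7⟩, h8⟩ := h
            have h5' := Nat.eq_of_beq_eq_true h5
            have h6' := Nat.eq_of_beq_eq_true h6
            have h9 := I.free_ok (Nat.shiftRight (D.cer c x) 3) h7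
              (by rw [h5', h6']; exact Nat.eq_of_beq_eq_true h4) (by rw [h5', h6'])
            rw [h5', h6'] at h9
            unfold Ent
            rw [zeta_of_veqM I.zc D.d hq h8, vec_unitV, zeta_single _ _ h7]
            exact h9
          | false =>
            rw [h4, cond_false] at h
            exact absurd h (by simp)

/-- All entries are valid. -/
theorem validM {q : ℤ} (hq : ∀ i, I.zc i ^ q = 1) (h0 : D.rk 0 = 0)
    (hchk : ∀ c < D.k, ∀ x < D.n, chkEntM q D c x = true) :
    ∀ c < D.k, ∀ x < D.n, Ent I c x := by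
  have key : ∀ T, ∀ c < D.k, ∀ x < D.n, D.stp c x = T → Ent I c x := by
    intro T
    induction T using Nat.strong_induction_on with
    | _ T ih =>
      intro c hc x hx hT
      refine ent_of_chkM I hq h0 hc (hchk c hc x hx) ?_
      intro c' hc' x' hx' _ hlt
      exact ih (D.stp c' x') (by rw [← hT]; exact hlt) c' hc' x' hx' rfl
  intro c hc x hx
  exact key _ c hc x hx rfl

/-- The relation of a closed path: a central element in the subgroup. -/
theorem relVecM_sound {q : ℤ} (hq : ∀ i, I.zc i ^ q = 1) (h0 : D.rk 0 = 0)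
    (hchk : ∀ c < D.k, ∀ x < D.n, chkEntM q D c x = true)
    {i s : ℕ} (hs : s < D.n) {ρ : List ℤ} (h : relVecM q D i s ρ = true) :
    (zeta I.zc D.d (vec ρ) : P) ∈ H := by
  unfold relVecM at h
  cases hr : relVec D i s with
  | none =>
    rw [hr] at h
    exact absurd h (by simp)
  | some ρ' =>
    rw [hr] at h
    have h' : veqM q ρ' ρ = true := h
    rw [← zeta_of_veqM I.zc D.d hq h']
    unfold relVec at hr
    cases hw : walk D (D.Tmax + 1) (D.rotB i ++ [D.rotH i]) s [] with
    | none =>
      rw [hw] at hr
      exact absurd hr (by simp)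
    | some r =>
      obtain ⟨s', β⟩ := r
      rw [hw] at hr
      simp only at hr
      cases hb : (Nat.beq s' s && Nat.blt i D.nrot) with
      | false =>
        rw [hb, cond_false] at hr
        exact absurd hr (by simp)
      | true =>
        rw [hb, cond_true] at hr
        rw [Bool.and_eq_true, Nat.blt_eq] at hb
        obtain ⟨hb, hi⟩ := hb
        have hs' := Nat.eq_of_beq_eq_true hb
        subst hs'
        have hρ := Option.some.inj hr
        have hV := validM I hq h0 hchk
        obtain ⟨-, h1⟩ := walk_sound I (T := D.Tmax + 1)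
          (fun c hc x hx _ _ => hV c hc x hx) _ _ _ _ _ hs hw
        rw [wprod_append, vec_nil, sub_zero] at h1
        have h2 : wprod I.e [D.rotH i] = I.e (D.rotH i) := by
          show 1 * _ = _
          rw [one_mul]
        rw [h2, I.rot_ok i hi] at h1
        have h3 := congrArg (fun y => (zeta I.zc D.d (- vec β) : P) • y) h1
        try simp only at h3
        rw [zeta_smul_smul, zeta_smul_smul, neg_add_cancel, zeta_zero] at h3
        rw [show ((1 : Subgroup.center P) : P) = 1 from rfl, one_smul] at h3
        rw [← hρ, vec_vsub, sub_eq_neg_add]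
        exact mem_of_central_fix H _ _ h3

end Sound

end Cfsg.Agent.Helper9.LTCM
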