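import Mathlib
import Cfsg.Agent.Lib.Helper9.LTCM

set_option autoImplicit false

/-! Labelled coset tables with trivial central elements: the points of the nodes are all the
points, and the index of the subgroup is at most the number of nodes. -/

namespace Cfsg.Agent.Helper9.LTCM

open Cfsg.Agent.Helper9.TC2 Cfsg.Agent.Helper9.LTC
open scoped IsMulCommutative

section

variable {P : Type*} [Group P] {H : Subgroup P} {D : LTab} (I : LInterp H D)

theorem tau_lt_of_chkM {q : ℤ} {c x : ℕ} (h : chkEntM q D c x = true) : D.tau c x < D.n := by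
  rw [chkEntM_eq, Bool.and_eq_true, Bool.and_eq_true, Nat.ble_eq, Nat.blt_eq] at h
  exact h.1.2

/-- With trivial central elements, every point is the point of a node. -/
theorem exists_node {q : ℤ} (hz : ∀ i, I.zc i = 1) (h0 : D.rk 0 = 0) (hn : 0 < D.n)
    (hchk : ∀ c < D.k, ∀ x < D.n, chkEntM q D c x = true)
    (hinv : ∀ c < D.k, D.inv c < D.k)
    (hgen : Subgroup.closure {g | ∃ c < D.k, g = I.e c} = ⊤) (y : P ⧸ H) :
    ∃ x < D.n, y = sg H D I.e x := by
  have hq : ∀ i, I.zc i ^ q = 1 := by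
    intro i
    rw [hz, one_zpow]
  have hV := validM I hq h0 hchk
  have hzeta : ∀ f, zeta I.zc D.d f = 1 := by
    intro f
    unfold zeta
    apply Finset.prod_eq_one
    intro i _
    rw [hz, one_zpow]
  have step : ∀ c < D.k, ∀ x < D.n, I.e c • sg H D I.e x = sg H D I.e (D.tau c x) := by
    intro c hc x hx
    have h := hV c hc x hx
    unfold Ent at h
    rw [h, hzeta]
    show (1 : P) • _ = _
    rw [one_smul]
  have key : ∀ g : P, ∀ y : P ⧸ H, (∃ x < D.n, y = sg H D I.e x) →
      ∃ x < D.n, g • y = sg H D I.e x := by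
    intro g
    have hg : g ∈ Subgroup.closure {g | ∃ c < D.k, g = I.e c} := by
      rw [hgen]
      exact Subgroup.mem_top g
    induction hg using Subgroup.closure_induction'' with
    | mem g hg =>
      obtain ⟨c, hc, rfl⟩ := hg
      rintro y ⟨x, hx, rfl⟩
      exact ⟨D.tau c x, tau_lt_of_chkM (hchk c hc x hx), step c hc x hx⟩
    | inv_mem g hg =>
      obtain ⟨c, hc, rfl⟩ := hg
      have e : (I.e c)⁻¹ = I.e (D.inv c) := inv_eq_of_mul_eq_one_right (I.e_inv c hc)
      rw [e]
      rintro y ⟨x, hx, rfl⟩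
      exact ⟨D.tau (D.inv c) x, tau_lt_of_chkM (hchk _ (hinv c hc) x hx),
        step _ (hinv c hc) x hx⟩
    | one =>
      intro y hy
      rw [one_smul]
      exact hy
    | mul a b _ _ ha hb =>
      intro y hy
      rw [mul_smul]
      exact ha _ (hb _ hy)
  obtain ⟨g, rfl⟩ := QuotientGroup.mk_surjective y
  have h1 := key g ((1 : P) : P ⧸ H) ⟨0, hn, (sg_zero H D I.e h0).symm⟩
  rw [MulAction.Quotient.smul_mk, smul_eq_mul, mul_one] at h1
  exact h1

/-- With trivial central elements, the index of the subgroup is at most the number of nodes. -/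
theorem card_quotient_le {q : ℤ} (hz : ∀ i, I.zc i = 1) (h0 : D.rk 0 = 0) (hn : 0 < D.n)
    (hchk : ∀ c < D.k, ∀ x < D.n, chkEntM q D c x = true)
    (hinv : ∀ c < D.k, D.inv c < D.k)
    (hgen : Subgroup.closure {g | ∃ c < D.k, g = I.e c} = ⊤) :
    Finite (P ⧸ H) ∧ Nat.card (P ⧸ H) ≤ D.n := by
  have hs : Function.Surjective (fun x : Fin D.n => sg H D I.e x) := by
    intro y
    obtain ⟨x, hx, rfl⟩ := exists_node I hz h0 hn hchk hinv hgen y
    exact ⟨⟨x, hx⟩, rfl⟩
  have hfin : Finite (P ⧸ H) := Finite.of_surjective _ hs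
  refine ⟨hfin, ?_⟩
  have h := Nat.card_le_card_of_surjective _ hs
  rwa [Nat.card_fin] at h

/-- With trivial central elements, the order of the group is at most the number of nodes times
the order of the subgroup. -/
theorem card_le {q : ℤ} (hz : ∀ i, I.zc i = 1) (h0 : D.rk 0 = 0) (hn : 0 < D.n)
    (hchk : ∀ c < D.k, ∀ x < D.n, chkEntM q D c x = true)
    (hinv : ∀ c < D.k, D.inv c < D.k)
    (hgen : Subgroup.closure {g | ∃ c < D.k, g = I.e c} = ⊤)
    [Finite H] {m : ℕ} (hH : Nat.card H ≤ m) :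
    Finite P ∧ Nat.card P ≤ D.n * m := by
  obtain ⟨hfin, hle⟩ := card_quotient_le I hz h0 hn hchk hinv hgen
  have hP : Finite P := Finite.of_subgroup_quotient H
  refine ⟨hP, ?_⟩
  rw [Subgroup.card_eq_card_quotient_mul_card_subgroup H]
  exact Nat.mul_le_mul hle hH

end

end Cfsg.Agent.Helper9.LTCM
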