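import Cfsg.Agent.Lib.Helper9.G23Mat.Inv
import Cfsg.Agent.Lib.Helper9.G23Mat.Rw1_0
import Cfsg.Agent.Lib.Helper9.G23Mat.Rw1_1
import Cfsg.Agent.Lib.Helper9.G23Mat.Rw1_2
import Cfsg.Agent.Lib.Helper9.G23Mat.Rw1_3
import Cfsg.Agent.Lib.Helper9.G23Mat.Rw2_0
import Cfsg.Agent.Lib.Helper9.G23Mat.Rw2_1
import Cfsg.Agent.Lib.Helper9.G23Mat.Rw2_2
import Cfsg.Agent.Lib.Helper9.G23Mat.Rw2_3
import Cfsg.Agent.Lib.Helper9.G23Mat.Gw0
import Cfsg.Agent.Lib.Helper9.G23Mat.Gw1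
import Cfsg.Agent.Lib.Helper9.G23Mat.Gw2

set_option autoImplicit false
set_option maxRecDepth 1000000
set_option maxHeartbeats 0

namespace Cfsg.Agent.Helper9.G23Mat

open Matrix Cfsg Cfsg.Lie Cfsg.Agent.Helper9 Cfsg.Agent.Helper9.Vec14F3

theorem rw1_ev : ∀ r : Fin 12, ∀ j : Fin 14, ev gA gAi (rw1 r).toWord (bas j) = (xr1 r).app (bas j) := by
  intro r
  fin_cases r
  · exact rw1_ev_0
  · exact rw1_ev_1
  · exact rw1_ev_2
  · exact rw1_ev_3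
  · exact rw1_ev_4
  · exact rw1_ev_5
  · exact rw1_ev_6
  · exact rw1_ev_7
  · exact rw1_ev_8
  · exact rw1_ev_9
  · exact rw1_ev_10
  · exact rw1_ev_11

theorem rw2_ev : ∀ r : Fin 12, ∀ j : Fin 14, ev gA gAi (rw2 r).toWord (bas j) = (xr2 r).app (bas j) := by
  intro r
  fin_cases r
  · exact rw2_ev_0
  · exact rw2_ev_1
  · exact rw2_ev_2
  · exact rw2_ev_3
  · exact rw2_ev_4
  · exact rw2_ev_5
  · exact rw2_ev_6
  · exact rw2_ev_7
  · exact rw2_ev_8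
  · exact rw2_ev_9
  · exact rw2_ev_10
  · exact rw2_ev_11

theorem idM_app : ∀ j : Fin 14, idM.app (bas j) = bas j := by decide +kernel

theorem rw_ev : ∀ p : Fin 12 × ZMod 3, ∀ j : Fin 14,
    ev gA gAi (rw p).toWord (bas j) = (xr p).app (bas j) := by
  rintro ⟨r, t⟩ j
  fin_cases t
  · exact (idM_app j).symm
  · exact rw1_ev r j
  · exact rw2_ev r j

theorem gw_ev : ∀ s : Fin 3, ∀ j : Fin 14,
    ev xr xri (gw s).toWord (bas j) = (gA s).app (bas j) := by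
  intro s
  fin_cases s
  · exact gw_ev_0
  · exact gw_ev_1
  · exact gw_ev_2

end Cfsg.Agent.Helper9.G23Mat
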