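import Mathlib

set_option autoImplicit false
set_option maxRecDepth 100000

/-! Vectors and matrices of size 14 over the field with three elements; the index type is
`Fin 2 ⊕ Fin 12`. Families of invertible matrices and the values of words in them. -/

namespace Cfsg.Agent.Helper9.Vec14F3

open Matrix

/-- The index type. -/
abbrev I14 : Type := Fin 2 ⊕ Fin 12

/-- Fourteen entries. -/
structure V14 where
  x0 : (ZMod 3)
  x1 : (ZMod 3)
  x2 : (ZMod 3)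
  x3 : (ZMod 3)
  x4 : (ZMod 3)
  x5 : (ZMod 3)
  x6 : (ZMod 3)
  x7 : (ZMod 3)
  x8 : (ZMod 3)
  x9 : (ZMod 3)
  x10 : (ZMod 3)
  x11 : (ZMod 3)
  x12 : (ZMod 3)
  x13 : (ZMod 3)
deriving DecidableEq

/-- The vector of the entries. -/
def V14.toVec (v : V14) : I14 → (ZMod 3)
  | .inl i => ![v.x0, v.x1] i
  | .inr i => ![v.x2, v.x3, v.x4, v.x5, v.x6, v.x7, v.x8, v.x9, v.x10, v.x11, v.x12, v.x13] i

/-- The identity, forcing the evaluation of its argument. -/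
def nf3 (x : (ZMod 3)) : (ZMod 3) :=
  match (x : Fin 3) with
  | 0 => 0
  | 1 => 1
  | 2 => 2

theorem nf3_eq : ∀ x : (ZMod 3), nf3 x = x := by decide

/-- The product of a row and a column. -/
def dot (r v : V14) : (ZMod 3) :=
  nf3 (r.x0 * v.x0 + r.x1 * v.x1 + r.x2 * v.x2 + r.x3 * v.x3 + r.x4 * v.x4 + r.x5 * v.x5 + r.x6 * v.x6 + r.x7 * v.x7 + r.x8 * v.x8 + r.x9 * v.x9 + r.x10 * v.x10 + r.x11 * v.x11 + r.x12 * v.x12 + r.x13 * v.x13)

/-- Fourteen rows. -/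
structure M14 where
  r0 : V14
  r1 : V14
  r2 : V14
  r3 : V14
  r4 : V14
  r5 : V14
  r6 : V14
  r7 : V14
  r8 : V14
  r9 : V14
  r10 : V14
  r11 : V14
  r12 : V14
  r13 : V14

/-- The product of a matrix and a column. -/
def M14.app (M : M14) (v : V14) : V14 :=
  ⟨dot M.r0 v, dot M.r1 v, dot M.r2 v, dot M.r3 v, dot M.r4 v, dot M.r5 v, dot M.r6 v, dot M.r7 v, dot M.r8 v, dot M.r9 v, dot M.r10 v, dot M.r11 v, dot M.r12 v, dot M.r13 v⟩

/-- The matrix of the rows. -/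
def M14.toMat (M : M14) : Matrix I14 I14 (ZMod 3) := Matrix.of fun i =>
  match i with
  | .inl i => ![M.r0.toVec, M.r1.toVec] i
  | .inr i => ![M.r2.toVec, M.r3.toVec, M.r4.toVec, M.r5.toVec, M.r6.toVec, M.r7.toVec, M.r8.toVec, M.r9.toVec, M.r10.toVec, M.r11.toVec, M.r12.toVec, M.r13.toVec] i

theorem dot_eq (r v : V14) : dot r v = r.toVec ⬝ᵥ v.toVec := by
  simp only [dot, nf3_eq, dotProduct, Fintype.sum_sum_type, Fin.sum_univ_two, V14.toVec]
  simp only [Fin.sum_univ_succ, Fin.sum_univ_zero, Matrix.cons_val_zero, Matrix.cons_val_succ,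
    Matrix.cons_val_one, add_zero]
  ring

theorem toMat_mulVec (M : M14) (v : V14) : M.toMat *ᵥ v.toVec = (M.app v).toVec := by
  ext i
  rcases i with i | i
  · fin_cases i <;> exact (dot_eq _ _).symm
  · fin_cases i <;> exact (dot_eq _ _).symm

/-- The basis vectors. -/
def bas : Fin 14 → V14 := ![
  ⟨1, 0, 0, 0, 0, 0, 0, 0, 0, 0, 0, 0, 0, 0⟩,
  ⟨0, 1, 0, 0, 0, 0, 0, 0, 0, 0, 0, 0, 0, 0⟩,
  ⟨0, 0, 1, 0, 0, 0, 0, 0, 0, 0, 0, 0, 0, 0⟩,
  ⟨0, 0, 0, 1, 0, 0, 0, 0, 0, 0, 0, 0, 0, 0⟩,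
  ⟨0, 0, 0, 0, 1, 0, 0, 0, 0, 0, 0, 0, 0, 0⟩,
  ⟨0, 0, 0, 0, 0, 1, 0, 0, 0, 0, 0, 0, 0, 0⟩,
  ⟨0, 0, 0, 0, 0, 0, 1, 0, 0, 0, 0, 0, 0, 0⟩,
  ⟨0, 0, 0, 0, 0, 0, 0, 1, 0, 0, 0, 0, 0, 0⟩,
  ⟨0, 0, 0, 0, 0, 0, 0, 0, 1, 0, 0, 0, 0, 0⟩,
  ⟨0, 0, 0, 0, 0, 0, 0, 0, 0, 1, 0, 0, 0, 0⟩,
  ⟨0, 0, 0, 0, 0, 0, 0, 0, 0, 0, 1, 0, 0, 0⟩,
  ⟨0, 0, 0, 0, 0, 0, 0, 0, 0, 0, 0, 1, 0, 0⟩,
  ⟨0, 0, 0, 0, 0, 0, 0, 0, 0, 0, 0, 0, 1, 0⟩,
  ⟨0, 0, 0, 0, 0, 0, 0, 0, 0, 0, 0, 0, 0, 1⟩]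

/-- The indices, in order. -/
def idx : Fin 14 → I14 := ![.inl 0, .inl 1, .inr 0, .inr 1, .inr 2, .inr 3, .inr 4, .inr 5, .inr 6, .inr 7, .inr 8, .inr 9, .inr 10, .inr 11]

theorem bas_toVec (j : Fin 14) : (bas j).toVec = Pi.single (idx j) 1 := by
  ext i
  fin_cases j <;> rcases i with i | i <;> fin_cases i <;> simp [bas, idx, V14.toVec]

theorem idx_surj (k : I14) : ∃ j, idx j = k := by
  rcases k with k | k
  · fin_cases k
    · exact ⟨0, rfl⟩
    · exact ⟨1, rfl⟩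
  · exact ⟨⟨k.val + 2, by omega⟩, by fin_cases k <;> rfl⟩

/-- Two matrices which agree on the basis vectors are equal. -/
theorem eq_of_bas (A B : Matrix I14 I14 (ZMod 3))
    (h : ∀ j : Fin 14, A *ᵥ (bas j).toVec = B *ᵥ (bas j).toVec) : A = B := by
  ext i k
  obtain ⟨j, rfl⟩ := idx_surj k
  have h1 := congrFun (h j) i
  rw [bas_toVec, Matrix.mulVec_single_one, Matrix.mulVec_single_one] at h1
  exact h1

/-- A matrix which fixes the basis vectors is the identity. -/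
theorem eq_one_of_bas (A : Matrix I14 I14 (ZMod 3))
    (h : ∀ j : Fin 14, A *ᵥ (bas j).toVec = (bas j).toVec) : A = 1 := by
  apply eq_of_bas
  intro j
  rw [h j, Matrix.one_mulVec]

theorem toMat_eq_of_bas (M B : M14) (h : ∀ j : Fin 14, M.app (bas j) = B.app (bas j)) :
    M.toMat = B.toMat := by
  apply eq_of_bas
  intro j
  rw [toMat_mulVec, toMat_mulVec, h j]

theorem toMat_mul_eq_one (A B : M14) (h : ∀ j : Fin 14, A.app (B.app (bas j)) = bas j) :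
    A.toMat * B.toMat = 1 := by
  apply eq_one_of_bas
  intro j
  rw [← Matrix.mulVec_mulVec, toMat_mulVec, toMat_mulVec, h j]

section Family

variable {ι : Type} (g gi : ι → M14)

/-- The value of a word in the matrices and their inverses on a vector. -/
def ev : List (ι × Bool) → V14 → V14
  | [], v => v
  | (s, true) :: L, v => (g s).app (ev L v)
  | (s, false) :: L, v => (gi s).app (ev L v)

variable (hg : ∀ s : ι, ∀ j : Fin 14, (g s).app ((gi s).app (bas j)) = bas j)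
  (hgi : ∀ s : ι, ∀ j : Fin 14, (gi s).app ((g s).app (bas j)) = bas j)

/-- The matrices as units. -/
def unitOf (s : ι) : GL I14 (ZMod 3) :=
  ⟨(g s).toMat, (gi s).toMat, toMat_mul_eq_one _ _ (hg s), toMat_mul_eq_one _ _ (hgi s)⟩

theorem unitOf_val (s : ι) : (unitOf g gi hg hgi s).val = (g s).toMat := rfl

theorem unitOf_inv_val (s : ι) : ((unitOf g gi hg hgi s)⁻¹).val = (gi s).toMat := rfl

theorem lift_mulVec (L : List (ι × Bool)) (v : V14) :
    ((FreeGroup.lift (unitOf g gi hg hgi) (FreeGroup.mk L) : GL I14 (ZMod 3))).val *ᵥ v.toVec =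
      (ev g gi L v).toVec := by
  induction L with
  | nil =>
    have h : (FreeGroup.mk [] : FreeGroup ι) = 1 := rfl
    rw [h, map_one, ev]
    show (1 : Matrix I14 I14 (ZMod 3)) *ᵥ v.toVec = v.toVec
    rw [Matrix.one_mulVec]
  | cons p L ih =>
    obtain ⟨s, b⟩ := p
    have h : (FreeGroup.mk ((s, b) :: L) : FreeGroup ι) =
        FreeGroup.mk [(s, b)] * FreeGroup.mk L := rfl
    rw [h, map_mul]
    show (((FreeGroup.lift (unitOf g gi hg hgi) (FreeGroup.mk [(s, b)]) :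
        GL I14 (ZMod 3))).val *
      ((FreeGroup.lift (unitOf g gi hg hgi) (FreeGroup.mk L) : GL I14 (ZMod 3))).val) *ᵥ
        v.toVec = _
    rw [← Matrix.mulVec_mulVec, ih]
    cases b
    · have h3 : (FreeGroup.mk [(s, false)] : FreeGroup ι) = (FreeGroup.of s)⁻¹ := rfl
      rw [h3, map_inv, FreeGroup.lift_apply_of, unitOf_inv_val, ev]
      exact toMat_mulVec _ _
    · have h3 : (FreeGroup.mk [(s, true)] : FreeGroup ι) = FreeGroup.of s := rfl
      rw [h3, FreeGroup.lift_apply_of, unitOf_val, ev]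
      exact toMat_mulVec _ _

theorem lift_val_eq [DecidableEq ι] (r : FreeGroup ι) (B : M14)
    (h : ∀ j : Fin 14, ev g gi r.toWord (bas j) = B.app (bas j)) :
    ((FreeGroup.lift (unitOf g gi hg hgi) r : GL I14 (ZMod 3))).val = B.toMat := by
  have e : r = FreeGroup.mk r.toWord := FreeGroup.mk_toWord.symm
  rw [e]
  apply eq_of_bas
  intro j
  rw [lift_mulVec, h j, toMat_mulVec]

theorem lift_eq_one [DecidableEq ι] (r : FreeGroup ι)
    (h : ∀ j : Fin 14, ev g gi r.toWord (bas j) = bas j) :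
    FreeGroup.lift (unitOf g gi hg hgi) r = 1 := by
  have e : r = FreeGroup.mk r.toWord := FreeGroup.mk_toWord.symm
  rw [e]
  apply Units.ext
  show _ = (1 : Matrix I14 I14 (ZMod 3))
  apply eq_one_of_bas
  intro j
  rw [lift_mulVec, h j]

end Family

end Cfsg.Agent.Helper9.Vec14F3
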