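import Mathlib
import Cfsg.Prelude.Def_ChevG2
import Cfsg.Agent.Lib.Helper9.Vec14F4

set_option autoImplicit false
set_option maxRecDepth 1000000

/-! Matrices of size 14 over the field with four elements: the root elements of the Chevalley
group of type `G₂`, six involutions in the group they generate, and words expressing the former by
the latter and conversely. -/

namespace Cfsg.Agent.Helper9.G24Mat

open Matrix Cfsg Cfsg.Lie Cfsg.Agent.Helper9 Cfsg.Agent.Helper9.Vec14F4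

open F4 in
/-- The rows of the six involutions. -/
def gA : Fin 6 → M14 := ![
  ⟨⟨o, z, z, z, z, z, z, z, z, z, z, z, z, o⟩,
    ⟨z, o, z, z, z, z, z, z, z, z, z, z, z, z⟩,
    ⟨z, o, o, z, z, z, z, z, z, z, z, z, z, o⟩,
    ⟨z, z, z, o, z, z, z, z, o, z, z, z, z, z⟩,
    ⟨z, z, z, z, o, z, z, z, z, z, o, z, z, z⟩,
    ⟨z, z, z, z, z, o, z, z, z, z, z, o, z, z⟩,
    ⟨z, z, z, z, z, z, o, z, z, z, z, z, z, z⟩,
    ⟨z, z, z, z, z, z, z, o, z, z, z, z, o, z⟩,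
    ⟨z, z, z, z, z, z, z, z, o, z, z, z, z, z⟩,
    ⟨z, z, z, z, z, z, z, z, z, o, z, z, z, z⟩,
    ⟨z, z, z, z, z, z, z, z, z, z, o, z, z, z⟩,
    ⟨z, z, z, z, z, z, z, z, z, z, z, o, z, z⟩,
    ⟨z, z, z, z, z, z, z, z, z, z, z, z, o, z⟩,
    ⟨z, z, z, z, z, z, z, z, z, z, z, z, z, o⟩⟩,
  ⟨⟨w, w, o, o, o, w, z, o, o, o, w, w, o, w2⟩,
    ⟨o, w, w2, z, z, z, z, z, z, w2, z, z, z, w⟩,
    ⟨w, w2, o, w2, w, o, z, z, w2, o, w, o, o, w2⟩,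
    ⟨z, o, z, o, w, w2, w2, o, w2, w, w2, w, w, o⟩,
    ⟨z, w, w2, w, w2, w2, z, o, o, o, o, w, w, o⟩,
    ⟨z, w, o, w2, w, w, w, o, w, w2, o, o, w2, w⟩,
    ⟨w2, o, w, z, o, o, z, o, z, w, w2, o, w, o⟩,
    ⟨z, o, w, o, w2, w, z, o, w2, z, w, o, w2, w2⟩,
    ⟨z, o, o, w, w2, w, o, w2, o, o, o, o, o, z⟩,
    ⟨z, z, z, z, w2, z, z, o, z, z, w, z, w2, z⟩,
    ⟨z, w, w2, w2, o, o, z, w, w, o, w, w2, w2, o⟩,
    ⟨z, o, o, o, w2, o, w2, w2, w2, o, w, w2, w, w⟩,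
    ⟨z, o, w, w, o, w2, z, w, o, z, w2, w, o, w2⟩,
    ⟨w2, o, w, w, o, w2, z, o, w, w, o, w2, z, o⟩⟩,
  ⟨⟨o, z, z, z, z, z, z, z, z, z, z, z, z, o⟩,
    ⟨z, o, z, z, z, z, z, z, o, z, z, z, z, z⟩,
    ⟨z, o, o, o, z, z, z, z, o, z, z, z, z, o⟩,
    ⟨z, z, z, o, z, z, z, z, o, z, z, z, z, z⟩,
    ⟨z, z, z, z, o, z, z, z, z, z, o, z, z, z⟩,
    ⟨z, z, z, z, z, o, o, z, z, z, z, o, z, z⟩,
    ⟨z, z, z, z, z, z, o, z, z, z, z, z, z, z⟩,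
    ⟨o, z, z, z, z, z, z, o, o, z, z, z, o, o⟩,
    ⟨z, z, z, z, z, z, z, z, o, z, z, z, z, z⟩,
    ⟨z, z, z, z, z, z, z, z, z, o, o, z, z, z⟩,
    ⟨z, z, z, z, z, z, z, z, z, z, o, z, z, z⟩,
    ⟨z, z, z, z, z, z, z, z, z, z, z, o, z, z⟩,
    ⟨z, z, z, z, z, z, z, z, z, z, z, z, o, o⟩,
    ⟨z, z, z, z, z, z, z, z, z, z, z, z, z, o⟩⟩,
  ⟨⟨o, o, z, z, z, z, z, z, w, z, z, o, z, z⟩,
    ⟨z, o, z, z, z, z, z, z, w, z, o, o, w, w⟩,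
    ⟨w, z, o, w, o, o, w2, w, z, w2, o, w2, w2, w⟩,
    ⟨w, z, z, z, z, z, z, o, w2, o, w, o, o, w2⟩,
    ⟨o, o, z, z, z, o, w, z, w, z, o, o, o, w2⟩,
    ⟨o, z, z, z, o, z, z, z, o, w, w2, o, w, o⟩,
    ⟨z, z, z, z, z, z, z, z, z, o, w, z, o, w2⟩,
    ⟨w, w, z, o, z, z, o, z, w2, z, o, w, w2, z⟩,
    ⟨z, z, z, z, z, z, z, z, z, z, z, z, o, w⟩,
    ⟨z, z, z, z, z, z, o, z, o, z, z, w, z, w2⟩,
    ⟨z, z, z, z, z, z, z, z, z, z, z, o, z, o⟩,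
    ⟨z, z, z, z, z, z, z, z, z, z, o, z, z, o⟩,
    ⟨z, z, z, z, z, z, z, z, o, z, z, z, z, w⟩,
    ⟨z, z, z, z, z, z, z, z, z, z, z, z, z, o⟩⟩,
  ⟨⟨o, z, z, z, z, z, o, z, w2, z, w2, z, z, w⟩,
    ⟨z, o, z, z, z, z, z, z, w, z, w2, w2, z, w⟩,
    ⟨w, w, o, w, w2, w2, w2, z, w, w, w, z, o, o⟩,
    ⟨z, z, z, o, z, z, w2, z, w, z, w, z, z, o⟩,
    ⟨w2, z, z, o, o, z, w2, z, z, z, z, w, z, z⟩,
    ⟨w2, w2, z, o, z, o, o, z, w2, z, z, z, w, w⟩,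
    ⟨z, z, z, z, z, z, o, z, w2, z, z, z, z, w⟩,
    ⟨w, w2, z, o, o, o, o, o, w, w2, w2, z, w, w⟩,
    ⟨z, z, z, z, z, z, z, z, o, z, z, z, z, z⟩,
    ⟨z, o, z, z, z, z, o, z, o, o, o, w2, w2, w2⟩,
    ⟨z, z, z, z, z, z, z, z, o, z, o, z, z, w2⟩,
    ⟨z, z, z, z, z, z, z, z, o, z, z, o, z, w2⟩,
    ⟨z, z, z, z, z, z, z, z, o, z, o, o, o, w⟩,
    ⟨z, z, z, z, z, z, z, z, z, z, z, z, z, o⟩⟩,
  ⟨⟨o, z, z, z, z, z, z, z, z, z, z, z, z, w⟩,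
    ⟨z, o, z, z, z, z, z, z, z, z, z, z, z, z⟩,
    ⟨z, w, o, z, z, z, z, z, z, z, z, z, z, w2⟩,
    ⟨z, z, z, o, z, z, z, z, w, z, z, z, z, z⟩,
    ⟨z, z, z, z, o, z, z, z, z, z, w, z, z, z⟩,
    ⟨z, z, z, z, z, o, z, z, z, z, z, w, z, z⟩,
    ⟨z, z, z, z, z, z, o, z, z, z, z, z, z, z⟩,
    ⟨z, z, z, z, z, z, z, o, z, z, z, z, w, z⟩,
    ⟨z, z, z, z, z, z, z, z, o, z, z, z, z, z⟩,
    ⟨z, z, z, z, z, z, z, z, z, o, z, z, z, z⟩,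
    ⟨z, z, z, z, z, z, z, z, z, z, o, z, z, z⟩,
    ⟨z, z, z, z, z, z, z, z, z, z, z, o, z, z⟩,
    ⟨z, z, z, z, z, z, z, z, z, z, z, z, o, z⟩,
    ⟨z, z, z, z, z, z, z, z, z, z, z, z, z, o⟩⟩]

open F4 in
/-- The identity matrix. -/
def idM : M14 :=
  ⟨⟨o, z, z, z, z, z, z, z, z, z, z, z, z, z⟩,
    ⟨z, o, z, z, z, z, z, z, z, z, z, z, z, z⟩,
    ⟨z, z, o, z, z, z, z, z, z, z, z, z, z, z⟩,
    ⟨z, z, z, o, z, z, z, z, z, z, z, z, z, z⟩,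
    ⟨z, z, z, z, o, z, z, z, z, z, z, z, z, z⟩,
    ⟨z, z, z, z, z, o, z, z, z, z, z, z, z, z⟩,
    ⟨z, z, z, z, z, z, o, z, z, z, z, z, z, z⟩,
    ⟨z, z, z, z, z, z, z, o, z, z, z, z, z, z⟩,
    ⟨z, z, z, z, z, z, z, z, o, z, z, z, z, z⟩,
    ⟨z, z, z, z, z, z, z, z, z, o, z, z, z, z⟩,
    ⟨z, z, z, z, z, z, z, z, z, z, o, z, z, z⟩,
    ⟨z, z, z, z, z, z, z, z, z, z, z, o, z, z⟩,
    ⟨z, z, z, z, z, z, z, z, z, z, z, z, o, z⟩,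
    ⟨z, z, z, z, z, z, z, z, z, z, z, z, z, o⟩⟩

open F4 in
/-- The rows of the root elements with parameter `1`. -/
def xr1 : Fin 12 → M14 := ![
  ⟨⟨o, z, z, z, z, z, z, z, z, z, z, z, z, o⟩,
    ⟨z, o, z, z, z, z, z, z, z, z, z, z, z, z⟩,
    ⟨z, o, o, z, z, z, z, z, z, z, z, z, z, o⟩,
    ⟨z, z, z, o, z, z, z, z, o, z, z, z, z, z⟩,
    ⟨z, z, z, z, o, z, z, z, z, z, o, z, z, z⟩,
    ⟨z, z, z, z, z, o, z, z, z, z, z, o, z, z⟩,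
    ⟨z, z, z, z, z, z, o, z, z, z, z, z, z, z⟩,
    ⟨z, z, z, z, z, z, z, o, z, z, z, z, o, z⟩,
    ⟨z, z, z, z, z, z, z, z, o, z, z, z, z, z⟩,
    ⟨z, z, z, z, z, z, z, z, z, o, z, z, z, z⟩,
    ⟨z, z, z, z, z, z, z, z, z, z, o, z, z, z⟩,
    ⟨z, z, z, z, z, z, z, z, z, z, z, o, z, z⟩,
    ⟨z, z, z, z, z, z, z, z, z, z, z, z, o, z⟩,
    ⟨z, z, z, z, z, z, z, z, z, z, z, z, z, o⟩⟩,
  ⟨⟨o, z, z, z, z, z, z, z, z, z, z, z, o, z⟩,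
    ⟨z, o, z, z, z, z, z, z, z, z, z, z, o, z⟩,
    ⟨z, z, o, z, z, z, z, o, z, z, z, z, z, z⟩,
    ⟨o, o, z, o, z, z, z, z, z, z, z, z, o, z⟩,
    ⟨z, z, z, z, o, z, z, z, z, o, z, z, z, z⟩,
    ⟨z, z, z, z, z, o, z, z, z, z, z, z, z, z⟩,
    ⟨z, z, z, z, z, z, o, z, z, z, z, o, z, z⟩,
    ⟨z, z, z, z, z, z, z, o, z, z, z, z, z, z⟩,
    ⟨z, z, z, z, z, z, z, z, o, z, z, z, z, o⟩,
    ⟨z, z, z, z, z, z, z, z, z, o, z, z, z, z⟩,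
    ⟨z, z, z, z, z, z, z, z, z, z, o, z, z, z⟩,
    ⟨z, z, z, z, z, z, z, z, z, z, z, o, z, z⟩,
    ⟨z, z, z, z, z, z, z, z, z, z, z, z, o, z⟩,
    ⟨z, z, z, z, z, z, z, z, z, z, z, z, z, o⟩⟩,
  ⟨⟨o, z, z, z, z, z, z, z, z, z, z, z, z, z⟩,
    ⟨z, o, z, z, z, z, z, z, z, z, z, o, z, z⟩,
    ⟨z, z, o, z, z, o, z, z, z, o, z, z, o, z⟩,
    ⟨z, z, z, o, z, z, o, z, z, z, o, z, z, o⟩,
    ⟨o, z, z, z, o, z, z, z, z, z, z, o, z, z⟩,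
    ⟨z, z, z, z, z, o, z, z, z, z, z, z, o, z⟩,
    ⟨z, z, z, z, z, z, o, z, z, z, z, z, z, o⟩,
    ⟨z, z, z, z, z, z, z, o, z, z, z, z, z, z⟩,
    ⟨z, z, z, z, z, z, z, z, o, z, z, z, z, z⟩,
    ⟨z, z, z, z, z, z, z, z, z, o, z, z, o, z⟩,
    ⟨z, z, z, z, z, z, z, z, z, z, o, z, z, o⟩,
    ⟨z, z, z, z, z, z, z, z, z, z, z, o, z, z⟩,
    ⟨z, z, z, z, z, z, z, z, z, z, z, z, o, z⟩,
    ⟨z, z, z, z, z, z, z, z, z, z, z, z, z, o⟩⟩,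
  ⟨⟨o, z, z, z, z, z, z, z, z, z, o, z, z, z⟩,
    ⟨z, o, z, z, z, z, z, z, z, z, o, z, z, z⟩,
    ⟨z, z, o, z, o, z, o, z, o, z, z, z, z, z⟩,
    ⟨z, z, z, o, z, z, z, z, z, z, z, z, z, z⟩,
    ⟨z, z, z, z, o, z, z, z, o, z, z, z, z, z⟩,
    ⟨o, o, z, z, z, o, z, z, z, z, o, z, z, z⟩,
    ⟨z, z, z, z, z, z, o, z, o, z, z, z, z, z⟩,
    ⟨z, z, z, z, z, z, z, o, z, o, z, o, z, o⟩,
    ⟨z, z, z, z, z, z, z, z, o, z, z, z, z, z⟩,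
    ⟨z, z, z, z, z, z, z, z, z, o, z, z, z, o⟩,
    ⟨z, z, z, z, z, z, z, z, z, z, o, z, z, z⟩,
    ⟨z, z, z, z, z, z, z, z, z, z, z, o, z, o⟩,
    ⟨z, z, z, z, z, z, z, z, z, z, z, z, o, z⟩,
    ⟨z, z, z, z, z, z, z, z, z, z, z, z, z, o⟩⟩,
  ⟨⟨o, z, z, z, z, z, z, z, z, o, z, z, z, z⟩,
    ⟨z, o, z, z, z, z, z, z, z, z, z, z, z, z⟩,
    ⟨z, z, o, z, z, z, z, z, z, z, z, z, z, z⟩,
    ⟨z, z, z, o, o, o, z, o, z, z, z, z, z, z⟩,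
    ⟨z, z, z, z, o, z, z, o, z, z, z, z, z, z⟩,
    ⟨z, z, z, z, z, o, z, o, z, z, z, z, z, z⟩,
    ⟨z, o, z, z, z, z, o, z, z, o, z, z, z, z⟩,
    ⟨z, z, z, z, z, z, z, o, z, z, z, z, z, z⟩,
    ⟨z, z, z, z, z, z, z, z, o, z, o, o, o, z⟩,
    ⟨z, z, z, z, z, z, z, z, z, o, z, z, z, z⟩,
    ⟨z, z, z, z, z, z, z, z, z, z, o, z, o, z⟩,
    ⟨z, z, z, z, z, z, z, z, z, z, z, o, o, z⟩,
    ⟨z, z, z, z, z, z, z, z, z, z, z, z, o, z⟩,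
    ⟨z, z, z, z, z, z, z, z, z, z, z, z, z, o⟩⟩,
  ⟨⟨o, z, z, z, z, z, z, z, z, z, z, z, z, z⟩,
    ⟨z, o, z, z, z, z, z, z, o, z, z, z, z, z⟩,
    ⟨z, z, o, o, z, z, z, z, z, z, z, z, z, z⟩,
    ⟨z, z, z, o, z, z, z, z, z, z, z, z, z, z⟩,
    ⟨z, z, z, z, o, z, z, z, z, z, z, z, z, z⟩,
    ⟨z, z, z, z, z, o, o, z, z, z, z, z, z, z⟩,
    ⟨z, z, z, z, z, z, o, z, z, z, z, z, z, z⟩,
    ⟨o, z, z, z, z, z, z, o, o, z, z, z, z, z⟩,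
    ⟨z, z, z, z, z, z, z, z, o, z, z, z, z, z⟩,
    ⟨z, z, z, z, z, z, z, z, z, o, o, z, z, z⟩,
    ⟨z, z, z, z, z, z, z, z, z, z, o, z, z, z⟩,
    ⟨z, z, z, z, z, z, z, z, z, z, z, o, z, z⟩,
    ⟨z, z, z, z, z, z, z, z, z, z, z, z, o, o⟩,
    ⟨z, z, z, z, z, z, z, z, z, z, z, z, z, o⟩⟩,
  ⟨⟨o, z, z, z, z, z, z, z, z, z, z, z, z, z⟩,
    ⟨z, o, z, z, z, z, z, o, z, z, z, z, z, z⟩,
    ⟨z, z, o, z, z, z, z, z, z, z, z, z, z, z⟩,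
    ⟨z, z, o, o, z, z, z, z, z, z, z, z, z, z⟩,
    ⟨z, z, z, z, o, z, z, z, z, z, z, z, z, z⟩,
    ⟨z, z, z, z, z, o, z, z, z, z, z, z, z, z⟩,
    ⟨z, z, z, z, z, o, o, z, z, z, z, z, z, z⟩,
    ⟨z, z, z, z, z, z, z, o, z, z, z, z, z, z⟩,
    ⟨o, z, z, z, z, z, z, o, o, z, z, z, z, z⟩,
    ⟨z, z, z, z, z, z, z, z, z, o, z, z, z, z⟩,
    ⟨z, z, z, z, z, z, z, z, z, o, o, z, z, z⟩,
    ⟨z, z, z, z, z, z, z, z, z, z, z, o, z, z⟩,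
    ⟨z, z, z, z, z, z, z, z, z, z, z, z, o, z⟩,
    ⟨z, z, z, z, z, z, z, z, z, z, z, z, o, o⟩⟩,
  ⟨⟨o, z, z, z, z, z, o, z, z, z, z, z, z, z⟩,
    ⟨z, o, z, z, z, z, z, z, z, z, z, z, z, z⟩,
    ⟨z, z, o, z, z, z, z, z, z, z, z, z, z, z⟩,
    ⟨z, z, z, o, z, z, z, z, z, z, z, z, z, z⟩,
    ⟨z, z, z, o, o, z, z, z, z, z, z, z, z, z⟩,
    ⟨z, z, z, o, z, o, z, z, z, z, z, z, z, z⟩,
    ⟨z, z, z, z, z, z, o, z, z, z, z, z, z, z⟩,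
    ⟨z, z, z, o, o, o, z, o, z, z, z, z, z, z⟩,
    ⟨z, z, z, z, z, z, z, z, o, z, z, z, z, z⟩,
    ⟨z, o, z, z, z, z, o, z, z, o, z, z, z, z⟩,
    ⟨z, z, z, z, z, z, z, z, o, z, o, z, z, z⟩,
    ⟨z, z, z, z, z, z, z, z, o, z, z, o, z, z⟩,
    ⟨z, z, z, z, z, z, z, z, o, z, o, o, o, z⟩,
    ⟨z, z, z, z, z, z, z, z, z, z, z, z, z, o⟩⟩,
  ⟨⟨o, z, z, z, z, o, z, z, z, z, z, z, z, z⟩,
    ⟨z, o, z, z, z, o, z, z, z, z, z, z, z, z⟩,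
    ⟨z, z, o, z, z, z, z, z, z, z, z, z, z, z⟩,
    ⟨z, z, z, o, z, z, z, z, z, z, z, z, z, z⟩,
    ⟨z, z, o, z, o, z, z, z, z, z, z, z, z, z⟩,
    ⟨z, z, z, z, z, o, z, z, z, z, z, z, z, z⟩,
    ⟨z, z, o, z, z, z, o, z, z, z, z, z, z, z⟩,
    ⟨z, z, z, z, z, z, z, o, z, z, z, z, z, z⟩,
    ⟨z, z, o, z, o, z, o, z, o, z, z, z, z, z⟩,
    ⟨z, z, z, z, z, z, z, o, z, o, z, z, z, z⟩,
    ⟨o, o, z, z, z, o, z, z, z, z, o, z, z, z⟩,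
    ⟨z, z, z, z, z, z, z, o, z, z, z, o, z, z⟩,
    ⟨z, z, z, z, z, z, z, z, z, z, z, z, o, z⟩,
    ⟨z, z, z, z, z, z, z, o, z, o, z, o, z, o⟩⟩,
  ⟨⟨o, z, z, z, z, z, z, z, z, z, z, z, z, z⟩,
    ⟨z, o, z, z, o, z, z, z, z, z, z, z, z, z⟩,
    ⟨z, z, o, z, z, z, z, z, z, z, z, z, z, z⟩,
    ⟨z, z, z, o, z, z, z, z, z, z, z, z, z, z⟩,
    ⟨z, z, z, z, o, z, z, z, z, z, z, z, z, z⟩,
    ⟨z, z, o, z, z, o, z, z, z, z, z, z, z, z⟩,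
    ⟨z, z, z, o, z, z, o, z, z, z, z, z, z, z⟩,
    ⟨z, z, z, z, z, z, z, o, z, z, z, z, z, z⟩,
    ⟨z, z, z, z, z, z, z, z, o, z, z, z, z, z⟩,
    ⟨z, z, o, z, z, z, z, z, z, o, z, z, z, z⟩,
    ⟨z, z, z, o, z, z, z, z, z, z, o, z, z, z⟩,
    ⟨o, z, z, z, o, z, z, z, z, z, z, o, z, z⟩,
    ⟨z, z, o, z, z, o, z, z, z, o, z, z, o, z⟩,
    ⟨z, z, z, o, z, z, o, z, z, z, o, z, z, o⟩⟩,
  ⟨⟨o, z, z, o, z, z, z, z, z, z, z, z, z, z⟩,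
    ⟨z, o, z, o, z, z, z, z, z, z, z, z, z, z⟩,
    ⟨z, z, o, z, z, z, z, z, z, z, z, z, z, z⟩,
    ⟨z, z, z, o, z, z, z, z, z, z, z, z, z, z⟩,
    ⟨z, z, z, z, o, z, z, z, z, z, z, z, z, z⟩,
    ⟨z, z, z, z, z, o, z, z, z, z, z, z, z, z⟩,
    ⟨z, z, z, z, z, z, o, z, z, z, z, z, z, z⟩,
    ⟨z, z, o, z, z, z, z, o, z, z, z, z, z, z⟩,
    ⟨z, z, z, z, z, z, z, z, o, z, z, z, z, z⟩,
    ⟨z, z, z, z, o, z, z, z, z, o, z, z, z, z⟩,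
    ⟨z, z, z, z, z, z, z, z, z, z, o, z, z, z⟩,
    ⟨z, z, z, z, z, z, o, z, z, z, z, o, z, z⟩,
    ⟨o, o, z, o, z, z, z, z, z, z, z, z, o, z⟩,
    ⟨z, z, z, z, z, z, z, z, o, z, z, z, z, o⟩⟩,
  ⟨⟨o, z, o, z, z, z, z, z, z, z, z, z, z, z⟩,
    ⟨z, o, z, z, z, z, z, z, z, z, z, z, z, z⟩,
    ⟨z, z, o, z, z, z, z, z, z, z, z, z, z, z⟩,
    ⟨z, z, z, o, z, z, z, z, z, z, z, z, z, z⟩,
    ⟨z, z, z, z, o, z, z, z, z, z, z, z, z, z⟩,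
    ⟨z, z, z, z, z, o, z, z, z, z, z, z, z, z⟩,
    ⟨z, z, z, z, z, z, o, z, z, z, z, z, z, z⟩,
    ⟨z, z, z, z, z, z, z, o, z, z, z, z, z, z⟩,
    ⟨z, z, z, o, z, z, z, z, o, z, z, z, z, z⟩,
    ⟨z, z, z, z, z, z, z, z, z, o, z, z, z, z⟩,
    ⟨z, z, z, z, o, z, z, z, z, z, o, z, z, z⟩,
    ⟨z, z, z, z, z, o, z, z, z, z, z, o, z, z⟩,
    ⟨z, z, z, z, z, z, z, o, z, z, z, z, o, z⟩,
    ⟨z, o, o, z, z, z, z, z, z, z, z, z, z, o⟩⟩]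

open F4 in
/-- The rows of the root elements with parameter `ω`. -/
def xr2 : Fin 12 → M14 := ![
  ⟨⟨o, z, z, z, z, z, z, z, z, z, z, z, z, w⟩,
    ⟨z, o, z, z, z, z, z, z, z, z, z, z, z, z⟩,
    ⟨z, w, o, z, z, z, z, z, z, z, z, z, z, w2⟩,
    ⟨z, z, z, o, z, z, z, z, w, z, z, z, z, z⟩,
    ⟨z, z, z, z, o, z, z, z, z, z, w, z, z, z⟩,
    ⟨z, z, z, z, z, o, z, z, z, z, z, w, z, z⟩,
    ⟨z, z, z, z, z, z, o, z, z, z, z, z, z, z⟩,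
    ⟨z, z, z, z, z, z, z, o, z, z, z, z, w, z⟩,
    ⟨z, z, z, z, z, z, z, z, o, z, z, z, z, z⟩,
    ⟨z, z, z, z, z, z, z, z, z, o, z, z, z, z⟩,
    ⟨z, z, z, z, z, z, z, z, z, z, o, z, z, z⟩,
    ⟨z, z, z, z, z, z, z, z, z, z, z, o, z, z⟩,
    ⟨z, z, z, z, z, z, z, z, z, z, z, z, o, z⟩,
    ⟨z, z, z, z, z, z, z, z, z, z, z, z, z, o⟩⟩,
  ⟨⟨o, z, z, z, z, z, z, z, z, z, z, z, w, z⟩,
    ⟨z, o, z, z, z, z, z, z, z, z, z, z, w, z⟩,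
    ⟨z, z, o, z, z, z, z, w, z, z, z, z, z, z⟩,
    ⟨w, w, z, o, z, z, z, z, z, z, z, z, w2, z⟩,
    ⟨z, z, z, z, o, z, z, z, z, w, z, z, z, z⟩,
    ⟨z, z, z, z, z, o, z, z, z, z, z, z, z, z⟩,
    ⟨z, z, z, z, z, z, o, z, z, z, z, w, z, z⟩,
    ⟨z, z, z, z, z, z, z, o, z, z, z, z, z, z⟩,
    ⟨z, z, z, z, z, z, z, z, o, z, z, z, z, w⟩,
    ⟨z, z, z, z, z, z, z, z, z, o, z, z, z, z⟩,
    ⟨z, z, z, z, z, z, z, z, z, z, o, z, z, z⟩,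
    ⟨z, z, z, z, z, z, z, z, z, z, z, o, z, z⟩,
    ⟨z, z, z, z, z, z, z, z, z, z, z, z, o, z⟩,
    ⟨z, z, z, z, z, z, z, z, z, z, z, z, z, o⟩⟩,
  ⟨⟨o, z, z, z, z, z, z, z, z, z, z, z, z, z⟩,
    ⟨z, o, z, z, z, z, z, z, z, z, z, w, z, z⟩,
    ⟨z, z, o, z, z, w, z, z, z, w2, z, z, o, z⟩,
    ⟨z, z, z, o, z, z, w, z, z, z, w2, z, z, o⟩,
    ⟨w, z, z, z, o, z, z, z, z, z, z, w2, z, z⟩,
    ⟨z, z, z, z, z, o, z, z, z, z, z, z, w2, z⟩,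
    ⟨z, z, z, z, z, z, o, z, z, z, z, z, z, w2⟩,
    ⟨z, z, z, z, z, z, z, o, z, z, z, z, z, z⟩,
    ⟨z, z, z, z, z, z, z, z, o, z, z, z, z, z⟩,
    ⟨z, z, z, z, z, z, z, z, z, o, z, z, w, z⟩,
    ⟨z, z, z, z, z, z, z, z, z, z, o, z, z, w⟩,
    ⟨z, z, z, z, z, z, z, z, z, z, z, o, z, z⟩,
    ⟨z, z, z, z, z, z, z, z, z, z, z, z, o, z⟩,
    ⟨z, z, z, z, z, z, z, z, z, z, z, z, z, o⟩⟩,
  ⟨⟨o, z, z, z, z, z, z, z, z, z, w, z, z, z⟩,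
    ⟨z, o, z, z, z, z, z, z, z, z, w, z, z, z⟩,
    ⟨z, z, o, z, w, z, w2, z, o, z, z, z, z, z⟩,
    ⟨z, z, z, o, z, z, z, z, z, z, z, z, z, z⟩,
    ⟨z, z, z, z, o, z, z, z, w2, z, z, z, z, z⟩,
    ⟨w, w, z, z, z, o, z, z, z, z, w2, z, z, z⟩,
    ⟨z, z, z, z, z, z, o, z, w, z, z, z, z, z⟩,
    ⟨z, z, z, z, z, z, z, o, z, w, z, w2, z, o⟩,
    ⟨z, z, z, z, z, z, z, z, o, z, z, z, z, z⟩,
    ⟨z, z, z, z, z, z, z, z, z, o, z, z, z, w2⟩,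
    ⟨z, z, z, z, z, z, z, z, z, z, o, z, z, z⟩,
    ⟨z, z, z, z, z, z, z, z, z, z, z, o, z, w⟩,
    ⟨z, z, z, z, z, z, z, z, z, z, z, z, o, z⟩,
    ⟨z, z, z, z, z, z, z, z, z, z, z, z, z, o⟩⟩,
  ⟨⟨o, z, z, z, z, z, z, z, z, w, z, z, z, z⟩,
    ⟨z, o, z, z, z, z, z, z, z, z, z, z, z, z⟩,
    ⟨z, z, o, z, z, z, z, z, z, z, z, z, z, z⟩,
    ⟨z, z, z, o, w, w2, z, o, z, z, z, z, z, z⟩,
    ⟨z, z, z, z, o, z, z, w2, z, z, z, z, z, z⟩,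
    ⟨z, z, z, z, z, o, z, w, z, z, z, z, z, z⟩,
    ⟨z, w, z, z, z, z, o, z, z, w2, z, z, z, z⟩,
    ⟨z, z, z, z, z, z, z, o, z, z, z, z, z, z⟩,
    ⟨z, z, z, z, z, z, z, z, o, z, w, w2, o, z⟩,
    ⟨z, z, z, z, z, z, z, z, z, o, z, z, z, z⟩,
    ⟨z, z, z, z, z, z, z, z, z, z, o, z, w2, z⟩,
    ⟨z, z, z, z, z, z, z, z, z, z, z, o, w, z⟩,
    ⟨z, z, z, z, z, z, z, z, z, z, z, z, o, z⟩,
    ⟨z, z, z, z, z, z, z, z, z, z, z, z, z, o⟩⟩,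
  ⟨⟨o, z, z, z, z, z, z, z, z, z, z, z, z, z⟩,
    ⟨z, o, z, z, z, z, z, z, w, z, z, z, z, z⟩,
    ⟨z, z, o, w, z, z, z, z, z, z, z, z, z, z⟩,
    ⟨z, z, z, o, z, z, z, z, z, z, z, z, z, z⟩,
    ⟨z, z, z, z, o, z, z, z, z, z, z, z, z, z⟩,
    ⟨z, z, z, z, z, o, w, z, z, z, z, z, z, z⟩,
    ⟨z, z, z, z, z, z, o, z, z, z, z, z, z, z⟩,
    ⟨w, z, z, z, z, z, z, o, w2, z, z, z, z, z⟩,
    ⟨z, z, z, z, z, z, z, z, o, z, z, z, z, z⟩,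
    ⟨z, z, z, z, z, z, z, z, z, o, w, z, z, z⟩,
    ⟨z, z, z, z, z, z, z, z, z, z, o, z, z, z⟩,
    ⟨z, z, z, z, z, z, z, z, z, z, z, o, z, z⟩,
    ⟨z, z, z, z, z, z, z, z, z, z, z, z, o, w⟩,
    ⟨z, z, z, z, z, z, z, z, z, z, z, z, z, o⟩⟩,
  ⟨⟨o, z, z, z, z, z, z, z, z, z, z, z, z, z⟩,
    ⟨z, o, z, z, z, z, z, w, z, z, z, z, z, z⟩,
    ⟨z, z, o, z, z, z, z, z, z, z, z, z, z, z⟩,
    ⟨z, z, w, o, z, z, z, z, z, z, z, z, z, z⟩,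
    ⟨z, z, z, z, o, z, z, z, z, z, z, z, z, z⟩,
    ⟨z, z, z, z, z, o, z, z, z, z, z, z, z, z⟩,
    ⟨z, z, z, z, z, w, o, z, z, z, z, z, z, z⟩,
    ⟨z, z, z, z, z, z, z, o, z, z, z, z, z, z⟩,
    ⟨w, z, z, z, z, z, z, w2, o, z, z, z, z, z⟩,
    ⟨z, z, z, z, z, z, z, z, z, o, z, z, z, z⟩,
    ⟨z, z, z, z, z, z, z, z, z, w, o, z, z, z⟩,
    ⟨z, z, z, z, z, z, z, z, z, z, z, o, z, z⟩,
    ⟨z, z, z, z, z, z, z, z, z, z, z, z, o, z⟩,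
    ⟨z, z, z, z, z, z, z, z, z, z, z, z, w, o⟩⟩,
  ⟨⟨o, z, z, z, z, z, w, z, z, z, z, z, z, z⟩,
    ⟨z, o, z, z, z, z, z, z, z, z, z, z, z, z⟩,
    ⟨z, z, o, z, z, z, z, z, z, z, z, z, z, z⟩,
    ⟨z, z, z, o, z, z, z, z, z, z, z, z, z, z⟩,
    ⟨z, z, z, w, o, z, z, z, z, z, z, z, z, z⟩,
    ⟨z, z, z, w2, z, o, z, z, z, z, z, z, z, z⟩,
    ⟨z, z, z, z, z, z, o, z, z, z, z, z, z, z⟩,
    ⟨z, z, z, o, w2, w, z, o, z, z, z, z, z, z⟩,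
    ⟨z, z, z, z, z, z, z, z, o, z, z, z, z, z⟩,
    ⟨z, w, z, z, z, z, w2, z, z, o, z, z, z, z⟩,
    ⟨z, z, z, z, z, z, z, z, w, z, o, z, z, z⟩,
    ⟨z, z, z, z, z, z, z, z, w2, z, z, o, z, z⟩,
    ⟨z, z, z, z, z, z, z, z, o, z, w2, w, o, z⟩,
    ⟨z, z, z, z, z, z, z, z, z, z, z, z, z, o⟩⟩,
  ⟨⟨o, z, z, z, z, w, z, z, z, z, z, z, z, z⟩,
    ⟨z, o, z, z, z, w, z, z, z, z, z, z, z, z⟩,
    ⟨z, z, o, z, z, z, z, z, z, z, z, z, z, z⟩,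
    ⟨z, z, z, o, z, z, z, z, z, z, z, z, z, z⟩,
    ⟨z, z, w, z, o, z, z, z, z, z, z, z, z, z⟩,
    ⟨z, z, z, z, z, o, z, z, z, z, z, z, z, z⟩,
    ⟨z, z, w2, z, z, z, o, z, z, z, z, z, z, z⟩,
    ⟨z, z, z, z, z, z, z, o, z, z, z, z, z, z⟩,
    ⟨z, z, o, z, w2, z, w, z, o, z, z, z, z, z⟩,
    ⟨z, z, z, z, z, z, z, w, z, o, z, z, z, z⟩,
    ⟨w, w, z, z, z, w2, z, z, z, z, o, z, z, z⟩,
    ⟨z, z, z, z, z, z, z, w2, z, z, z, o, z, z⟩,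
    ⟨z, z, z, z, z, z, z, z, z, z, z, z, o, z⟩,
    ⟨z, z, z, z, z, z, z, o, z, w2, z, w, z, o⟩⟩,
  ⟨⟨o, z, z, z, z, z, z, z, z, z, z, z, z, z⟩,
    ⟨z, o, z, z, w, z, z, z, z, z, z, z, z, z⟩,
    ⟨z, z, o, z, z, z, z, z, z, z, z, z, z, z⟩,
    ⟨z, z, z, o, z, z, z, z, z, z, z, z, z, z⟩,
    ⟨z, z, z, z, o, z, z, z, z, z, z, z, z, z⟩,
    ⟨z, z, w, z, z, o, z, z, z, z, z, z, z, z⟩,
    ⟨z, z, z, w, z, z, o, z, z, z, z, z, z, z⟩,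
    ⟨z, z, z, z, z, z, z, o, z, z, z, z, z, z⟩,
    ⟨z, z, z, z, z, z, z, z, o, z, z, z, z, z⟩,
    ⟨z, z, w2, z, z, z, z, z, z, o, z, z, z, z⟩,
    ⟨z, z, z, w2, z, z, z, z, z, z, o, z, z, z⟩,
    ⟨w, z, z, z, w2, z, z, z, z, z, z, o, z, z⟩,
    ⟨z, z, o, z, z, w2, z, z, z, w, z, z, o, z⟩,
    ⟨z, z, z, o, z, z, w2, z, z, z, w, z, z, o⟩⟩,
  ⟨⟨o, z, z, w, z, z, z, z, z, z, z, z, z, z⟩,
    ⟨z, o, z, w, z, z, z, z, z, z, z, z, z, z⟩,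
    ⟨z, z, o, z, z, z, z, z, z, z, z, z, z, z⟩,
    ⟨z, z, z, o, z, z, z, z, z, z, z, z, z, z⟩,
    ⟨z, z, z, z, o, z, z, z, z, z, z, z, z, z⟩,
    ⟨z, z, z, z, z, o, z, z, z, z, z, z, z, z⟩,
    ⟨z, z, z, z, z, z, o, z, z, z, z, z, z, z⟩,
    ⟨z, z, w, z, z, z, z, o, z, z, z, z, z, z⟩,
    ⟨z, z, z, z, z, z, z, z, o, z, z, z, z, z⟩,
    ⟨z, z, z, z, w, z, z, z, z, o, z, z, z, z⟩,
    ⟨z, z, z, z, z, z, z, z, z, z, o, z, z, z⟩,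
    ⟨z, z, z, z, z, z, w, z, z, z, z, o, z, z⟩,
    ⟨w, w, z, w2, z, z, z, z, z, z, z, z, o, z⟩,
    ⟨z, z, z, z, z, z, z, z, w, z, z, z, z, o⟩⟩,
  ⟨⟨o, z, w, z, z, z, z, z, z, z, z, z, z, z⟩,
    ⟨z, o, z, z, z, z, z, z, z, z, z, z, z, z⟩,
    ⟨z, z, o, z, z, z, z, z, z, z, z, z, z, z⟩,
    ⟨z, z, z, o, z, z, z, z, z, z, z, z, z, z⟩,
    ⟨z, z, z, z, o, z, z, z, z, z, z, z, z, z⟩,
    ⟨z, z, z, z, z, o, z, z, z, z, z, z, z, z⟩,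
    ⟨z, z, z, z, z, z, o, z, z, z, z, z, z, z⟩,
    ⟨z, z, z, z, z, z, z, o, z, z, z, z, z, z⟩,
    ⟨z, z, z, w, z, z, z, z, o, z, z, z, z, z⟩,
    ⟨z, z, z, z, z, z, z, z, z, o, z, z, z, z⟩,
    ⟨z, z, z, z, w, z, z, z, z, z, o, z, z, z⟩,
    ⟨z, z, z, z, z, w, z, z, z, z, z, o, z, z⟩,
    ⟨z, z, z, z, z, z, z, w, z, z, z, z, o, z⟩,
    ⟨z, w, w2, z, z, z, z, z, z, z, z, z, z, o⟩⟩]

open F4 in
/-- The rows of the root elements with parameter `ω²`. -/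
def xr3 : Fin 12 → M14 := ![
  ⟨⟨o, z, z, z, z, z, z, z, z, z, z, z, z, w2⟩,
    ⟨z, o, z, z, z, z, z, z, z, z, z, z, z, z⟩,
    ⟨z, w2, o, z, z, z, z, z, z, z, z, z, z, w⟩,
    ⟨z, z, z, o, z, z, z, z, w2, z, z, z, z, z⟩,
    ⟨z, z, z, z, o, z, z, z, z, z, w2, z, z, z⟩,
    ⟨z, z, z, z, z, o, z, z, z, z, z, w2, z, z⟩,
    ⟨z, z, z, z, z, z, o, z, z, z, z, z, z, z⟩,
    ⟨z, z, z, z, z, z, z, o, z, z, z, z, w2, z⟩,
    ⟨z, z, z, z, z, z, z, z, o, z, z, z, z, z⟩,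
    ⟨z, z, z, z, z, z, z, z, z, o, z, z, z, z⟩,
    ⟨z, z, z, z, z, z, z, z, z, z, o, z, z, z⟩,
    ⟨z, z, z, z, z, z, z, z, z, z, z, o, z, z⟩,
    ⟨z, z, z, z, z, z, z, z, z, z, z, z, o, z⟩,
    ⟨z, z, z, z, z, z, z, z, z, z, z, z, z, o⟩⟩,
  ⟨⟨o, z, z, z, z, z, z, z, z, z, z, z, w2, z⟩,
    ⟨z, o, z, z, z, z, z, z, z, z, z, z, w2, z⟩,
    ⟨z, z, o, z, z, z, z, w2, z, z, z, z, z, z⟩,
    ⟨w2, w2, z, o, z, z, z, z, z, z, z, z, w, z⟩,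
    ⟨z, z, z, z, o, z, z, z, z, w2, z, z, z, z⟩,
    ⟨z, z, z, z, z, o, z, z, z, z, z, z, z, z⟩,
    ⟨z, z, z, z, z, z, o, z, z, z, z, w2, z, z⟩,
    ⟨z, z, z, z, z, z, z, o, z, z, z, z, z, z⟩,
    ⟨z, z, z, z, z, z, z, z, o, z, z, z, z, w2⟩,
    ⟨z, z, z, z, z, z, z, z, z, o, z, z, z, z⟩,
    ⟨z, z, z, z, z, z, z, z, z, z, o, z, z, z⟩,
    ⟨z, z, z, z, z, z, z, z, z, z, z, o, z, z⟩,
    ⟨z, z, z, z, z, z, z, z, z, z, z, z, o, z⟩,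
    ⟨z, z, z, z, z, z, z, z, z, z, z, z, z, o⟩⟩,
  ⟨⟨o, z, z, z, z, z, z, z, z, z, z, z, z, z⟩,
    ⟨z, o, z, z, z, z, z, z, z, z, z, w2, z, z⟩,
    ⟨z, z, o, z, z, w2, z, z, z, w, z, z, o, z⟩,
    ⟨z, z, z, o, z, z, w2, z, z, z, w, z, z, o⟩,
    ⟨w2, z, z, z, o, z, z, z, z, z, z, w, z, z⟩,
    ⟨z, z, z, z, z, o, z, z, z, z, z, z, w, z⟩,
    ⟨z, z, z, z, z, z, o, z, z, z, z, z, z, w⟩,
    ⟨z, z, z, z, z, z, z, o, z, z, z, z, z, z⟩,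
    ⟨z, z, z, z, z, z, z, z, o, z, z, z, z, z⟩,
    ⟨z, z, z, z, z, z, z, z, z, o, z, z, w2, z⟩,
    ⟨z, z, z, z, z, z, z, z, z, z, o, z, z, w2⟩,
    ⟨z, z, z, z, z, z, z, z, z, z, z, o, z, z⟩,
    ⟨z, z, z, z, z, z, z, z, z, z, z, z, o, z⟩,
    ⟨z, z, z, z, z, z, z, z, z, z, z, z, z, o⟩⟩,
  ⟨⟨o, z, z, z, z, z, z, z, z, z, w2, z, z, z⟩,
    ⟨z, o, z, z, z, z, z, z, z, z, w2, z, z, z⟩,
    ⟨z, z, o, z, w2, z, w, z, o, z, z, z, z, z⟩,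
    ⟨z, z, z, o, z, z, z, z, z, z, z, z, z, z⟩,
    ⟨z, z, z, z, o, z, z, z, w, z, z, z, z, z⟩,
    ⟨w2, w2, z, z, z, o, z, z, z, z, w, z, z, z⟩,
    ⟨z, z, z, z, z, z, o, z, w2, z, z, z, z, z⟩,
    ⟨z, z, z, z, z, z, z, o, z, w2, z, w, z, o⟩,
    ⟨z, z, z, z, z, z, z, z, o, z, z, z, z, z⟩,
    ⟨z, z, z, z, z, z, z, z, z, o, z, z, z, w⟩,
    ⟨z, z, z, z, z, z, z, z, z, z, o, z, z, z⟩,
    ⟨z, z, z, z, z, z, z, z, z, z, z, o, z, w2⟩,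
    ⟨z, z, z, z, z, z, z, z, z, z, z, z, o, z⟩,
    ⟨z, z, z, z, z, z, z, z, z, z, z, z, z, o⟩⟩,
  ⟨⟨o, z, z, z, z, z, z, z, z, w2, z, z, z, z⟩,
    ⟨z, o, z, z, z, z, z, z, z, z, z, z, z, z⟩,
    ⟨z, z, o, z, z, z, z, z, z, z, z, z, z, z⟩,
    ⟨z, z, z, o, w2, w, z, o, z, z, z, z, z, z⟩,
    ⟨z, z, z, z, o, z, z, w, z, z, z, z, z, z⟩,
    ⟨z, z, z, z, z, o, z, w2, z, z, z, z, z, z⟩,
    ⟨z, w2, z, z, z, z, o, z, z, w, z, z, z, z⟩,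
    ⟨z, z, z, z, z, z, z, o, z, z, z, z, z, z⟩,
    ⟨z, z, z, z, z, z, z, z, o, z, w2, w, o, z⟩,
    ⟨z, z, z, z, z, z, z, z, z, o, z, z, z, z⟩,
    ⟨z, z, z, z, z, z, z, z, z, z, o, z, w, z⟩,
    ⟨z, z, z, z, z, z, z, z, z, z, z, o, w2, z⟩,
    ⟨z, z, z, z, z, z, z, z, z, z, z, z, o, z⟩,
    ⟨z, z, z, z, z, z, z, z, z, z, z, z, z, o⟩⟩,
  ⟨⟨o, z, z, z, z, z, z, z, z, z, z, z, z, z⟩,
    ⟨z, o, z, z, z, z, z, z, w2, z, z, z, z, z⟩,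
    ⟨z, z, o, w2, z, z, z, z, z, z, z, z, z, z⟩,
    ⟨z, z, z, o, z, z, z, z, z, z, z, z, z, z⟩,
    ⟨z, z, z, z, o, z, z, z, z, z, z, z, z, z⟩,
    ⟨z, z, z, z, z, o, w2, z, z, z, z, z, z, z⟩,
    ⟨z, z, z, z, z, z, o, z, z, z, z, z, z, z⟩,
    ⟨w2, z, z, z, z, z, z, o, w, z, z, z, z, z⟩,
    ⟨z, z, z, z, z, z, z, z, o, z, z, z, z, z⟩,
    ⟨z, z, z, z, z, z, z, z, z, o, w2, z, z, z⟩,
    ⟨z, z, z, z, z, z, z, z, z, z, o, z, z, z⟩,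
    ⟨z, z, z, z, z, z, z, z, z, z, z, o, z, z⟩,
    ⟨z, z, z, z, z, z, z, z, z, z, z, z, o, w2⟩,
    ⟨z, z, z, z, z, z, z, z, z, z, z, z, z, o⟩⟩,
  ⟨⟨o, z, z, z, z, z, z, z, z, z, z, z, z, z⟩,
    ⟨z, o, z, z, z, z, z, w2, z, z, z, z, z, z⟩,
    ⟨z, z, o, z, z, z, z, z, z, z, z, z, z, z⟩,
    ⟨z, z, w2, o, z, z, z, z, z, z, z, z, z, z⟩,
    ⟨z, z, z, z, o, z, z, z, z, z, z, z, z, z⟩,
    ⟨z, z, z, z, z, o, z, z, z, z, z, z, z, z⟩,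
    ⟨z, z, z, z, z, w2, o, z, z, z, z, z, z, z⟩,
    ⟨z, z, z, z, z, z, z, o, z, z, z, z, z, z⟩,
    ⟨w2, z, z, z, z, z, z, w, o, z, z, z, z, z⟩,
    ⟨z, z, z, z, z, z, z, z, z, o, z, z, z, z⟩,
    ⟨z, z, z, z, z, z, z, z, z, w2, o, z, z, z⟩,
    ⟨z, z, z, z, z, z, z, z, z, z, z, o, z, z⟩,
    ⟨z, z, z, z, z, z, z, z, z, z, z, z, o, z⟩,
    ⟨z, z, z, z, z, z, z, z, z, z, z, z, w2, o⟩⟩,
  ⟨⟨o, z, z, z, z, z, w2, z, z, z, z, z, z, z⟩,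
    ⟨z, o, z, z, z, z, z, z, z, z, z, z, z, z⟩,
    ⟨z, z, o, z, z, z, z, z, z, z, z, z, z, z⟩,
    ⟨z, z, z, o, z, z, z, z, z, z, z, z, z, z⟩,
    ⟨z, z, z, w2, o, z, z, z, z, z, z, z, z, z⟩,
    ⟨z, z, z, w, z, o, z, z, z, z, z, z, z, z⟩,
    ⟨z, z, z, z, z, z, o, z, z, z, z, z, z, z⟩,
    ⟨z, z, z, o, w, w2, z, o, z, z, z, z, z, z⟩,
    ⟨z, z, z, z, z, z, z, z, o, z, z, z, z, z⟩,
    ⟨z, w2, z, z, z, z, w, z, z, o, z, z, z, z⟩,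
    ⟨z, z, z, z, z, z, z, z, w2, z, o, z, z, z⟩,
    ⟨z, z, z, z, z, z, z, z, w, z, z, o, z, z⟩,
    ⟨z, z, z, z, z, z, z, z, o, z, w, w2, o, z⟩,
    ⟨z, z, z, z, z, z, z, z, z, z, z, z, z, o⟩⟩,
  ⟨⟨o, z, z, z, z, w2, z, z, z, z, z, z, z, z⟩,
    ⟨z, o, z, z, z, w2, z, z, z, z, z, z, z, z⟩,
    ⟨z, z, o, z, z, z, z, z, z, z, z, z, z, z⟩,
    ⟨z, z, z, o, z, z, z, z, z, z, z, z, z, z⟩,
    ⟨z, z, w2, z, o, z, z, z, z, z, z, z, z, z⟩,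
    ⟨z, z, z, z, z, o, z, z, z, z, z, z, z, z⟩,
    ⟨z, z, w, z, z, z, o, z, z, z, z, z, z, z⟩,
    ⟨z, z, z, z, z, z, z, o, z, z, z, z, z, z⟩,
    ⟨z, z, o, z, w, z, w2, z, o, z, z, z, z, z⟩,
    ⟨z, z, z, z, z, z, z, w2, z, o, z, z, z, z⟩,
    ⟨w2, w2, z, z, z, w, z, z, z, z, o, z, z, z⟩,
    ⟨z, z, z, z, z, z, z, w, z, z, z, o, z, z⟩,
    ⟨z, z, z, z, z, z, z, z, z, z, z, z, o, z⟩,
    ⟨z, z, z, z, z, z, z, o, z, w, z, w2, z, o⟩⟩,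
  ⟨⟨o, z, z, z, z, z, z, z, z, z, z, z, z, z⟩,
    ⟨z, o, z, z, w2, z, z, z, z, z, z, z, z, z⟩,
    ⟨z, z, o, z, z, z, z, z, z, z, z, z, z, z⟩,
    ⟨z, z, z, o, z, z, z, z, z, z, z, z, z, z⟩,
    ⟨z, z, z, z, o, z, z, z, z, z, z, z, z, z⟩,
    ⟨z, z, w2, z, z, o, z, z, z, z, z, z, z, z⟩,
    ⟨z, z, z, w2, z, z, o, z, z, z, z, z, z, z⟩,
    ⟨z, z, z, z, z, z, z, o, z, z, z, z, z, z⟩,
    ⟨z, z, z, z, z, z, z, z, o, z, z, z, z, z⟩,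
    ⟨z, z, w, z, z, z, z, z, z, o, z, z, z, z⟩,
    ⟨z, z, z, w, z, z, z, z, z, z, o, z, z, z⟩,
    ⟨w2, z, z, z, w, z, z, z, z, z, z, o, z, z⟩,
    ⟨z, z, o, z, z, w, z, z, z, w2, z, z, o, z⟩,
    ⟨z, z, z, o, z, z, w, z, z, z, w2, z, z, o⟩⟩,
  ⟨⟨o, z, z, w2, z, z, z, z, z, z, z, z, z, z⟩,
    ⟨z, o, z, w2, z, z, z, z, z, z, z, z, z, z⟩,
    ⟨z, z, o, z, z, z, z, z, z, z, z, z, z, z⟩,
    ⟨z, z, z, o, z, z, z, z, z, z, z, z, z, z⟩,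
    ⟨z, z, z, z, o, z, z, z, z, z, z, z, z, z⟩,
    ⟨z, z, z, z, z, o, z, z, z, z, z, z, z, z⟩,
    ⟨z, z, z, z, z, z, o, z, z, z, z, z, z, z⟩,
    ⟨z, z, w2, z, z, z, z, o, z, z, z, z, z, z⟩,
    ⟨z, z, z, z, z, z, z, z, o, z, z, z, z, z⟩,
    ⟨z, z, z, z, w2, z, z, z, z, o, z, z, z, z⟩,
    ⟨z, z, z, z, z, z, z, z, z, z, o, z, z, z⟩,
    ⟨z, z, z, z, z, z, w2, z, z, z, z, o, z, z⟩,
    ⟨w2, w2, z, w, z, z, z, z, z, z, z, z, o, z⟩,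
    ⟨z, z, z, z, z, z, z, z, w2, z, z, z, z, o⟩⟩,
  ⟨⟨o, z, w2, z, z, z, z, z, z, z, z, z, z, z⟩,
    ⟨z, o, z, z, z, z, z, z, z, z, z, z, z, z⟩,
    ⟨z, z, o, z, z, z, z, z, z, z, z, z, z, z⟩,
    ⟨z, z, z, o, z, z, z, z, z, z, z, z, z, z⟩,
    ⟨z, z, z, z, o, z, z, z, z, z, z, z, z, z⟩,
    ⟨z, z, z, z, z, o, z, z, z, z, z, z, z, z⟩,
    ⟨z, z, z, z, z, z, o, z, z, z, z, z, z, z⟩,
    ⟨z, z, z, z, z, z, z, o, z, z, z, z, z, z⟩,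
    ⟨z, z, z, w2, z, z, z, z, o, z, z, z, z, z⟩,
    ⟨z, z, z, z, z, z, z, z, z, o, z, z, z, z⟩,
    ⟨z, z, z, z, w2, z, z, z, z, z, o, z, z, z⟩,
    ⟨z, z, z, z, z, w2, z, z, z, z, z, o, z, z⟩,
    ⟨z, z, z, z, z, z, z, w2, z, z, z, z, o, z⟩,
    ⟨z, w2, w, z, z, z, z, z, z, z, z, z, z, o⟩⟩]

/-- The rows of the root elements. -/
def xr (p : Fin 12 × F4) : M14 :=
  match p.2 with
  | .z => idM
  | .o => xr1 p.1
  | .w => xr2 p.1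
  | .w2 => xr3 p.1

/-- The root elements with parameter `1` as words in the six involutions. -/
def rw1 : Fin 12 → FreeGroup (Fin 6) := ![
  FreeGroup.mk [((0 : Fin 6), true)],
  FreeGroup.mk [((5 : Fin 6), true), ((3 : Fin 6), true), ((2 : Fin 6), true), ((3 : Fin 6), true), ((0 : Fin 6), true)],
  FreeGroup.mk [((0 : Fin 6), true), ((1 : Fin 6), true), ((0 : Fin 6), true), ((1 : Fin 6), true), ((2 : Fin 6), true), ((1 : Fin 6), true), ((5 : Fin 6), true), ((1 : Fin 6), true), ((0 : Fin 6), true), ((2 : Fin 6), true), ((1 : Fin 6), true), ((3 : Fin 6), true), ((2 : Fin 6), true), ((4 : Fin 6), true), ((3 : Fin 6), true), ((2 : Fin 6), true), ((1 : Fin 6), true), ((0 : Fin 6), true), ((1 : Fin 6), true), ((5 : Fin 6), true), ((4 : Fin 6), true), ((3 : Fin 6), true), ((1 : Fin 6), true), ((2 : Fin 6), true), ((1 : Fin 6), true),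 ((0 : Fin 6), true), ((1 : Fin 6), true), ((5 : Fin 6), true), ((1 : Fin 6), true)],
  FreeGroup.mk [((1 : Fin 6), true), ((0 : Fin 6), true), ((1 : Fin 6), true), ((2 : Fin 6), true), ((1 : Fin 6), true), ((3 : Fin 6), true), ((2 : Fin 6), true), ((1 : Fin 6), true), ((0 : Fin 6), true), ((3 : Fin 6), true), ((4 : Fin 6), true), ((5 : Fin 6), true), ((1 : Fin 6), true), ((2 : Fin 6), true), ((3 : Fin 6), true), ((2 : Fin 6), true), ((1 : Fin 6), true), ((5 : Fin 6), true), ((4 : Fin 6), true), ((3 : Fin 6), true), ((0 : Fin 6), true), ((1 : Fin 6), true), ((2 : Fin 6), true), ((3 : Fin 6), true), ((1 : Fin 6), true), ((2 : Fin 6), true), ((1 : Fin 6), true), ((0 : Fin 6), true), ((1 : Fin 6), true), ((5 : Fin 6), true)],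
  FreeGroup.mk [((2 : Fin 6), true), ((3 : Fin 6), true), ((4 : Fin 6), true), ((2 : Fin 6), true), ((3 : Fin 6), true), ((2 : Fin 6), true)],
  FreeGroup.mk [((2 : Fin 6), true), ((0 : Fin 6), true)],
  FreeGroup.mk [((2 : Fin 6), true), ((1 : Fin 6), true), ((3 : Fin 6), true), ((2 : Fin 6), true), ((3 : Fin 6), true), ((4 : Fin 6), true), ((5 : Fin 6), true), ((1 : Fin 6), true), ((2 : Fin 6), true), ((3 : Fin 6), true), ((2 : Fin 6), true), ((1 : Fin 6), true), ((0 : Fin 6), true), ((1 : Fin 6), true), ((5 : Fin 6), true), ((3 : Fin 6), true), ((4 : Fin 6), true), ((3 : Fin 6), true), ((2 : Fin 6), true), ((1 : Fin 6), true), ((0 : Fin 6), true), ((1 : Fin 6), true), ((2 : Fin 6), true), ((3 : Fin 6), true), ((2 : Fin 6), true), ((3 : Fin 6), true), ((4 : Fin 6), true), ((3 : Fin 6), true)],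
  FreeGroup.mk [((1 : Fin 6), true), ((0 : Fin 6), true), ((3 : Fin 6), true), ((4 : Fin 6), true), ((5 : Fin 6), true), ((1 : Fin 6), true), ((0 : Fin 6), true), ((1 : Fin 6), true), ((2 : Fin 6), true), ((3 : Fin 6), true), ((2 : Fin 6), true), ((0 : Fin 6), true), ((1 : Fin 6), true), ((0 : Fin 6), true), ((1 : Fin 6), true), ((5 : Fin 6), true), ((4 : Fin 6), true), ((3 : Fin 6), true), ((0 : Fin 6), true), ((1 : Fin 6), true), ((2 : Fin 6), true)],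
  FreeGroup.mk [((1 : Fin 6), true), ((2 : Fin 6), true), ((4 : Fin 6), true), ((3 : Fin 6), true), ((2 : Fin 6), true), ((1 : Fin 6), true), ((0 : Fin 6), true), ((1 : Fin 6), true), ((3 : Fin 6), true), ((2 : Fin 6), true), ((1 : Fin 6), true), ((3 : Fin 6), true), ((4 : Fin 6), true), ((5 : Fin 6), true), ((1 : Fin 6), true), ((2 : Fin 6), true), ((3 : Fin 6), true), ((2 : Fin 6), true), ((3 : Fin 6), true), ((1 : Fin 6), true), ((2 : Fin 6), true), ((0 : Fin 6), true), ((1 : Fin 6), true), ((5 : Fin 6), true), ((2 : Fin 6), true), ((3 : Fin 6), true), ((4 : Fin 6), true), ((2 : Fin 6), true), ((3 : Fin 6), true), ((2 : Fin 6), true), ((3 : Fin 6), true)],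
  FreeGroup.mk [((0 : Fin 6), true), ((2 : Fin 6), true), ((3 : Fin 6), true), ((2 : Fin 6), true), ((4 : Fin 6), true), ((3 : Fin 6), true), ((5 : Fin 6), true), ((1 : Fin 6), true), ((0 : Fin 6), true), ((2 : Fin 6), true), ((1 : Fin 6), true), ((0 : Fin 6), true), ((3 : Fin 6), true), ((2 : Fin 6), true), ((3 : Fin 6), true), ((4 : Fin 6), true), ((3 : Fin 6), true), ((2 : Fin 6), true), ((3 : Fin 6), true), ((1 : Fin 6), true), ((2 : Fin 6), true), ((0 : Fin 6), true), ((1 : Fin 6), true), ((5 : Fin 6), true), ((3 : Fin 6), true), ((4 : Fin 6), true), ((2 : Fin 6), true), ((3 : Fin 6), true)],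
  FreeGroup.mk [((3 : Fin 6), true), ((2 : Fin 6), true), ((1 : Fin 6), true), ((3 : Fin 6), true), ((4 : Fin 6), true), ((2 : Fin 6), true), ((3 : Fin 6), true), ((2 : Fin 6), true), ((1 : Fin 6), true), ((0 : Fin 6), true), ((1 : Fin 6), true), ((2 : Fin 6), true), ((3 : Fin 6), true), ((4 : Fin 6), true), ((2 : Fin 6), true), ((3 : Fin 6), true), ((1 : Fin 6), true), ((2 : Fin 6), true), ((3 : Fin 6), true)],
  FreeGroup.mk [((2 : Fin 6), true), ((1 : Fin 6), true), ((3 : Fin 6), true), ((2 : Fin 6), true), ((3 : Fin 6), true), ((2 : Fin 6), true), ((4 : Fin 6), true), ((3 : Fin 6), true), ((2 : Fin 6), true), ((3 : Fin 6), true), ((1 : Fin 6), true), ((2 : Fin 6), true), ((3 : Fin 6), true), ((0 : Fin 6), true), ((1 : Fin 6), true), ((2 : Fin 6), true), ((3 : Fin 6), true), ((4 : Fin 6), true), ((2 : Fin 6), true), ((3 : Fin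 6), true), ((2 : Fin 6), true), ((3 : Fin 6), true), ((1 : Fin 6), true), ((2 : Fin 6), true)]]

/-- The root elements with parameter `ω` as words in the six involutions. -/
def rw2 : Fin 12 → FreeGroup (Fin 6) := ![
  FreeGroup.mk [((5 : Fin 6), true)],
  FreeGroup.mk [((1 : Fin 6), true), ((5 : Fin 6), true), ((3 : Fin 6), true), ((2 : Fin 6), true), ((1 : Fin 6), true), ((0 : Fin 6), true), ((1 : Fin 6), true), ((5 : Fin 6), true), ((1 : Fin 6), true), ((2 : Fin 6), true), ((3 : Fin 6), true), ((1 : Fin 6), true), ((0 : Fin 6), true)],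
  FreeGroup.mk [((0 : Fin 6), true), ((1 : Fin 6), true), ((2 : Fin 6), true), ((3 : Fin 6), true), ((2 : Fin 6), true), ((1 : Fin 6), true), ((5 : Fin 6), true), ((4 : Fin 6), true), ((0 : Fin 6), true), ((1 : Fin 6), true), ((2 : Fin 6), true), ((3 : Fin 6), true), ((2 : Fin 6), true), ((1 : Fin 6), true), ((5 : Fin 6), true), ((4 : Fin 6), true), ((0 : Fin 6), true), ((1 : Fin 6), true), ((2 : Fin 6), true), ((3 : Fin 6), true), ((2 : Fin 6), true), ((1 : Fin 6), true)],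
  FreeGroup.mk [((0 : Fin 6), true), ((1 : Fin 6), true), ((3 : Fin 6), true), ((2 : Fin 6), true), ((3 : Fin 6), true), ((2 : Fin 6), true), ((1 : Fin 6), true), ((0 : Fin 6), true), ((4 : Fin 6), true), ((5 : Fin 6), true), ((1 : Fin 6), true), ((2 : Fin 6), true), ((3 : Fin 6), true), ((2 : Fin 6), true), ((1 : Fin 6), true), ((5 : Fin 6), true), ((4 : Fin 6), true), ((0 : Fin 6), true), ((1 : Fin 6), true), ((2 : Fin 6), true), ((3 : Fin 6), true), ((2 : Fin 6), true), ((1 : Fin 6), true), ((5 : Fin 6), true), ((3 : Fin 6), true)],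
  FreeGroup.mk [((1 : Fin 6), true), ((0 : Fin 6), true), ((1 : Fin 6), true), ((0 : Fin 6), true), ((3 : Fin 6), true), ((2 : Fin 6), true), ((3 : Fin 6), true), ((1 : Fin 6), true), ((2 : Fin 6), true), ((3 : Fin 6), true), ((4 : Fin 6), true), ((2 : Fin 6), true), ((3 : Fin 6), true), ((2 : Fin 6), true), ((3 : Fin 6), true), ((1 : Fin 6), true), ((2 : Fin 6), true), ((3 : Fin 6), true), ((0 : Fin 6), true), ((1 : Fin 6), true), ((0 : Fin 6), true), ((1 : Fin 6), true)],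
  FreeGroup.mk [((1 : Fin 6), true), ((5 : Fin 6), true), ((1 : Fin 6), true), ((2 : Fin 6), true), ((1 : Fin 6), true), ((0 : Fin 6), true), ((1 : Fin 6), true), ((5 : Fin 6), true), ((1 : Fin 6), true), ((2 : Fin 6), true), ((1 : Fin 6), true)],
  FreeGroup.mk [((0 : Fin 6), true), ((1 : Fin 6), true), ((3 : Fin 6), true), ((2 : Fin 6), true), ((3 : Fin 6), true), ((2 : Fin 6), true), ((5 : Fin 6), true), ((1 : Fin 6), true), ((2 : Fin 6), true), ((3 : Fin 6), true), ((2 : Fin 6), true), ((4 : Fin 6), true), ((3 : Fin 6), true), ((2 : Fin 6), true), ((1 : Fin 6), true), ((0 : Fin 6), true), ((1 : Fin 6), true), ((2 : Fin 6), true), ((3 : Fin 6), true), ((4 : Fin 6), true), ((2 : Fin 6), true), ((3 : Fin 6), true), ((2 : Fin 6), true), ((1 : Fin 6), true), ((5 : Fin 6), true), ((2 : Fin 6), true), ((3 : Fin 6), true), ((2 : Fin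 6), true), ((3 : Fin 6), true), ((1 : Fin 6), true), ((0 : Fin 6), true)],
  FreeGroup.mk [((1 : Fin 6), true), ((5 : Fin 6), true), ((2 : Fin 6), true), ((3 : Fin 6), true), ((4 : Fin 6), true), ((1 : Fin 6), true), ((2 : Fin 6), true), ((3 : Fin 6), true), ((2 : Fin 6), true), ((1 : Fin 6), true), ((5 : Fin 6), true), ((4 : Fin 6), true), ((3 : Fin 6), true), ((2 : Fin 6), true), ((1 : Fin 6), true), ((0 : Fin 6), true)],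
  FreeGroup.mk [((1 : Fin 6), true), ((0 : Fin 6), true), ((1 : Fin 6), true), ((0 : Fin 6), true), ((2 : Fin 6), true), ((1 : Fin 6), true), ((5 : Fin 6), true), ((1 : Fin 6), true), ((2 : Fin 6), true), ((3 : Fin 6), true), ((2 : Fin 6), true), ((1 : Fin 6), true), ((3 : Fin 6), true), ((4 : Fin 6), true), ((3 : Fin 6), true), ((2 : Fin 6), true), ((3 : Fin 6), true), ((4 : Fin 6), true), ((1 : Fin 6), true), ((2 : Fin 6), true), ((3 : Fin 6), true), ((2 : Fin 6), true), ((1 : Fin 6), true), ((5 : Fin 6), true), ((1 : Fin 6), true), ((2 : Fin 6), true), ((0 : Fin 6), true), ((1 : Fin 6), true), ((0 : Fin 6), true), ((1 : Fin 6), true)],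
  FreeGroup.mk [((2 : Fin 6), true), ((5 : Fin 6), true), ((1 : Fin 6), true), ((2 : Fin 6), true), ((3 : Fin 6), true), ((2 : Fin 6), true), ((1 : Fin 6), true), ((0 : Fin 6), true), ((3 : Fin 6), true), ((1 : Fin 6), true), ((2 : Fin 6), true), ((3 : Fin 6), true), ((4 : Fin 6), true), ((2 : Fin 6), true), ((3 : Fin 6), true), ((1 : Fin 6), true), ((2 : Fin 6), true), ((0 : Fin 6), true), ((1 : Fin 6), true), ((5 : Fin 6), true), ((3 : Fin 6), true), ((2 : Fin 6), true), ((3 : Fin 6), true), ((4 : Fin 6), true)],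
  FreeGroup.mk [((3 : Fin 6), true), ((2 : Fin 6), true), ((1 : Fin 6), true), ((3 : Fin 6), true), ((4 : Fin 6), true), ((2 : Fin 6), true), ((3 : Fin 6), true), ((2 : Fin 6), true), ((1 : Fin 6), true), ((5 : Fin 6), true), ((1 : Fin 6), true), ((2 : Fin 6), true), ((3 : Fin 6), true), ((4 : Fin 6), true), ((2 : Fin 6), true), ((3 : Fin 6), true), ((1 : Fin 6), true), ((2 : Fin 6), true), ((3 : Fin 6), true)],
  FreeGroup.mk [((2 : Fin 6), true), ((1 : Fin 6), true), ((0 : Fin 6), true), ((3 : Fin 6), true), ((2 : Fin 6), true), ((3 : Fin 6), true), ((4 : Fin 6), true), ((3 : Fin 6), true), ((2 : Fin 6), true), ((1 : Fin 6), true), ((3 : Fin 6), true), ((5 : Fin 6), true), ((1 : Fin 6), true), ((2 : Fin 6), true), ((0 : Fin 6), true), ((1 : Fin 6), true), ((5 : Fin 6), true), ((3 : Fin 6), true), ((2 : Fin 6), true), ((3 : Fin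 6), true), ((4 : Fin 6), true), ((3 : Fin 6), true), ((2 : Fin 6), true), ((3 : Fin 6), true), ((0 : Fin 6), true), ((1 : Fin 6), true), ((2 : Fin 6), true)]]

/-- The root elements with parameter `ω²` as words in the six involutions. -/
def rw3 : Fin 12 → FreeGroup (Fin 6) := ![
  FreeGroup.mk [((5 : Fin 6), true), ((0 : Fin 6), true)],
  FreeGroup.mk [((1 : Fin 6), true), ((5 : Fin 6), true), ((3 : Fin 6), true), ((1 : Fin 6), true), ((2 : Fin 6), true), ((1 : Fin 6), true), ((0 : Fin 6), true), ((1 : Fin 6), true), ((5 : Fin 6), true), ((2 : Fin 6), true), ((3 : Fin 6), true), ((1 : Fin 6), true)],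
  FreeGroup.mk [((1 : Fin 6), true), ((0 : Fin 6), true), ((1 : Fin 6), true), ((2 : Fin 6), true), ((1 : Fin 6), true), ((0 : Fin 6), true), ((3 : Fin 6), true), ((4 : Fin 6), true), ((5 : Fin 6), true), ((1 : Fin 6), true), ((2 : Fin 6), true), ((3 : Fin 6), true), ((2 : Fin 6), true), ((1 : Fin 6), true), ((5 : Fin 6), true), ((4 : Fin 6), true), ((3 : Fin 6), true), ((0 : Fin 6), true), ((1 : Fin 6), true), ((2 : Fin 6), true), ((1 : Fin 6), true), ((0 : Fin 6), true), ((1 : Fin 6), true), ((5 : Fin 6), true)],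
  FreeGroup.mk [((0 : Fin 6), true), ((1 : Fin 6), true), ((0 : Fin 6), true), ((1 : Fin 6), true), ((3 : Fin 6), true), ((2 : Fin 6), true), ((1 : Fin 6), true), ((0 : Fin 6), true), ((3 : Fin 6), true), ((4 : Fin 6), true), ((5 : Fin 6), true), ((1 : Fin 6), true), ((2 : Fin 6), true), ((3 : Fin 6), true), ((2 : Fin 6), true), ((1 : Fin 6), true), ((5 : Fin 6), true), ((4 : Fin 6), true), ((3 : Fin 6), true), ((0 : Fin 6), true), ((1 : Fin 6), true), ((2 : Fin 6), true), ((3 : Fin 6), true), ((1 : Fin 6), true), ((0 : Fin 6), true), ((1 : Fin 6), true)],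
  FreeGroup.mk [((0 : Fin 6), true), ((1 : Fin 6), true), ((0 : Fin 6), true), ((3 : Fin 6), true), ((2 : Fin 6), true), ((1 : Fin 6), true), ((3 : Fin 6), true), ((0 : Fin 6), true), ((1 : Fin 6), true), ((2 : Fin 6), true), ((3 : Fin 6), true), ((4 : Fin 6), true), ((3 : Fin 6), true), ((2 : Fin 6), true), ((3 : Fin 6), true), ((1 : Fin 6), true), ((0 : Fin 6), true), ((1 : Fin 6), true), ((2 : Fin 6), true), ((3 : Fin 6), true), ((0 : Fin 6), true), ((1 : Fin 6), true)],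
  FreeGroup.mk [((1 : Fin 6), true), ((5 : Fin 6), true), ((1 : Fin 6), true), ((2 : Fin 6), true), ((1 : Fin 6), true), ((0 : Fin 6), true), ((1 : Fin 6), true), ((5 : Fin 6), true), ((2 : Fin 6), true), ((1 : Fin 6), true), ((0 : Fin 6), true)],
  FreeGroup.mk [((1 : Fin 6), true), ((3 : Fin 6), true), ((2 : Fin 6), true), ((3 : Fin 6), true), ((2 : Fin 6), true), ((1 : Fin 6), true), ((5 : Fin 6), true), ((1 : Fin 6), true), ((2 : Fin 6), true), ((3 : Fin 6), true), ((2 : Fin 6), true), ((1 : Fin 6), true), ((4 : Fin 6), true), ((3 : Fin 6), true), ((5 : Fin 6), true), ((2 : Fin 6), true), ((3 : Fin 6), true), ((4 : Fin 6), true), ((1 : Fin 6), true), ((2 : Fin 6), true), ((3 : Fin 6), true), ((2 : Fin 6), true), ((1 : Fin 6), true), ((5 : Fin 6), true), ((1 : Fin 6), true), ((2 : Fin 6), true), ((3 : Fin 6), true), ((2 : Fin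 6), true), ((3 : Fin 6), true), ((1 : Fin 6), true)],
  FreeGroup.mk [((1 : Fin 6), true), ((0 : Fin 6), true), ((2 : Fin 6), true), ((5 : Fin 6), true), ((1 : Fin 6), true), ((0 : Fin 6), true), ((2 : Fin 6), true), ((1 : Fin 6), true), ((5 : Fin 6), true), ((3 : Fin 6), true), ((2 : Fin 6), true), ((3 : Fin 6), true), ((4 : Fin 6), true), ((3 : Fin 6), true), ((2 : Fin 6), true), ((3 : Fin 6), true), ((1 : Fin 6), true), ((2 : Fin 6), true), ((0 : Fin 6), true), ((1 : Fin 6), true), ((5 : Fin 6), true), ((2 : Fin 6), true), ((0 : Fin 6), true), ((1 : Fin 6), true)],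
  FreeGroup.mk [((0 : Fin 6), true), ((2 : Fin 6), true), ((1 : Fin 6), true), ((3 : Fin 6), true), ((5 : Fin 6), true), ((1 : Fin 6), true), ((2 : Fin 6), true), ((3 : Fin 6), true), ((2 : Fin 6), true), ((1 : Fin 6), true), ((4 : Fin 6), true), ((3 : Fin 6), true), ((2 : Fin 6), true), ((5 : Fin 6), true), ((3 : Fin 6), true), ((4 : Fin 6), true), ((2 : Fin 6), true), ((3 : Fin 6), true), ((1 : Fin 6), true), ((2 : Fin 6), true), ((0 : Fin 6), true), ((1 : Fin 6), true), ((5 : Fin 6), true), ((3 : Fin 6), true), ((1 : Fin 6), true), ((2 : Fin 6), true), ((3 : Fin 6), true), ((4 : Fin 6), true), ((2 : Fin 6), true)],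
  FreeGroup.mk [((0 : Fin 6), true), ((3 : Fin 6), true), ((2 : Fin 6), true), ((3 : Fin 6), true), ((4 : Fin 6), true), ((5 : Fin 6), true), ((1 : Fin 6), true), ((2 : Fin 6), true), ((3 : Fin 6), true), ((4 : Fin 6), true), ((2 : Fin 6), true), ((1 : Fin 6), true), ((0 : Fin 6), true), ((1 : Fin 6), true), ((2 : Fin 6), true), ((3 : Fin 6), true), ((2 : Fin 6), true), ((1 : Fin 6), true), ((5 : Fin 6), true), ((4 : Fin 6), true), ((3 : Fin 6), true), ((2 : Fin 6), true), ((3 : Fin 6), true), ((0 : Fin 6), true)],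
  FreeGroup.mk [((3 : Fin 6), true), ((2 : Fin 6), true), ((1 : Fin 6), true), ((3 : Fin 6), true), ((4 : Fin 6), true), ((2 : Fin 6), true), ((3 : Fin 6), true), ((2 : Fin 6), true), ((1 : Fin 6), true), ((5 : Fin 6), true), ((0 : Fin 6), true), ((1 : Fin 6), true), ((2 : Fin 6), true), ((3 : Fin 6), true), ((4 : Fin 6), true), ((2 : Fin 6), true), ((3 : Fin 6), true), ((1 : Fin 6), true), ((2 : Fin 6), true), ((3 : Fin 6), true)],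
  FreeGroup.mk [((1 : Fin 6), true), ((5 : Fin 6), true), ((1 : Fin 6), true), ((0 : Fin 6), true), ((1 : Fin 6), true), ((2 : Fin 6), true), ((1 : Fin 6), true), ((3 : Fin 6), true), ((2 : Fin 6), true), ((4 : Fin 6), true), ((3 : Fin 6), true), ((5 : Fin 6), true), ((1 : Fin 6), true), ((2 : Fin 6), true), ((0 : Fin 6), true), ((1 : Fin 6), true), ((5 : Fin 6), true), ((3 : Fin 6), true), ((4 : Fin 6), true), ((2 : Fin 6), true), ((3 : Fin 6), true), ((1 : Fin 6), true), ((2 : Fin 6), true), ((1 : Fin 6), true), ((0 : Fin 6), true), ((1 : Fin 6), true), ((5 : Fin 6), true), ((1 : Fin 6), true)]]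

/-- The root elements as words in the six involutions. -/
def rw (p : Fin 12 × F4) : FreeGroup (Fin 6) :=
  match p.2 with
  | .z => 1
  | .o => rw1 p.1
  | .w => rw2 p.1
  | .w2 => rw3 p.1

/-- The six involutions as words in the root elements. -/
def gw : Fin 6 → FreeGroup (Fin 12 × F4) := ![
  FreeGroup.mk [(((0 : Fin 12), F4.o), true)],
  FreeGroup.mk [(((7 : Fin 12), F4.o), true), (((3 : Fin 12), F4.w), true), (((2 : Fin 12), F4.o), true), (((9 : Fin 12), F4.o), true), (((8 : Fin 12), F4.w2), true), (((4 : Fin 12), F4.w2), true), (((7 : Fin 12), F4.w2), true)],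
  FreeGroup.mk [(((5 : Fin 12), F4.o), true), (((0 : Fin 12), F4.o), true)],
  FreeGroup.mk [(((2 : Fin 12), F4.w), true), (((4 : Fin 12), F4.o), true), (((7 : Fin 12), F4.w2), true), (((1 : Fin 12), F4.w), true), (((7 : Fin 12), F4.w), true), (((4 : Fin 12), F4.o), true)],
  FreeGroup.mk [(((5 : Fin 12), F4.o), true), (((1 : Fin 12), F4.w2), true), (((7 : Fin 12), F4.o), true), (((1 : Fin 12), F4.w2), true)],
  FreeGroup.mk [(((0 : Fin 12), F4.w), true)]]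

theorem gA_sq : ∀ s : Fin 6, ∀ j : Fin 14, (gA s).app ((gA s).app (bas j)) = bas j := by
  decide +kernel

theorem xr_sq : ∀ p : Fin 12 × F4, ∀ j : Fin 14, (xr p).app ((xr p).app (bas j)) = bas j := by
  decide +kernel

theorem rw_ev : ∀ p : Fin 12 × F4, ∀ j : Fin 14, ev gA (rw p).toWord (bas j) = (xr p).app (bas j) := by
  decide +kernel

theorem gw_ev : ∀ s : Fin 6, ∀ j : Fin 14, ev xr (gw s).toWord (bas j) = (gA s).app (bas j) := by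
  decide +kernel

theorem xMat_eq' : ∀ q : (Fin chevG2.nroots × F4) × (chevG2.Idx × chevG2.Idx),
    chevG2.xMat F4 q.1.1 q.1.2 q.2.1 q.2.2 = (xr (q.1.1, q.1.2)).toMat q.2.1 q.2.2 := by
  decide +kernel

theorem xMat_eq (r : Fin chevG2.nroots) (t : F4) : chevG2.xMat F4 r t = (xr (r, t)).toMat := by
  ext i j
  exact xMat_eq' ((r, t), (i, j))

end Cfsg.Agent.Helper9.G24Mat
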