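import Mathlib
import Cfsg.Agent.S1694
import Cfsg.Agent.Lib.Helper9.TC2Spor
import Cfsg.Agent.Lib.Helper9.TC2Cyc
import Cfsg.Agent.Lib.Helper9.TCData.SuzD1.Cert
import Cfsg.Agent.Lib.Helper9.TCData.SuzDX.Cert

set_option autoImplicit false
set_option maxRecDepth 1000000

/-! The group presented on six involutions `a, …, f` with the relations of the presented Suzuki
group which involve them only: it is simple of order 251596800. -/

namespace Cfsg.Agent.Helper9.G24Simple

open Cfsg.Agent.Helper9 Cfsg.Agent.Helper9.TC2 Cfsg.Agent.Helper9.TCData Cfsg.Spor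

/-- The presented group. -/
abbrev PG24 : Type := PresentedGroup (relSet SuzD1.edges SuzD1.extra)

theorem hub : Finite PG24 ∧ Nat.card PG24 ≤ 251596800 := by
  have h3 := SuzC3.cert.card_eq_of_empty
  have hH2 := card_coxH_le S1694.sub3 rfl h3.1 (le_of_eq h3.2)
  have h2 := SuzC2.cert.card_le hH2.1 hH2.2
  have hH1 := card_coxH_le S1694.sub2 rfl h2.1 h2.2
  have h1 := SuzC1.cert.card_le hH1.1 hH1.2
  refine ⟨h1.1, h1.2.trans ?_⟩
  rw [SuzC1.cert_n, SuzC2.cert_n, SuzC3.cert_n]

theorem hslp : ∀ j < SuzD1.slp.length, ∀ c ∈ (SuzD1.slp.getD j (0, [])).2, c < SuzD1.tab.k + j := by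
  decide +kernel

theorem hok : SuzD1.cert.LevsOK (SuzD1.tab.k + SuzD1.slp.length) SuzD1.lidx SuzD1.lpar SuzD1.lgi 0 []
    SuzD1.levs := by
  unfold SuzD1.levs
  refine ⟨by decide, by decide +kernel, SuzD1.hT0, by decide +kernel, ?_⟩
  refine ⟨by decide, by decide +kernel, SuzD1.hT1, by decide +kernel, ?_⟩
  refine ⟨by decide, by decide +kernel, SuzD1.hT2, by decide +kernel, ?_⟩
  refine ⟨by decide, by decide +kernel, SuzD1.hT3, by decide +kernel, ?_⟩
  refine ⟨by decide, by decide +kernel, SuzD1.hT4, by decide +kernel, ?_⟩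
  refine ⟨by decide, by decide +kernel, SuzD1.hT5, by decide +kernel, ?_⟩
  trivial

theorem hprod : CoxCert.levProd SuzD1.levs = 251596800 := by decide +kernel

theorem hlab : ∀ i < SuzD1.cert.D.n, SuzD1.orb.lab i < 3 := by
  intro i hi
  have := SuzD1.hOL i hi
  rwa [Nat.blt_eq] at this

theorem hroot : ∀ l < 3, SuzD1.orb.root l < SuzD1.cert.D.n ∧ SuzD1.orb.lab (SuzD1.orb.root l) = l := by
  decide +kernel

theorem hsz : ∀ l < 3, cnt (fun i => Nat.beq (SuzD1.orb.lab i) l) SuzD1.cert.D.n =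
    ([1, 315, 100] : List ℕ).getD l 0 := by
  decide +kernel

theorem hsub : ∀ T ∈ (Finset.range 3).powerset, 0 ∈ T →
    (∑ l ∈ T, ([1, 315, 100] : List ℕ).getD l 0) ∣ SuzD1.cert.D.n → T = {0} ∨ T = Finset.range 3 := by
  decide +kernel

theorem hxw : colWord SuzD1.cert.cols SuzDX.xelt = SuzD1.xw := by decide +kernel

theorem hx : ∀ i < SuzD1.cert.D.n,
    (runT SuzD1.cert.D (colWord SuzD1.cert.cols SuzDX.xelt))^[13 ^ 1] i = i := by
  intro i hi
  rw [hxw]
  exact Nat.eq_of_beq_eq_true (SuzD1.hX i hi)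

/-- The presented group is simple of order 251596800. -/
theorem g24_simple : IsSimpleGroup PG24 ∧ Nat.card PG24 = 251596800 := by
  have : Fact (Nat.Prime 13) := ⟨by norm_num⟩
  exact SuzD1.cert.isSimple_card 251596800 hub SuzD1.slp hslp SuzD1.hSlp SuzD1.lidx SuzD1.lpar
    SuzD1.lgi SuzD1.levs hok hprod SuzD1.orb SuzD1.hO1 SuzD1.hO2 3 0 [1, 315, 100] hlab hroot hsz
    (by decide +kernel) (by decide) (by decide) hsub 13 1 (by decide) (by norm_num) (by norm_num)
    SuzDX.xelt 1 hx (by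
      have h := (SuzDX.cert.card_eq_of_nil (by intro s hs; exact absurd hs (by simp [SuzDX.sgensL]))).2
      rw [SuzDX.cert_n] at h
      exact h)

end Cfsg.Agent.Helper9.G24Simple
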