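import Mathlib
import Cfsg.Agent.Lib.Helper9.G24Simple
import Cfsg.Agent.Lib.Helper9.G24Mat
import Cfsg.Agent.Lib.Helper9.TC2Fin

set_option autoImplicit false
set_option maxRecDepth 1000000

/-! The presented group of `G24Simple` is isomorphic to the Chevalley group of type `G₂` over the
field with four elements. -/

namespace Cfsg.Agent.Helper9.G24Iso

open Matrix Cfsg Cfsg.Lie Cfsg.Agent.Helper9 Cfsg.Agent.Helper9.TC2 Cfsg.Agent.Helper9.TCData
  Cfsg.Spor Cfsg.Agent.Helper9.Vec14F4 Cfsg.Agent.Helper9.G24Mat Cfsg.Agent.Helper9.G24Simple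

/-- The matrices of the generators. -/
def Mgen : Fin 6 → GL chevG2.Idx F4 := unitOf gA gA_sq

/-- The root elements. -/
def Xgen : Fin 12 × F4 → GL chevG2.Idx F4 := unitOf xr xr_sq

theorem rel_extra : ∀ r ∈ SuzD1.extra, ∀ j : Fin 14, ev gA r.toWord (bas j) = bas j := by
  decide +kernel

theorem rel_cox : ∀ x ∈ coxNodes SuzD1.edges, ∀ y ∈ coxNodes SuzD1.edges, ∀ j : Fin 14,
    ev gA ((FreeGroup.of x * FreeGroup.of y) ^ coxLabel SuzD1.edges x y).toWord (bas j) = bas j := by
  decide +kernel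

theorem rels : ∀ r ∈ relSet SuzD1.edges SuzD1.extra, FreeGroup.lift Mgen r = 1 := by
  intro r hr
  rcases hr with hr | hr
  · obtain ⟨x, hx, y, hy, rfl⟩ := hr
    exact lift_eq_one gA gA_sq _ (rel_cox x hx y hy)
  · exact lift_eq_one gA gA_sq _ (rel_extra r hr)

/-- The homomorphism to the general linear group. -/
noncomputable def theta : PG24 →* GL chevG2.Idx F4 := PresentedGroup.toGroup rels

theorem theta_of (s : Fin 6) : theta (PresentedGroup.of s) = Mgen s :=
  PresentedGroup.toGroup.of rels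

theorem theta_mk (w : FreeGroup (Fin 6)) :
    theta (PresentedGroup.mk (relSet SuzD1.edges SuzD1.extra) w) = FreeGroup.lift Mgen w := rfl

theorem theta_ne : theta (PresentedGroup.of 0) ≠ 1 := by
  rw [theta_of]
  intro h
  have h1 : (Mgen 0).val *ᵥ (bas 13).toVec = (1 : Matrix I14 I14 F4) *ᵥ (bas 13).toVec := by
    rw [h]
    rfl
  change (gA 0).toMat *ᵥ (bas 13).toVec = _ at h1
  rw [toMat_mulVec, Matrix.one_mulVec] at h1
  have h2 := congrFun h1 (.inl 0)
  revert h2
  decide

theorem theta_injective : Function.Injective theta := by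
  have := g24_simple.1
  exact injective_of_simple theta (PresentedGroup.of 0) theta_ne

theorem Xgen_mem (p : Fin 12 × F4) : Xgen p ∈ chevG2.group F4 :=
  Subgroup.subset_closure ⟨p.1, p.2, (xMat_eq p.1 p.2).symm⟩

theorem lift_Xgen_mem (w : FreeGroup (Fin 12 × F4)) : FreeGroup.lift Xgen w ∈ chevG2.group F4 := by
  have h : (FreeGroup.lift Xgen).range ≤ chevG2.group F4 := by
    apply FreeGroup.range_lift_le
    rintro _ ⟨p, rfl⟩
    exact Xgen_mem p
  exact h ⟨w, rfl⟩

theorem Mgen_eq (s : Fin 6) : Mgen s = FreeGroup.lift Xgen (gw s) := by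
  apply Units.ext
  exact (lift_val_eq xr xr_sq (gw s) (gA s) (gw_ev s)).symm

theorem theta_rw (p : Fin 12 × F4) :
    (theta (PresentedGroup.mk (relSet SuzD1.edges SuzD1.extra) (rw p))).val = (xr p).toMat := by
  rw [theta_mk]
  exact lift_val_eq gA gA_sq (rw p) (xr p) (rw_ev p)

theorem theta_range : theta.range = chevG2.group F4 := by
  apply le_antisymm
  · rw [MonoidHom.range_eq_map, ← PresentedGroup.closure_range_of, MonoidHom.map_closure,
      Subgroup.closure_le]
    rintro _ ⟨_, ⟨s, rfl⟩, rfl⟩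
    rw [theta_of, Mgen_eq]
    exact lift_Xgen_mem _
  · unfold ChevalleyDatum.group
    rw [Subgroup.closure_le]
    rintro g ⟨r, t, hg⟩
    refine ⟨PresentedGroup.mk (relSet SuzD1.edges SuzD1.extra) (rw (r, t)), ?_⟩
    apply Units.ext
    rw [theta_rw, hg, xMat_eq]

/-- The isomorphism. -/
noncomputable def iso : PG24 ≃* chevG2.group F4 :=
  (MonoidHom.ofInjective theta_injective).trans (MulEquiv.subgroupCongr theta_range)

end Cfsg.Agent.Helper9.G24Iso
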