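import Mathlib

set_option autoImplicit false

/-! Split extensions of a finite group by an elementary abelian `2`-group with the same prime
graph: if every element of odd prime order `p` with a nontrivial fixed point on the kernel gives
an element of order `2p` of the group, no new pairs of primes appear. -/

namespace Cfsg.Agent.Helper9.PrimeGraphExt

open SemidirectProduct

variable {G N : Type*} [Group G] [CommGroup N] (φ : G →* MulAut N)

theorem pow_right (h : N ⋊[φ] G) (n : ℕ) : (h ^ n).right = h.right ^ n :=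
  map_pow (rightHom : N ⋊[φ] G →* G) h n

/-- If the `p`-th power of the image is trivial, the `p`-th power lies in the kernel and is fixed
by the image. -/
theorem fixed_of_pow (h : N ⋊[φ] G) (p : ℕ) (hp : h.right ^ p = 1) :
    φ h.right (h ^ p).left = (h ^ p).left := by
  have hc : h * h ^ p = h ^ p * h := (pow_succ' h p).symm.trans (pow_succ h p)
  have h1 := congrArg SemidirectProduct.left hc
  rw [mul_left, mul_left, pow_right, hp, map_one, MulAut.one_apply] at h1
  exact mul_left_cancel (h1.trans (mul_comm _ _))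

theorem eq_one_of_left_right (h : N ⋊[φ] G) (h1 : h.left = 1) (h2 : h.right = 1) : h = 1 := by
  ext
  · exact h1
  · exact h2

theorem dvd_cases {p q m : ℕ} (hp : p.Prime) (hq : q.Prime) (hm : m ∣ p * q) :
    m = 1 ∨ m = p ∨ m = q ∨ m = p * q := by
  obtain ⟨a, b, ha, hb, rfl⟩ := (Nat.dvd_mul).1 hm
  rcases (Nat.dvd_prime hp).1 ha with rfl | rfl <;> rcases (Nat.dvd_prime hq).1 hb with rfl | rfl
  · left; rfl
  · right; right; left; rw [one_mul]
  · right; left; rw [mul_one]
  · right; right; right; rfl

/-- The main step: an element of order `p * 2` of the extension, with image of order `p`. -/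
theorem step
    (hfix : ∀ p : ℕ, p.Prime → p ≠ 2 →
      (∃ g : G, orderOf g = p ∧ ∃ w : N, w ≠ 1 ∧ φ g w = w) → ∃ g : G, orderOf g = 2 * p)
    (p q : ℕ) (hp : p.Prime) (hq : q.Prime) (hpq : p ≠ q) (h : N ⋊[φ] G)
    (ho : orderOf h = p * q) (hm : orderOf h.right = p) (hd : p * q ∣ 2 * p) :
    ∃ g : G, orderOf g = p * q := by
  have hq2 : q = 2 := by
    have h1 : q ∣ 2 := by
      rw [mul_comm 2 p] at hd
      exact Nat.dvd_of_mul_dvd_mul_left hp.pos hd
    exact (Nat.prime_dvd_prime_iff_eq hq Nat.prime_two).1 h1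
  subst hq2
  have hgp : h.right ^ p = 1 := by rw [← hm]; exact pow_orderOf_eq_one _
  have hne : h ^ p ≠ 1 := by
    intro h1
    have h2 := orderOf_dvd_of_pow_eq_one h1
    rw [ho] at h2
    have h3 : p * 2 ∣ p * 1 := by rwa [mul_one]
    have := Nat.dvd_of_mul_dvd_mul_left hp.pos h3
    omega
  have hw : (h ^ p).left ≠ 1 := by
    intro h1
    apply hne
    apply eq_one_of_left_right φ _ h1
    rw [pow_right, hgp]
  obtain ⟨g, hg⟩ := hfix p hp hpq ⟨h.right, hm, (h ^ p).left, hw, fixed_of_pow φ h p hgp⟩
  exact ⟨g, by rw [hg, mul_comm]⟩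

/-- The extension has the same prime graph as the group. -/
theorem same_prime_graph [Finite G] [Finite N] (hN : ∀ n : N, n * n = 1) (h2 : 2 ∣ Nat.card G)
    (hfix : ∀ p : ℕ, p.Prime → p ≠ 2 →
      (∃ g : G, orderOf g = p ∧ ∃ w : N, w ≠ 1 ∧ φ g w = w) → ∃ g : G, orderOf g = 2 * p) :
    (∀ p : ℕ, p.Prime → (p ∣ Nat.card G ↔ p ∣ Nat.card (N ⋊[φ] G))) ∧
    (∀ p q : ℕ, p.Prime → q.Prime → p ≠ q →
      ((∃ g : G, orderOf g = p * q) ↔ (∃ h : N ⋊[φ] G, orderOf h = p * q))) := by
  constructor
  · intro p hp
    rw [SemidirectProduct.card]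
    constructor
    · intro h
      exact Dvd.dvd.mul_left h _
    · intro h
      rcases (Nat.Prime.dvd_mul hp).1 h with h | h
      · have hpg : IsPGroup 2 N := by
          intro n
          refine ⟨1, ?_⟩
          rw [pow_one, pow_two]
          exact hN n
        have : Fact (Nat.Prime 2) := ⟨Nat.prime_two⟩
        obtain ⟨k, hk⟩ := hpg.exists_card_eq
        rw [hk] at h
        have h3 := (Nat.prime_dvd_prime_iff_eq hp Nat.prime_two).1 (hp.dvd_of_dvd_pow h)
        rw [h3]
        exact h2
      · exact h
  · intro p q hp hq hpq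
    constructor
    · rintro ⟨g, hg⟩
      exact ⟨inr g, by rw [orderOf_injective (inr : G →* N ⋊[φ] G) inr_injective, hg]⟩
    · rintro ⟨h, ho⟩
      have hpqpos : 0 < p * q := Nat.mul_pos hp.pos hq.pos
      have hg1 : h.right ^ (p * q) = 1 := by
        rw [← pow_right, ← ho, pow_orderOf_eq_one]
        rfl
      have hmd : orderOf h.right ∣ p * q := orderOf_dvd_of_pow_eq_one hg1
      -- the power with exponent twice the order of the image is trivial
      have h2m : h ^ (2 * orderOf h.right) = 1 := by
        rw [mul_comm, pow_mul, pow_two]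
        have hr : (h ^ orderOf h.right).right = 1 := by rw [pow_right, pow_orderOf_eq_one]
        apply eq_one_of_left_right φ
        · rw [mul_left, hr, map_one, MulAut.one_apply]
          exact hN _
        · rw [mul_right, hr, one_mul]
      have hd : p * q ∣ 2 * orderOf h.right := by
        rw [← ho]
        exact orderOf_dvd_of_pow_eq_one h2m
      rcases dvd_cases hp hq hmd with hm | hm | hm | hm
      · exfalso
        rw [hm, mul_one] at hd
        have h6 : p * q ≤ 2 := Nat.le_of_dvd (by norm_num) hd
        have hp2 := hp.two_le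
        have hq2 := hq.two_le
        nlinarith
      · rw [hm] at hd
        exact step φ hfix p q hp hq hpq h ho hm hd
      · rw [hm] at hd
        have ho' : orderOf h = q * p := by rw [ho, mul_comm]
        have hd' : q * p ∣ 2 * q := by rwa [mul_comm q p]
        obtain ⟨g, hg⟩ := step φ hfix q p hq hp (Ne.symm hpq) h ho' hm hd'
        exact ⟨g, by rw [hg, mul_comm]⟩
      · exact ⟨h.right, hm⟩


section Sylow

variable {G N : Type*} [Group G] [CommGroup N] (φ : G →* MulAut N)

theorem factorization_eq_one [Finite G] (p : ℕ) [hp : Fact p.Prime] (h1 : p ∣ Nat.card G)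
    (h2 : ¬ p ^ 2 ∣ Nat.card G) : (Nat.card G).factorization p = 1 := by
  have hne : Nat.card G ≠ 0 := Nat.card_pos.ne'
  have a1 : 1 ≤ (Nat.card G).factorization p := by
    rw [← hp.out.pow_dvd_iff_le_factorization hne, pow_one]
    exact h1
  have a2 : ¬ 2 ≤ (Nat.card G).factorization p := by
    rw [← hp.out.pow_dvd_iff_le_factorization hne]
    exact h2
  omega

/-- If the square of `p` does not divide the order and some element of order `p` has no
nontrivial fixed point, no element of order `p` has one. -/
theorem fixed_trivial_of_sylow [Finite G] (p : ℕ) [hp : Fact p.Prime] (h2 : ¬ p ^ 2 ∣ Nat.card G)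
    (x : G) (hx : orderOf x = p) (hfx : ∀ w : N, φ x w = w → w = 1)
    (g : G) (hg : orderOf g = p) (w : N) (hw : φ g w = w) : w = 1 := by
  have hdvd : p ∣ Nat.card G := hx ▸ orderOf_dvd_natCard x
  have hf := factorization_eq_one (G := G) p hdvd h2
  have cx : Nat.card (Subgroup.zpowers x) = p ^ (Nat.card G).factorization p := by
    rw [hf, pow_one, Nat.card_zpowers, hx]
  have cg : Nat.card (Subgroup.zpowers g) = p ^ (Nat.card G).factorization p := by
    rw [hf, pow_one, Nat.card_zpowers, hg]
  obtain ⟨c, hc⟩ := MulAction.exists_smul_eq G (Sylow.ofCard (Subgroup.zpowers x) cx)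
    (Sylow.ofCard (Subgroup.zpowers g) cg)
  have hmem : g ∈ ((c • Sylow.ofCard (Subgroup.zpowers x) cx : Sylow p G) : Subgroup G) := by
    rw [hc, Sylow.coe_ofCard]
    exact Subgroup.mem_zpowers g
  rw [Sylow.coe_subgroup_smul, Sylow.coe_ofCard, Subgroup.mem_pointwise_smul_iff_inv_smul_mem]
    at hmem
  -- the conjugate `y` of `g` lies in the group generated by `x`
  set y : G := (MulAut.conj c)⁻¹ • g with hy
  have hyc : y = c⁻¹ * g * c := by
    rw [hy, ← map_inv, MulAut.smul_def, MulAut.conj_apply, inv_inv]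
  have hyo : orderOf y = p := by
    rw [hy, MulAut.smul_def, MulEquiv.orderOf_eq, hg]
  -- `x` lies in the group generated by `y`
  have hle : Subgroup.zpowers y ≤ Subgroup.zpowers x := Subgroup.zpowers_le.2 hmem
  have heq : Subgroup.zpowers y = Subgroup.zpowers x := by
    apply Subgroup.eq_of_le_of_card_ge hle
    rw [Nat.card_zpowers, Nat.card_zpowers, hx, hyo]
  have hxy : x ∈ Subgroup.zpowers y := heq ▸ Subgroup.mem_zpowers x
  obtain ⟨j, hj⟩ := Subgroup.mem_zpowers_iff.1 hxy
  -- the fixed point
  have hcc : φ c (φ c⁻¹ w) = w := by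
    show (φ c * φ c⁻¹) w = w
    rw [← map_mul, mul_inv_cancel, map_one]
    rfl
  have hfy : φ y (φ c⁻¹ w) = φ c⁻¹ w := by
    rw [hyc, map_mul, map_mul]
    show φ c⁻¹ (φ g (φ c (φ c⁻¹ w))) = φ c⁻¹ w
    rw [hcc, hw]
  have hfz : ∀ k : ℤ, φ (y ^ k) (φ c⁻¹ w) = φ c⁻¹ w := by
    intro k
    rw [map_zpow]
    have hstab : φ y ∈ MulAction.stabilizer (MulAut N) (φ c⁻¹ w) := hfy
    exact (MulAction.stabilizer (MulAut N) (φ c⁻¹ w)).zpow_mem hstab k
  have h1 := hfx (φ c⁻¹ w) (by rw [← hj]; exact hfz j)
  rw [h1, map_one] at hcc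
  exact hcc.symm

end Sylow

section MatAct

variable {G : Type*} [Group G] {n : Type*} [Fintype n] [DecidableEq n] {R : Type*} [CommRing R]
  (ρ : G →* GL n R) (k : ℕ)

/-- The action of a group of matrices on tuples of vectors, as additive automorphisms. -/
def addAut (g : G) : (Fin k → n → R) ≃+ (Fin k → n → R) where
  toFun v i := (ρ g).val.mulVec (v i)
  invFun v i := (ρ g⁻¹).val.mulVec (v i)
  left_inv v := by
    funext i
    show (ρ g⁻¹).val.mulVec ((ρ g).val.mulVec (v i)) = v i
    rw [Matrix.mulVec_mulVec, ← Units.val_mul, ← map_mul, inv_mul_cancel, map_one, Units.val_one,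
      Matrix.one_mulVec]
  right_inv v := by
    funext i
    show (ρ g).val.mulVec ((ρ g⁻¹).val.mulVec (v i)) = v i
    rw [Matrix.mulVec_mulVec, ← Units.val_mul, ← map_mul, mul_inv_cancel, map_one, Units.val_one,
      Matrix.one_mulVec]
  map_add' v w := by
    funext i
    show (ρ g).val.mulVec (v i + w i) = (ρ g).val.mulVec (v i) + (ρ g).val.mulVec (w i)
    rw [Matrix.mulVec_add]

/-- The action as a homomorphism to the automorphisms of the multiplicative group. -/
def matPhi : G →* MulAut (Multiplicative (Fin k → n → R)) where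
  toFun g := AddEquiv.toMultiplicative (addAut ρ k g)
  map_one' := by
    apply MulEquiv.ext
    intro w
    show Multiplicative.ofAdd (fun i => (ρ 1).val.mulVec (Multiplicative.toAdd w i)) = w
    simp only [map_one, Units.val_one, Matrix.one_mulVec]
    rfl
  map_mul' g h := by
    apply MulEquiv.ext
    intro w
    show Multiplicative.ofAdd (fun i => (ρ (g * h)).val.mulVec (Multiplicative.toAdd w i)) =
      Multiplicative.ofAdd (fun i => (ρ g).val.mulVec ((ρ h).val.mulVec (Multiplicative.toAdd w i)))
    simp only [map_mul, Units.val_mul, Matrix.mulVec_mulVec]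

theorem matPhi_apply (g : G) (w : Multiplicative (Fin k → n → R)) :
    matPhi ρ k g w = Multiplicative.ofAdd (fun i => (ρ g).val.mulVec (Multiplicative.toAdd w i)) :=
  rfl

/-- A fixed point of the action is a tuple of fixed vectors. -/
theorem matPhi_fixed_iff (g : G) (w : Multiplicative (Fin k → n → R)) :
    matPhi ρ k g w = w ↔ ∀ i, (ρ g).val.mulVec (Multiplicative.toAdd w i) = Multiplicative.toAdd w i := by
  rw [matPhi_apply]
  constructor
  · intro h i
    have := congrArg Multiplicative.toAdd h
    exact congrFun this i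
  · intro h
    apply Multiplicative.toAdd.injective
    funext i
    exact h i

end MatAct

end Cfsg.Agent.Helper9.PrimeGraphExt
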