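import Mathlib
import Cfsg.Agent.Lib.Helper9.F4

set_option autoImplicit false
set_option maxRecDepth 100000

/-! Vectors and matrices of size 6 over the field with four elements. Families of involutory
matrices and the values of words in them. -/

namespace Cfsg.Agent.Helper9.Vec6F4

open Matrix

/-- Six entries. -/
structure V6 where
  x0 : F4
  x1 : F4
  x2 : F4
  x3 : F4
  x4 : F4
  x5 : F4
deriving DecidableEq

/-- The vector of the entries. -/
def V6.toVec (v : V6) : Fin 6 → F4 :=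
  ![v.x0, v.x1, v.x2, v.x3, v.x4, v.x5]

/-- The entries of a vector. -/
def V6.ofVec (f : Fin 6 → F4) : V6 :=
  ⟨f 0, f 1, f 2, f 3, f 4, f 5⟩

/-- The product of a row and a column. -/
def dot (r v : V6) : F4 :=
  r.x0 * v.x0 + r.x1 * v.x1 + r.x2 * v.x2 + r.x3 * v.x3 + r.x4 * v.x4 + r.x5 * v.x5

/-- Six rows. -/
structure M6 where
  r0 : V6
  r1 : V6
  r2 : V6
  r3 : V6
  r4 : V6
  r5 : V6

/-- The product of a matrix and a column. -/
def M6.app (M : M6) (v : V6) : V6 :=
  ⟨dot M.r0 v, dot M.r1 v, dot M.r2 v, dot M.r3 v, dot M.r4 v, dot M.r5 v⟩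

/-- The matrix of the rows. -/
def M6.toMat (M : M6) : Matrix (Fin 6) (Fin 6) F4 := Matrix.of
  ![M.r0.toVec, M.r1.toVec, M.r2.toVec, M.r3.toVec, M.r4.toVec, M.r5.toVec]

theorem dot_eq (r v : V6) : dot r v = r.toVec ⬝ᵥ v.toVec := by
  simp only [dot, dotProduct, V6.toVec]
  simp only [Fin.sum_univ_succ, Fin.sum_univ_zero, Matrix.cons_val_zero, Matrix.cons_val_succ,
    add_zero]
  ring

theorem toVec_ofVec (f : Fin 6 → F4) : (V6.ofVec f).toVec = f := by
  ext i
  fin_cases i <;> rfl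

theorem toMat_mulVec (M : M6) (v : V6) : M.toMat *ᵥ v.toVec = (M.app v).toVec := by
  ext i
  fin_cases i <;> exact (dot_eq _ _).symm

/-- The basis vectors. -/
def bas : Fin 6 → V6 := ![
  ⟨1, 0, 0, 0, 0, 0⟩,
  ⟨0, 1, 0, 0, 0, 0⟩,
  ⟨0, 0, 1, 0, 0, 0⟩,
  ⟨0, 0, 0, 1, 0, 0⟩,
  ⟨0, 0, 0, 0, 1, 0⟩,
  ⟨0, 0, 0, 0, 0, 1⟩]

theorem bas_toVec (j : Fin 6) : (bas j).toVec = Pi.single j 1 := by
  ext i
  fin_cases j <;> fin_cases i <;> simp [bas, V6.toVec]

/-- Two matrices which agree on the basis vectors are equal. -/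
theorem eq_of_bas (A B : Matrix (Fin 6) (Fin 6) F4)
    (h : ∀ j : Fin 6, A *ᵥ (bas j).toVec = B *ᵥ (bas j).toVec) : A = B := by
  ext i j
  have h1 := congrFun (h j) i
  rw [bas_toVec, Matrix.mulVec_single_one, Matrix.mulVec_single_one] at h1
  exact h1

/-- A matrix which fixes the basis vectors is the identity. -/
theorem eq_one_of_bas (A : Matrix (Fin 6) (Fin 6) F4)
    (h : ∀ j : Fin 6, A *ᵥ (bas j).toVec = (bas j).toVec) : A = 1 := by
  apply eq_of_bas
  intro j
  rw [h j, Matrix.one_mulVec]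

section Family

variable {ι : Type} (g : ι → M6)

/-- The value of a word in involutory matrices on a vector. -/
def ev : List (ι × Bool) → V6 → V6
  | [], v => v
  | (s, _) :: L, v => (g s).app (ev L v)

variable (hg : ∀ s : ι, ∀ j : Fin 6, (g s).app ((g s).app (bas j)) = bas j)

include hg in
theorem toMat_sq (s : ι) : (g s).toMat * (g s).toMat = 1 := by
  apply eq_one_of_bas
  intro j
  rw [← Matrix.mulVec_mulVec, toMat_mulVec, toMat_mulVec, hg s j]

/-- The matrices as units. -/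
def unitOf (s : ι) : GL (Fin 6) F4 := ⟨(g s).toMat, (g s).toMat, toMat_sq g hg s, toMat_sq g hg s⟩

theorem unitOf_val (s : ι) : (unitOf g hg s).val = (g s).toMat := rfl

theorem unitOf_inv (s : ι) : (unitOf g hg s)⁻¹ = unitOf g hg s := rfl

theorem lift_mulVec (L : List (ι × Bool)) (v : V6) :
    ((FreeGroup.lift (unitOf g hg) (FreeGroup.mk L) : GL (Fin 6) F4)).val *ᵥ v.toVec =
      (ev g L v).toVec := by
  induction L with
  | nil =>
    have h : (FreeGroup.mk [] : FreeGroup ι) = 1 := rfl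
    rw [h, map_one, ev]
    show (1 : Matrix (Fin 6) (Fin 6) F4) *ᵥ v.toVec = v.toVec
    rw [Matrix.one_mulVec]
  | cons p L ih =>
    obtain ⟨s, b⟩ := p
    have h : (FreeGroup.mk ((s, b) :: L) : FreeGroup ι) =
        FreeGroup.mk [(s, b)] * FreeGroup.mk L := rfl
    rw [h, map_mul]
    show (((FreeGroup.lift (unitOf g hg) (FreeGroup.mk [(s, b)]) : GL (Fin 6) F4)).val *
      ((FreeGroup.lift (unitOf g hg) (FreeGroup.mk L) : GL (Fin 6) F4)).val) *ᵥ v.toVec = _
    rw [← Matrix.mulVec_mulVec, ih, ev]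
    cases b
    · have h3 : (FreeGroup.mk [(s, false)] : FreeGroup ι) = (FreeGroup.of s)⁻¹ := rfl
      rw [h3, map_inv, FreeGroup.lift_apply_of, unitOf_inv]
      exact toMat_mulVec _ _
    · have h3 : (FreeGroup.mk [(s, true)] : FreeGroup ι) = FreeGroup.of s := rfl
      rw [h3, FreeGroup.lift_apply_of]
      exact toMat_mulVec _ _

theorem lift_val_eq [DecidableEq ι] (r : FreeGroup ι) (B : M6)
    (h : ∀ j : Fin 6, ev g r.toWord (bas j) = B.app (bas j)) :
    ((FreeGroup.lift (unitOf g hg) r : GL (Fin 6) F4)).val = B.toMat := by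
  have e : r = FreeGroup.mk r.toWord := FreeGroup.mk_toWord.symm
  rw [e]
  apply eq_of_bas
  intro j
  rw [lift_mulVec, h j, toMat_mulVec]

theorem lift_eq_one [DecidableEq ι] (r : FreeGroup ι)
    (h : ∀ j : Fin 6, ev g r.toWord (bas j) = bas j) :
    FreeGroup.lift (unitOf g hg) r = 1 := by
  have e : r = FreeGroup.mk r.toWord := FreeGroup.mk_toWord.symm
  rw [e]
  apply Units.ext
  show _ = (1 : Matrix (Fin 6) (Fin 6) F4)
  apply eq_one_of_bas
  intro j
  rw [lift_mulVec, h j]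

end Family

end Cfsg.Agent.Helper9.Vec6F4
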