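import Mathlib
import Cfsg.Agent.Lib.Helper9.G24Simple
import Cfsg.Agent.Lib.Helper9.Vec6F4
import Cfsg.Agent.Lib.Helper9.PrimeGraphExt
import Cfsg.Agent.Lib.Helper9.TC2Fin

set_option autoImplicit false
set_option maxRecDepth 1000000

/-! A representation of degree six over the field with four elements of the presented group of
`G24Simple`, in which the elements of orders seven and thirteen have no nonzero fixed vectors;
split extensions of the group by powers of this module have the same prime graph. -/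

namespace Cfsg.Agent.Helper9.G24Prime

open Matrix Cfsg Cfsg.Agent.Helper9 Cfsg.Agent.Helper9.TC2 Cfsg.Agent.Helper9.TCData
  Cfsg.Spor Cfsg.Agent.Helper9.Vec6F4 Cfsg.Agent.Helper9.G24Simple
  Cfsg.Agent.Helper9.PrimeGraphExt

open F4 in
/-- The rows of the six involutions. -/
def g6 : Fin 6 → M6 := ![
  ⟨⟨o, z, z, z, z, z⟩,
    ⟨z, o, z, z, z, z⟩,
    ⟨z, z, o, z, z, z⟩,
    ⟨z, z, z, o, z, z⟩,
    ⟨o, z, z, z, o, z⟩,
    ⟨z, o, z, z, z, o⟩⟩,
  ⟨⟨w, z, o, w2, w2, z⟩,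
    ⟨w2, w2, w, w, z, w2⟩,
    ⟨o, w, z, z, w, w2⟩,
    ⟨w2, w2, z, z, w, o⟩,
    ⟨w, z, w2, w, w2, z⟩,
    ⟨z, w, w2, o, w2, w⟩⟩,
  ⟨⟨o, z, z, z, z, z⟩,
    ⟨z, o, z, z, z, z⟩,
    ⟨z, o, o, z, z, z⟩,
    ⟨z, z, z, o, z, z⟩,
    ⟨o, z, z, o, o, z⟩,
    ⟨z, o, z, z, z, o⟩⟩,
  ⟨⟨z, o, z, z, z, z⟩,
    ⟨o, z, z, z, z, z⟩,
    ⟨w, o, z, o, z, z⟩,
    ⟨o, w, o, z, z, z⟩,
    ⟨w2, w, w, o, z, o⟩,
    ⟨z, w2, o, w, o, z⟩⟩,
  ⟨⟨o, o, z, z, z, z⟩,
    ⟨z, o, z, z, z, z⟩,
    ⟨w2, o, o, o, z, z⟩,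
    ⟨z, w2, z, o, z, z⟩,
    ⟨z, w2, w2, o, o, o⟩,
    ⟨w, z, z, w2, z, o⟩⟩,
  ⟨⟨o, z, z, z, z, z⟩,
    ⟨z, o, z, z, z, z⟩,
    ⟨z, z, o, z, z, z⟩,
    ⟨z, z, z, o, z, z⟩,
    ⟨w, z, z, z, o, z⟩,
    ⟨z, w, z, z, z, o⟩⟩]

open F4 in
/-- The matrix of an element of order seven. -/
def m7 : M6 :=
  ⟨⟨z, w2, w2, w2, z, z⟩,
    ⟨o, o, z, z, z, z⟩,
    ⟨w, w2, o, w, w2, w2⟩,
    ⟨w, w2, w2, w2, z, z⟩,
    ⟨z, z, w2, w, o, z⟩,
    ⟨z, z, w2, w, w2, w2⟩⟩

open F4 in
/-- The matrix of an element of order thirteen. -/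
def m13 : M6 :=
  ⟨⟨w2, o, o, o, z, w2⟩,
    ⟨o, w2, w2, o, w2, w2⟩,
    ⟨z, z, w2, w, z, w⟩,
    ⟨z, o, w2, z, o, w2⟩,
    ⟨z, z, w2, w, o, z⟩,
    ⟨w2, o, z, w, w, o⟩⟩


deriving instance Fintype for V6

theorem g6_sq : ∀ s : Fin 6, ∀ j : Fin 6, (g6 s).app ((g6 s).app (bas j)) = bas j := by
  decide +kernel

/-- The matrices of the generators. -/
def R6 : Fin 6 → GL (Fin 6) F4 := unitOf g6 g6_sq

theorem rel_extra : ∀ r ∈ SuzD1.extra, ∀ j : Fin 6, ev g6 r.toWord (bas j) = bas j := by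
  decide +kernel

theorem rel_cox : ∀ x ∈ coxNodes SuzD1.edges, ∀ y ∈ coxNodes SuzD1.edges, ∀ j : Fin 6,
    ev g6 ((FreeGroup.of x * FreeGroup.of y) ^ coxLabel SuzD1.edges x y).toWord (bas j) = bas j := by
  decide +kernel

theorem rels : ∀ r ∈ relSet SuzD1.edges SuzD1.extra, FreeGroup.lift R6 r = 1 := by
  intro r hr
  rcases hr with hr | hr
  · obtain ⟨x, hx, y, hy, rfl⟩ := hr
    exact lift_eq_one g6 g6_sq _ (rel_cox x hx y hy)
  · exact lift_eq_one g6 g6_sq _ (rel_extra r hr)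

/-- The representation. -/
noncomputable def rho : PG24 →* GL (Fin 6) F4 := PresentedGroup.toGroup rels

theorem rho_mk (w : FreeGroup (Fin 6)) :
    rho (PresentedGroup.mk (relSet SuzD1.edges SuzD1.extra) w) = FreeGroup.lift R6 w := rfl

/-- A word of order seven. -/
def w7 : FreeGroup (Fin 6) := FreeGroup.mk [((0 : Fin 6), true), ((1 : Fin 6), true), ((2 : Fin 6), true), ((1 : Fin 6), true), ((3 : Fin 6), true), ((4 : Fin 6), true), ((5 : Fin 6), true), ((1 : Fin 6), true)]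

/-- A word of order thirteen. -/
def w13 : FreeGroup (Fin 6) := FreeGroup.mk [((0 : Fin 6), true), ((1 : Fin 6), true), ((2 : Fin 6), true), ((1 : Fin 6), true), ((3 : Fin 6), true), ((4 : Fin 6), true), ((5 : Fin 6), true)]

/-- A word of order six. -/
def w6 : FreeGroup (Fin 6) := FreeGroup.mk [((0 : Fin 6), true), ((3 : Fin 6), true), ((4 : Fin 6), true)]

/-- A word of order ten. -/
def w10 : FreeGroup (Fin 6) := FreeGroup.mk [((0 : Fin 6), true), ((1 : Fin 6), true), ((3 : Fin 6), true)]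

/-- The element of a word. -/
noncomputable def elt (w : FreeGroup (Fin 6)) : PG24 :=
  PresentedGroup.mk (relSet SuzD1.edges SuzD1.extra) w

theorem elt_pow (w : FreeGroup (Fin 6)) (n : ℕ) : elt w ^ n = elt (w ^ n) :=
  (map_pow (PresentedGroup.mk (relSet SuzD1.edges SuzD1.extra)) w n).symm

theorem elt_eq_one (w : FreeGroup (Fin 6)) (h : ∀ j : Fin 6, ev g6 w.toWord (bas j) = bas j) :
    rho (elt w) = 1 := by
  unfold elt
  rw [rho_mk]
  exact lift_eq_one g6 g6_sq w h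

theorem elt_ne_one (w : FreeGroup (Fin 6)) (j : Fin 6) (h : ev g6 w.toWord (bas j) ≠ bas j) :
    elt w ≠ 1 := by
  intro h1
  apply h
  have h2 : rho (elt w) = 1 := by rw [h1, map_one]
  unfold elt at h2
  rw [rho_mk] at h2
  change FreeGroup.lift (unitOf g6 g6_sq) w = 1 at h2
  have h3 := lift_mulVec g6 g6_sq w.toWord (bas j)
  rw [FreeGroup.mk_toWord, h2] at h3
  have h4 : (bas j).toVec = (ev g6 w.toWord (bas j)).toVec := by
    rw [← h3]
    show _ = (1 : Matrix (Fin 6) (Fin 6) F4) *ᵥ (bas j).toVec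
    rw [Matrix.one_mulVec]
  have h5 := congrArg V6.ofVec h4
  exact h5.symm

theorem rho_injective : Function.Injective rho := by
  have := g24_simple.1
  refine injective_of_simple rho (elt (FreeGroup.of 0)) ?_
  intro h
  have h3 := lift_mulVec g6 g6_sq (FreeGroup.of (0 : Fin 6)).toWord (bas 0)
  unfold elt at h
  rw [rho_mk] at h
  change FreeGroup.lift (unitOf g6 g6_sq) (FreeGroup.of 0) = 1 at h
  rw [FreeGroup.mk_toWord, h] at h3
  have h4 : (bas 0).toVec = (ev g6 (FreeGroup.of (0 : Fin 6)).toWord (bas 0)).toVec := by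
    rw [← h3]
    show _ = (1 : Matrix (Fin 6) (Fin 6) F4) *ᵥ (bas 0).toVec
    rw [Matrix.one_mulVec]
  have h5 := congrArg V6.ofVec h4
  revert h5
  decide +kernel

/-- The order of the element of a word, from the values of its powers. -/
theorem orderOf_elt (w : FreeGroup (Fin 6)) (n : ℕ) (hn : 0 < n)
    (h1 : ∀ j : Fin 6, ev g6 (w ^ n).toWord (bas j) = bas j)
    (h2 : ∀ p : ℕ, p.Prime → p ∣ n → ∃ j : Fin 6, ev g6 (w ^ (n / p)).toWord (bas j) ≠ bas j) :
    orderOf (elt w) = n := by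
  apply orderOf_eq_of_pow_and_pow_div_prime hn
  · rw [elt_pow]
    apply rho_injective
    rw [elt_eq_one _ h1, map_one]
  · intro p hp hpn
    rw [elt_pow]
    obtain ⟨j, hj⟩ := h2 p hp hpn
    exact elt_ne_one _ j hj

theorem prime_cases {p : ℕ} (hp : p.Prime) (h : p ∣ 251596800) :
    p = 2 ∨ p = 3 ∨ p = 5 ∨ p = 7 ∨ p = 13 := by
  have e : 251596800 = 2 ^ 12 * 3 ^ 3 * 5 ^ 2 * 7 * 13 := by norm_num
  rw [e] at h
  rcases (Nat.Prime.dvd_mul hp).1 h with h | h
  · rcases (Nat.Prime.dvd_mul hp).1 h with h | h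
    · rcases (Nat.Prime.dvd_mul hp).1 h with h | h
      · rcases (Nat.Prime.dvd_mul hp).1 h with h | h
        · left
          exact (Nat.prime_dvd_prime_iff_eq hp Nat.prime_two).1 (hp.dvd_of_dvd_pow h)
        · right; left
          exact (Nat.prime_dvd_prime_iff_eq hp Nat.prime_three).1 (hp.dvd_of_dvd_pow h)
      · right; right; left
        exact (Nat.prime_dvd_prime_iff_eq hp Nat.prime_five).1 (hp.dvd_of_dvd_pow h)
    · right; right; right; left
      exact (Nat.prime_dvd_prime_iff_eq hp (by norm_num)).1 h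
  · right; right; right; right
    exact (Nat.prime_dvd_prime_iff_eq hp (by norm_num)).1 h

theorem order6 : orderOf (elt w6) = 6 := by
  apply orderOf_elt w6 6 (by norm_num) (by decide +kernel)
  intro p hp hpn
  have h6 : p ∣ 2 * 3 := hpn
  rcases (Nat.Prime.dvd_mul hp).1 h6 with h | h
  · rw [(Nat.prime_dvd_prime_iff_eq hp Nat.prime_two).1 h]
    exact ⟨0, by decide +kernel⟩
  · rw [(Nat.prime_dvd_prime_iff_eq hp Nat.prime_three).1 h]
    exact ⟨0, by decide +kernel⟩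

theorem order10 : orderOf (elt w10) = 10 := by
  apply orderOf_elt w10 10 (by norm_num) (by decide +kernel)
  intro p hp hpn
  have h6 : p ∣ 2 * 5 := hpn
  rcases (Nat.Prime.dvd_mul hp).1 h6 with h | h
  · rw [(Nat.prime_dvd_prime_iff_eq hp Nat.prime_two).1 h]
    exact ⟨0, by decide +kernel⟩
  · rw [(Nat.prime_dvd_prime_iff_eq hp Nat.prime_five).1 h]
    exact ⟨0, by decide +kernel⟩

theorem order7 : orderOf (elt w7) = 7 := by
  apply orderOf_elt w7 7 (by norm_num) (by decide +kernel)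
  intro p hp hpn
  rw [(Nat.prime_dvd_prime_iff_eq hp (by norm_num)).1 hpn]
  exact ⟨0, by decide +kernel⟩

theorem order13 : orderOf (elt w13) = 13 := by
  apply orderOf_elt w13 13 (by norm_num) (by decide +kernel)
  intro p hp hpn
  rw [(Nat.prime_dvd_prime_iff_eq hp (by norm_num)).1 hpn]
  exact ⟨0, by decide +kernel⟩

theorem m7_eq : (rho (elt w7)).val = m7.toMat :=
  lift_val_eq g6 g6_sq w7 m7 (by decide +kernel)

theorem m13_eq : (rho (elt w13)).val = m13.toMat :=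
  lift_val_eq g6 g6_sq w13 m13 (by decide +kernel)

theorem m7_fpf : ∀ v : V6, m7.app v = v → v = ⟨0, 0, 0, 0, 0, 0⟩ := by decide +kernel

theorem m13_fpf : ∀ v : V6, m13.app v = v → v = ⟨0, 0, 0, 0, 0, 0⟩ := by decide +kernel

theorem fpf_of (M : M6) (h : ∀ v : V6, M.app v = v → v = ⟨0, 0, 0, 0, 0, 0⟩) (v : Fin 6 → F4)
    (hv : M.toMat *ᵥ v = v) : v = 0 := by
  have h1 : M.toMat *ᵥ (V6.ofVec v).toVec = (V6.ofVec v).toVec := by
    rw [toVec_ofVec]
    exact hv
  rw [toMat_mulVec] at h1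
  have h2 : M.app (V6.ofVec v) = V6.ofVec v := by
    have := congrArg V6.ofVec h1
    exact this
  have h3 := h _ h2
  have h4 := congrArg V6.toVec h3
  rw [toVec_ofVec] at h4
  rw [h4]
  funext i
  fin_cases i <;> rfl

/-- The kernel of the extension. -/
abbrev Ker (k : ℕ) : Type := Multiplicative (Fin k → Fin 6 → F4)

/-- The action. -/
noncomputable def phi (k : ℕ) : PG24 →* MulAut (Ker k) := matPhi rho k

/-- The extension. -/
abbrev Ext (k : ℕ) : Type := SemidirectProduct (Ker k) PG24 (phi k)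

theorem ker_sq (k : ℕ) (n : Ker k) : n * n = 1 := by
  apply Multiplicative.toAdd.injective
  show Multiplicative.toAdd n + Multiplicative.toAdd n = 0
  funext i j
  show Multiplicative.toAdd n i j + Multiplicative.toAdd n i j = 0
  generalize Multiplicative.toAdd n i j = x
  revert x
  decide

theorem fixed_trivial (k : ℕ) (x : PG24) (M : M6) (hM : (rho x).val = M.toMat)
    (h : ∀ v : V6, M.app v = v → v = ⟨0, 0, 0, 0, 0, 0⟩) (w : Ker k) (hw : phi k x w = w) :
    w = 1 := by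
  unfold phi at hw
  rw [matPhi_fixed_iff] at hw
  apply Multiplicative.toAdd.injective
  funext i
  have := hw i
  rw [hM] at this
  exact fpf_of M h _ this

theorem hfix (k : ℕ) : ∀ p : ℕ, p.Prime → p ≠ 2 →
    (∃ g : PG24, orderOf g = p ∧ ∃ w : Ker k, w ≠ 1 ∧ phi k g w = w) →
      ∃ g : PG24, orderOf g = 2 * p := by
  rintro p hp hp2 ⟨g, hg, w, hw1, hw⟩
  have : Finite PG24 := hub.1
  have hdvd : p ∣ 251596800 := by
    rw [← g24_simple.2, ← hg]
    exact orderOf_dvd_natCard g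
  rcases prime_cases hp hdvd with rfl | rfl | rfl | rfl | rfl
  · exact absurd rfl hp2
  · exact ⟨elt w6, order6⟩
  · exact ⟨elt w10, order10⟩
  · exfalso
    apply hw1
    have : Fact (Nat.Prime 7) := ⟨hp⟩
    exact fixed_trivial_of_sylow (phi k) 7 (by rw [g24_simple.2]; norm_num) (elt w7) order7
      (fixed_trivial k (elt w7) m7 m7_eq m7_fpf) g hg w hw
  · exfalso
    apply hw1
    have : Fact (Nat.Prime 13) := ⟨hp⟩
    exact fixed_trivial_of_sylow (phi k) 13 (by rw [g24_simple.2]; norm_num) (elt w13) order13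
      (fixed_trivial k (elt w13) m13 m13_eq m13_fpf) g hg w hw

/-- The extensions have the same prime graph as the group. -/
theorem main (k : ℕ) :
    (∀ p : ℕ, p.Prime → (p ∣ Nat.card PG24 ↔ p ∣ Nat.card (Ext k))) ∧
    (∀ p q : ℕ, p.Prime → q.Prime → p ≠ q →
      ((∃ g : PG24, orderOf g = p * q) ↔ (∃ h : Ext k, orderOf h = p * q))) := by
  have : Finite PG24 := hub.1
  exact same_prime_graph (phi k) (ker_sq k) (by rw [g24_simple.2]; norm_num) (hfix k)

theorem card_lt (k : ℕ) : k < Nat.card (Ext k) := by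
  have : Finite PG24 := hub.1
  rw [SemidirectProduct.card, g24_simple.2]
  have h1 : Nat.card (Ker k) = (4 ^ 6) ^ k := by
    show Nat.card (Fin k → Fin 6 → F4) = _
    rw [Nat.card_fun, Nat.card_fun, Nat.card_eq_fintype_card, Nat.card_eq_fintype_card,
      Nat.card_eq_fintype_card, Fintype.card_fin, Fintype.card_fin, F4.card]
  rw [h1]
  calc k < 2 ^ k := Nat.lt_two_pow_self
    _ ≤ (4 ^ 6) ^ k := Nat.pow_le_pow_left (by norm_num) k
    _ ≤ (4 ^ 6) ^ k * 251596800 := Nat.le_mul_of_pos_right _ (by norm_num)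

end Cfsg.Agent.Helper9.G24Prime
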