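import Mathlib
import Cfsg.Prelude.Def_Solvable
import Cfsg.Agent.Lib.Helper21.GAG39Defs

/-!
# S4839 piece G39-HCARD: `[G : N] + 1 = |N|` when `p ∤ [G : N]`.
-/

set_option autoImplicit false
set_option linter.unusedSectionVars false
set_option linter.unusedVariables false

namespace Cfsg.Agent.Helper21.GAG39

open Cfsg
open scoped Pointwise

variable {G : Type*} [Group G] [Finite G] {p : ℕ} [Fact p.Prime] (N : Subgroup G) [N.Normal]

/-- PIECE G39-HCARD [L0]. -/
theorem card_of_hall (hNp : IsPGroup p N) (hcomm : ∀ a ∈ N, ∀ b ∈ N, a * b = b * a)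
    (hcent : ∀ x ∈ N, x ≠ 1 → IsPGroup p (Subgroup.centralizer ({x} : Set G)))
    (hcard : ∀ x ∈ N, x ≠ 1 →
      Nat.card G = Nat.card (Subgroup.centralizer ({x} : Set G)) * (Nat.card N - 1))
    (hne : N ≠ ⊥) (hidx : ¬ p ∣ N.index) : N.index + 1 = Nat.card N := by
  have hp : p.Prime := Fact.out
  obtain ⟨⟨x, hxN⟩, hx1'⟩ := (Subgroup.ne_bot_iff_exists_ne_one).1 hne
  have hx1 : x ≠ 1 := fun h => hx1' (Subtype.ext h)
  obtain ⟨a, ha⟩ := hNp.exists_card_eq
  obtain ⟨b, hb⟩ := (hcent x hxN hx1).exists_card_eq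
  have hNC : N ≤ Subgroup.centralizer ({x} : Set G) := by
    intro v hv
    rw [Subgroup.mem_centralizer_iff]
    intro y hy
    rw [Set.mem_singleton_iff] at hy
    subst hy
    exact hcomm _ hxN _ hv
  have hab : a ≤ b := by
    have h1 := Subgroup.card_dvd_of_le hNC
    rw [ha, hb] at h1
    exact (Nat.pow_dvd_pow_iff_le_right hp.one_lt).1 h1
  have hG := hcard x hxN hx1
  rw [← Subgroup.card_mul_index N, ha, hb] at hG
  obtain ⟨c, rfl⟩ := Nat.exists_eq_add_of_le hab
  rw [pow_add, mul_assoc] at hG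
  have hpa : 0 < p ^ a := pow_pos hp.pos a
  have h2 : N.index = p ^ c * (p ^ a - 1) := Nat.eq_of_mul_eq_mul_left hpa hG
  have hc : c = 0 := by
    by_contra hc
    apply hidx
    rw [h2]
    exact Dvd.dvd.mul_right (dvd_pow_self p hc) _
  subst hc
  rw [h2, ha, pow_zero, one_mul]
  exact Nat.sub_add_cancel hpa

end Cfsg.Agent.Helper21.GAG39
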