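import Mathlib
import Cfsg.Prelude.Def_PLocal
import Cfsg.Agent.Lib.Helper9.Basic
import Cfsg.Agent.Lib.Helper9.ThompsonRepl
import Cfsg.Agent.Lib.Helper15.CentrallyLarge

set_option autoImplicit false

namespace Cfsg.Agent.Helper9

open Subgroup

variable {G : Type*} [Group G]

/-- `|A : A ∩ A^x| ≤ |[A,x] : [A,x] ∩ A^x|` -/
theorem relIndex_conj_le [Finite G] (A : Subgroup G) (x : G) :
    (A.map (MulAut.conj x).toMonoidHom).relIndex A ≤
      (A.map (MulAut.conj x).toMonoidHom).relIndex (commSub A x) := by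
  set A' := A.map (MulAut.conj x).toMonoidHom with hA'
  have hconjA' : ∀ a ∈ A, x * a * x⁻¹ ∈ A' := fun a ha => conj_mem_map_conj ha
  apply relIndex_le_relIndex_of_map A (commSub A x) A' (fun a => a * x * a⁻¹ * x⁻¹)
    (fun a ha => mem_commSub ha)
  intro a ha a' ha' h
  have e : a⁻¹ * a' = (x * a * x⁻¹)⁻¹ * ((a * x * a⁻¹ * x⁻¹)⁻¹ * (a' * x * a'⁻¹ * x⁻¹))
      * (x * a'⁻¹ * x⁻¹)⁻¹ := by group
  rw [e]
  exact A'.mul_mem (A'.mul_mem (A'.inv_mem (hconjA' a ha)) h)
    (A'.inv_mem (hconjA' _ (A.inv_mem ha')))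

theorem map_conj_map_conj_inv (A : Subgroup G) (x : G) :
    (A.map (MulAut.conj x).toMonoidHom).map (MulAut.conj x⁻¹).toMonoidHom = A := by
  ext y
  rw [mem_map_conj, mem_map_conj]
  constructor
  · intro h
    have e : y = x⁻¹ * (x⁻¹⁻¹ * y * x⁻¹) * x := by group
    rw [e]; exact h
  · intro h
    have e : x⁻¹ * (x⁻¹⁻¹ * y * x⁻¹) * x = y := by group
    rw [e]; exact h

theorem commSub_conj_inv_le (A : Subgroup G) (x : G) :
    commSub (A.map (MulAut.conj x).toMonoidHom) x⁻¹ ≤ commSub A x := by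
  unfold commSub
  rw [closure_le]
  rintro y ⟨b, ⟨a, ha, rfl⟩, rfl⟩
  have e : (MulAut.conj x).toMonoidHom a * x⁻¹ * ((MulAut.conj x).toMonoidHom a)⁻¹ * x⁻¹⁻¹
      = (a * x * a⁻¹ * x⁻¹)⁻¹ := by
    simp only [MulEquiv.toMonoidHom_eq_coe, MonoidHom.coe_coe, MulAut.conj_apply]
    group
  rw [e]
  exact inv_mem (Subgroup.subset_closure ⟨a, ha, rfl⟩)

/-- A replacement theorem without nilpotency: for `A` abelian of largest order and any `x` with
`[A, x]` abelian, `[A,x] C_A([A,x])` is again abelian of largest order. -/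
theorem replacement_of_comm [Finite G] {A : Subgroup G}
    (hA : A ∈ Cfsg.maxAbelianSubgroups G) (x : G)
    (hMc : ∀ m ∈ commSub A x, ∀ m' ∈ commSub A x, m * m' = m' * m) :
    (commSub A x ⊔ (A ⊓ centralizer (commSub A x : Set G))) ∈ Cfsg.maxAbelianSubgroups G := by
  classical
  set M := commSub A x with hM
  set C := A ⊓ centralizer (M : Set G) with hC
  have hAc : ∀ a ∈ A, ∀ a' ∈ A, a * a' = a' * a := fun a ha a' ha' =>
    congrArg Subtype.val (hA.1.is_comm.comm ⟨a, ha⟩ ⟨a', ha'⟩)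
  have hMM : M ≤ centralizer (M : Set G) := by
    intro m hm
    rw [mem_centralizer_iff]
    intro m' hm'
    exact hMc m' hm' m hm
  set A' := A.map (MulAut.conj x).toMonoidHom with hA'
  have hmemA' : ∀ y, y ∈ A' ↔ x⁻¹ * y * x ∈ A := fun y => mem_map_conj
  have hconjA' : ∀ a ∈ A, x * a * x⁻¹ ∈ A' := fun a ha => conj_mem_map_conj ha
  have hA'c : ∀ y ∈ A', ∀ y' ∈ A', y * y' = y' * y := by
    intro y hy y' hy'
    rw [hmemA'] at hy hy'
    have h1 := hAc _ hy _ hy'
    calc y * y' = x * ((x⁻¹ * y * x) * (x⁻¹ * y' * x)) * x⁻¹ := by group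
      _ = x * ((x⁻¹ * y' * x) * (x⁻¹ * y * x)) * x⁻¹ := by rw [h1]
      _ = y' * y := by group
  have hAA'C : A ⊓ A' ≤ C := by
    intro c hc
    refine Subgroup.mem_inf.mpr ⟨hc.1, ?_⟩
    rw [hM, commSub, centralizer_closure, mem_centralizer_iff]
    rintro y ⟨a, ha, rfl⟩
    have h1 : a * c = c * a := hAc a ha c hc.1
    have h2 : (x * a⁻¹ * x⁻¹) * c = c * (x * a⁻¹ * x⁻¹) :=
      hA'c _ (hconjA' _ (A.inv_mem ha)) c hc.2
    calc a * x * a⁻¹ * x⁻¹ * c = a * ((x * a⁻¹ * x⁻¹) * c) := by group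
      _ = a * (c * (x * a⁻¹ * x⁻¹)) := by rw [h2]
      _ = (a * c) * (x * a⁻¹ * x⁻¹) := by group
      _ = (c * a) * (x * a⁻¹ * x⁻¹) := by rw [h1]
      _ = c * (a * x * a⁻¹ * x⁻¹) := by group
  have hne : ∀ H K : Subgroup G, H.relIndex K ≠ 0 := by
    intro H K
    unfold Subgroup.relIndex
    exact Subgroup.index_ne_zero_of_finite
  have hCA : C ≤ A := inf_le_left
  have h1 : Nat.card A = Nat.card C * C.relIndex A := card_eq_card_mul_relIndex hCA
  have h2 : C.relIndex A ≤ (A ⊓ A').relIndex A := relIndex_le_of_le_left hAA'C (hne _ _)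
  -- |A : A ∩ A'| = |A' : A ∩ A'|
  have h3 : (A ⊓ A').relIndex A = (A ⊓ A').relIndex A' := by
    have e1 : Nat.card A = Nat.card ↥(A ⊓ A') * (A ⊓ A').relIndex A :=
      card_eq_card_mul_relIndex inf_le_left
    have e2 : Nat.card A' = Nat.card ↥(A ⊓ A') * (A ⊓ A').relIndex A' :=
      card_eq_card_mul_relIndex inf_le_right
    have e3 : Nat.card A' = Nat.card A := card_map_conj A x
    rw [e3, e1] at e2
    exact Nat.eq_of_mul_eq_mul_left Nat.card_pos e2
  have h4 : (A ⊓ A').relIndex A' = A.relIndex A' := inf_relIndex_right _ _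
  -- the symmetric inequality
  have h5 : A.relIndex A' ≤ A.relIndex M := by
    have h := relIndex_conj_le A' x⁻¹
    rw [hA', map_conj_map_conj_inv] at h
    exact h.trans (relIndex_le_of_le_right (commSub_conj_inv_le A x) (hne _ _))
  have h6 : A.relIndex M ≤ C.relIndex M := relIndex_le_of_le_left hCA (hne _ _)
  have h7 : C.relIndex M ≤ C.relIndex (M ⊔ C) := relIndex_le_of_le_right le_sup_left (hne _ _)
  have h8 : Nat.card ↥(M ⊔ C) = Nat.card C * C.relIndex (M ⊔ C) :=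
    card_eq_card_mul_relIndex le_sup_right
  have hcard : Nat.card A ≤ Nat.card ↥(M ⊔ C) := by
    rw [h1, h8]
    apply Nat.mul_le_mul_left
    calc C.relIndex A ≤ (A ⊓ A').relIndex A := h2
      _ = (A ⊓ A').relIndex A' := h3
      _ = A.relIndex A' := h4
      _ ≤ A.relIndex M := h5
      _ ≤ C.relIndex M := h6
      _ ≤ C.relIndex (M ⊔ C) := h7
  have hcomm : IsMulCommutative ↥(M ⊔ C) := by
    apply Cfsg.Agent.Helper15.isMulCommutative_sup hMM
    · exact hCA.trans ((Cfsg.Agent.Helper15.MaxAbelian.le_centralizer hA).trans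
        (Subgroup.centralizer_le hCA))
    · rw [le_centralizer_iff]; exact inf_le_right
  exact ⟨hcomm, fun B' hB' => (hA.2 B' hB').trans hcard⟩

end Cfsg.Agent.Helper9
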