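import Mathlib
import Cfsg.Prelude.Def_PLocal
import Cfsg.Agent.Lib.Helper4.GlaubermanRepl
import Cfsg.Agent.Lib.Helper9.ThompsonRepl

set_option autoImplicit false

namespace Cfsg.Agent.Helper9

open Subgroup Cfsg.Agent.Helper4.GR

variable {S : Type*} [Group S]

/-- for a commutative subgroup, `Ω₁` is the set of elements of order dividing `p` -/
theorem mem_omegaOne_iff_of_comm {p : ℕ} {X : Subgroup S}
    (hX : ∀ x ∈ X, ∀ y ∈ X, x * y = y * x) (x : S) :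
    x ∈ Cfsg.omegaOne p X ↔ x ∈ X ∧ x ^ p = 1 := by
  constructor
  · intro hx
    unfold Cfsg.omegaOne at hx
    induction hx using closure_induction with
    | mem y hy => exact hy
    | one => exact ⟨one_mem X, one_pow p⟩
    | mul y z _ _ ihy ihz =>
      refine ⟨mul_mem ihy.1 ihz.1, ?_⟩
      have hc : Commute y z := hX y ihy.1 z ihz.1
      rw [hc.mul_pow, ihy.2, ihz.2, one_mul]
    | inv y _ ihy =>
      refine ⟨inv_mem ihy.1, ?_⟩
      rw [inv_pow, ihy.2, inv_one]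
  · intro hx
    exact Subgroup.subset_closure hx

theorem omegaOne_le {p : ℕ} (X : Subgroup S) : Cfsg.omegaOne p X ≤ X := by
  unfold Cfsg.omegaOne
  rw [closure_le]
  intro x hx
  exact hx.1

variable {A B : Subgroup S} {b : S}

/-- the generators `g a` of `A*` have order dividing `p` when `a` does (`p` odd) -/
theorem pow_g_eq_one (h : Hyp A B b) {p : ℕ} (hodd : Odd p) {a : S} (ha : a ∈ A)
    (hap : a ^ p = 1) : (g b a) ^ p = 1 := by
  rw [Hyp.g_eq]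
  have hy := Hyp.y_mem_Ab (b := b) ha
  set y := b⁻¹ * a⁻¹ * b with hy_def
  have hk : a⁻¹ * y * a⁻¹⁻¹ * y⁻¹ ∈ C A b := h.comm_A_Ab_mem_C (A.inv_mem ha) hy
  rw [inv_inv] at hk
  have hky := h.C_comm_Ab hk hy
  have hεe : y⁻¹ * a⁻¹ * y * a = a⁻¹ * y * a * y⁻¹ := by
    calc y⁻¹ * a⁻¹ * y * a = y⁻¹ * ((a⁻¹ * y * a * y⁻¹) * y) := by group
      _ = y⁻¹ * (y * (a⁻¹ * y * a * y⁻¹)) := by rw [hky]
      _ = a⁻¹ * y * a * y⁻¹ := by group
  have hεC : y⁻¹ * a⁻¹ * y * a ∈ C A b := by rw [hεe]; exact hk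
  set ε := y⁻¹ * a⁻¹ * y * a with hε
  have h1 : y * a = a * y * ε := by rw [hε]; group
  have hεa : Commute ε a := h.C_comm_A hεC ha
  have hεy : Commute ε y := h.C_comm_Ab hεC hy
  have hpow := Cfsg.Agent.Helper16.mul_pow_of_class_two h1 hεa hεy p
  have hyp : y ^ p = 1 := by
    have e : y = b⁻¹ * a⁻¹ * b⁻¹⁻¹ := by rw [hy_def, inv_inv]
    rw [e, conj_pow, inv_pow, hap]
    group
  have hεp : ε ^ p = 1 := by
    have e1 : y⁻¹ * a⁻¹ * y⁻¹⁻¹ = ε * a⁻¹ := by rw [hε]; group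
    have e2 : (y⁻¹ * a⁻¹ * y⁻¹⁻¹) ^ p = 1 := by
      rw [conj_pow, inv_pow, hap]
      group
    rw [e1, (hεa.inv_right).mul_pow, inv_pow, hap, inv_one, mul_one] at e2
    exact e2
  rw [hpow, hap, hyp, one_mul, one_mul]
  obtain ⟨t, ht⟩ := hodd
  have h4 : p * (p - 1) / 2 = p * t := by
    have : p - 1 = 2 * t := by omega
    rw [this, ← mul_assoc, mul_comm p 2, mul_assoc, Nat.mul_div_cancel_left _ (by norm_num)]
  rw [h4, pow_mul, hεp, one_pow]

/-- the replacement `A*` has at least as many elements of order dividing `p` as `A` -/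
theorem card_omegaOne_le_Astar [Finite S] (h : Hyp A B b)
    (hcomm : ∀ x ∈ Astar A b, ∀ y ∈ Astar A b, x * y = y * x) {p : ℕ} (hodd : Odd p) :
    Nat.card (Cfsg.omegaOne p A) ≤ Nat.card (Cfsg.omegaOne p (Astar A b)) := by
  have hCA : C A b ≤ A := h.C_le_A
  have hCT : C A b ≤ Astar A b := le_sup_left
  have hCcomm : ∀ x ∈ C A b, ∀ y ∈ C A b, x * y = y * x := fun x hx y hy =>
    h.Acomm x (hCA hx) y (hCA hy)
  have hmA := mem_omegaOne_iff_of_comm (p := p) h.Acomm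
  have hmT := mem_omegaOne_iff_of_comm (p := p) hcomm
  have hmC := mem_omegaOne_iff_of_comm (p := p) hCcomm
  have hΩCA : Cfsg.omegaOne p (C A b) ≤ Cfsg.omegaOne p A := by
    intro x hx
    rw [hmC] at hx
    exact (hmA x).mpr ⟨hCA hx.1, hx.2⟩
  have hΩCT : Cfsg.omegaOne p (C A b) ≤ Cfsg.omegaOne p (Astar A b) := by
    intro x hx
    rw [hmC] at hx
    exact (hmT x).mpr ⟨hCT hx.1, hx.2⟩
  have hgT : ∀ a ∈ A, g b a ∈ Astar A b := fun a ha => mem_sup_right (Hyp.g_mem_L ha)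
  have key := relIndex_le_relIndex_of_map (Cfsg.omegaOne p A) (Cfsg.omegaOne p (Astar A b))
    (Cfsg.omegaOne p (C A b)) (g b)
    (by
      intro a ha
      rw [hmA] at ha
      exact (hmT _).mpr ⟨hgT a ha.1, pow_g_eq_one h hodd ha.1 ha.2⟩)
    (by
      intro a ha a' ha' hmem
      rw [hmA] at ha ha'
      rw [hmC] at hmem ⊢
      have haa : a⁻¹ * a' ∈ A := mul_mem (inv_mem ha.1) ha'.1
      have hpw : (a⁻¹ * a') ^ p = 1 := by
        have hc : Commute a⁻¹ a' := h.Acomm _ (inv_mem ha.1) _ ha'.1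
        rw [hc.mul_pow, inv_pow, ha.2, ha'.2, inv_one, one_mul]
      refine ⟨?_, hpw⟩
      rw [← h.g_mem_C_iff haa]
      -- g (a⁻¹ a') = k * g a' * g a⁻¹,  1 = g (a⁻¹ a) = k' * g a * g a⁻¹
      have e1 := Hyp.g_mul (b := b) a⁻¹ a'
      have e2 := Hyp.g_mul (b := b) a⁻¹ a
      rw [inv_mul_cancel, Hyp.g_one] at e2
      have hk1 := h.comm_A_g_mem_C (inv_mem ha.1) ha'.1
      have hk2 := h.comm_A_g_mem_C (inv_mem ha.1) ha.1
      set k1 := a⁻¹ * g b a' * a⁻¹⁻¹ * (g b a')⁻¹ with hk1d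
      set k2 := a⁻¹ * g b a * a⁻¹⁻¹ * (g b a)⁻¹ with hk2d
      have e3 : g b a⁻¹ = (g b a)⁻¹ * k2⁻¹ := by
        have : g b a⁻¹ = (k2 * g b a)⁻¹ * (k2 * g b a * g b a⁻¹) := by group
        rw [this, ← e2]
        group
      have e4 : g b (a⁻¹ * a') = (k1 * k2⁻¹) * ((g b a)⁻¹ * g b a') := by
        rw [e1, e3]
        have c1 := hcomm _ (hgT a' ha'.1) _ (inv_mem (hgT a ha.1))
        have c2 := hcomm _ (mul_mem (hgT a' ha'.1) (inv_mem (hgT a ha.1))) _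
          (inv_mem (hCT hk2))
        calc k1 * g b a' * ((g b a)⁻¹ * k2⁻¹) = k1 * ((g b a' * (g b a)⁻¹) * k2⁻¹) := by group
          _ = k1 * (k2⁻¹ * (g b a' * (g b a)⁻¹)) := by rw [c2]
          _ = k1 * (k2⁻¹ * ((g b a)⁻¹ * g b a')) := by rw [c1]
          _ = (k1 * k2⁻¹) * ((g b a)⁻¹ * g b a') := by group
      rw [e4]
      exact mul_mem (mul_mem hk1 (inv_mem hk2)) hmem.1)
  rw [card_eq_card_mul_relIndex hΩCA, card_eq_card_mul_relIndex hΩCT]
  exact Nat.mul_le_mul_left _ key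

end Cfsg.Agent.Helper9
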