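import Mathlib
import Cfsg.Agent.Lib.Helper23.HKKGrp

/-!
# S3779 piece GLA1 (helper9, for helper23): the homogeneous Lie axioms `hbr_self`, `hbr_antisymm`, `hbr_jacobi`,
core versions with `Gam_comm_mem`, `Gam_comm_top`, `hall_witt_mod`, `hbr_cmk` as hypotheses.
-/

set_option autoImplicit false
set_option linter.unusedSectionVars false
set_option linter.unusedVariables false

namespace Cfsg.Agent.Helper23.HKK

open scoped DirectSum commutatorElement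

variable (G : Type*) [Group G]

theorem gla1_cmk_surj (w : ℕ) (x : Comp G w) : ∃ (a : G) (ha : a ∈ Gam G w), x = cmk G w a ha := by
  obtain ⟨⟨a, ha⟩, h⟩ := QuotientGroup.mk_surjective (Additive.toMul x)
  refine ⟨a, ha, ?_⟩
  unfold cmk
  rw [h]
  rfl

theorem gla1_cmk_congr (w : ℕ) {a b : G} (h : a = b) (ha : a ∈ Gam G w) (hb : b ∈ Gam G w) :
    cmk G w a ha = cmk G w b hb := by
  subst h
  rfl

theorem gla1_cmk_mul (w : ℕ) (a b : G) (ha : a ∈ Gam G w) (hb : b ∈ Gam G w) :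
    cmk G w (a * b) (mul_mem ha hb) = cmk G w a ha + cmk G w b hb := rfl

theorem gla1_cmk_inv (w : ℕ) (a : G) (ha : a ∈ Gam G w) : cmk G w a⁻¹ (inv_mem ha) = - cmk G w a ha := rfl

theorem gla1_cmk_eq_iff (w : ℕ) (a b : G) (ha : a ∈ Gam G w) (hb : b ∈ Gam G w) :
    cmk G w a ha = cmk G w b hb ↔ a⁻¹ * b ∈ Gam G (w + 1) := by
  unfold cmk
  rw [Additive.ofMul.injective.eq_iff, QuotientGroup.eq, Subgroup.mem_subgroupOf]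
  rfl

theorem gla1_cmk_eq_zero_iff (w : ℕ) (a : G) (ha : a ∈ Gam G w) : cmk G w a ha = 0 ↔ a ∈ Gam G (w + 1) := by
  have h1 : (0 : Comp G w) = cmk G w 1 (one_mem _) := rfl
  rw [h1, gla1_cmk_eq_iff, ← inv_mem_iff (x := a⁻¹ * 1)]
  simp

/-- an index equality does not matter after `DirectSum.of` -/
theorem gla1_of_cmk_congr {m m' : ℕ} (h : m = m') (a : G) (ha : a ∈ Gam G m) (ha' : a ∈ Gam G m') :
    DirectSum.of (Comp G) m (cmk G m a ha) = DirectSum.of (Comp G) m' (cmk G m' a ha') := by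
  subst h
  rfl

/-- GLA1 (1), core -/
theorem hbr_self_core
    (hcm : ∀ (i j : ℕ) (a b : G), a ∈ Gam G i → b ∈ Gam G j → ⁅a, b⁆ ∈ Gam G (i + j))
    (hbc : ∀ (i j : ℕ) (a b : G) (ha : a ∈ Gam G i) (hb : b ∈ Gam G j) (h : ⁅a, b⁆ ∈ Gam G (i + j)),
      hbr G i j (cmk G i a ha) (cmk G j b hb) = cmk G (i + j) ⁅a, b⁆ h)
    (i : ℕ) (x : Comp G i) : hbr G i i x x = 0 := by
  obtain ⟨a, ha, rfl⟩ := gla1_cmk_surj G i x
  rw [hbc i i a a ha ha (hcm i i a a ha ha), gla1_cmk_eq_zero_iff, commutatorElement_self]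
  exact one_mem _

/-- GLA1 (2), core -/
theorem hbr_antisymm_core
    (hcm : ∀ (i j : ℕ) (a b : G), a ∈ Gam G i → b ∈ Gam G j → ⁅a, b⁆ ∈ Gam G (i + j))
    (hbc : ∀ (i j : ℕ) (a b : G) (ha : a ∈ Gam G i) (hb : b ∈ Gam G j) (h : ⁅a, b⁆ ∈ Gam G (i + j)),
      hbr G i j (cmk G i a ha) (cmk G j b hb) = cmk G (i + j) ⁅a, b⁆ h)
    (i j : ℕ) (x : Comp G i) (y : Comp G j) :
    DirectSum.of (Comp G) (i + j) (hbr G i j x y) + DirectSum.of (Comp G) (j + i) (hbr G j i y x) = 0 := by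
  obtain ⟨a, ha, rfl⟩ := gla1_cmk_surj G i x
  obtain ⟨b, hb, rfl⟩ := gla1_cmk_surj G j y
  have h1 : ⁅a, b⁆ ∈ Gam G (i + j) := hcm i j a b ha hb
  have h2 : ⁅b, a⁆ ∈ Gam G (j + i) := hcm j i b a hb ha
  have h2' : ⁅b, a⁆ ∈ Gam G (i + j) := by rw [add_comm]; exact h2
  rw [hbc i j a b ha hb h1, hbc j i b a hb ha h2,
    gla1_of_cmk_congr G (add_comm j i) ⁅b, a⁆ h2 h2', ← map_add, ← gla1_cmk_mul]
  have e : cmk G (i + j) (⁅a, b⁆ * ⁅b, a⁆) (mul_mem h1 h2') = 0 := by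
    rw [gla1_cmk_eq_zero_iff, ← commutatorElement_inv b a, inv_mul_cancel]
    exact one_mem _
  rw [e, map_zero]

/-- GLA1 (3), core -/
theorem hbr_jacobi_core
    (hcm : ∀ (i j : ℕ) (a b : G), a ∈ Gam G i → b ∈ Gam G j → ⁅a, b⁆ ∈ Gam G (i + j))
    (htop : ∀ (j : ℕ) (a b : G), b ∈ Gam G j → ⁅a, b⁆ ∈ Gam G (j + 1) ∧ ⁅b, a⁆ ∈ Gam G (j + 1))
    (hw : ∀ (i j k : ℕ) (a b c : G), a ∈ Gam G i → b ∈ Gam G j → c ∈ Gam G k →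
      ⁅⁅a, b⁆, c⁆ * ⁅⁅b, c⁆, a⁆ * ⁅⁅c, a⁆, b⁆ ∈ Gam G (i + j + k + 1))
    (hbc : ∀ (i j : ℕ) (a b : G) (ha : a ∈ Gam G i) (hb : b ∈ Gam G j) (h : ⁅a, b⁆ ∈ Gam G (i + j)),
      hbr G i j (cmk G i a ha) (cmk G j b hb) = cmk G (i + j) ⁅a, b⁆ h)
    (i j k : ℕ) (x : Comp G i) (y : Comp G j) (z : Comp G k) :
    DirectSum.of (Comp G) (i + (j + k)) (hbr G i (j + k) x (hbr G j k y z)) =
      DirectSum.of (Comp G) (i + j + k) (hbr G (i + j) k (hbr G i j x y) z) +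
        DirectSum.of (Comp G) (j + (i + k)) (hbr G j (i + k) y (hbr G i k x z)) := by
  obtain ⟨a, ha, rfl⟩ := gla1_cmk_surj G i x
  obtain ⟨b, hb, rfl⟩ := gla1_cmk_surj G j y
  obtain ⟨c, hc, rfl⟩ := gla1_cmk_surj G k z
  have hbc' : ⁅b, c⁆ ∈ Gam G (j + k) := hcm j k b c hb hc
  have hab' : ⁅a, b⁆ ∈ Gam G (i + j) := hcm i j a b ha hb
  have hac' : ⁅a, c⁆ ∈ Gam G (i + k) := hcm i k a c ha hc
  have hE0 : ⁅a, ⁅b, c⁆⁆ ∈ Gam G (i + (j + k)) := hcm i (j + k) a _ ha hbc'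
  have hA : ⁅⁅a, b⁆, c⁆ ∈ Gam G (i + j + k) := hcm (i + j) k _ c hab' hc
  have hF0 : ⁅b, ⁅a, c⁆⁆ ∈ Gam G (j + (i + k)) := hcm j (i + k) b _ hb hac'
  have hE : ⁅a, ⁅b, c⁆⁆ ∈ Gam G (i + j + k) := by rw [add_assoc]; exact hE0
  have hF : ⁅b, ⁅a, c⁆⁆ ∈ Gam G (i + j + k) := by
    rw [show i + j + k = j + (i + k) by omega]; exact hF0
  rw [hbc j k b c hb hc hbc', hbc i (j + k) a _ ha hbc' hE0, hbc i j a b ha hb hab',
    hbc (i + j) k _ c hab' hc hA, hbc i k a c ha hc hac', hbc j (i + k) b _ hb hac' hF0,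
    gla1_of_cmk_congr G (add_assoc i j k).symm _ hE0 hE,
    gla1_of_cmk_congr G (show j + (i + k) = i + j + k by omega) _ hF0 hF, ← map_add]
  refine congrArg (DirectSum.of (Comp G) (i + j + k)) ?_
  -- now in `Comp G (i + j + k)`
  have hB : ⁅⁅b, c⁆, a⁆ ∈ Gam G (i + j + k) := by
    rw [← commutatorElement_inv]; exact inv_mem hE
  have hca' : ⁅c, a⁆ ∈ Gam G (k + i) := hcm k i c a hc ha
  have hC : ⁅⁅c, a⁆, b⁆ ∈ Gam G (i + j + k) := by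
    rw [show i + j + k = k + i + j by omega]; exact hcm (k + i) j _ b hca' hb
  have h0 : cmk G (i + j + k) (⁅⁅a, b⁆, c⁆ * ⁅⁅b, c⁆, a⁆ * ⁅⁅c, a⁆, b⁆)
      (mul_mem (mul_mem hA hB) hC) = 0 := by
    rw [gla1_cmk_eq_zero_iff]
    exact hw i j k a b c ha hb hc
  rw [gla1_cmk_mul G _ _ _ (mul_mem hA hB) hC, gla1_cmk_mul G _ _ _ hA hB] at h0
  have h1 : cmk G (i + j + k) ⁅⁅b, c⁆, a⁆ hB = - cmk G (i + j + k) ⁅a, ⁅b, c⁆⁆ hE := by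
    rw [← gla1_cmk_inv]
    exact gla1_cmk_congr G _ (commutatorElement_inv a ⁅b, c⁆).symm _ _
  have h2 : cmk G (i + j + k) ⁅⁅c, a⁆, b⁆ hC = cmk G (i + j + k) ⁅b, ⁅a, c⁆⁆ hF := by
    rw [eq_comm, gla1_cmk_eq_iff]
    -- `⁅⁅c,a⁆,b⁆ = d⁻¹ ⁅b,d⁆ d` with `d = ⁅a,c⁆`
    have e : (⁅b, ⁅a, c⁆⁆)⁻¹ * ⁅⁅c, a⁆, b⁆ = ⁅(⁅b, ⁅a, c⁆⁆)⁻¹, (⁅a, c⁆)⁻¹⁆ := by
      rw [← commutatorElement_inv a c]
      simp only [commutatorElement_def]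
      group
    rw [e]
    exact (htop (i + j + k) _ _ (inv_mem hF)).2
  rw [h1, h2] at h0
  -- `A - E + F = 0`
  have h3 : cmk G (i + j + k) ⁅a, ⁅b, c⁆⁆ hE =
      (cmk G (i + j + k) ⁅⁅a, b⁆, c⁆ hA + -cmk G (i + j + k) ⁅a, ⁅b, c⁆⁆ hE +
        cmk G (i + j + k) ⁅b, ⁅a, c⁆⁆ hF) + cmk G (i + j + k) ⁅a, ⁅b, c⁆⁆ hE := by
    rw [h0, zero_add]
  rw [h3]
  abel

end Cfsg.Agent.Helper23.HKK
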