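import Mathlib
import Cfsg.Agent.Lib.Helper9.HKKGLA1Core
import Cfsg.Agent.Lib.Helper11.HKKGLC
import Cfsg.Agent.Lib.Helper18.HKKGCC
import Cfsg.Agent.Lib.Helper7.HKKGHB

/-!
# S3779 piece GLA1 (helper9, for helper23): `hbr_self`, `hbr_antisymm`, `hbr_jacobi`.
-/

set_option autoImplicit false
set_option linter.unusedSectionVars false
set_option linter.unusedVariables false

namespace Cfsg.Agent.Helper23.HKK

open scoped DirectSum commutatorElement

variable (G : Type*) [Group G]

theorem hbr_self (i : ℕ) (x : Comp G i) : hbr G i i x x = 0 :=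
  hbr_self_core G (Gam_comm_mem G) (fun i j a b ha hb _ => hbr_cmk G i j a b ha hb) i x

theorem hbr_antisymm (i j : ℕ) (x : Comp G i) (y : Comp G j) :
    DirectSum.of (Comp G) (i + j) (hbr G i j x y) + DirectSum.of (Comp G) (j + i) (hbr G j i y x) = 0 :=
  hbr_antisymm_core G (Gam_comm_mem G) (fun i j a b ha hb _ => hbr_cmk G i j a b ha hb) i j x y

theorem hbr_jacobi (i j k : ℕ) (x : Comp G i) (y : Comp G j) (z : Comp G k) :
    DirectSum.of (Comp G) (i + (j + k)) (hbr G i (j + k) x (hbr G j k y z)) =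
      DirectSum.of (Comp G) (i + j + k) (hbr G (i + j) k (hbr G i j x y) z) +
        DirectSum.of (Comp G) (j + (i + k)) (hbr G j (i + k) y (hbr G i k x z)) :=
  hbr_jacobi_core G (Gam_comm_mem G) (Gam_comm_top G) (hall_witt_mod G)
    (fun i j a b ha hb _ => hbr_cmk G i j a b ha hb) i j k x y z

end Cfsg.Agent.Helper23.HKK
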