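import Mathlib
import Cfsg.Agent.Lib.Helper9.TC2Spor
import Cfsg.Agent.Lib.Helper9.TC2Cyc
import Cfsg.Agent.Lib.Helper9.TCData.S44C0.Cert
import Cfsg.Agent.Lib.Helper9.TCData.S44C1.Cert
import Cfsg.Agent.Lib.Helper9.TCData.S44C2.Cert
import Cfsg.Agent.Lib.Helper9.TCData.S44B0.Cert
import Cfsg.Agent.Lib.Helper9.TCData.S44CX.Cert

set_option autoImplicit false
set_option maxRecDepth 1000000

/-! A group presented on `c, d, f, v` (three involutions and an element of order three) which is
simple of order 979200. -/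

namespace Cfsg.Agent.Helper9.S44Simple

open Cfsg.Agent.Helper9 Cfsg.Agent.Helper9.TC2 Cfsg.Agent.Helper9.TCData Cfsg.Spor

/-- The presented group. -/
abbrev PS44 : Type := PresentedGroup (relSet S44B0.edges S44B0.extra)

theorem sub1 : SubPres S44C0.edges S44C0.extra S44C1.edges S44C1.extra S44C0.iota :=
  ⟨by decide +kernel, by decide +kernel⟩

theorem sub2 : SubPres S44C1.edges S44C1.extra S44C2.edges S44C2.extra S44C1.iota :=
  ⟨by decide +kernel, by decide +kernel⟩

theorem hub : Finite PS44 ∧ Nat.card PS44 ≤ 979200 := by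
  have h2 := S44C2.cert.card_eq_of_nil (by intro s hs; exact absurd hs (by simp [S44C2.sgensL]))
  have hH1 := card_coxH_le sub2 rfl h2.1 (le_of_eq h2.2)
  have h1 := S44C1.cert.card_le hH1.1 hH1.2
  have hH0 := card_coxH_le sub1 rfl h1.1 h1.2
  have h0 := S44C0.cert.card_le hH0.1 hH0.2
  refine ⟨h0.1, h0.2.trans ?_⟩
  rw [S44C0.cert_n, S44C1.cert_n, S44C2.cert_n]

theorem hslp : ∀ j < S44B0.slp.length, ∀ c ∈ (S44B0.slp.getD j (0, [])).2, c < S44B0.tab.k + j := by
  decide +kernel

theorem hok : S44B0.cert.LevsOK (S44B0.tab.k + S44B0.slp.length) S44B0.lidx S44B0.lpar S44B0.lgi 0 []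
    S44B0.levs := by
  unfold S44B0.levs
  refine ⟨by decide, by decide +kernel, S44B0.hT0, by decide +kernel, ?_⟩
  refine ⟨by decide, by decide +kernel, S44B0.hT1, by decide +kernel, ?_⟩
  refine ⟨by decide, by decide +kernel, S44B0.hT2, by decide +kernel, ?_⟩
  refine ⟨by decide, by decide +kernel, S44B0.hT3, by decide +kernel, ?_⟩
  refine ⟨by decide, by decide +kernel, S44B0.hT4, by decide +kernel, ?_⟩
  trivial

theorem hprod : CoxCert.levProd S44B0.levs = 979200 := by decide +kernel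

theorem hlab : ∀ i < S44B0.cert.D.n, S44B0.orb.lab i < 3 := by
  intro i hi
  have := S44B0.hOL i hi
  rwa [Nat.blt_eq] at this

theorem hroot : ∀ l < 3, S44B0.orb.root l < S44B0.cert.D.n ∧ S44B0.orb.lab (S44B0.orb.root l) = l := by
  decide +kernel

theorem hsz : ∀ l < 3, cnt (fun i => Nat.beq (S44B0.orb.lab i) l) S44B0.cert.D.n =
    ([1, 60, 75] : List ℕ).getD l 0 := by
  decide +kernel

theorem hsub : ∀ T ∈ (Finset.range 3).powerset, 0 ∈ T →
    (∑ l ∈ T, ([1, 60, 75] : List ℕ).getD l 0) ∣ S44B0.cert.D.n → T = {0} ∨ T = Finset.range 3 := by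
  decide +kernel

theorem hxw : colWord S44B0.cert.cols S44CX.xelt = S44B0.xw := by decide +kernel

theorem hx : ∀ i < S44B0.cert.D.n,
    (runT S44B0.cert.D (colWord S44B0.cert.cols S44CX.xelt))^[17 ^ 1] i = i := by
  intro i hi
  rw [hxw]
  exact Nat.eq_of_beq_eq_true (S44B0.hX i hi)

/-- The presented group is simple of order 979200. -/
theorem s44_simple : IsSimpleGroup PS44 ∧ Nat.card PS44 = 979200 := by
  have : Fact (Nat.Prime 17) := ⟨by norm_num⟩
  exact S44B0.cert.isSimple_card 979200 hub S44B0.slp hslp S44B0.hSlp S44B0.lidx S44B0.lpar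
    S44B0.lgi S44B0.levs hok hprod S44B0.orb S44B0.hO1 S44B0.hO2 3 0 [1, 60, 75] hlab hroot hsz
    (by decide +kernel) (by decide) (by decide) hsub 17 1 (by decide) (by norm_num) (by norm_num)
    S44CX.xelt 1 hx (by
      have h := (S44CX.cert.card_eq_of_nil (by intro s hs; exact absurd hs (by simp [S44CX.sgensL]))).2
      rw [S44CX.cert_n] at h
      exact h)

end Cfsg.Agent.Helper9.S44Simple
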