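import Mathlib
import Cfsg.Agent.Lib.Helper9.F4

set_option autoImplicit false

/-! Vectors and matrices of size 4 over the field with four elements; the index type is
`Fin 2 ⊕ Fin 2`. -/

namespace Cfsg.Agent.Helper9.Vec4F4

open Matrix

/-- The index type. -/
abbrev I4 : Type := Fin 2 ⊕ Fin 2

/-- Four entries. -/
structure V4 where
  a : F4
  b : F4
  c : F4
  d : F4
deriving DecidableEq

/-- The vector of the entries. -/
def V4.toVec (v : V4) : I4 → F4
  | .inl i => ![v.a, v.b] i
  | .inr i => ![v.c, v.d] i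

/-- The product of a row and a column. -/
def dot (r v : V4) : F4 := r.a * v.a + r.b * v.b + r.c * v.c + r.d * v.d

/-- Four rows. -/
structure M4 where
  r0 : V4
  r1 : V4
  r2 : V4
  r3 : V4

/-- The product of a matrix and a column. -/
def M4.app (M : M4) (v : V4) : V4 := ⟨dot M.r0 v, dot M.r1 v, dot M.r2 v, dot M.r3 v⟩

/-- The matrix of the rows. -/
def M4.toMat (M : M4) : Matrix I4 I4 F4 := Matrix.of fun i =>
  match i with
  | .inl i => ![M.r0.toVec, M.r1.toVec] i
  | .inr i => ![M.r2.toVec, M.r3.toVec] i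

theorem dot_eq (r v : V4) : dot r v = r.toVec ⬝ᵥ v.toVec := by
  simp only [dot, dotProduct, Fintype.sum_sum_type, Fin.sum_univ_two, V4.toVec,
    Matrix.cons_val_zero, Matrix.cons_val_one, Matrix.head_cons]
  ring

theorem toMat_mulVec (M : M4) (v : V4) : M.toMat *ᵥ v.toVec = (M.app v).toVec := by
  ext i
  rcases i with i | i
  · fin_cases i
    · exact (dot_eq _ _).symm
    · exact (dot_eq _ _).symm
  · fin_cases i
    · exact (dot_eq _ _).symm
    · exact (dot_eq _ _).symm

/-- The basis vectors. -/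
def bas : Fin 4 → V4 := ![⟨1, 0, 0, 0⟩, ⟨0, 1, 0, 0⟩, ⟨0, 0, 1, 0⟩, ⟨0, 0, 0, 1⟩]

/-- The indices, in order. -/
def idx : Fin 4 → I4 := ![.inl 0, .inl 1, .inr 0, .inr 1]

theorem bas_toVec (j : Fin 4) : (bas j).toVec = Pi.single (idx j) 1 := by
  ext i
  fin_cases j <;> rcases i with i | i <;> fin_cases i <;> simp [bas, idx, V4.toVec]

theorem idx_surj (k : I4) : ∃ j, idx j = k := by
  rcases k with k | k
  · fin_cases k
    · exact ⟨0, rfl⟩
    · exact ⟨1, rfl⟩
  · fin_cases k
    · exact ⟨2, rfl⟩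
    · exact ⟨3, rfl⟩

/-- A matrix which fixes the basis vectors is the identity. -/
theorem eq_one_of_bas (A : Matrix I4 I4 F4)
    (h : ∀ j : Fin 4, A *ᵥ (bas j).toVec = (bas j).toVec) : A = 1 := by
  ext i k
  obtain ⟨j, rfl⟩ := idx_surj k
  have h1 := congrFun (h j) i
  rw [bas_toVec, Matrix.mulVec_single_one] at h1
  rw [Matrix.one_apply]
  rw [Pi.single_apply] at h1
  exact h1

end Cfsg.Agent.Helper9.Vec4F4
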