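import Mathlib
import Cfsg.Agent.Lib.Helper9.Vec4F4
import Cfsg.Agent.Lib.Helper9.S44Simple
import Cfsg.Agent.Lib.Helper9.TC2Fin
import Cfsg.Agent.Lib.Helper2.SympCard

set_option autoImplicit false
set_option maxRecDepth 1000000

/-! The presented group of `S44Simple` is isomorphic to the symplectic group `Sp(4, 4)`. -/

namespace Cfsg.Agent.Helper9.S44Mat

open Matrix Cfsg.Agent.Helper9 Cfsg.Agent.Helper9.TC2 Cfsg.Agent.Helper9.TCData Cfsg.Spor
  Cfsg.Agent.Helper9.Vec4F4 Cfsg.Agent.Helper9.S44Simple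

open F4 in
/-- The rows of the matrices of the generators. -/
def g4 : Fin 4 → M4 := ![
  ⟨⟨o, z, o, z⟩, ⟨z, o, z, z⟩, ⟨z, z, o, z⟩, ⟨z, z, z, o⟩⟩,
  ⟨⟨o, z, z, z⟩, ⟨z, w2, z, w⟩, ⟨w2, z, o, z⟩, ⟨z, w, z, w2⟩⟩,
  ⟨⟨o, w, w, w⟩, ⟨z, o, w, z⟩, ⟨z, z, o, z⟩, ⟨z, z, w, o⟩⟩,
  ⟨⟨o, z, z, z⟩, ⟨z, w, z, z⟩, ⟨z, z, o, z⟩, ⟨z, w, z, w2⟩⟩]

open F4 in
/-- The rows of their inverses. -/
def g4inv : Fin 4 → M4 := ![
  ⟨⟨o, z, o, z⟩, ⟨z, o, z, z⟩, ⟨z, z, o, z⟩, ⟨z, z, z, o⟩⟩,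
  ⟨⟨o, z, z, z⟩, ⟨z, w2, z, w⟩, ⟨w2, z, o, z⟩, ⟨z, w, z, w2⟩⟩,
  ⟨⟨o, w, w, w⟩, ⟨z, o, w, z⟩, ⟨z, z, o, z⟩, ⟨z, z, w, o⟩⟩,
  ⟨⟨o, z, z, z⟩, ⟨z, w2, z, z⟩, ⟨z, z, o, z⟩, ⟨z, w, z, w⟩⟩]

theorem g4_mul_inv : ∀ s : Fin 4, ∀ j : Fin 4, (g4 s).app ((g4inv s).app (bas j)) = bas j := by
  decide +kernel

theorem g4_mem : ∀ s : Fin 4, (g4 s).toMat ∈ symplecticGroup (Fin 2) F4 := by
  intro s
  rw [SymplecticGroup.mem_iff]
  revert s
  decide +kernel

theorem g4inv_mem : ∀ s : Fin 4, (g4inv s).toMat ∈ symplecticGroup (Fin 2) F4 := by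
  intro s
  rw [SymplecticGroup.mem_iff]
  revert s
  decide +kernel

/-- The matrices of the generators. -/
def Mgen (s : Fin 4) : symplecticGroup (Fin 2) F4 := ⟨(g4 s).toMat, g4_mem s⟩

/-- Their inverses. -/
def MgenInv (s : Fin 4) : symplecticGroup (Fin 2) F4 := ⟨(g4inv s).toMat, g4inv_mem s⟩

theorem Mgen_inv (s : Fin 4) : (Mgen s)⁻¹ = MgenInv s := by
  apply inv_eq_of_mul_eq_one_right
  apply Subtype.ext
  show (g4 s).toMat * (g4inv s).toMat = 1
  apply eq_one_of_bas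
  intro j
  rw [← Matrix.mulVec_mulVec, toMat_mulVec, toMat_mulVec, g4_mul_inv]

/-- The value of a word on a vector. -/
def ev4 : List (Fin 4 × Bool) → V4 → V4
  | [], v => v
  | (s, b) :: L, v => (if b then g4 s else g4inv s).app (ev4 L v)

theorem lift_mulVec (L : List (Fin 4 × Bool)) (v : V4) :
    ((FreeGroup.lift Mgen (FreeGroup.mk L) : symplecticGroup (Fin 2) F4)).val *ᵥ v.toVec =
      (ev4 L v).toVec := by
  induction L with
  | nil =>
    have h : (FreeGroup.mk [] : FreeGroup (Fin 4)) = 1 := rfl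
    rw [h, map_one, ev4]
    show (1 : Matrix I4 I4 F4) *ᵥ v.toVec = v.toVec
    rw [Matrix.one_mulVec]
  | cons p L ih =>
    obtain ⟨s, b⟩ := p
    have h : (FreeGroup.mk ((s, b) :: L) : FreeGroup (Fin 4)) =
        FreeGroup.mk [(s, b)] * FreeGroup.mk L := rfl
    rw [h, map_mul]
    show (((FreeGroup.lift Mgen (FreeGroup.mk [(s, b)]) : symplecticGroup (Fin 2) F4)).val *
      ((FreeGroup.lift Mgen (FreeGroup.mk L) : symplecticGroup (Fin 2) F4)).val) *ᵥ v.toVec = _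
    rw [← Matrix.mulVec_mulVec, ih, ev4]
    cases b
    · have h3 : (FreeGroup.mk [(s, false)] : FreeGroup (Fin 4)) = (FreeGroup.of s)⁻¹ := rfl
      rw [h3, map_inv, FreeGroup.lift_apply_of, Mgen_inv]
      exact toMat_mulVec _ _
    · have h3 : (FreeGroup.mk [(s, true)] : FreeGroup (Fin 4)) = FreeGroup.of s := rfl
      rw [h3, FreeGroup.lift_apply_of]
      exact toMat_mulVec _ _

theorem lift_eq_one (r : FreeGroup (Fin 4)) (h : ∀ j : Fin 4, ev4 r.toWord (bas j) = bas j) :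
    FreeGroup.lift Mgen r = 1 := by
  have e : r = FreeGroup.mk r.toWord := FreeGroup.mk_toWord.symm
  rw [e]
  apply Subtype.ext
  show _ = (1 : Matrix I4 I4 F4)
  apply eq_one_of_bas
  intro j
  rw [lift_mulVec, h j]

theorem rel_extra : ∀ r ∈ S44B0.extra, ∀ j : Fin 4, ev4 r.toWord (bas j) = bas j := by
  decide +kernel

theorem rel_cox : ∀ x ∈ coxNodes S44B0.edges, ∀ y ∈ coxNodes S44B0.edges, ∀ j : Fin 4,
    ev4 ((FreeGroup.of x * FreeGroup.of y) ^ coxLabel S44B0.edges x y).toWord (bas j) = bas j := by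
  decide +kernel

theorem rels_sp : ∀ r ∈ relSet S44B0.edges S44B0.extra, FreeGroup.lift Mgen r = 1 := by
  intro r hr
  rcases hr with hr | hr
  · obtain ⟨x, hx, y, hy, rfl⟩ := hr
    exact lift_eq_one _ (rel_cox x hx y hy)
  · exact lift_eq_one _ (rel_extra r hr)

/-- The homomorphism to the symplectic group. -/
noncomputable def psi : PS44 →* symplecticGroup (Fin 2) F4 := PresentedGroup.toGroup rels_sp

theorem psi_of (s : Fin 4) : psi (PresentedGroup.of s) = Mgen s :=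
  PresentedGroup.toGroup.of rels_sp

theorem psi_ne : psi (PresentedGroup.of 0) ≠ 1 := by
  rw [psi_of]
  intro h
  have h1 : (Mgen 0).val *ᵥ (bas 2).toVec = (1 : Matrix I4 I4 F4) *ᵥ (bas 2).toVec := by
    rw [h]
    rfl
  change (g4 0).toMat *ᵥ (bas 2).toVec = _ at h1
  rw [toMat_mulVec, Matrix.one_mulVec] at h1
  have h2 := congrFun h1 (.inl 0)
  revert h2
  decide

theorem card_sp : Nat.card (symplecticGroup (Fin 2) F4) = 979200 := by
  rw [Cfsg.Agent.Helper2.Symp.card_symplecticGroup, F4.card]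
  norm_num [Finset.prod_range_succ]

theorem psi_bijective : Function.Bijective psi := by
  have := s44_simple.1
  have : Finite PS44 := hub.1
  have hinj : Function.Injective psi := injective_of_simple psi (PresentedGroup.of 0) psi_ne
  have hfin : Finite (symplecticGroup (Fin 2) F4) :=
    Nat.finite_of_card_ne_zero (by rw [card_sp]; norm_num)
  rw [Nat.bijective_iff_injective_and_card]
  exact ⟨hinj, by rw [s44_simple.2, card_sp]⟩

/-- The isomorphism. -/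
noncomputable def iso : PS44 ≃* symplecticGroup (Fin 2) F4 :=
  MulEquiv.ofBijective psi psi_bijective

end Cfsg.Agent.Helper9.S44Mat
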