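import Mathlib
import Cfsg.Agent.S1695
import Cfsg.Agent.Lib.Helper9.TC2Word
import Cfsg.Agent.Lib.Helper9.TC2Fin
import Cfsg.Agent.Lib.Helper9.S44Mat

set_option autoImplicit false
set_option maxRecDepth 1000000

/-! In the presented Held group, the subgroup generated by `a, c, d, e, f, (ab)^2, (bcde)^7` has a
subgroup of index two which is isomorphic to `Sp(4, 4)`. -/

namespace Cfsg.Agent.Helper9.HeS44

open Cfsg Cfsg.Agent.Helper9 Cfsg.Agent.Helper9.TC2 Cfsg.Agent.Helper9.TCData Cfsg.Spor
  Cfsg.Agent.Helper9.S44Simple Cfsg.Agent.Helper9.S44Mat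

/-- The presented Held group. -/
abbrev G : Type := PresentedGroup (relSet HeB0.edges HeB0.extra)

theorem finG : Finite G := S1695.hub.1

theorem simpleG : IsSimpleGroup G := S1695.result.1

theorem cardG : Nat.card G = 4030387200 := S1695.result.2

/-- The base points. -/
def pts : List ℕ := CoxCert.levPts HeB0.levs []

theorem hPS : HeB0.cert.PS pts = ⊥ := by
  have hfin : Finite (PresentedGroup (relSet HeB0.edges HeB0.extra)) := finG
  exact HeB0.cert.PS_base_eq_bot (HeB0.tab.k + HeB0.slp.length) HeB0.lidx HeB0.lpar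
    HeB0.lgi (HeB0.cert.exists_elt HeB0.slp S1695.hslp HeB0.hSlp) HeB0.levs S1695.hok
    (cardG.trans S1695.hprod.symm)

theorem hpts : ∀ b ∈ pts, b < HeB0.cert.D.n := by decide +kernel

/-- A word which fixes the base points is trivial. -/
theorem wordOne (x : FreeGroup He.Gen)
    (hx : ∀ b ∈ pts, runT HeB0.cert.D (colWord HeB0.cert.cols x) b = b) :
    (PresentedGroup.mk (relSet HeB0.edges HeB0.extra) x : G) = 1 :=
  HeB0.cert.mk_eq_one_of_base pts hPS hpts x hx

/-- The generators of the subgroup. -/
abbrev S : Set (FreeGroup He.Gen) :=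
  {He.a, He.c, He.d, He.e, He.f, (He.a * He.b) ^ 2, (He.b * He.c * He.d * He.e) ^ 7}

/-- The subgroup. -/
abbrev H : Subgroup G := coxH HeB0.edges HeB0.extra S

theorem cardH : Nat.card H = 1958400 := by
  have h1 : H.index = 2058 := HeB0.cert.index_eq
  have h2 := Subgroup.card_mul_index H
  rw [h1, cardG] at h2
  have h3 : Nat.card H * 2058 = 1958400 * 2058 := by rw [h2]
  exact Nat.eq_of_mul_eq_mul_right (by norm_num) h3

/-- The images of the generators. -/
def F : Fin 4 → FreeGroup He.Gen :=
  ![He.c, He.d, He.f, (He.b * He.c * He.d * He.e) ^ 7]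

theorem lift_mk : FreeGroup.lift (fun i => (PresentedGroup.mk (relSet HeB0.edges HeB0.extra) (F i) : G)) =
    (PresentedGroup.mk (relSet HeB0.edges HeB0.extra)).comp (FreeGroup.lift F) := by
  apply FreeGroup.ext_hom
  intro i
  rw [FreeGroup.lift_apply_of, MonoidHom.comp_apply, FreeGroup.lift_apply_of]

theorem key1 : ∀ r ∈ S44B0.extra, ∀ b ∈ pts,
    runT HeB0.cert.D (colWord HeB0.cert.cols (FreeGroup.lift F r)) b = b := by
  decide +kernel

theorem key2 : ∀ x ∈ coxNodes S44B0.edges, ∀ y ∈ coxNodes S44B0.edges, ∀ b ∈ pts,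
    runT HeB0.cert.D (colWord HeB0.cert.cols
      (FreeGroup.lift F ((FreeGroup.of x * FreeGroup.of y) ^ coxLabel S44B0.edges x y))) b = b := by
  decide +kernel

theorem rels_he : ∀ r ∈ relSet S44B0.edges S44B0.extra,
    FreeGroup.lift (fun i => (PresentedGroup.mk (relSet HeB0.edges HeB0.extra) (F i) : G)) r = 1 := by
  intro r hr
  rw [lift_mk, MonoidHom.comp_apply]
  rcases hr with hr | hr
  · obtain ⟨x, hx, y, hy, rfl⟩ := hr
    exact wordOne _ (key2 x hx y hy)
  · exact wordOne _ (key1 r hr)

/-- The homomorphism to the Held group. -/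
noncomputable def theta0 : PS44 →* G := PresentedGroup.toGroup rels_he

theorem theta0_of (i : Fin 4) : theta0 (PresentedGroup.of i) =
    PresentedGroup.mk (relSet HeB0.edges HeB0.extra) (F i) :=
  PresentedGroup.toGroup.of rels_he

theorem c_ne_one : (PresentedGroup.mk (relSet HeB0.edges HeB0.extra) (F 0) : G) ≠ 1 := by
  apply HeB0.cert.mk_ne_one_of_moves (F 0) (i := 1) (by decide)
  decide +kernel

theorem theta0_inj : Function.Injective theta0 := by
  have := s44_simple.1
  exact injective_of_simple theta0 (PresentedGroup.of 0) (by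
    rw [theta0_of]
    exact c_ne_one)

theorem F_mem (i : Fin 4) : (PresentedGroup.mk (relSet HeB0.edges HeB0.extra) (F i) : G) ∈ H := by
  have hg : ∀ s ∈ S, (PresentedGroup.mk (relSet HeB0.edges HeB0.extra) s : G) ∈ H := by
    intro s hs
    exact Subgroup.mem_map_of_mem _ (Subgroup.subset_closure hs)
  fin_cases i
  · exact hg _ (Or.inr (Or.inl rfl))
  · exact hg _ (Or.inr (Or.inr (Or.inl rfl)))
  · exact hg _ (Or.inr (Or.inr (Or.inr (Or.inr (Or.inl rfl)))))
  · exact hg _ (Or.inr (Or.inr (Or.inr (Or.inr (Or.inr (Or.inr rfl))))))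

theorem theta0_mem (x : PS44) : theta0 x ∈ H := by
  have h : theta0.range ≤ H := by
    rw [MonoidHom.range_eq_map, ← PresentedGroup.closure_range_of, MonoidHom.map_closure,
      Subgroup.closure_le]
    rintro _ ⟨_, ⟨i, rfl⟩, rfl⟩
    rw [theta0_of]
    exact F_mem i
  exact h ⟨x, rfl⟩

/-- The homomorphism to the subgroup. -/
noncomputable def theta : PS44 →* H := theta0.codRestrict H theta0_mem

theorem theta_inj : Function.Injective theta := by
  intro x y hxy
  apply theta0_inj
  exact congrArg Subtype.val hxy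

theorem card_range : Nat.card theta.range = 979200 := by
  rw [← s44_simple.2]
  exact (Nat.card_congr (MonoidHom.ofInjective theta_inj).toEquiv).symm

theorem index_range : theta.range.index = 2 := by
  have h := Subgroup.card_mul_index theta.range
  rw [card_range, cardH] at h
  have h3 : 979200 * theta.range.index = 979200 * 2 := by rw [h]
  exact Nat.eq_of_mul_eq_mul_left (by norm_num) h3

theorem main : ∃ (N : Subgroup H) (K : Type) (_ : Field K) (_ : Fintype K), N.Normal ∧ N.index = 2 ∧
    Fintype.card K = 4 ∧ Nonempty (N ≃* Matrix.symplecticGroup (Fin 2) K) :=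
  ⟨theta.range, F4, inferInstance, inferInstance, Subgroup.normal_of_index_eq_two index_range,
    index_range, F4.card, ⟨(MonoidHom.ofInjective theta_inj).symm.trans iso⟩⟩

end Cfsg.Agent.Helper9.HeS44
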