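import Mathlib
import Cfsg.Agent.Lib.Helper9.TC2Spor

set_option autoImplicit false

/-! Variants: overgroups of index two allowed by the sizes of the orbits, and simplicity with
the maximality of the subgroup given. -/

namespace Cfsg.Agent.Helper9.TC2

open Cfsg.Spor

section Spor2

variable {α : Type} [DecidableEq α] {edges : List (α × ℕ × α)} {extra : List (FreeGroup α)}
  {S : Set (FreeGroup α)}

namespace CoxCert

variable (C : CoxCert edges extra S)

variable (O : OrbData)

/-- An overgroup of the subgroup is the subgroup, everything, or of index two, from the sizes of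
the orbits. -/
theorem maximal2 (ho1 : ∀ i < C.D.n, chkO1 C.D O i = true)
    (ho2 : ∀ i < C.D.n, chkO2 C.D O i = true) (L l₀ : ℕ) (sz : List ℕ)
    (hlab : ∀ i < C.D.n, O.lab i < L)
    (hroot : ∀ l < L, O.root l < C.D.n ∧ O.lab (O.root l) = l)
    (hsz : ∀ l < L, cnt (fun i => Nat.beq (O.lab i) l) C.D.n = sz.getD l 0)
    (hl0 : O.lab 0 = l₀) (hone : sz.getD l₀ 0 = 1)
    (hsum : ∑ l ∈ Finset.range L, sz.getD l 0 = C.D.n)
    (hsub : ∀ T ∈ (Finset.range L).powerset, l₀ ∈ T → (∑ l ∈ T, sz.getD l 0) ∣ C.D.n →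
      T = {l₀} ∨ T = Finset.range L ∨ 2 * (∑ l ∈ T, sz.getD l 0) = C.D.n) :
    ∀ K : Subgroup (PresentedGroup (relSet edges extra)), coxH edges extra S ≤ K →
      K = coxH edges extra S ∨ K = ⊤ ∨ K.index = 2 := by
  classical
  intro K hHK
  set n := C.D.n with hn
  have hn0 : 0 < n := C.hn0
  -- the orbit of the point 0 under K
  let B : Set ℕ := {i | ∃ g ∈ K, C.phi g 0 = i}
  have hBlt : ∀ i ∈ B, i < n := by
    rintro i ⟨g, -, rfl⟩
    exact C.phi_lt g hn0
  have h0B : (0 : ℕ) ∈ B := ⟨1, K.one_mem, by rw [map_one]; rfl⟩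
  -- B is a union of classes of labels
  have hBun : ∀ i ∈ B, ∀ j < n, O.lab j = O.lab i → j ∈ B := by
    rintro i ⟨g, hg, rfl⟩ j hj hl
    have hi : C.phi g 0 < n := C.phi_lt g hn0
    obtain ⟨hr1, hr2⟩ := hroot _ (hlab _ hi)
    have hr3 : O.root (O.lab (O.root (O.lab (C.phi g 0)))) = O.root (O.lab (C.phi g 0)) := by
      rw [hr2]
    obtain ⟨g₁, hg₁, e₁⟩ := C.reach O ho1 ho2 hr3 _ _ hi rfl hr2.symm
    obtain ⟨g₂, hg₂, e₂⟩ := C.reach O ho1 ho2 hr3 _ _ hj rfl (hl.trans hr2.symm)
    refine ⟨g₂ * g₁⁻¹ * g, K.mul_mem (K.mul_mem (hHK hg₂) (K.inv_mem (hHK hg₁))) hg, ?_⟩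
    have e3 : (C.phi g₁)⁻¹ (C.phi g 0) = O.root (O.lab (C.phi g 0)) := by
      rw [Equiv.Perm.inv_eq_iff_eq, e₁]
    rw [map_mul, map_mul, Equiv.Perm.mul_apply, Equiv.Perm.mul_apply, map_inv, e3, e₂]
  -- the cardinality of B
  let Bf : Finset ℕ := (Finset.range n).filter (fun i => i ∈ B)
  let T : Finset ℕ := (Finset.range L).filter (fun l => ∃ i ∈ B, O.lab i = l)
  have hBf : ∀ i, i ∈ Bf ↔ i ∈ B := by
    intro i
    simp only [Bf, Finset.mem_filter, Finset.mem_range]
    exact ⟨fun h => h.2, fun h => ⟨hBlt i h, h⟩⟩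
  have hcard : Bf.card = ∑ l ∈ T, sz.getD l 0 := by
    have h1 : Bf.card = ∑ l ∈ Finset.range L, (Bf.filter (fun i => O.lab i = l)).card := by
      apply Finset.card_eq_sum_card_fiberwise
      intro i hi
      rw [Finset.mem_coe, Finset.mem_range]
      exact hlab i (hBlt i ((hBf i).1 (Finset.mem_coe.1 hi)))
    rw [h1, Finset.sum_filter]
    apply Finset.sum_congr rfl
    intro l hl
    rw [Finset.mem_range] at hl
    split_ifs with hT
    · obtain ⟨i, hiB, hil⟩ := hT
      rw [← hsz l hl, cnt_eq_card]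
      congr 1
      ext j
      simp only [Finset.mem_filter, Finset.mem_range, hBf]
      constructor
      · rintro ⟨hjB, hjl⟩
        refine ⟨hBlt j hjB, ?_⟩
        rw [hjl]
        exact Nat.beq_refl l
      · rintro ⟨hj, hjl⟩
        have hjl' : O.lab j = l := Nat.eq_of_beq_eq_true hjl
        exact ⟨hBun i hiB j hj (hjl'.trans hil.symm), hjl'⟩
    · rw [Finset.card_eq_zero, Finset.filter_eq_empty_iff]
      intro j hj hjl
      exact hT ⟨j, (hBf j).1 hj, hjl⟩
  -- the index of the subgroup in K
  let _ : MulAction (PresentedGroup (relSet edges extra)) ℕ := C.act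
  have hsm : ∀ (g : PresentedGroup (relSet edges extra)) (i : ℕ), g • i = C.phi g i := fun _ _ => rfl
  have horb : MulAction.orbit K (0 : ℕ) = B := by
    ext i
    constructor
    · rintro ⟨k, rfl⟩
      exact ⟨k, k.2, rfl⟩
    · rintro ⟨g, hg, rfl⟩
      exact ⟨⟨g, hg⟩, rfl⟩
  have hstab : MulAction.stabilizer K (0 : ℕ) = (coxH edges extra S).subgroupOf K := by
    ext k
    rw [MulAction.mem_stabilizer_iff, Subgroup.mem_subgroupOf]
    show C.phi (k : PresentedGroup (relSet edges extra)) 0 = 0 ↔ _
    exact C.phi_zero_iff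
  have hrel : (coxH edges extra S).relIndex K = Bf.card := by
    unfold Subgroup.relIndex
    rw [← hstab, MulAction.index_stabilizer, horb]
    have : B = (Bf : Set ℕ) := by
      ext i
      rw [Finset.mem_coe, hBf]
    rw [this, Set.ncard_coe_finset]
  have hmul := Subgroup.relIndex_mul_index hHK
  rw [C.index_eq, hrel, hcard] at hmul
  have hTsub : T ∈ (Finset.range L).powerset := by
    rw [Finset.mem_powerset]
    exact Finset.filter_subset _ _
  have hl0T : l₀ ∈ T := by
    simp only [T, Finset.mem_filter, Finset.mem_range]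
    exact ⟨hl0 ▸ hlab 0 hn0, 0, h0B, hl0⟩
  rcases hsub T hTsub hl0T (Dvd.intro _ hmul) with hT | hT | hT
  · left
    rw [hT, Finset.sum_singleton, hone] at hcard
    rw [hcard] at hrel
    exact le_antisymm (Subgroup.relIndex_eq_one.1 hrel) hHK
  · right
    left
    rw [hT, hsum] at hmul
    have : K.index = 1 := by
      have h2 : n * K.index = n * 1 := by rw [mul_one]; exact hmul
      exact Nat.eq_of_mul_eq_mul_left hn0 h2
    exact Subgroup.index_eq_one.1 this
  · right
    right
    have hpos : 0 < ∑ l ∈ T, sz.getD l 0 := by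
      rcases Nat.eq_zero_or_pos (∑ l ∈ T, sz.getD l 0) with h0 | h0
      · rw [h0, mul_zero] at hT
        omega
      · exact h0
    have h2 : (∑ l ∈ T, sz.getD l 0) * K.index = (∑ l ∈ T, sz.getD l 0) * 2 := by
      rw [hmul, mul_comm]
      exact hT.symm
    exact Nat.eq_of_mul_eq_mul_left hpos h2

end CoxCert

/-- Simplicity and order from the certificates, the maximality of the subgroup being given. -/
theorem CoxCert.isSimple_card2 (C : CoxCert edges extra S) (N₀ : ℕ)
    (hub : Finite (PresentedGroup (relSet edges extra)) ∧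
      Nat.card (PresentedGroup (relSet edges extra)) ≤ N₀)
    (slp : List (ℕ × List ℕ))
    (hslp : ∀ j < slp.length, ∀ c ∈ (slp.getD j (0, [])).2, c < C.D.k + j)
    (hchk : ∀ i < C.D.n, chkSlp C.D slp i = true)
    (idx par gi : ℕ → ℕ → ℕ) (levs : List (ℕ × List ℕ × ℕ))
    (hok : C.LevsOK (C.D.k + slp.length) idx par gi 0 [] levs)
    (hprod : CoxCert.levProd levs = N₀)
    (hmax : ∀ K : Subgroup (PresentedGroup (relSet edges extra)), coxH edges extra S ≤ K →
      K = coxH edges extra S ∨ K = ⊤)
    (p k : ℕ) [Fact p.Prime] (hk : p ^ k ∣ C.D.n) (hk' : ¬ p ^ (k + 1) ∣ N₀) (hN1 : 1 < N₀)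
    (x : FreeGroup α) (m : ℕ)
    (hx : ∀ i < C.D.n, (runT C.D (colWord C.cols x))^[p ^ m] i = i)
    (htriv : Nat.card (PresentedGroup (relSet edges (extra ++ [x]))) = 1) :
    IsSimpleGroup (PresentedGroup (relSet edges extra)) ∧
      Nat.card (PresentedGroup (relSet edges extra)) = N₀ := by
  obtain ⟨hfin, hle⟩ := hub
  have helt := C.exists_elt slp hslp hchk
  have hge := C.card_ge (C.D.k + slp.length) idx par gi helt levs hok
  rw [hprod] at hge
  have hN0 : 0 < N₀ := by omega
  have hkpos : 0 < Nat.card C.phi.ker := Nat.card_pos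
  -- the order and the kernel
  have hker1 : Nat.card C.phi.ker = 1 := by
    have h1 : N₀ * Nat.card C.phi.ker ≤ N₀ * 1 := by
      rw [mul_one]
      exact hge.trans hle
    have := Nat.le_of_mul_le_mul_left h1 hN0
    omega
  have hcard : Nat.card (PresentedGroup (relSet edges extra)) = N₀ := by
    rw [hker1, mul_one] at hge
    exact le_antisymm hle hge
  have hker : C.phi.ker = ⊥ := Subgroup.card_eq_one.1 hker1
  refine ⟨?_, hcard⟩
  -- core-free
  have hcore : ∀ N : Subgroup (PresentedGroup (relSet edges extra)), N.Normal →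
      N ≤ coxH edges extra S → N = ⊥ := by
    intro N hN hNH
    rw [eq_bot_iff]
    intro g hg
    have h1 := C.phi_eq_one_of_normal_le N hN hNH hg
    have h2 : g ∈ C.phi.ker := MonoidHom.mem_ker.2 h1
    rw [hker] at h2
    exact h2
  have hnt : Nontrivial (PresentedGroup (relSet edges extra)) := by
    rw [← Finite.one_lt_card_iff_nontrivial, hcard]
    exact hN1
  -- the element
  have hxp : (PresentedGroup.mk (relSet edges extra) x) ^ (p ^ m) = 1 := by
    have h1 : (PresentedGroup.mk (relSet edges extra) x) ^ (p ^ m) ∈ C.phi.ker := by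
      rw [MonoidHom.mem_ker, map_pow]
      ext i
      rw [Equiv.Perm.one_apply, ← Equiv.Perm.iterate_eq_pow]
      by_cases hi : i < C.D.n
      · have hiter : ∀ N : ℕ, ∀ j < C.D.n,
            (⇑(C.phi (PresentedGroup.mk (relSet edges extra) x)))^[N] j =
              (runT C.D (colWord C.cols x))^[N] j ∧
              (runT C.D (colWord C.cols x))^[N] j < C.D.n := by
          intro N
          induction N with
          | zero => intro j hj; exact ⟨rfl, hj⟩
          | succ N ih =>
            intro j hj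
            obtain ⟨e1, e2⟩ := C.phi_mk_apply x hj
            rw [Function.iterate_succ_apply, Function.iterate_succ_apply, e1]
            exact ih _ e2
        rw [(hiter _ i hi).1]
        exact hx i hi
      · have hfix : ∀ N : ℕ,
            (⇑(C.phi (PresentedGroup.mk (relSet edges extra) x)))^[N] i = i := by
          intro N
          induction N with
          | zero => rfl
          | succ N ih =>
            rw [Function.iterate_succ_apply, C.phi_mk_apply_ge x (not_lt.1 hi)]
            exact ih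
        exact hfix _
    rw [hker] at h1
    exact h1
  have hcl := normalClosure_eq_top_of_trivial (edges := edges) (extra := extra) x htriv
  have hk1 : p ^ k ∣ (coxH edges extra S).index := by
    rw [C.index_eq]
    exact hk
  have hk2 : ¬ p ^ (k + 1) ∣ Nat.card (PresentedGroup (relSet edges extra)) := by
    rw [hcard]
    exact hk'
  exact SimpleCrit.isSimpleGroup_of_maximal (coxH edges extra S) hmax hcore p k hk1 hk2 _ m hxp hcl

end Spor2

end Cfsg.Agent.Helper9.TC2
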