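import Mathlib
import Cfsg.Agent.Lib.Helper9.TC2Spor2
import Cfsg.Agent.Lib.Helper9.TC2Cyc
import Cfsg.Agent.Lib.Helper9.DoubleCover
import Cfsg.Agent.Lib.Helper9.TCData.J1A0.Cert
import Cfsg.Agent.Lib.Helper9.TCData.J1B0.Cert
import Cfsg.Agent.Lib.Helper9.TCData.J1CX.Cert

set_option autoImplicit false
set_option maxRecDepth 1000000

/-! The group presented by `a² = b³ = (ab)⁷ = (ab(abab⁻¹)³)⁵ = (ab(abab⁻¹)⁶abab(ab⁻¹)²)² = 1` is
simple of order 175560. -/

namespace Cfsg.Agent.Helper9.J1Simple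

open Cfsg.Agent.Helper9 Cfsg.Agent.Helper9.TC2 Cfsg.Agent.Helper9.TCData Cfsg.Spor

/-- The presented group. -/
abbrev PJ1 : Type := PresentedGroup (relSet J1B0.edges J1B0.extra)

theorem hub : Finite PJ1 ∧ Nat.card PJ1 ≤ 175560 := by
  have hH := card_coxH_single_le (edges := J1A0.edges) (extra := J1A0.extra)
    (FreeGroup.mk [((1 : Fin 2), true)]) 3 (by decide) (by
      right
      show _ ∈ J1A0.extra
      decide +kernel)
  have h0 := J1A0.cert.card_le hH.1 hH.2
  rw [J1A0.cert_n] at h0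
  exact h0

theorem hslp : ∀ j < J1B0.slp.length, ∀ c ∈ (J1B0.slp.getD j (0, [])).2, c < J1B0.tab.k + j := by
  decide +kernel

theorem hok : J1B0.cert.LevsOK (J1B0.tab.k + J1B0.slp.length) J1B0.lidx J1B0.lpar J1B0.lgi 0 []
    J1B0.levs := by
  unfold J1B0.levs
  refine ⟨by decide, by decide +kernel, J1B0.hT0, by decide +kernel, ?_⟩
  refine ⟨by decide, by decide +kernel, J1B0.hT1, by decide +kernel, ?_⟩
  refine ⟨by decide, by decide +kernel, J1B0.hT2, by decide +kernel, ?_⟩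
  trivial

theorem hprod : CoxCert.levProd J1B0.levs = 175560 := by decide +kernel

theorem hlab : ∀ i < J1B0.cert.D.n, J1B0.orb.lab i < 5 := by
  intro i hi
  have := J1B0.hOL i hi
  rwa [Nat.blt_eq] at this

theorem hroot : ∀ l < 5, J1B0.orb.root l < J1B0.cert.D.n ∧ J1B0.orb.lab (J1B0.orb.root l) = l := by
  decide +kernel

theorem hsz : ∀ l < 5, cnt (fun i => Nat.beq (J1B0.orb.lab i) l) J1B0.cert.D.n =
    ([1, 11, 110, 132, 12] : List ℕ).getD l 0 := by
  decide +kernel

theorem hsub : ∀ T ∈ (Finset.range 5).powerset, 0 ∈ T →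
    (∑ l ∈ T, ([1, 11, 110, 132, 12] : List ℕ).getD l 0) ∣ J1B0.cert.D.n →
    T = {0} ∨ T = Finset.range 5 ∨
      2 * (∑ l ∈ T, ([1, 11, 110, 132, 12] : List ℕ).getD l 0) = J1B0.cert.D.n := by
  decide +kernel

theorem no2 : ∀ L : Subgroup PJ1, L.index ≠ 2 := by
  apply no_index_two_of_gens
    (Set.range (PresentedGroup.of (rels := relSet J1B0.edges J1B0.extra)))
    (PresentedGroup.closure_range_of _)
  intro Q _ f hQ s hs
  obtain ⟨i, rfl⟩ := hs
  let ψ : FreeGroup (Fin 2) →* Q := f.comp (PresentedGroup.mk (relSet J1B0.edges J1B0.extra))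
  have hrel : ∀ r ∈ J1B0.extra, ψ r = 1 := by
    intro r hr
    show f (PresentedGroup.mk _ r) = 1
    rw [PresentedGroup.one_of_mem (Or.inr hr), map_one]
  have hodd : ∀ q : Q, ∀ n : ℕ, q ^ (2 * n + 1) = q := by
    intro q n
    rw [pow_succ, pow_mul, hQ q, one_pow, one_mul]
  -- the relator b³
  have hb : ψ (FreeGroup.of 1) = 1 := by
    have h := hrel (J1B0.extra.getD 1 1) (by decide +kernel)
    have h2 := exp2_word2 hQ ψ [((1 : Fin 2), true), ((1 : Fin 2), true), ((1 : Fin 2), true)]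
    have h3 : J1B0.extra.getD 1 1 =
        FreeGroup.mk [((1 : Fin 2), true), ((1 : Fin 2), true), ((1 : Fin 2), true)] := rfl
    rw [h3, h2] at h
    have c0 : List.countP (fun p : Fin 2 × Bool => decide (p.1 = 0))
        [((1 : Fin 2), true), ((1 : Fin 2), true), ((1 : Fin 2), true)] = 0 := by decide
    have c1 : List.countP (fun p : Fin 2 × Bool => decide (p.1 = 1))
        [((1 : Fin 2), true), ((1 : Fin 2), true), ((1 : Fin 2), true)] = 2 * 1 + 1 := by decide
    rw [c0, c1, pow_zero, one_mul, hodd] at h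
    exact h
  -- the relator (ab)⁷
  have ha : ψ (FreeGroup.of 0) = 1 := by
    have h := hrel (J1B0.extra.getD 2 1) (by decide +kernel)
    obtain ⟨L, hL⟩ : ∃ L : List (Fin 2 × Bool), J1B0.extra.getD 2 1 = FreeGroup.mk L ∧
        List.countP (fun p : Fin 2 × Bool => decide (p.1 = 0)) L = 2 * 3 + 1 ∧
        List.countP (fun p : Fin 2 × Bool => decide (p.1 = 1)) L = 2 * 3 + 1 :=
      ⟨_, rfl, by decide, by decide⟩
    rw [hL.1, exp2_word2 hQ ψ L, hL.2.1, hL.2.2, hodd, hodd, hb, mul_one] at h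
    exact h
  fin_cases i
  · exact ha
  · exact hb

theorem hmax : ∀ K : Subgroup PJ1, coxH J1B0.edges J1B0.extra {s | s ∈ J1B0.sgensL} ≤ K →
    K = coxH J1B0.edges J1B0.extra {s | s ∈ J1B0.sgensL} ∨ K = ⊤ := by
  intro K hK
  rcases J1B0.cert.maximal2 J1B0.orb J1B0.hO1 J1B0.hO2 5 0 [1, 11, 110, 132, 12] hlab hroot hsz
    (by decide +kernel) (by decide) (by decide) hsub K hK with h | h | h
  · exact Or.inl h
  · exact Or.inr h
  · exact absurd h (no2 K)

theorem hxw : colWord J1B0.cert.cols J1CX.xelt = J1B0.xw := by decide +kernel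

theorem hx : ∀ i < J1B0.cert.D.n, (runT J1B0.cert.D (colWord J1B0.cert.cols J1CX.xelt))^[7 ^ 1] i = i := by
  intro i hi
  rw [hxw]
  exact Nat.eq_of_beq_eq_true (J1B0.hX i hi)

/-- The presented group is simple of order 175560. -/
theorem j1_simple : IsSimpleGroup PJ1 ∧ Nat.card PJ1 = 175560 := by
  have : Fact (Nat.Prime 7) := ⟨by norm_num⟩
  exact J1B0.cert.isSimple_card2 175560 hub J1B0.slp hslp J1B0.hSlp J1B0.lidx J1B0.lpar J1B0.lgi
    J1B0.levs hok hprod hmax 7 1 (by decide) (by norm_num) (by norm_num)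
    J1CX.xelt 1 hx (by
      have h := (J1CX.cert.card_eq_of_nil (by intro s hs; exact absurd hs (by simp [J1CX.sgensL]))).2
      rw [J1CX.cert_n] at h
      exact h)

end Cfsg.Agent.Helper9.J1Simple
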