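import Mathlib
import Cfsg.Agent.Lib.Helper9.LTC

set_option autoImplicit false

/-! Permutation models of labelled coset tables: the columns of a table with labels in
`ZMod a1 × ZMod a2` act on `ℕ × ZMod a1 × ZMod a2`; words fixing all the points `(x, 0, 0)`,
`x < n`, give the identity. -/

namespace Cfsg.Agent.Helper9.LPerm

open Cfsg.Agent.Helper9.TC2 Cfsg.Agent.Helper9.LTC

/-- A table with labels in a product of two cyclic groups; the label of an entry is packed as
`l1 + 256 * l2`. -/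
structure PTab where
  k : ℕ
  n : ℕ
  a1 : ℕ
  a2 : ℕ
  inv : ℕ → ℕ
  tau : ℕ → ℕ → ℕ
  lb : ℕ → ℕ → ℕ

namespace PTab

variable (D : PTab)

/-- The first label. -/
def l1 (c x : ℕ) : ℕ := Nat.land (D.lb c x) 255
/-- The second label. -/
def l2 (c x : ℕ) : ℕ := Nat.shiftRight (D.lb c x) 8

end PTab

/-- The points of the model. -/
abbrev Pt (D : PTab) : Type := ℕ × ZMod D.a1 × ZMod D.a2

/-- The column `c` as a map of the points. -/
def stepP (D : PTab) (c : ℕ) (p : Pt D) : Pt D :=
  if p.1 < D.n then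
    (D.tau c p.1, p.2.1 + (D.l1 c p.1 : ZMod D.a1), p.2.2 + (D.l2 c p.1 : ZMod D.a2))
  else p

/-- At the node `x`, the columns map into the table and are inverted by their inverse columns. -/
noncomputable def chkP1 (D : PTab) (x : ℕ) : Bool :=
  allRange 0 D.k (fun c => seqN (D.tau c x) (fun y => seqN (D.lb c x) (fun l =>
    seqN (D.lb (D.inv c) y) (fun l' =>
      Nat.blt y D.n && Nat.beq (D.tau (D.inv c) y) x &&
      Nat.beq ((Nat.land l 255 + Nat.land l' 255) % D.a1) 0 &&
      Nat.beq ((Nat.shiftRight l 8 + Nat.shiftRight l' 8) % D.a2) 0))))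

/-- Walk along a list of columns, the head first, adding the labels. -/
noncomputable def walkP (D : PTab) : List ℕ → ℕ → ℕ → ℕ → ℕ × ℕ × ℕ
  | [], x, s1, s2 => (x, s1, s2)
  | c :: w, x, s1, s2 =>
    seqN (D.lb c x) (fun l => seqN (D.tau c x) (fun x' =>
      seqN (Nat.add s1 (Nat.land l 255)) (fun s1' =>
        seqN (Nat.add s2 (Nat.shiftRight l 8)) (fun s2' => walkP D w x' s1' s2'))))

theorem walkP_nil (D : PTab) (x s1 s2 : ℕ) : walkP D [] x s1 s2 = (x, s1, s2) := rfl

theorem walkP_cons (D : PTab) (c : ℕ) (w : List ℕ) (x s1 s2 : ℕ) :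
    walkP D (c :: w) x s1 s2 = walkP D w (D.tau c x) (s1 + D.l1 c x) (s2 + D.l2 c x) := by
  show seqN _ _ = _
  simp only [seqN_eq]
  rfl

/-- The walk along `w` from `(x, 0, 0)` comes back with labels `r1`, `r2` modulo `a1`, `a2`. -/
noncomputable def chkW (D : PTab) (w : List ℕ) (x r1 r2 : ℕ) : Bool :=
  match walkP D w x 0 0 with
    | (x', s1, s2) => Nat.beq x' x && Nat.beq (s1 % D.a1) r1 && Nat.beq (s2 % D.a2) r2

/-- All words of the list fix the point `(x, 0, 0)`. -/
noncomputable def chkFixP (D : PTab) (ws : List (List ℕ)) (x : ℕ) : Bool :=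
  allList ws (fun w => chkW D w x 0 0)

/-- The columns of the table are permutations. -/
structure POK (D : PTab) : Prop where
  inv_lt : ∀ c < D.k, D.inv c < D.k
  inv_inv : ∀ c < D.k, D.inv (D.inv c) = c
  p1 : ∀ x < D.n, chkP1 D x = true

section

variable {D : PTab}

theorem POK.spec (h : POK D) {c x : ℕ} (hc : c < D.k) (hx : x < D.n) :
    D.tau c x < D.n ∧ D.tau (D.inv c) (D.tau c x) = x ∧
      ((D.l1 c x + D.l1 (D.inv c) (D.tau c x) : ℕ) : ZMod D.a1) = 0 ∧
      ((D.l2 c x + D.l2 (D.inv c) (D.tau c x) : ℕ) : ZMod D.a2) = 0 := by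
  have h1 := h.p1 x hx
  unfold chkP1 at h1
  rw [allRange_iff] at h1
  have h2 := h1 c (Nat.zero_le c) (by omega)
  simp only [seqN_eq, Bool.and_eq_true, Nat.blt_eq] at h2
  obtain ⟨⟨⟨h3, h4⟩, h5⟩, h6⟩ := h2
  refine ⟨h3, Nat.eq_of_beq_eq_true h4, ?_, ?_⟩
  · exact (ZMod.natCast_eq_zero_iff _ _).2 (Nat.dvd_of_mod_eq_zero (Nat.eq_of_beq_eq_true h5))
  · exact (ZMod.natCast_eq_zero_iff _ _).2 (Nat.dvd_of_mod_eq_zero (Nat.eq_of_beq_eq_true h6))

theorem POK.step_step (h : POK D) {c : ℕ} (hc : c < D.k) (p : Pt D) :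
    stepP D (D.inv c) (stepP D c p) = p := by
  obtain ⟨x, a, b⟩ := p
  by_cases hx : x < D.n
  · obtain ⟨h1, h2, h3, h4⟩ := h.spec hc hx
    unfold stepP
    simp only [if_pos hx, if_pos h1, h2]
    refine Prod.ext rfl (Prod.ext ?_ ?_)
    · show a + _ + _ = a
      rw [add_assoc, ← Nat.cast_add, h3, add_zero]
    · show b + _ + _ = b
      rw [add_assoc, ← Nat.cast_add, h4, add_zero]
  · unfold stepP
    simp only [if_neg hx]

/-- The column `c` as a permutation of the points. -/
noncomputable def permP (h : POK D) (c : ℕ) : Equiv.Perm (Pt D) :=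
  if hc : c < D.k then
    { toFun := stepP D c
      invFun := stepP D (D.inv c)
      left_inv := fun p => h.step_step hc p
      right_inv := fun p => by
        have := h.step_step (h.inv_lt c hc) p
        rw [h.inv_inv c hc] at this
        exact this }
  else 1

theorem permP_apply (h : POK D) {c : ℕ} (hc : c < D.k) (p : Pt D) :
    permP h c p = stepP D c p := by
  unfold permP
  rw [dif_pos hc]
  rfl

theorem permP_inv (h : POK D) {c : ℕ} (hc : c < D.k) :
    permP h (D.inv c) = (permP h c)⁻¹ := by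
  apply Equiv.ext
  intro p
  rw [Equiv.Perm.inv_def, eq_comm, Equiv.symm_apply_eq, permP_apply h hc,
    permP_apply h (h.inv_lt c hc)]
  have := h.step_step (h.inv_lt c hc) p
  rw [h.inv_inv c hc] at this
  exact this.symm

theorem permP_mul_inv (h : POK D) {c : ℕ} (hc : c < D.k) :
    permP h c * permP h (D.inv c) = 1 := by
  rw [permP_inv h hc, mul_inv_cancel]

theorem wprod_apply (h : POK D) (w : List ℕ) (hw : ∀ c ∈ w, c < D.k) :
    ∀ (x s1 s2 : ℕ) (a : ZMod D.a1) (b : ZMod D.a2), x < D.n →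
      wprod (permP h) w (x, a + (s1 : ZMod D.a1), b + (s2 : ZMod D.a2)) =
        ((walkP D w x s1 s2).1, a + ((walkP D w x s1 s2).2.1 : ZMod D.a1),
          b + ((walkP D w x s1 s2).2.2 : ZMod D.a2)) ∧ (walkP D w x s1 s2).1 < D.n := by
  induction w with
  | nil =>
    intro x s1 s2 a b hx
    exact ⟨rfl, hx⟩
  | cons c w ih =>
    intro x s1 s2 a b hx
    have hc : c < D.k := hw c List.mem_cons_self
    obtain ⟨h1, -, -, -⟩ := h.spec hc hx
    have h2 := ih (fun c' hc' => hw c' (List.mem_cons_of_mem _ hc')) (D.tau c x)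
      (s1 + D.l1 c x) (s2 + D.l2 c x) a b h1
    rw [walkP_cons]
    refine ⟨?_, h2.2⟩
    rw [← h2.1]
    show (wprod (permP h) w * permP h c) _ = _
    rw [Equiv.Perm.mul_apply, permP_apply h hc]
    congr 1
    unfold stepP
    simp only [if_pos hx]
    refine Prod.ext rfl (Prod.ext ?_ ?_)
    · show a + (s1 : ZMod D.a1) + _ = a + ((s1 + D.l1 c x : ℕ) : ZMod D.a1)
      rw [Nat.cast_add, add_assoc]
    · show b + (s2 : ZMod D.a2) + _ = b + ((s2 + D.l2 c x : ℕ) : ZMod D.a2)
      rw [Nat.cast_add, add_assoc]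

theorem wprod_apply_ge (h : POK D) (w : List ℕ) (p : Pt D) (hp : D.n ≤ p.1) :
    wprod (permP h) w p = p := by
  induction w with
  | nil => rfl
  | cons c w ih =>
    show (wprod (permP h) w * permP h c) p = p
    rw [Equiv.Perm.mul_apply]
    have : permP h c p = p := by
      by_cases hc : c < D.k
      · rw [permP_apply h hc]
        unfold stepP
        rw [if_neg (not_lt.2 hp)]
      · unfold permP
        rw [dif_neg hc]
        rfl
    rw [this, ih]

/-- The action of a word whose walk from `(x, 0, 0)` is known. -/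
theorem wprod_of_chkW (h : POK D) {w : List ℕ} (hw : ∀ c ∈ w, c < D.k) {x r1 r2 : ℕ}
    (hx : x < D.n) (hchk : chkW D w x r1 r2 = true) (a : ZMod D.a1) (b : ZMod D.a2) :
    wprod (permP h) w (x, a, b) = (x, a + (r1 : ZMod D.a1), b + (r2 : ZMod D.a2)) := by
  have h1 := (wprod_apply h w hw x 0 0 a b hx).1
  simp only [Nat.cast_zero, add_zero] at h1
  rw [h1]
  unfold chkW at hchk
  rcases hw' : walkP D w x 0 0 with ⟨x', s1, s2⟩
  rw [hw'] at hchk
  simp only [Bool.and_eq_true] at hchk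
  obtain ⟨⟨h2, h3⟩, h4⟩ := hchk
  have h2' := Nat.eq_of_beq_eq_true h2
  have h3' := Nat.eq_of_beq_eq_true h3
  have h4' := Nat.eq_of_beq_eq_true h4
  refine Prod.ext h2' (Prod.ext ?_ ?_)
  · show a + (s1 : ZMod D.a1) = a + (r1 : ZMod D.a1)
    rw [← h3', ZMod.natCast_mod]
  · show b + (s2 : ZMod D.a2) = b + (r2 : ZMod D.a2)
    rw [← h4', ZMod.natCast_mod]

theorem wprod_eq_one (h : POK D) {ws : List (List ℕ)}
    (hf : ∀ x < D.n, chkFixP D ws x = true)
    {w : List ℕ} (hmem : w ∈ ws) (hw : ∀ c ∈ w, c < D.k) : wprod (permP h) w = 1 := by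
  apply Equiv.ext
  intro p
  obtain ⟨x, a, b⟩ := p
  by_cases hx : x < D.n
  · have h1 := hf x hx
    unfold chkFixP at h1
    rw [wprod_of_chkW h hw hx (allList_iff.1 h1 w hmem) a b, Nat.cast_zero, Nat.cast_zero,
      add_zero, add_zero]
    rfl
  · rw [wprod_apply_ge h w _ (not_lt.1 hx)]
    rfl

end

end Cfsg.Agent.Helper9.LPerm
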