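import Mathlib
import Cfsg.Agent.Lib.Helper9.TC2Spor
import Cfsg.Agent.Lib.Helper9.TC2Cyc
import Cfsg.Agent.Lib.Helper9.TCData.L37C0.Cert
import Cfsg.Agent.Lib.Helper9.TCData.L37C1.Cert
import Cfsg.Agent.Lib.Helper9.TCData.L37B0.Cert
import Cfsg.Agent.Lib.Helper9.TCData.L37CX.Cert

set_option autoImplicit false
set_option maxRecDepth 1000000

/-! The group presented on `u, c, d, e, f` by the Coxeter relations of the path `c -8- d -3- e -3- f`
and `f = (cd)⁴`, `u³ = (uc)³ = (u⁻¹c)³ = (ud)² = (ue)² = (uf)² = 1` is simple of order 1876896. -/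

namespace Cfsg.Agent.Helper9.L37Simple

open Cfsg.Agent.Helper9 Cfsg.Agent.Helper9.TC2 Cfsg.Agent.Helper9.TCData Cfsg.Spor

/-- The presented group. -/
abbrev PL37 : Type := PresentedGroup (relSet L37B0.edges L37B0.extra)

theorem sub1 : SubPres L37C0.edges L37C0.extra L37C1.edges L37C1.extra L37C0.iota :=
  ⟨by decide +kernel, by decide +kernel⟩

theorem hub : Finite PL37 ∧ Nat.card PL37 ≤ 1876896 := by
  have h1 := L37C1.cert.card_eq_of_nil (by intro s hs; exact absurd hs (by simp [L37C1.sgensL]))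
  have hH0 := card_coxH_le sub1 rfl h1.1 (le_of_eq h1.2)
  have h0 := L37C0.cert.card_le hH0.1 hH0.2
  refine ⟨h0.1, h0.2.trans ?_⟩
  rw [L37C0.cert_n, L37C1.cert_n]

theorem hslp : ∀ j < L37B0.slp.length, ∀ c ∈ (L37B0.slp.getD j (0, [])).2, c < L37B0.tab.k + j := by
  decide +kernel

theorem hok : L37B0.cert.LevsOK (L37B0.tab.k + L37B0.slp.length) L37B0.lidx L37B0.lpar L37B0.lgi 0 []
    L37B0.levs := by
  unfold L37B0.levs
  refine ⟨by decide, by decide +kernel, L37B0.hT0, by decide +kernel, ?_⟩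
  refine ⟨by decide, by decide +kernel, L37B0.hT1, by decide +kernel, ?_⟩
  refine ⟨by decide, by decide +kernel, L37B0.hT2, by decide +kernel, ?_⟩
  refine ⟨by decide, by decide +kernel, L37B0.hT3, by decide +kernel, ?_⟩
  trivial

theorem hprod : CoxCert.levProd L37B0.levs = 1876896 := by decide +kernel

theorem hlab : ∀ i < L37B0.cert.D.n, L37B0.orb.lab i < 2 := by
  intro i hi
  have := L37B0.hOL i hi
  rwa [Nat.blt_eq] at this

theorem hroot : ∀ l < 2, L37B0.orb.root l < L37B0.cert.D.n ∧ L37B0.orb.lab (L37B0.orb.root l) = l := by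
  decide +kernel

theorem hsz : ∀ l < 2, cnt (fun i => Nat.beq (L37B0.orb.lab i) l) L37B0.cert.D.n =
    ([1, 56] : List ℕ).getD l 0 := by
  decide +kernel

theorem hsub : ∀ T ∈ (Finset.range 2).powerset, 0 ∈ T →
    (∑ l ∈ T, ([1, 56] : List ℕ).getD l 0) ∣ L37B0.cert.D.n → T = {0} ∨ T = Finset.range 2 := by
  decide +kernel

theorem hxw : colWord L37B0.cert.cols L37CX.xelt = L37B0.xw := by decide +kernel

theorem hx : ∀ i < L37B0.cert.D.n,
    (runT L37B0.cert.D (colWord L37B0.cert.cols L37CX.xelt))^[19 ^ 1] i = i := by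
  intro i hi
  rw [hxw]
  exact Nat.eq_of_beq_eq_true (L37B0.hX i hi)

/-- The presented group is simple of order 1876896. -/
theorem l37_simple : IsSimpleGroup PL37 ∧ Nat.card PL37 = 1876896 := by
  have : Fact (Nat.Prime 19) := ⟨by norm_num⟩
  exact L37B0.cert.isSimple_card 1876896 hub L37B0.slp hslp L37B0.hSlp L37B0.lidx L37B0.lpar
    L37B0.lgi L37B0.levs hok hprod L37B0.orb L37B0.hO1 L37B0.hO2 2 0 [1, 56] hlab hroot hsz
    (by decide +kernel) (by decide) (by decide) hsub 19 1 (by decide) (by norm_num) (by norm_num)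
    L37CX.xelt 1 hx (by
      have h := (L37CX.cert.card_eq_of_nil (by intro s hs; exact absurd hs (by simp [L37CX.sgensL]))).2
      rw [L37CX.cert_n] at h
      exact h)

end Cfsg.Agent.Helper9.L37Simple
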