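import Mathlib

set_option autoImplicit false

/-! Products of 3 × 3 matrices over the integers mod 7, computed on nine natural numbers. -/

namespace Cfsg.Agent.Helper9.Mat3F7

open Matrix

/-- Nine entries. -/
structure M9 where
  a : ℕ
  b : ℕ
  c : ℕ
  d : ℕ
  e : ℕ
  f : ℕ
  g : ℕ
  h : ℕ
  i : ℕ
deriving DecidableEq

/-- The matrix of the entries. -/
def M9.toMat (x : M9) : Matrix (Fin 3) (Fin 3) (ZMod 7) :=
  !![(x.a : ZMod 7), x.b, x.c; x.d, x.e, x.f; x.g, x.h, x.i]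

/-- The identity. -/
def M9.one : M9 := ⟨1, 0, 0, 0, 1, 0, 0, 0, 1⟩

/-- The product, reduced mod 7. -/
def M9.mul (x y : M9) : M9 :=
  ⟨(x.a * y.a + x.b * y.d + x.c * y.g) % 7, (x.a * y.b + x.b * y.e + x.c * y.h) % 7,
   (x.a * y.c + x.b * y.f + x.c * y.i) % 7,
   (x.d * y.a + x.e * y.d + x.f * y.g) % 7, (x.d * y.b + x.e * y.e + x.f * y.h) % 7,
   (x.d * y.c + x.e * y.f + x.f * y.i) % 7,
   (x.g * y.a + x.h * y.d + x.i * y.g) % 7, (x.g * y.b + x.h * y.e + x.i * y.h) % 7,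
   (x.g * y.c + x.h * y.f + x.i * y.i) % 7⟩

theorem M9.toMat_one : M9.one.toMat = 1 := by
  ext i j
  fin_cases i <;> fin_cases j <;> simp [M9.toMat, M9.one]

theorem M9.toMat_mul (x y : M9) : (x.mul y).toMat = x.toMat * y.toMat := by
  ext i j
  fin_cases i <;> fin_cases j <;>
    simp [M9.toMat, M9.mul, Matrix.mul_apply, Fin.sum_univ_three, ZMod.natCast_mod]

/-- The determinant, mod 7. -/
def M9.det (x : M9) : ℕ :=
  (x.a * x.e * x.i + x.b * x.f * x.g + x.c * x.d * x.h +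
    6 * (x.c * x.e * x.g) + 6 * (x.b * x.d * x.i) + 6 * (x.a * x.f * x.h)) % 7

theorem M9.det_toMat (x : M9) : x.toMat.det = (x.det : ZMod 7) := by
  rw [Matrix.det_fin_three]
  simp only [M9.toMat, M9.det, Matrix.of_apply, Matrix.cons_val', Matrix.cons_val_zero,
    Matrix.cons_val_one, Matrix.cons_val_two, Matrix.empty_val', Matrix.cons_val_fin_one,
    Matrix.head_cons, Matrix.tail_cons, Matrix.head_fin_const]
  rw [ZMod.natCast_mod]
  push_cast
  have h6 : (6 : ZMod 7) = -1 := by decide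
  rw [h6]
  ring

/-- Scalar matrices. -/
def M9.isScal (x : M9) : Bool :=
  x.b == 0 && x.c == 0 && x.d == 0 && x.f == 0 && x.g == 0 && x.h == 0 && x.a == x.e && x.e == x.i

theorem M9.toMat_of_isScal {x : M9} (h : x.isScal = true) :
    x.toMat = (x.a : ZMod 7) • (1 : Matrix (Fin 3) (Fin 3) (ZMod 7)) := by
  simp only [M9.isScal, Bool.and_eq_true, beq_iff_eq] at h
  obtain ⟨⟨⟨⟨⟨⟨⟨hb, hc⟩, hd⟩, hf⟩, hg⟩, hh⟩, hae⟩, hei⟩ := h
  ext i j
  fin_cases i <;> fin_cases j <;> simp [M9.toMat, hb, hc, hd, hf, hg, hh, ← hei, ← hae]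

/-- A special linear matrix which is scalar is central. -/
theorem mem_center_of_scalar (A : SpecialLinearGroup (Fin 3) (ZMod 7)) (c : ZMod 7)
    (h : A.val = c • (1 : Matrix (Fin 3) (Fin 3) (ZMod 7))) :
    A ∈ Subgroup.center (SpecialLinearGroup (Fin 3) (ZMod 7)) := by
  rw [Subgroup.mem_center_iff]
  intro B
  apply Matrix.SpecialLinearGroup.ext
  intro i j
  rw [Matrix.SpecialLinearGroup.coe_mul, Matrix.SpecialLinearGroup.coe_mul, h]
  simp

end Cfsg.Agent.Helper9.Mat3F7
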