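import Mathlib
import Cfsg.Agent.Lib.Helper9.Mat3F7
import Cfsg.Agent.Lib.Helper9.L37Simple

set_option autoImplicit false
set_option maxRecDepth 1000000

/-! The presented group of `L37Simple` is isomorphic to `PSL(3, 7)`. -/

namespace Cfsg.Agent.Helper9.L37Mat

open Matrix Cfsg.Agent.Helper9 Cfsg.Agent.Helper9.TC2 Cfsg.Agent.Helper9.TCData Cfsg.Spor
  Cfsg.Agent.Helper9.Mat3F7 Cfsg.Agent.Helper9.L37Simple

/-- The special linear group. -/
abbrev SL37 : Type := SpecialLinearGroup (Fin 3) (ZMod 7)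

/-- The projective special linear group. -/
abbrev PSL37 : Type := ProjectiveSpecialLinearGroup (Fin 3) (ZMod 7)

/-- The entries of the matrices of the generators. -/
def g9 : Fin 5 → M9 := ![⟨1, 0, 0, 0, 4, 0, 0, 0, 2⟩, ⟨4, 1, 1, 1, 4, 6, 1, 6, 4⟩,
  ⟨0, 0, 3, 0, 3, 0, 3, 0, 0⟩, ⟨0, 1, 0, 1, 0, 0, 0, 0, 6⟩, ⟨0, 0, 1, 0, 6, 0, 1, 0, 0⟩]

/-- The entries of their inverses. -/
def g9inv : Fin 5 → M9 := ![⟨1, 0, 0, 0, 2, 0, 0, 0, 4⟩, ⟨1, 2, 2, 2, 1, 5, 2, 5, 1⟩,
  ⟨0, 0, 5, 0, 5, 0, 5, 0, 0⟩, ⟨0, 1, 0, 1, 0, 0, 0, 0, 6⟩, ⟨0, 0, 1, 0, 6, 0, 1, 0, 0⟩]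

theorem g9_det : ∀ i, (g9 i).det = 1 := by decide

theorem g9inv_det : ∀ i, (g9inv i).det = 1 := by decide

theorem g9_mul_inv : ∀ i, (g9 i).mul (g9inv i) = M9.one := by decide

/-- The matrices of the generators. -/
def Mgen (i : Fin 5) : SL37 := ⟨(g9 i).toMat, by rw [M9.det_toMat, g9_det, Nat.cast_one]⟩

/-- Their inverses. -/
def MgenInv (i : Fin 5) : SL37 := ⟨(g9inv i).toMat, by rw [M9.det_toMat, g9inv_det, Nat.cast_one]⟩

theorem Mgen_inv (i : Fin 5) : (Mgen i)⁻¹ = MgenInv i := by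
  apply inv_eq_of_mul_eq_one_right
  apply Matrix.SpecialLinearGroup.ext
  intro a b
  rw [Matrix.SpecialLinearGroup.coe_mul]
  show ((g9 i).toMat * (g9inv i).toMat) a b = (1 : SL37).val a b
  rw [← M9.toMat_mul, g9_mul_inv, M9.toMat_one, Matrix.SpecialLinearGroup.coe_one]

/-- The value of a word, on entries. -/
def ev9 : List (Fin 5 × Bool) → M9
  | [] => M9.one
  | (i, b) :: L => M9.mul (if b then g9 i else g9inv i) (ev9 L)

theorem lift_val (L : List (Fin 5 × Bool)) :
    ((FreeGroup.lift Mgen (FreeGroup.mk L) : SL37)).val = (ev9 L).toMat := by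
  induction L with
  | nil =>
    have h : (FreeGroup.mk [] : FreeGroup (Fin 5)) = 1 := rfl
    rw [h, map_one, ev9, M9.toMat_one, Matrix.SpecialLinearGroup.coe_one]
  | cons p L ih =>
    obtain ⟨i, b⟩ := p
    have h : (FreeGroup.mk ((i, b) :: L) : FreeGroup (Fin 5)) =
        FreeGroup.mk [(i, b)] * FreeGroup.mk L := rfl
    rw [h, map_mul, Matrix.SpecialLinearGroup.coe_mul, ih, ev9, M9.toMat_mul]
    congr 1
    cases b
    · have h2 : (FreeGroup.mk [(i, false)] : FreeGroup (Fin 5)) = (FreeGroup.of i)⁻¹ := rfl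
      rw [h2, map_inv, FreeGroup.lift_apply_of, Mgen_inv]
      rfl
    · have h2 : (FreeGroup.mk [(i, true)] : FreeGroup (Fin 5)) = FreeGroup.of i := rfl
      rw [h2, FreeGroup.lift_apply_of]
      rfl

theorem lift_mem_center (r : FreeGroup (Fin 5)) (h : (ev9 r.toWord).isScal = true) :
    FreeGroup.lift Mgen r ∈ Subgroup.center SL37 := by
  have e : r = FreeGroup.mk r.toWord := FreeGroup.mk_toWord.symm
  rw [e]
  exact mem_center_of_scalar _ _ (by rw [lift_val]; exact M9.toMat_of_isScal h)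

theorem rel_extra : ∀ r ∈ L37B0.extra, (ev9 r.toWord).isScal = true := by decide +kernel

theorem rel_cox : ∀ x ∈ coxNodes L37B0.edges, ∀ y ∈ coxNodes L37B0.edges,
    (ev9 ((FreeGroup.of x * FreeGroup.of y) ^ coxLabel L37B0.edges x y).toWord).isScal = true := by
  decide +kernel

theorem lift_quot : FreeGroup.lift (fun i => (QuotientGroup.mk (Mgen i) : PSL37)) =
    (QuotientGroup.mk' (Subgroup.center SL37)).comp (FreeGroup.lift Mgen) := by
  apply FreeGroup.ext_hom
  intro i
  rw [FreeGroup.lift_apply_of, MonoidHom.comp_apply, FreeGroup.lift_apply_of]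
  rfl

theorem rels_psl : ∀ r ∈ relSet L37B0.edges L37B0.extra,
    FreeGroup.lift (fun i => (QuotientGroup.mk (Mgen i) : PSL37)) r = 1 := by
  intro r hr
  rw [lift_quot, MonoidHom.comp_apply, QuotientGroup.mk'_apply, QuotientGroup.eq_one_iff]
  rcases hr with hr | hr
  · obtain ⟨x, hx, y, hy, rfl⟩ := hr
    exact lift_mem_center _ (rel_cox x hx y hy)
  · exact lift_mem_center _ (rel_extra r hr)

/-- The homomorphism to the projective special linear group. -/
noncomputable def psi : PL37 →* PSL37 := PresentedGroup.toGroup rels_psl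

theorem psi_of (i : Fin 5) : psi (PresentedGroup.of i) = (QuotientGroup.mk (Mgen i) : PSL37) :=
  PresentedGroup.toGroup.of rels_psl

theorem Mgen0_not_center : Mgen 0 ∉ Subgroup.center SL37 := by
  intro h
  rw [Subgroup.mem_center_iff] at h
  have h1 := h (Mgen 1)
  have h2 : ((Mgen 1 * Mgen 0 : SL37)).val 0 1 = ((Mgen 0 * Mgen 1 : SL37)).val 0 1 := by rw [h1]
  rw [Matrix.SpecialLinearGroup.coe_mul, Matrix.SpecialLinearGroup.coe_mul] at h2
  change ((g9 1).toMat * (g9 0).toMat) 0 1 = ((g9 0).toMat * (g9 1).toMat) 0 1 at h2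
  rw [← M9.toMat_mul, ← M9.toMat_mul] at h2
  revert h2
  decide

theorem psi_ne : psi (PresentedGroup.of 0) ≠ 1 := by
  rw [psi_of]
  intro h
  rw [QuotientGroup.eq_one_iff] at h
  exact Mgen0_not_center h

theorem card_units_zmod7 : Nat.card (ZMod 7)ˣ = 6 := by
  rw [Nat.card_eq_fintype_card, ZMod.card_units_eq_totient]
  decide

theorem card_GL37 : Nat.card (GL (Fin 3) (ZMod 7)) = 33784128 := by
  haveI : Fact (Nat.Prime 7) := ⟨by norm_num⟩
  rw [Matrix.card_GL_field, ZMod.card, Fin.prod_univ_three]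
  norm_num

theorem card_SL37 : Nat.card SL37 = 5630688 := by
  let d : GL (Fin 3) (ZMod 7) →* (ZMod 7)ˣ := GeneralLinearGroup.det
  have h1 : Nat.card d.ker * d.ker.index = Nat.card (GL (Fin 3) (ZMod 7)) :=
    Subgroup.card_mul_index d.ker
  have h2 : d.ker.index = 6 := by
    rw [Subgroup.index_ker, MonoidHom.range_eq_top.mpr GeneralLinearGroup.det_surjective,
      Subgroup.card_top, card_units_zmod7]
  have h3 : Nat.card SL37 = Nat.card d.ker := by
    apply Nat.card_congr
    refine Equiv.ofBijective (fun g => ⟨SpecialLinearGroup.toGL g, ?_⟩) ⟨?_, ?_⟩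
    · rw [MonoidHom.mem_ker]
      ext
      simp [d]
    · intro a b h
      simp only [Subtype.mk.injEq] at h
      exact SpecialLinearGroup.toGL_injective h
    · rintro ⟨g, hg⟩
      rw [MonoidHom.mem_ker] at hg
      have hdet : (g : Matrix (Fin 3) (Fin 3) (ZMod 7)).det = 1 := by
        have := congrArg Units.val hg
        simpa [d] using this
      refine ⟨⟨(g : Matrix (Fin 3) (Fin 3) (ZMod 7)), hdet⟩, ?_⟩
      ext
      rfl
  rw [h2, card_GL37, ← h3] at h1
  omega

theorem card_center_SL37 : Nat.card (Subgroup.center SL37) = 3 := by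
  haveI : Fact (Nat.Prime 7) := ⟨by norm_num⟩
  have e := SpecialLinearGroup.center_equiv_rootsOfUnity' (n := Fin 3) (R := ZMod 7) (0 : Fin 3)
  rw [Nat.card_congr e.toEquiv, Fintype.card_fin]
  have h : (rootsOfUnity 3 (ZMod 7) : Subgroup (ZMod 7)ˣ) =
      (powMonoidHom 3 : (ZMod 7)ˣ →* (ZMod 7)ˣ).ker := by
    ext x
    simp [mem_rootsOfUnity, MonoidHom.mem_ker]
  rw [h, IsCyclic.card_powMonoidHom_ker, card_units_zmod7]
  rfl

theorem card_PSL37 : Nat.card PSL37 = 1876896 := by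
  have h := Subgroup.card_eq_card_quotient_mul_card_subgroup (Subgroup.center SL37)
  rw [card_SL37, card_center_SL37] at h
  have h' : Nat.card PSL37 = Nat.card (SL37 ⧸ Subgroup.center SL37) := rfl
  rw [h']
  omega

theorem psi_bijective : Function.Bijective psi := by
  haveI := l37_simple.1
  haveI : Finite PL37 := hub.1
  have hinj : Function.Injective psi := by
    rw [← MonoidHom.ker_eq_bot_iff]
    rcases (psi.normal_ker).eq_bot_or_eq_top with h | h
    · exact h
    · exfalso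
      apply psi_ne
      rw [← MonoidHom.mem_ker, h]
      trivial
  haveI : Finite PSL37 := Nat.finite_of_card_ne_zero (by rw [card_PSL37]; norm_num)
  rw [Nat.bijective_iff_injective_and_card]
  exact ⟨hinj, by rw [l37_simple.2, card_PSL37]⟩

/-- The isomorphism. -/
noncomputable def iso : PL37 ≃* PSL37 := MulEquiv.ofBijective psi psi_bijective

end Cfsg.Agent.Helper9.L37Mat
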