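import Mathlib
import Cfsg.Agent.Lib.Helper9.LTCM

set_option autoImplicit false

/-! Labelled coset tables with packed labels.  A label is one natural number, its digits in base
`B = 2 ^ w` being the coordinates; labels are added as numbers, a guard bit at the top of every
digit being checked, so that no carry occurs.  An edge of the table stores its data once, at the
column of the generator; the entries of the columns of the inverses are derived.  The check of an
entry of the packed table implies the check of the entry of the table with unpacked labels. -/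

namespace Cfsg.Agent.Helper9.LTCP

open Cfsg.Agent.Helper9.TC2 Cfsg.Agent.Helper9.LTC Cfsg.Agent.Helper9.LTCM

/-! ### Digits -/

/-- The digit `i` of `N` in base `B`. -/
def dig (B i N : ℕ) : ℕ := N / B ^ i % B

/-- The first `d` digits of a number in base `B`, as an integer vector. -/
def digsZ (B : ℕ) : ℕ → ℕ → List ℤ
  | 0, _ => []
  | d + 1, N => Int.ofNat (N % B) :: digsZ B d (N / B)

theorem dig_zero_idx (B N : ℕ) : dig B 0 N = N % B := by
  unfold dig
  rw [pow_zero, Nat.div_one]

theorem dig_succ (B i N : ℕ) : dig B (i + 1) N = dig B i (N / B) := by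
  unfold dig
  rw [pow_succ', Nat.div_div_eq_div_mul]

theorem vec_digsZ (B : ℕ) : ∀ (d N i : ℕ),
    vec (digsZ B d N) i = if i < d then (dig B i N : ℤ) else 0
  | 0, N, i => by
    show vec [] i = _
    rw [vec_nil]
    simp
  | d + 1, N, 0 => by
    show (Int.ofNat (N % B)) = _
    rw [if_pos (Nat.succ_pos d), dig_zero_idx]
    rfl
  | d + 1, N, i + 1 => by
    show vec (digsZ B d (N / B)) i = _
    rw [vec_digsZ B d (N / B) i, dig_succ]
    by_cases h : i < d
    · rw [if_pos h, if_pos (Nat.succ_lt_succ h)]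
    · rw [if_neg h, if_neg (fun h' => h (Nat.lt_of_succ_lt_succ h'))]

theorem dig_lt {B : ℕ} (hB : 0 < B) (i N : ℕ) : dig B i N < B := Nat.mod_lt _ hB

theorem dig_zero (B i : ℕ) : dig B i 0 = 0 := by
  unfold dig
  rw [Nat.zero_div, Nat.zero_mod]

/-- Without carries the quotients add. -/
theorem div_pow_add {B : ℕ} (hB : 0 < B) (N M : ℕ) : ∀ i : ℕ,
    (∀ j < i, dig B j N + dig B j M < B) → (N + M) / B ^ i = N / B ^ i + M / B ^ i
  | 0, _ => by simp
  | i + 1, h => by
    have ih := div_pow_add hB N M i (fun j hj => h j (Nat.lt_succ_of_lt hj))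
    have hi := h i (Nat.lt_succ_self i)
    unfold dig at hi
    rw [pow_succ, ← Nat.div_div_eq_div_mul, ih, Nat.add_div hB, if_neg (Nat.not_le.2 hi),
      Nat.add_zero, Nat.div_div_eq_div_mul, Nat.div_div_eq_div_mul]

/-- Without carries the digits add. -/
theorem dig_add {B : ℕ} (hB : 0 < B) (N M i : ℕ)
    (h : ∀ j ≤ i, dig B j N + dig B j M < B) : dig B i (N + M) = dig B i N + dig B i M := by
  have h1 := div_pow_add hB N M i (fun j hj => h j (Nat.le_of_lt hj))
  have h2 := h i (Nat.le_refl i)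
  unfold dig at h2 ⊢
  rw [h1, Nat.add_mod, Nat.mod_eq_of_lt h2]

/-- Without carries the quotients of a multiple are the multiples. -/
theorem div_pow_mul {B : ℕ} (hB : 0 < B) (q K : ℕ) : ∀ i : ℕ,
    (∀ j < i, q * dig B j K < B) → (q * K) / B ^ i = q * (K / B ^ i)
  | 0, _ => by simp
  | i + 1, h => by
    have ih := div_pow_mul hB q K i (fun j hj => h j (Nat.lt_succ_of_lt hj))
    have hi := h i (Nat.lt_succ_self i)
    unfold dig at hi
    rw [pow_succ, ← Nat.div_div_eq_div_mul, ih, ← Nat.div_div_eq_div_mul]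
    have h1 : K / B ^ i = B * (K / B ^ i / B) + K / B ^ i % B := (Nat.div_add_mod _ _).symm
    have h2 : q * (K / B ^ i) = q * (K / B ^ i % B) + B * (q * (K / B ^ i / B)) := by
      conv_lhs => rw [h1]
      ring
    rw [h2, Nat.add_mul_div_left _ _ hB, Nat.div_eq_of_lt hi, Nat.zero_add]

/-- Without carries the digits of a multiple are the multiples. -/
theorem dig_mul {B : ℕ} (hB : 0 < B) (q K i : ℕ)
    (h : ∀ j ≤ i, q * dig B j K < B) : dig B i (q * K) = q * dig B i K := by
  have h1 := div_pow_mul hB q K i (fun j hj => h j (Nat.le_of_lt hj))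
  have h2 := h i (Nat.le_refl i)
  unfold dig at h2 ⊢
  rw [h1]
  calc q * (K / B ^ i) % B = (q % B) * (K / B ^ i % B) % B := Nat.mul_mod _ _ _
    _ = q * (K / B ^ i % B) % B := by rw [Nat.mul_mod q (K / B ^ i % B) B, Nat.mod_mod]
    _ = q * (K / B ^ i % B) := Nat.mod_eq_of_lt h2

/-! ### Guard bits -/

/-- The mask of the top `t` bits of each of `d` digits of `w` bits. -/
def gmask (w t : ℕ) : ℕ → ℕ
  | 0 => 0
  | d + 1 => (2 ^ w - 2 ^ (w - t)) + 2 ^ w * gmask w t d

theorem lt_of_land_top {w t x : ℕ} (ht : t ≤ w) (hx : x < 2 ^ w)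
    (h : x &&& (2 ^ w - 2 ^ (w - t)) = 0) : x < 2 ^ (w - t) := by
  have h1 : (x &&& (2 ^ w - 2 ^ (w - t))) / 2 ^ (w - t) = 0 := by
    rw [h, Nat.zero_div]
  rw [Nat.and_div_two_pow] at h1
  have h2 : (2 ^ w - 2 ^ (w - t)) / 2 ^ (w - t) = 2 ^ t - 1 := by
    have h3 : 2 ^ w = 2 ^ (w - t) * 2 ^ t := by
      rw [← pow_add, Nat.sub_add_cancel ht]
    rw [h3]
    have h4 : 2 ^ (w - t) * 2 ^ t - 2 ^ (w - t) = 2 ^ (w - t) * (2 ^ t - 1) := by
      rw [Nat.mul_sub, Nat.mul_one]
    rw [h4, Nat.mul_div_cancel_left _ (Nat.two_pow_pos _)]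
  rw [h2, Nat.and_two_pow_sub_one_eq_mod] at h1
  have h5 : x / 2 ^ (w - t) < 2 ^ t := by
    rw [Nat.div_lt_iff_lt_mul (Nat.two_pow_pos _), ← pow_add, Nat.add_comm,
      Nat.sub_add_cancel ht]
    exact hx
  rw [Nat.mod_eq_of_lt h5] at h1
  exact (Nat.div_eq_zero_iff_lt (Nat.two_pow_pos _)).1 h1

theorem dig_lt_of_land {w t : ℕ} (ht : t ≤ w) : ∀ (d N : ℕ), N &&& gmask w t d = 0 →
    ∀ i < d, dig (2 ^ w) i N < 2 ^ (w - t)
  | 0, _, _, i, hi => absurd hi (Nat.not_lt_zero i)
  | d + 1, N, h, i, hi => by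
    have hlt : 2 ^ w - 2 ^ (w - t) < 2 ^ w :=
      Nat.sub_lt (Nat.two_pow_pos _) (Nat.two_pow_pos _)
    have h1 : (N &&& gmask w t (d + 1)) % 2 ^ w = 0 := by rw [h, Nat.zero_mod]
    have h2 : (N &&& gmask w t (d + 1)) / 2 ^ w = 0 := by rw [h, Nat.zero_div]
    rw [Nat.and_mod_two_pow] at h1
    rw [Nat.and_div_two_pow] at h2
    have h3 : gmask w t (d + 1) % 2 ^ w = 2 ^ w - 2 ^ (w - t) := by
      show ((2 ^ w - 2 ^ (w - t)) + 2 ^ w * gmask w t d) % 2 ^ w = _
      rw [Nat.add_mul_mod_self_left, Nat.mod_eq_of_lt hlt]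
    have h4 : gmask w t (d + 1) / 2 ^ w = gmask w t d := by
      show ((2 ^ w - 2 ^ (w - t)) + 2 ^ w * gmask w t d) / 2 ^ w = _
      rw [Nat.add_mul_div_left _ _ (Nat.two_pow_pos _), Nat.div_eq_of_lt hlt, Nat.zero_add]
    rw [h3] at h1
    rw [h4] at h2
    cases i with
    | zero =>
      rw [dig_zero_idx]
      exact lt_of_land_top ht (Nat.mod_lt _ (Nat.two_pow_pos _)) h1
    | succ i =>
      rw [dig_succ]
      exact dig_lt_of_land ht d (N / 2 ^ w) h2 i (Nat.lt_of_succ_lt_succ hi)

/-! ### Congruences of vectors -/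

theorem isZeroM_of_dvd {q : ℤ} : ∀ {a : List ℤ}, (∀ i, q ∣ vec a i) → isZeroM q a = true
  | [], _ => rfl
  | x :: a, h => by
    unfold isZeroM
    rw [Bool.and_eq_true, decide_eq_true_iff]
    refine ⟨Int.emod_eq_zero_of_dvd (h 0), ?_⟩
    exact isZeroM_of_dvd (fun i => h (i + 1))

theorem veqM_of_dvd {q : ℤ} {a b : List ℤ} (h : ∀ i, q ∣ vec a i - vec b i) :
    veqM q a b = true := by
  unfold veqM
  apply isZeroM_of_dvd
  intro i
  rw [vec_vsub]
  exact h i

/-! ### The packed table -/

/-- A labelled coset table with packed labels.  The columns `2 * j` and `2 * j + 1` are a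
generator and its inverse; the stamp, the certificate and the label of an edge are stored at the
source of the edge of the generator. -/
structure PTab where
  k : ℕ
  n : ℕ
  d : ℕ
  Tmax : ℕ
  w : ℕ
  B : ℕ
  G : ℕ
  G2 : ℕ
  t2 : ℕ
  q : ℕ
  Q : ℕ
  tau : ℕ → ℕ → ℕ
  stpS : ℕ → ℕ → ℕ
  cerS : ℕ → ℕ → ℕ
  labS : ℕ → ℕ → ℕ
  pn : ℕ → ℕ
  pc : ℕ → ℕ
  rk : ℕ → ℕ
  nrot : ℕ
  rotH : ℕ → ℕ
  rotB : ℕ → List ℕ
  rotAN : ℕ → ℕ
  hcols : List ℕ

namespace PTab

variable (D : PTab)

/-- The source of the edge of the generator through the entry. -/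
noncomputable def src (c x : ℕ) : ℕ := bif Nat.beq (Nat.land c 1) 0 then x else D.tau c x

/-- The stamp of an entry: the stored stamp for the generator, its neighbour for the inverse. -/
noncomputable def stp (c x : ℕ) : ℕ :=
  Nat.xor (D.stpS (Nat.shiftRight c 1) (D.src c x)) (Nat.land c 1)

/-- The certificate of an entry: stored for the entry of even stamp, the other one being
obtained from it. -/
noncomputable def cer (c x : ℕ) : ℕ :=
  bif Nat.beq (Nat.land (D.stp c x) 1) 0 then D.cerS (Nat.shiftRight c 1) (D.src c x) else 2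

/-- The label of an entry, packed. -/
noncomputable def labN (c x : ℕ) : ℕ :=
  bif Nat.beq (Nat.land c 1) 0 then D.labS (Nat.shiftRight c 1) (D.src c x)
  else Nat.sub D.Q (D.labS (Nat.shiftRight c 1) (D.src c x))

/-- The table with unpacked labels. -/
noncomputable def toLTab : LTab where
  k := D.k
  n := D.n
  d := D.d
  m := D.d
  Tmax := D.Tmax
  inv := fun c => Nat.xor c 1
  tau := D.tau
  stp := D.stp
  cer := D.cer
  lab := fun c x => digsZ D.B D.d (D.labN c x)
  pn := D.pn
  pc := D.pc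
  rk := D.rk
  nrot := D.nrot
  rotH := D.rotH
  rotB := D.rotB
  rotA := fun i => digsZ D.B D.d (D.rotAN i)
  hcols := D.hcols
  freeC := fun _ => 0
  freeX := fun _ => 0

/-- The side conditions on the constants of the table. -/
structure OK : Prop where
  hB : D.B = 2 ^ D.w
  hG : D.G = gmask D.w 1 D.d
  hG2 : D.G2 = gmask D.w D.t2 D.d
  hw : 1 ≤ D.w
  ht2 : D.t2 ≤ D.w
  hq : D.q * 2 ^ (D.w - D.t2) ≤ 2 ^ (D.w - 1)
  hQ : ∀ i < D.d, dig D.B i D.Q = D.q

end PTab

/-- Walk along a list of columns, the head first, through entries of stamps below `T`, adding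
the packed labels and checking the guard bits. -/
noncomputable def walkP (D : PTab) (T : ℕ) (w : List ℕ) : ℕ → ℕ → Option (ℕ × ℕ) :=
  List.rec (motive := fun _ => ℕ → ℕ → Option (ℕ × ℕ))
    (fun x acc => some (x, acc))
    (fun c _ ih x acc =>
      seqN (D.tau c x) (fun x' => seqN (Nat.land c 1) (fun par => seqN (Nat.shiftRight c 1)
        (fun j => seqN (bif Nat.beq par 0 then x else x') (fun y =>
          seqN (Nat.xor (D.stpS j y) par) (fun s =>
            bif Nat.blt c D.k && inRange s T && Nat.blt x' D.n then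
              seqN (D.labS j y) (fun l0 =>
                seqN (bif Nat.beq par 0 then l0 else Nat.sub D.Q l0) (fun l =>
                  seqN (Nat.add acc l) (fun acc' =>
                    bif Nat.beq (Nat.land l D.G) 0 && Nat.beq (Nat.land acc' D.G) 0 then
                      ih x' acc'
                    else none)))
            else none)))))) w

theorem walkP_nil (D : PTab) (T x acc : ℕ) : walkP D T [] x acc = some (x, acc) := rfl

theorem walkP_cons (D : PTab) (T c : ℕ) (w : List ℕ) (x acc : ℕ) :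
    walkP D T (c :: w) x acc =
      bif Nat.blt c D.k && inRange (D.stp c x) T && Nat.blt (D.tau c x) D.n then
        (bif Nat.beq (Nat.land (D.labN c x) D.G) 0 &&
            Nat.beq (Nat.land (Nat.add acc (D.labN c x)) D.G) 0 then
          walkP D T w (D.tau c x) (Nat.add acc (D.labN c x))
        else none)
      else none := by
  unfold walkP
  dsimp only
  simp only [seqN_eq]
  unfold PTab.stp PTab.labN PTab.src
  cases h : Nat.beq (Nat.land c 1) 0 <;> simp only [cond_true, cond_false]

theorem two_pow_half {w : ℕ} (hw : 1 ≤ w) : 2 ^ (w - 1) + 2 ^ (w - 1) = 2 ^ w := by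
  obtain ⟨v, rfl⟩ : ∃ v, w = v + 1 := ⟨w - 1, (Nat.sub_add_cancel hw).symm⟩
  rw [Nat.add_sub_cancel, pow_succ]
  ring

section Walk

variable {D : PTab} (hD : D.OK)
include hD

theorem guard_lt {N : ℕ} (h : Nat.beq (Nat.land N D.G) 0 = true) :
    ∀ i < D.d, dig D.B i N < 2 ^ (D.w - 1) := by
  have h1 : N &&& gmask D.w 1 D.d = 0 := by
    rw [← hD.hG]
    exact Nat.eq_of_beq_eq_true h
  rw [hD.hB]
  exact dig_lt_of_land hD.hw D.d N h1

theorem guard2_lt {N : ℕ} (h : Nat.beq (Nat.land N D.G2) 0 = true) :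
    ∀ i < D.d, dig D.B i N < 2 ^ (D.w - D.t2) := by
  have h1 : N &&& gmask D.w D.t2 D.d = 0 := by
    rw [← hD.hG2]
    exact Nat.eq_of_beq_eq_true h
  rw [hD.hB]
  exact dig_lt_of_land hD.ht2 D.d N h1

theorem B_pos : 0 < D.B := by
  rw [hD.hB]
  exact Nat.two_pow_pos _

/-- The digits of a sum of two guarded numbers. -/
theorem dig_add_guard {N M : ℕ} (hN : ∀ i < D.d, dig D.B i N < 2 ^ (D.w - 1))
    (hM : ∀ i < D.d, dig D.B i M < 2 ^ (D.w - 1)) :
    ∀ i < D.d, dig D.B i (N + M) = dig D.B i N + dig D.B i M := by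
  intro i hi
  apply dig_add (B_pos hD)
  intro j hj
  have hj' : j < D.d := lt_of_le_of_lt hj hi
  have h1 := hN j hj'
  have h2 := hM j hj'
  have h3 := two_pow_half hD.hw
  rw [hD.hB] at h1 h2 ⊢
  omega

theorem walkP_walk (T : ℕ) : ∀ (w : List ℕ) (x accN : ℕ) (acc : List ℤ) (x' N' : ℕ),
    (∀ i < D.d, dig D.B i accN < 2 ^ (D.w - 1)) →
    (∀ i, vec acc i = if i < D.d then (dig D.B i accN : ℤ) else 0) →
    walkP D T w x accN = some (x', N') →
    ∃ β, walk D.toLTab T w x acc = some (x', β) ∧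
      (∀ i, vec β i = if i < D.d then (dig D.B i N' : ℤ) else 0) ∧
      (∀ i < D.d, dig D.B i N' < 2 ^ (D.w - 1)) := by
  intro w
  induction w with
  | nil =>
    intro x accN acc x' N' hg hv h
    rw [walkP_nil] at h
    obtain ⟨rfl, rfl⟩ := Prod.mk.inj (Option.some.inj h)
    exact ⟨acc, walk_nil _ _ _ _, hv, hg⟩
  | cons c w ih =>
    intro x accN acc x' N' hg hv h
    rw [walkP_cons] at h
    cases h1 : (Nat.blt c D.k && inRange (D.stp c x) T && Nat.blt (D.tau c x) D.n) with
    | false =>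
      rw [h1, cond_false] at h
      exact absurd h (by simp)
    | true =>
      rw [h1, cond_true] at h
      cases h2 : (Nat.beq (Nat.land (D.labN c x) D.G) 0 &&
          Nat.beq (Nat.land (Nat.add accN (D.labN c x)) D.G) 0) with
      | false =>
        rw [h2, cond_false] at h
        exact absurd h (by simp)
      | true =>
        rw [h2, cond_true] at h
        rw [Bool.and_eq_true] at h2
        rw [Bool.and_eq_true] at h1
        have hl := guard_lt hD h2.1
        have hs := guard_lt hD h2.2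
        have hadd := dig_add_guard hD hg hl
        have hv' : ∀ i, vec (vadd acc (digsZ D.B D.d (D.labN c x))) i =
            if i < D.d then (dig D.B i (Nat.add accN (D.labN c x)) : ℤ) else 0 := by
          intro i
          rw [vec_vadd, Pi.add_apply, hv i, vec_digsZ]
          by_cases hi : i < D.d
          · rw [if_pos hi, if_pos hi, if_pos hi]
            show _ = ((dig D.B i (accN + D.labN c x) : ℕ) : ℤ)
            rw [hadd i hi]
            push_cast
            rfl
          · rw [if_neg hi, if_neg hi, if_neg hi, add_zero]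
        obtain ⟨β, hβ1, hβ2, hβ3⟩ := ih (D.tau c x) (Nat.add accN (D.labN c x))
          (vadd acc (digsZ D.B D.d (D.labN c x))) x' N' hs hv' h
        refine ⟨β, ?_, hβ2, hβ3⟩
        rw [walk_cons]
        show (bif Nat.blt c D.k && inRange (D.stp c x) T then
          (bif Nat.blt (D.tau c x) D.n then
            walk D.toLTab T w (D.tau c x) (vadd acc (digsZ D.B D.d (D.labN c x))) else none)
          else none) = _
        rw [h1.1, cond_true, h1.2, cond_true]
        exact hβ1

end Walk

/-! ### The check of an entry -/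

/-- The comparison of a deduced label: `l + β ≡ a` modulo `q` in every digit. -/
noncomputable def cmpP (D : PTab) (l β a : ℕ) : Bool :=
  seqN (Nat.add l β) (fun S => seqN (Nat.div (Nat.sub S a) D.q) (fun K =>
    Nat.beq (Nat.land l D.G) 0 && Nat.beq (Nat.land a D.G) 0 && Nat.beq (Nat.land K D.G2) 0 &&
      Nat.beq (Nat.add a (Nat.mul D.q K)) S))

/-- The labels of the two entries of an edge are opposite. -/
noncomputable def negP (D : PTab) (l l' : ℕ) : Bool :=
  Nat.beq (Nat.land l D.G) 0 && Nat.beq (Nat.land l' D.G) 0 && Nat.beq (Nat.add l l') D.Q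

/-- The check of the entry of column `c` at node `x`. -/
noncomputable def chkEntP (D : PTab) (c x : ℕ) : Bool :=
  seqN (D.stp c x) (fun T => seqN (D.tau c x) (fun t => seqN (D.cer c x) (fun cq =>
    seqN (Nat.land cq 7) (fun ty => seqN (Nat.shiftRight cq 3) (fun A =>
      Nat.ble 1 T && Nat.blt t D.n &&
      (bif Nat.beq ty 0 then
        Nat.beq (D.pn t) x && Nat.beq (D.pc t) c && Nat.blt (D.rk x) (D.rk t) &&
          Nat.beq (D.labN c x) 0
      else bif Nat.beq ty 1 then
        Nat.blt A D.nrot && Nat.beq (D.rotH A) c &&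
          (match walkP D T (D.rotB A) t 0 with
            | some (x', β) => Nat.beq x' x && cmpP D (D.labN c x) β (D.rotAN A)
            | none => false)
      else bif Nat.beq ty 2 then
        Nat.blt (Nat.xor c 1) D.k && inRange (D.stp (Nat.xor c 1) t) T &&
          Nat.beq (D.tau (Nat.xor c 1) t) x && negP D (D.labN c x) (D.labN (Nat.xor c 1) t)
      else bif Nat.beq ty 3 then
        Nat.beq x 0 && Nat.beq t 0 && Nat.beq (D.labN c x) 0 && D.hcols.contains c
      else false))))))

theorem chkEntP_eq (D : PTab) (c x : ℕ) :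
    chkEntP D c x =
      (Nat.ble 1 (D.stp c x) && Nat.blt (D.tau c x) D.n &&
      (bif Nat.beq (Nat.land (D.cer c x) 7) 0 then
        Nat.beq (D.pn (D.tau c x)) x && Nat.beq (D.pc (D.tau c x)) c &&
          Nat.blt (D.rk x) (D.rk (D.tau c x)) && Nat.beq (D.labN c x) 0
      else bif Nat.beq (Nat.land (D.cer c x) 7) 1 then
        Nat.blt (Nat.shiftRight (D.cer c x) 3) D.nrot &&
          Nat.beq (D.rotH (Nat.shiftRight (D.cer c x) 3)) c &&
          (match walkP D (D.stp c x) (D.rotB (Nat.shiftRight (D.cer c x) 3)) (D.tau c x) 0 with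
            | some (x', β) => Nat.beq x' x &&
                cmpP D (D.labN c x) β (D.rotAN (Nat.shiftRight (D.cer c x) 3))
            | none => false)
      else bif Nat.beq (Nat.land (D.cer c x) 7) 2 then
        Nat.blt (Nat.xor c 1) D.k && inRange (D.stp (Nat.xor c 1) (D.tau c x)) (D.stp c x) &&
          Nat.beq (D.tau (Nat.xor c 1) (D.tau c x)) x &&
          negP D (D.labN c x) (D.labN (Nat.xor c 1) (D.tau c x))
      else bif Nat.beq (Nat.land (D.cer c x) 7) 3 then
        Nat.beq x 0 && Nat.beq (D.tau c x) 0 && Nat.beq (D.labN c x) 0 && D.hcols.contains c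
      else false)) := by
  unfold chkEntP
  simp only [seqN_eq]

section Check

variable {D : PTab} (hD : D.OK)
include hD

omit hD in
theorem isZeroM_digsZ_zero : isZeroM (D.q : ℤ) (digsZ D.B D.d 0) = true := by
  apply isZeroM_of_dvd
  intro i
  rw [vec_digsZ, dig_zero]
  simp

theorem veqM_of_cmpP {l β a : ℕ} {β' : List ℤ} (h : cmpP D l β a = true)
    (hβ : ∀ i < D.d, dig D.B i β < 2 ^ (D.w - 1))
    (hβ' : ∀ i, vec β' i = if i < D.d then (dig D.B i β : ℤ) else 0) :
    veqM (D.q : ℤ) (digsZ D.B D.d l) (vsub (digsZ D.B D.d a) β') = true := by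
  unfold cmpP at h
  rw [seqN_eq, seqN_eq] at h
  simp only [Bool.and_eq_true] at h
  obtain ⟨⟨⟨h1, h2⟩, h3⟩, h4⟩ := h
  have hl := guard_lt hD h1
  have ha := guard_lt hD h2
  have hK := guard2_lt hD h3
  have hS : a + D.q * ((l + β - a) / D.q) = l + β := Nat.eq_of_beq_eq_true h4
  have hqK : ∀ i < D.d, D.q * dig D.B i ((l + β - a) / D.q) < 2 ^ (D.w - 1) := by
    intro i hi
    by_cases hq0 : D.q = 0
    · rw [hq0, Nat.zero_mul]
      exact Nat.two_pow_pos _
    · exact lt_of_lt_of_le (Nat.mul_lt_mul_of_pos_left (hK i hi) (Nat.pos_of_ne_zero hq0)) hD.hq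
  have hlt : 2 ^ (D.w - 1) ≤ D.B := by
    rw [hD.hB]
    exact Nat.pow_le_pow_right (by norm_num) (Nat.sub_le _ _)
  have hdm : ∀ i < D.d, dig D.B i (D.q * ((l + β - a) / D.q)) =
      D.q * dig D.B i ((l + β - a) / D.q) := by
    intro i hi
    apply dig_mul (B_pos hD)
    intro j hj
    exact lt_of_lt_of_le (hqK j (lt_of_le_of_lt hj hi)) hlt
  have hqK' : ∀ i < D.d, dig D.B i (D.q * ((l + β - a) / D.q)) < 2 ^ (D.w - 1) := by
    intro i hi
    rw [hdm i hi]
    exact hqK i hi
  have e1 := dig_add_guard hD hl hβ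
  have e2 := dig_add_guard hD ha hqK'
  apply veqM_of_dvd
  intro i
  rw [vec_vsub, Pi.sub_apply, vec_digsZ, vec_digsZ, hβ' i]
  by_cases hi : i < D.d
  · rw [if_pos hi, if_pos hi, if_pos hi]
    have h5 : dig D.B i l + dig D.B i β =
        dig D.B i a + D.q * dig D.B i ((l + β - a) / D.q) := by
      rw [← e1 i hi, ← hdm i hi, ← e2 i hi, hS]
    refine ⟨(dig D.B i ((l + β - a) / D.q) : ℤ), ?_⟩
    have h6 : ((dig D.B i l : ℕ) : ℤ) + (dig D.B i β : ℕ) =
        (dig D.B i a : ℕ) + (D.q : ℤ) * (dig D.B i ((l + β - a) / D.q) : ℕ) := by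
      exact_mod_cast h5
    linarith
  · rw [if_neg hi, if_neg hi, if_neg hi]
    simp

theorem veqM_of_negP {l l' : ℕ} (h : negP D l l' = true) :
    veqM (D.q : ℤ) (digsZ D.B D.d l) (vneg (digsZ D.B D.d l')) = true := by
  unfold negP at h
  simp only [Bool.and_eq_true] at h
  obtain ⟨⟨h1, h2⟩, h3⟩ := h
  have hl := guard_lt hD h1
  have hl' := guard_lt hD h2
  have hS : l + l' = D.Q := Nat.eq_of_beq_eq_true h3
  have e1 := dig_add_guard hD hl hl'
  apply veqM_of_dvd
  intro i
  rw [vec_vneg, Pi.neg_apply, vec_digsZ, vec_digsZ]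
  by_cases hi : i < D.d
  · rw [if_pos hi, if_pos hi]
    have h5 : dig D.B i l + dig D.B i l' = D.q := by
      rw [← e1 i hi, hS, hD.hQ i hi]
    refine ⟨1, ?_⟩
    have h6 : ((dig D.B i l : ℕ) : ℤ) + (dig D.B i l' : ℕ) = (D.q : ℤ) := by
      exact_mod_cast h5
    linarith
  · rw [if_neg hi, if_neg hi]
    simp

/-- The check of an entry of the packed table implies the check of the entry of the table with
unpacked labels. -/
theorem chkEntM_of_chkEntP {c x : ℕ} (h : chkEntP D c x = true) :
    chkEntM (D.q : ℤ) D.toLTab c x = true := by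
  rw [chkEntP_eq, Bool.and_eq_true] at h
  obtain ⟨h0, h⟩ := h
  rw [chkEntM_eq]
  show (Nat.ble 1 (D.stp c x) && Nat.blt (D.tau c x) D.n &&
      (bif Nat.beq (Nat.land (D.cer c x) 7) 0 then
        Nat.beq (D.pn (D.tau c x)) x && Nat.beq (D.pc (D.tau c x)) c &&
          Nat.blt (D.rk x) (D.rk (D.tau c x)) &&
          isZeroM (D.q : ℤ) (digsZ D.B D.d (D.labN c x))
      else bif Nat.beq (Nat.land (D.cer c x) 7) 1 then
        Nat.blt (Nat.shiftRight (D.cer c x) 3) D.nrot &&
          Nat.beq (D.rotH (Nat.shiftRight (D.cer c x) 3)) c &&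
          (match walk D.toLTab (D.stp c x) (D.rotB (Nat.shiftRight (D.cer c x) 3)) (D.tau c x) []
            with
            | some (x', β) => Nat.beq x' x &&
                veqM (D.q : ℤ) (digsZ D.B D.d (D.labN c x))
                  (vsub (digsZ D.B D.d (D.rotAN (Nat.shiftRight (D.cer c x) 3))) β)
            | none => false)
      else bif Nat.beq (Nat.land (D.cer c x) 7) 2 then
        Nat.blt (Nat.xor c 1) D.k && inRange (D.stp (Nat.xor c 1) (D.tau c x)) (D.stp c x) &&
          Nat.beq (D.tau (Nat.xor c 1) (D.tau c x)) x &&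
          veqM (D.q : ℤ) (digsZ D.B D.d (D.labN c x))
            (vneg (digsZ D.B D.d (D.labN (Nat.xor c 1) (D.tau c x))))
      else bif Nat.beq (Nat.land (D.cer c x) 7) 3 then
        Nat.beq x 0 && Nat.beq (D.tau c x) 0 && isZeroM (D.q : ℤ) (digsZ D.B D.d (D.labN c x)) &&
          D.hcols.contains c
      else bif Nat.beq (Nat.land (D.cer c x) 7) 4 then
        Nat.beq 0 c && Nat.beq 0 x &&
          Nat.blt (D.d + Nat.shiftRight (D.cer c x) 3) D.d &&
          veqM (D.q : ℤ) (digsZ D.B D.d (D.labN c x)) (unitV (D.d + Nat.shiftRight (D.cer c x) 3))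
      else false)) = true
  rw [h0, Bool.true_and]
  cases t0 : Nat.beq (Nat.land (D.cer c x) 7) 0 with
  | true =>
    rw [t0] at h
    rw [cond_true] at h ⊢
    simp only [Bool.and_eq_true] at h ⊢
    obtain ⟨⟨⟨h1, h2⟩, h3⟩, h4⟩ := h
    refine ⟨⟨⟨h1, h2⟩, h3⟩, ?_⟩
    rw [Nat.eq_of_beq_eq_true h4]
    exact isZeroM_digsZ_zero
  | false =>
    rw [t0] at h
    rw [cond_false] at h ⊢
    cases t1 : Nat.beq (Nat.land (D.cer c x) 7) 1 with
    | true =>
      rw [t1] at h
      rw [cond_true] at h ⊢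
      rw [Bool.and_eq_true] at h ⊢
      refine ⟨h.1, ?_⟩
      have h3 := h.2
      cases hw : walkP D (D.stp c x) (D.rotB (Nat.shiftRight (D.cer c x) 3)) (D.tau c x) 0 with
      | none =>
        rw [hw] at h3
        exact absurd h3 (by simp)
      | some r =>
        obtain ⟨x', β⟩ := r
        rw [hw] at h3
        simp only [Bool.and_eq_true] at h3
        obtain ⟨h4, h5⟩ := h3
        obtain ⟨β', hβ1, hβ2, hβ3⟩ := walkP_walk hD (D.stp c x)
          (D.rotB (Nat.shiftRight (D.cer c x) 3)) (D.tau c x) 0 [] x' β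
          (fun i _ => by rw [dig_zero]; exact Nat.two_pow_pos _)
          (fun i => by rw [vec_nil, dig_zero]; simp) hw
        rw [hβ1]
        simp only [Bool.and_eq_true]
        exact ⟨h4, veqM_of_cmpP hD h5 hβ3 hβ2⟩
    | false =>
      rw [t1] at h
      rw [cond_false] at h ⊢
      cases t2 : Nat.beq (Nat.land (D.cer c x) 7) 2 with
      | true =>
        rw [t2] at h
        rw [cond_true] at h ⊢
        rw [Bool.and_eq_true] at h ⊢
        exact ⟨h.1, veqM_of_negP hD h.2⟩
      | false =>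
        rw [t2] at h
        rw [cond_false] at h ⊢
        cases t3 : Nat.beq (Nat.land (D.cer c x) 7) 3 with
        | true =>
          rw [t3] at h
          rw [cond_true] at h ⊢
          simp only [Bool.and_eq_true] at h ⊢
          obtain ⟨⟨⟨h1, h2⟩, h3⟩, h4⟩ := h
          refine ⟨⟨⟨h1, h2⟩, ?_⟩, h4⟩
          rw [Nat.eq_of_beq_eq_true h3]
          exact isZeroM_digsZ_zero
        | false =>
          rw [t3, cond_false] at h
          exact absurd h (by simp)

end Check

/-! ### The rotated relators -/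

/-- The rotated relators are rotations of the labelled relators, the labels being compared up to
zeros at the end. -/
def chkRotSrcP (D : LTab) (rws : List (List ℕ)) (rls : List (List ℤ)) (src : List (ℕ × ℕ)) :
    Bool :=
  (List.range D.nrot).all (fun i =>
    decide ((D.rotH i :: (D.rotB i).reverse) =
      (rws.getD (src.getD i (0, 0)).1 []).rotate (src.getD i (0, 0)).2) &&
    veq (D.rotA i) (rls.getD (src.getD i (0, 0)).1 []))

theorem rot_ok_of_chkP {P : Type*} [Group P] (D : LTab) (e : ℕ → P)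
    (zc : ℕ → Subgroup.center P)
    (rws : List (List ℕ)) (rls : List (List ℤ)) (src : List (ℕ × ℕ))
    (hchk : chkRotSrcP D rws rls src = true)
    (hrel : ∀ j, ((rws.getD j []).map e).prod = (zeta zc D.d (vec (rls.getD j [])) : P)) :
    ∀ i < D.nrot, e (D.rotH i) * wprod e (D.rotB i) = (zeta zc D.d (vec (D.rotA i)) : P) := by
  intro i hi
  unfold chkRotSrcP at hchk
  rw [List.all_eq_true] at hchk
  have h := hchk i (List.mem_range.2 hi)
  rw [Bool.and_eq_true, decide_eq_true_iff] at h
  obtain ⟨h1, h2⟩ := h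
  have h3 : e (D.rotH i) * wprod e (D.rotB i) = ((D.rotH i :: (D.rotB i).reverse).map e).prod := by
    rw [List.map_cons, List.prod_cons, wprod_eq_prod]
  rw [h3, h1, vec_veq h2, ← hrel, List.map_rotate]
  apply prod_rotate_of_central
  rw [hrel]
  exact (zeta zc D.d _).2

end Cfsg.Agent.Helper9.LTCP
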