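import Mathlib
import Cfsg.Agent.Lib.Helper9.TC2Spor
import Cfsg.Agent.Lib.Helper9.TC2Cyc
import Cfsg.Agent.Lib.Helper9.TCData.M11A0.Cert
import Cfsg.Agent.Lib.Helper9.TCData.M11B0.Cert
import Cfsg.Agent.Lib.Helper9.TCData.M11CX.Cert

set_option autoImplicit false
set_option maxRecDepth 1000000

/-! The group presented by `a² = b⁴ = (ab)¹¹ = (ab²)⁶ = ababab⁻¹abab²ab⁻¹abab⁻¹ab⁻¹ = 1` is simple
of order 7920. -/

namespace Cfsg.Agent.Helper9.M11Simple

open Cfsg.Agent.Helper9 Cfsg.Agent.Helper9.TC2 Cfsg.Agent.Helper9.TCData Cfsg.Spor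

/-- The presented group. -/
abbrev PM11 : Type := PresentedGroup (relSet M11B0.edges M11B0.extra)

theorem hub : Finite PM11 ∧ Nat.card PM11 ≤ 7920 := by
  have hH := card_coxH_single_le (edges := M11A0.edges) (extra := M11A0.extra)
    (FreeGroup.mk [((1 : Fin 2), true)]) 4 (by decide) (by
      right
      show _ ∈ M11A0.extra
      decide +kernel)
  have h0 := M11A0.cert.card_le hH.1 hH.2
  rw [M11A0.cert_n] at h0
  exact h0

theorem hslp : ∀ j < M11B0.slp.length, ∀ c ∈ (M11B0.slp.getD j (0, [])).2, c < M11B0.tab.k + j := by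
  decide +kernel

theorem hok : M11B0.cert.LevsOK (M11B0.tab.k + M11B0.slp.length) M11B0.lidx M11B0.lpar M11B0.lgi 0 []
    M11B0.levs := by
  unfold M11B0.levs
  refine ⟨by decide, by decide +kernel, M11B0.hT0, by decide +kernel, ?_⟩
  refine ⟨by decide, by decide +kernel, M11B0.hT1, by decide +kernel, ?_⟩
  refine ⟨by decide, by decide +kernel, M11B0.hT2, by decide +kernel, ?_⟩
  refine ⟨by decide, by decide +kernel, M11B0.hT3, by decide +kernel, ?_⟩
  trivial

theorem hprod : CoxCert.levProd M11B0.levs = 7920 := by decide +kernel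

theorem hlab : ∀ i < M11B0.cert.D.n, M11B0.orb.lab i < 2 := by
  intro i hi
  have := M11B0.hOL i hi
  rwa [Nat.blt_eq] at this

theorem hroot : ∀ l < 2, M11B0.orb.root l < M11B0.cert.D.n ∧ M11B0.orb.lab (M11B0.orb.root l) = l := by
  decide +kernel

theorem hsz : ∀ l < 2, cnt (fun i => Nat.beq (M11B0.orb.lab i) l) M11B0.cert.D.n =
    ([1, 10] : List ℕ).getD l 0 := by
  decide +kernel

theorem hsub : ∀ T ∈ (Finset.range 2).powerset, 0 ∈ T →
    (∑ l ∈ T, ([1, 10] : List ℕ).getD l 0) ∣ M11B0.cert.D.n →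
    T = {0} ∨ T = Finset.range 2 := by
  decide +kernel

theorem hxw : colWord M11B0.cert.cols M11CX.xelt = M11B0.xw := by decide +kernel

theorem hx : ∀ i < M11B0.cert.D.n,
    (runT M11B0.cert.D (colWord M11B0.cert.cols M11CX.xelt))^[11 ^ 1] i = i := by
  intro i hi
  rw [hxw]
  exact Nat.eq_of_beq_eq_true (M11B0.hX i hi)

/-- The presented group is simple of order 7920. -/
theorem m11_simple : IsSimpleGroup PM11 ∧ Nat.card PM11 = 7920 := by
  have : Fact (Nat.Prime 11) := ⟨by norm_num⟩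
  exact M11B0.cert.isSimple_card 7920 hub M11B0.slp hslp M11B0.hSlp M11B0.lidx M11B0.lpar M11B0.lgi
    M11B0.levs hok hprod M11B0.orb M11B0.hO1 M11B0.hO2 2 0 [1, 10] hlab hroot hsz
    (by decide +kernel) (by decide) (by decide) hsub 11 1 (by decide) (by norm_num) (by norm_num)
    M11CX.xelt 1 hx (by
      have h := (M11CX.cert.card_eq_of_nil (by intro s hs; exact absurd hs (by simp [M11CX.sgensL]))).2
      rw [M11CX.cert_n] at h
      exact h)

end Cfsg.Agent.Helper9.M11Simple
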