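import Mathlib
import Cfsg.Agent.S1696
import Cfsg.Agent.Lib.Helper9.TC2Spor
import Cfsg.Agent.Lib.Helper9.TC2Cyc
import Cfsg.Agent.Lib.Helper9.TCData.O73B0.Cert
import Cfsg.Agent.Lib.Helper9.TCData.O73CX.Cert

set_option autoImplicit false
set_option maxRecDepth 1000000

/-! The group presented on `b, …, i` by the relators of the presented group Fi22 which do not
involve `a` is simple of order 4585351680. -/

namespace Cfsg.Agent.Helper9.O73Simple

open Cfsg.Agent.Helper9 Cfsg.Agent.Helper9.TC2 Cfsg.Agent.Helper9.TCData Cfsg.Spor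

/-- The presented group. -/
abbrev PO73 : Type := PresentedGroup (relSet O73B0.edges O73B0.extra)

theorem hub : Finite PO73 ∧ Nat.card PO73 ≤ 4585351680 := by
  have h3 := Fi22C3.cert.card_eq_of_empty
  have hH2 := card_coxH_le S1696.sub3 rfl h3.1 (le_of_eq h3.2)
  have h2 := Fi22C2.cert.card_le hH2.1 hH2.2
  have hH1 := card_coxH_le S1696.sub2 rfl h2.1 h2.2
  have h1 := Fi22C1.cert.card_le hH1.1 hH1.2
  refine ⟨h1.1, h1.2.trans ?_⟩
  rw [Fi22C1.cert_n, Fi22C2.cert_n, Fi22C3.cert_n]

theorem hslp : ∀ j < O73B0.slp.length, ∀ c ∈ (O73B0.slp.getD j (0, [])).2, c < O73B0.tab.k + j := by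
  decide +kernel

theorem hok : O73B0.cert.LevsOK (O73B0.tab.k + O73B0.slp.length) O73B0.lidx O73B0.lpar O73B0.lgi 0 []
    O73B0.levs := by
  unfold O73B0.levs
  refine ⟨by decide, by decide +kernel, O73B0.hT0, by decide +kernel, ?_⟩
  refine ⟨by decide, by decide +kernel, O73B0.hT1, by decide +kernel, ?_⟩
  refine ⟨by decide, by decide +kernel, O73B0.hT2, by decide +kernel, ?_⟩
  refine ⟨by decide, by decide +kernel, O73B0.hT3, by decide +kernel, ?_⟩
  refine ⟨by decide, by decide +kernel, O73B0.hT4, by decide +kernel, ?_⟩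
  refine ⟨by decide, by decide +kernel, O73B0.hT5, by decide +kernel, ?_⟩
  refine ⟨by decide, by decide +kernel, O73B0.hT6, by decide +kernel, ?_⟩
  trivial

theorem hprod : CoxCert.levProd O73B0.levs = 4585351680 := by decide +kernel

theorem hlab : ∀ i < O73B0.cert.D.n, O73B0.orb.lab i < 4 := by
  intro i hi
  have := O73B0.hOL i hi
  rwa [Nat.blt_eq] at this

theorem hroot : ∀ l < 4, O73B0.orb.root l < O73B0.cert.D.n ∧ O73B0.orb.lab (O73B0.orb.root l) = l := by
  decide +kernel

theorem hsz : ∀ l < 4, cnt (fun i => Nat.beq (O73B0.orb.lab i) l) O73B0.cert.D.n =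
    ([1, 288, 630, 2240] : List ℕ).getD l 0 := by
  decide +kernel

theorem hsub : ∀ T ∈ (Finset.range 4).powerset, 0 ∈ T →
    (∑ l ∈ T, ([1, 288, 630, 2240] : List ℕ).getD l 0) ∣ O73B0.cert.D.n →
    T = {0} ∨ T = Finset.range 4 := by
  decide +kernel

theorem hxw : colWord O73B0.cert.cols O73CX.xelt = O73B0.xw := by decide +kernel

theorem hx : ∀ i < O73B0.cert.D.n,
    (runT O73B0.cert.D (colWord O73B0.cert.cols O73CX.xelt))^[13 ^ 1] i = i := by
  intro i hi
  rw [hxw]
  exact Nat.eq_of_beq_eq_true (O73B0.hX i hi)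

/-- The presented group is simple of order 4585351680. -/
theorem o73_simple : IsSimpleGroup PO73 ∧ Nat.card PO73 = 4585351680 := by
  have : Fact (Nat.Prime 13) := ⟨by norm_num⟩
  exact O73B0.cert.isSimple_card 4585351680 hub O73B0.slp hslp O73B0.hSlp O73B0.lidx O73B0.lpar
    O73B0.lgi O73B0.levs hok hprod O73B0.orb O73B0.hO1 O73B0.hO2 4 0 [1, 288, 630, 2240] hlab hroot
    hsz (by decide +kernel) (by decide) (by decide) hsub 13 1 (by decide) (by norm_num)
    (by norm_num) O73CX.xelt 1 hx (by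
      have h := (O73CX.cert.card_eq_of_nil (by intro s hs; exact absurd hs (by simp [O73CX.sgensL]))).2
      rw [O73CX.cert_n] at h
      exact h)

end Cfsg.Agent.Helper9.O73Simple
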