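import Mathlib

set_option autoImplicit false

/-! Vectors and matrices of size 7 over the integers mod 3, computed on natural numbers; the index
type is `Unit ⊕ (Fin 3 ⊕ Fin 3)`. -/

namespace Cfsg.Agent.Helper9.Vec7F3

open Matrix

/-- The index type. -/
abbrev I7 : Type := Unit ⊕ (Fin 3 ⊕ Fin 3)

/-- Seven entries. -/
structure V7 where
  x0 : ℕ
  x1 : ℕ
  x2 : ℕ
  x3 : ℕ
  y1 : ℕ
  y2 : ℕ
  y3 : ℕ
deriving DecidableEq

/-- The vector of the entries. -/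
def V7.toVec (v : V7) : I7 → ZMod 3
  | .inl _ => (v.x0 : ZMod 3)
  | .inr (.inl i) => ![(v.x1 : ZMod 3), v.x2, v.x3] i
  | .inr (.inr i) => ![(v.y1 : ZMod 3), v.y2, v.y3] i

/-- The product of a row and a column, mod 3. -/
def dot (r v : V7) : ℕ :=
  (r.x0 * v.x0 + r.x1 * v.x1 + r.x2 * v.x2 + r.x3 * v.x3 + r.y1 * v.y1 + r.y2 * v.y2 +
    r.y3 * v.y3) % 3

/-- Seven rows. -/
structure M7 where
  r0 : V7
  r1 : V7
  r2 : V7
  r3 : V7
  r4 : V7
  r5 : V7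
  r6 : V7

/-- The product of a matrix and a column. -/
def M7.app (M : M7) (v : V7) : V7 :=
  ⟨dot M.r0 v, dot M.r1 v, dot M.r2 v, dot M.r3 v, dot M.r4 v, dot M.r5 v, dot M.r6 v⟩

/-- The matrix of the rows. -/
def M7.toMat (M : M7) : Matrix I7 I7 (ZMod 3) := Matrix.of fun i =>
  match i with
  | .inl _ => M.r0.toVec
  | .inr (.inl i) => ![M.r1.toVec, M.r2.toVec, M.r3.toVec] i
  | .inr (.inr i) => ![M.r4.toVec, M.r5.toVec, M.r6.toVec] i

theorem dot_cast (r v : V7) : ((dot r v : ℕ) : ZMod 3) = r.toVec ⬝ᵥ v.toVec := by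
  simp only [dot, dotProduct, Fintype.sum_sum_type, Fin.sum_univ_three, V7.toVec,
    ZMod.natCast_mod, Finset.univ_unique, Finset.sum_singleton, Matrix.cons_val_zero,
    Matrix.cons_val_one, Matrix.cons_val_two, Matrix.head_cons, Matrix.tail_cons]
  push_cast
  ring

theorem toMat_mulVec (M : M7) (v : V7) : M.toMat *ᵥ v.toVec = (M.app v).toVec := by
  ext i
  rcases i with _ | i | i
  · exact (dot_cast _ _).symm
  · fin_cases i
    · exact (dot_cast _ _).symm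
    · exact (dot_cast _ _).symm
    · exact (dot_cast _ _).symm
  · fin_cases i
    · exact (dot_cast _ _).symm
    · exact (dot_cast _ _).symm
    · exact (dot_cast _ _).symm

/-- The basis vectors. -/
def bas : Fin 7 → V7 := ![⟨1, 0, 0, 0, 0, 0, 0⟩, ⟨0, 1, 0, 0, 0, 0, 0⟩, ⟨0, 0, 1, 0, 0, 0, 0⟩,
  ⟨0, 0, 0, 1, 0, 0, 0⟩, ⟨0, 0, 0, 0, 1, 0, 0⟩, ⟨0, 0, 0, 0, 0, 1, 0⟩, ⟨0, 0, 0, 0, 0, 0, 1⟩]

/-- The indices, in order. -/
def idx : Fin 7 → I7 := ![.inl (), .inr (.inl 0), .inr (.inl 1), .inr (.inl 2), .inr (.inr 0),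
  .inr (.inr 1), .inr (.inr 2)]

theorem bas_toVec (j : Fin 7) : (bas j).toVec = Pi.single (idx j) 1 := by
  ext i
  fin_cases j <;> rcases i with _ | i | i <;> (try fin_cases i) <;>
    simp [bas, idx, V7.toVec]

theorem idx_surj (k : I7) : ∃ j, idx j = k := by
  rcases k with _ | k | k
  · exact ⟨0, rfl⟩
  · fin_cases k
    · exact ⟨1, rfl⟩
    · exact ⟨2, rfl⟩
    · exact ⟨3, rfl⟩
  · fin_cases k
    · exact ⟨4, rfl⟩
    · exact ⟨5, rfl⟩
    · exact ⟨6, rfl⟩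

/-- A matrix which fixes the basis vectors is the identity. -/
theorem eq_one_of_bas (A : Matrix I7 I7 (ZMod 3))
    (h : ∀ j : Fin 7, A *ᵥ (bas j).toVec = (bas j).toVec) : A = 1 := by
  ext i k
  obtain ⟨j, rfl⟩ := idx_surj k
  have h1 := congrFun (h j) i
  rw [bas_toVec, Matrix.mulVec_single_one] at h1
  rw [Matrix.one_apply]
  rw [Pi.single_apply] at h1
  exact h1

/-- The quadratic form `x₀² + x₁y₁ + x₂y₂ + x₃y₃`, mod 3. -/
def q7 (v : V7) : ℕ := (v.x0 * v.x0 + v.x1 * v.y1 + v.x2 * v.y2 + v.x3 * v.y3) % 3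

/-- Every vector comes from entries less than 3. -/
theorem exists_toVec (w : I7 → ZMod 3) : ∃ v : V7, (v.x0 < 3 ∧ v.x1 < 3 ∧ v.x2 < 3 ∧ v.x3 < 3 ∧
    v.y1 < 3 ∧ v.y2 < 3 ∧ v.y3 < 3) ∧ v.toVec = w := by
  have hv : ∀ a : ZMod 3, a.val < 3 := fun a => ZMod.val_lt a
  refine ⟨⟨(w (.inl ())).val, (w (.inr (.inl 0))).val, (w (.inr (.inl 1))).val,
    (w (.inr (.inl 2))).val, (w (.inr (.inr 0))).val, (w (.inr (.inr 1))).val,
    (w (.inr (.inr 2))).val⟩, ⟨hv _, hv _, hv _, hv _, hv _, hv _, hv _⟩, ?_⟩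
  ext i
  rcases i with _ | i | i
  · simp [V7.toVec]
  · fin_cases i <;> simp [V7.toVec]
  · fin_cases i <;> simp [V7.toVec]

end Cfsg.Agent.Helper9.Vec7F3
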