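import Mathlib
import Cfsg.Agent.Lib.Helper9.Vec7F3
import Cfsg.Agent.Lib.Helper9.O73Simple
import Cfsg.Agent.Lib.Helper2.OrthOrders
import Cfsg.Agent.Lib.Helper17.SpinorIndex
import Cfsg.Agent.Lib.Helper9.TC2Fin

set_option autoImplicit false
set_option maxRecDepth 1000000

/-! The presented group of `O73Simple` is isomorphic to `PΩ(7, 3)`. -/

namespace Cfsg.Agent.Helper9.O73Mat

open Matrix Cfsg.Agent.Helper9 Cfsg.Agent.Helper9.TC2 Cfsg.Agent.Helper9.TCData Cfsg.Spor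
  Cfsg.Agent.Helper9.Vec7F3 Cfsg.Agent.Helper9.O73Simple

/-- The quadratic form. -/
abbrev Qf : (I7 → ZMod 3) → ZMod 3 := Cfsg.quadFormOdd 3 (ZMod 3)

theorem q7_cast (v : V7) : Qf v.toVec = ((q7 v : ℕ) : ZMod 3) := by
  simp only [Qf, Cfsg.quadFormOdd, Fin.sum_univ_three, V7.toVec, q7, ZMod.natCast_mod,
    Matrix.cons_val_zero, Matrix.cons_val_one, Matrix.cons_val_two, Matrix.head_cons,
    Matrix.tail_cons]
  push_cast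
  ring

/-- The rows of the matrices of the generators. -/
def g7 : Fin 8 → M7 := ![
  ⟨⟨2, 0, 0, 0, 0, 0, 0⟩, ⟨0, 2, 0, 0, 0, 0, 0⟩, ⟨0, 0, 2, 0, 0, 0, 0⟩, ⟨0, 0, 0, 0, 0, 0, 2⟩, ⟨0, 0, 0, 0, 2, 0, 0⟩, ⟨0, 0, 0, 0, 0, 2, 0⟩, ⟨0, 0, 0, 2, 0, 0, 0⟩⟩,
  ⟨⟨2, 0, 0, 0, 0, 0, 0⟩, ⟨0, 2, 0, 0, 0, 0, 0⟩, ⟨0, 0, 2, 0, 0, 0, 0⟩, ⟨0, 0, 2, 0, 0, 0, 2⟩, ⟨0, 0, 0, 0, 2, 0, 0⟩, ⟨0, 0, 2, 1, 0, 2, 2⟩, ⟨0, 0, 1, 2, 0, 0, 0⟩⟩,
  ⟨⟨2, 0, 0, 0, 0, 0, 0⟩, ⟨0, 2, 0, 0, 0, 0, 0⟩, ⟨0, 0, 0, 0, 0, 2, 0⟩, ⟨0, 0, 0, 2, 0, 0, 0⟩, ⟨0, 0, 0, 0, 2, 0, 0⟩, ⟨0, 0, 2, 0, 0, 0, 0⟩, ⟨0, 0, 0, 0, 0, 0, 2⟩⟩,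
  ⟨⟨2, 0, 0, 0, 0, 0, 0⟩, ⟨0, 0, 2, 0, 2, 0, 0⟩, ⟨0, 0, 2, 0, 0, 0, 0⟩, ⟨0, 0, 0, 2, 0, 0, 0⟩, ⟨0, 2, 1, 0, 0, 0, 0⟩, ⟨0, 1, 2, 0, 2, 2, 0⟩, ⟨0, 0, 0, 0, 0, 0, 2⟩⟩,
  ⟨⟨0, 2, 0, 2, 0, 0, 2⟩, ⟨0, 2, 0, 0, 0, 0, 0⟩, ⟨0, 0, 2, 0, 0, 0, 0⟩, ⟨1, 2, 0, 1, 0, 0, 2⟩, ⟨1, 2, 0, 2, 2, 0, 2⟩, ⟨0, 0, 0, 0, 0, 2, 0⟩, ⟨1, 2, 0, 2, 0, 0, 1⟩⟩,
  ⟨⟨2, 0, 0, 0, 0, 0, 0⟩, ⟨0, 1, 0, 1, 2, 0, 1⟩, ⟨0, 0, 2, 0, 0, 0, 0⟩, ⟨0, 1, 0, 1, 1, 0, 2⟩, ⟨0, 2, 0, 1, 1, 0, 1⟩, ⟨0, 0, 0, 0, 0, 2, 0⟩, ⟨0, 1, 0, 2, 1, 0, 1⟩⟩,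
  ⟨⟨2, 0, 0, 0, 0, 0, 0⟩, ⟨0, 1, 2, 2, 2, 0, 2⟩, ⟨0, 0, 2, 0, 0, 0, 0⟩, ⟨0, 2, 2, 1, 2, 0, 2⟩, ⟨0, 2, 2, 2, 1, 0, 2⟩, ⟨0, 2, 2, 2, 2, 2, 2⟩, ⟨0, 2, 2, 2, 2, 0, 1⟩⟩,
  ⟨⟨2, 0, 0, 0, 0, 0, 0⟩, ⟨0, 1, 0, 2, 2, 0, 2⟩, ⟨0, 0, 2, 0, 0, 0, 0⟩, ⟨0, 2, 0, 1, 2, 0, 2⟩, ⟨0, 2, 0, 2, 1, 0, 2⟩, ⟨0, 0, 0, 0, 0, 2, 0⟩, ⟨0, 2, 0, 2, 2, 0, 1⟩⟩]

theorem g7_sq : ∀ s : Fin 8, ∀ j : Fin 7, (g7 s).app ((g7 s).app (bas j)) = bas j := by
  decide +kernel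

theorem g7_isom : ∀ s : Fin 8, ∀ a b c d e f g : Fin 3,
    q7 ((g7 s).app ⟨a.val, b.val, c.val, d.val, e.val, f.val, g.val⟩) =
      q7 ⟨a.val, b.val, c.val, d.val, e.val, f.val, g.val⟩ := by
  decide +kernel

theorem g7_mul_self (s : Fin 8) : (g7 s).toMat * (g7 s).toMat = 1 := by
  apply eq_one_of_bas
  intro j
  rw [← Matrix.mulVec_mulVec, toMat_mulVec, toMat_mulVec, g7_sq]

/-- The matrices of the generators. -/
def Mgen (s : Fin 8) : GL I7 (ZMod 3) :=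
  ⟨(g7 s).toMat, (g7 s).toMat, g7_mul_self s, g7_mul_self s⟩

theorem Mgen_inv (s : Fin 8) : (Mgen s)⁻¹ = Mgen s := rfl

theorem Mgen_mem (s : Fin 8) : Mgen s ∈ Cfsg.isometryGroup (ZMod 3) Qf := by
  intro u _
  show Qf ((g7 s).toMat *ᵥ u) = Qf u
  obtain ⟨v, ⟨h0, h1, h2, h3, h4, h5, h6⟩, rfl⟩ := exists_toVec u
  rw [toMat_mulVec, q7_cast, q7_cast]
  obtain ⟨a, b, c, d, e, f, g⟩ := v
  rw [g7_isom s ⟨a, h0⟩ ⟨b, h1⟩ ⟨c, h2⟩ ⟨d, h3⟩ ⟨e, h4⟩ ⟨f, h5⟩ ⟨g, h6⟩]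

/-- The value of a word on a vector. -/
def ev7 : List (Fin 8 × Bool) → V7 → V7
  | [], v => v
  | (s, _) :: L, v => (g7 s).app (ev7 L v)

theorem lift_mulVec (L : List (Fin 8 × Bool)) (v : V7) :
    ((FreeGroup.lift Mgen (FreeGroup.mk L) : GL I7 (ZMod 3))).val *ᵥ v.toVec =
      (ev7 L v).toVec := by
  induction L with
  | nil =>
    have h : (FreeGroup.mk [] : FreeGroup (Fin 8)) = 1 := rfl
    rw [h, map_one, Units.val_one, Matrix.one_mulVec, ev7]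
  | cons p L ih =>
    obtain ⟨s, b⟩ := p
    have h : (FreeGroup.mk ((s, b) :: L) : FreeGroup (Fin 8)) =
        FreeGroup.mk [(s, b)] * FreeGroup.mk L := rfl
    have h2 : FreeGroup.lift Mgen (FreeGroup.mk [(s, b)]) = Mgen s := by
      cases b
      · have h3 : (FreeGroup.mk [(s, false)] : FreeGroup (Fin 8)) = (FreeGroup.of s)⁻¹ := rfl
        rw [h3, map_inv, FreeGroup.lift_apply_of, Mgen_inv]
      · have h3 : (FreeGroup.mk [(s, true)] : FreeGroup (Fin 8)) = FreeGroup.of s := rfl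
        rw [h3, FreeGroup.lift_apply_of]
    rw [h, map_mul, Units.val_mul, ← Matrix.mulVec_mulVec, ih, h2, ev7]
    exact toMat_mulVec _ _

theorem lift_eq_one (r : FreeGroup (Fin 8)) (h : ∀ j : Fin 7, ev7 r.toWord (bas j) = bas j) :
    FreeGroup.lift Mgen r = 1 := by
  have e : r = FreeGroup.mk r.toWord := FreeGroup.mk_toWord.symm
  rw [e]
  apply Units.ext
  rw [Units.val_one]
  apply eq_one_of_bas
  intro j
  rw [lift_mulVec, h j]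

theorem rel_extra : ∀ r ∈ O73B0.extra, ∀ j : Fin 7, ev7 r.toWord (bas j) = bas j := by
  decide +kernel

theorem rel_cox : ∀ x ∈ coxNodes O73B0.edges, ∀ y ∈ coxNodes O73B0.edges, ∀ j : Fin 7,
    ev7 ((FreeGroup.of x * FreeGroup.of y) ^ coxLabel O73B0.edges x y).toWord (bas j) = bas j := by
  decide +kernel

theorem rels_gl : ∀ r ∈ relSet O73B0.edges O73B0.extra, FreeGroup.lift Mgen r = 1 := by
  intro r hr
  rcases hr with hr | hr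
  · obtain ⟨x, hx, y, hy, rfl⟩ := hr
    exact lift_eq_one _ (rel_cox x hx y hy)
  · exact lift_eq_one _ (rel_extra r hr)

/-- The homomorphism to the general linear group. -/
noncomputable def psi0 : PO73 →* GL I7 (ZMod 3) := PresentedGroup.toGroup rels_gl

theorem psi0_of (s : Fin 8) : psi0 (PresentedGroup.of s) = Mgen s :=
  PresentedGroup.toGroup.of rels_gl

theorem psi0_mem (x : PO73) : psi0 x ∈ Cfsg.isometryGroup (ZMod 3) Qf := by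
  have h : psi0.range ≤ Cfsg.isometryGroup (ZMod 3) Qf := by
    rw [MonoidHom.range_eq_map, ← PresentedGroup.closure_range_of, MonoidHom.map_closure,
      Subgroup.closure_le]
    rintro _ ⟨_, ⟨s, rfl⟩, rfl⟩
    rw [psi0_of]
    exact Mgen_mem s
  exact h ⟨x, rfl⟩

/-- The homomorphism to the isometry group. -/
noncomputable def psi1 : PO73 →* Cfsg.isometryGroup (ZMod 3) Qf :=
  psi0.codRestrict _ psi0_mem

theorem perfect : commutator PO73 = ⊤ := by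
  have hs : IsSimpleGroup PO73 := o73_simple.1
  have hc : Nat.card PO73 = 4585351680 := o73_simple.2
  have hn : (commutator PO73).Normal := inferInstance
  rcases hn.eq_bot_or_eq_top with h | h
  · exfalso
    rw [commutator_eq_bot_iff_center_eq_top] at h
    have hp := @IsSimpleGroup.prime_card PO73 (Group.commGroupOfCenterEqTop h) hs
    rw [hc] at hp
    exact absurd hp (by norm_num)
  · exact h

theorem psi1_mem (x : PO73) : psi1 x ∈ Cfsg.Omega (ZMod 3) Qf := by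
  have h : psi1.range ≤ Cfsg.Omega (ZMod 3) Qf := by
    rw [MonoidHom.range_eq_map, ← perfect]
    unfold commutator
    rw [Subgroup.map_commutator]
    exact Subgroup.commutator_mono le_top le_top
  exact h ⟨x, rfl⟩

/-- The homomorphism to the commutator subgroup of the isometry group. -/
noncomputable def psi2 : PO73 →* Cfsg.Omega (ZMod 3) Qf := psi1.codRestrict _ psi1_mem

/-- The homomorphism to the central quotient. -/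
noncomputable def psi : PO73 →* Cfsg.POmega (ZMod 3) Qf :=
  (QuotientGroup.mk' (Subgroup.center (Cfsg.Omega (ZMod 3) Qf))).comp psi2

theorem noncomm : (Mgen 0 * Mgen 1 : GL I7 (ZMod 3)) ≠ Mgen 1 * Mgen 0 := by
  intro h
  have h1 : ((Mgen 0 * Mgen 1 : GL I7 (ZMod 3))).val *ᵥ (bas 2).toVec =
      ((Mgen 1 * Mgen 0 : GL I7 (ZMod 3))).val *ᵥ (bas 2).toVec := by rw [h]
  rw [Units.val_mul, Units.val_mul, ← Matrix.mulVec_mulVec, ← Matrix.mulVec_mulVec] at h1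
  change (g7 0).toMat *ᵥ ((g7 1).toMat *ᵥ (bas 2).toVec) =
    (g7 1).toMat *ᵥ ((g7 0).toMat *ᵥ (bas 2).toVec) at h1
  rw [toMat_mulVec, toMat_mulVec, toMat_mulVec, toMat_mulVec] at h1
  have h2 := congrFun h1 (.inr (.inl 2))
  revert h2
  decide

theorem psi_ne : psi (PresentedGroup.of 0) ≠ 1 := by
  intro h
  rw [psi, MonoidHom.comp_apply, QuotientGroup.mk'_apply, QuotientGroup.eq_one_iff,
    Subgroup.mem_center_iff] at h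
  have h1 := h (psi2 (PresentedGroup.of 1))
  have h2 : psi0 (PresentedGroup.of 1) * psi0 (PresentedGroup.of 0) =
      psi0 (PresentedGroup.of 0) * psi0 (PresentedGroup.of 1) := by
    have h3 := congrArg (fun z : Cfsg.Omega (ZMod 3) Qf => ((z : Cfsg.isometryGroup (ZMod 3) Qf) :
      GL I7 (ZMod 3))) h1
    exact h3
  rw [psi0_of, psi0_of] at h2
  exact noncomm h2.symm

theorem two_ne : (2 : ZMod 3) ≠ 0 := by decide

theorem card_iso : Nat.card (Cfsg.isometryGroup (ZMod 3) Qf) = 18341406720 := by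
  have h := Cfsg.Agent.Helper2.Orth.card_odd (F := ZMod 3) two_ne 3
  rw [ZMod.card] at h
  rw [h]
  norm_num [Finset.prod_range_succ]

theorem index_Om : (Cfsg.Omega (ZMod 3) Qf).index = 4 := by
  have h := Cfsg.Agent.Helper17.Spinor.index_Omega
    (Cfsg.Agent.Helper13.matQ (Cfsg.Agent.Helper2.Orth.oddMat 3 (ZMod 3))) two_ne
    (Cfsg.Agent.Helper2.Orth.nondeg_odd 3 two_ne) (by
      rw [Fintype.card_sum, Fintype.card_sum, Fintype.card_fin, Fintype.card_unit]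
      norm_num)
  rw [← Cfsg.Agent.Helper2.Orth.quadFormOdd_eq] at h
  exact h

theorem card_Om : Nat.card (Cfsg.Omega (ZMod 3) Qf) = 4585351680 := by
  have h := Subgroup.card_mul_index (Cfsg.Omega (ZMod 3) Qf)
  rw [index_Om, card_iso] at h
  omega

theorem psi_bijective : Function.Bijective psi := by
  have := o73_simple.1
  have : Finite PO73 := hub.1
  have hinj : Function.Injective psi := injective_of_simple psi (PresentedGroup.of 0) psi_ne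
  have hfinO : Finite (Cfsg.Omega (ZMod 3) Qf) :=
    Nat.finite_of_card_ne_zero (by rw [card_Om]; norm_num)
  have hle : Nat.card (Cfsg.POmega (ZMod 3) Qf) ≤ Nat.card (Cfsg.Omega (ZMod 3) Qf) :=
    Nat.card_le_card_of_surjective (QuotientGroup.mk' (Subgroup.center (Cfsg.Omega (ZMod 3) Qf)))
      (QuotientGroup.mk'_surjective _)
  have hge : Nat.card PO73 ≤ Nat.card (Cfsg.POmega (ZMod 3) Qf) :=
    Nat.card_le_card_of_injective psi hinj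
  rw [Nat.bijective_iff_injective_and_card]
  refine ⟨hinj, le_antisymm hge (hle.trans ?_)⟩
  rw [card_Om, o73_simple.2]

/-- The isomorphism. -/
noncomputable def iso : PO73 ≃* Cfsg.POmega (ZMod 3) (Cfsg.quadFormOdd 3 (ZMod 3)) :=
  MulEquiv.ofBijective psi psi_bijective

end Cfsg.Agent.Helper9.O73Mat
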