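import Mathlib
import Cfsg.Prelude.Def_Classical
import Cfsg.Prelude.Def_LieClassical
import Cfsg.Agent.Lib.Helper10.PUDefs
import Cfsg.Agent.Lib.Helper10.EOAssembly
import Cfsg.Agent.Lib.Helper12.AOMINT
import Cfsg.Agent.Lib.Helper4.AOP2C
import Cfsg.Agent.Lib.Helper11.Unitary2

/-!
PIECE PU-MINT of S2263 (owner helper10): the minimal polynomial of a unitary matrix is fixed by
`dagger`.
-/

set_option autoImplicit false

namespace Cfsg.Agent.Helper10.PU

open Polynomial Matrix
open Cfsg.Agent.Helper10.EO (star)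

section mat
open Cfsg.Agent.Helper11.Herm
variable {F : Type*} [Field F]

/-- PIECE PU-MINT. -/
theorem minpoly_dagger (φ : F →+* F) (hφφ : ∀ x, φ (φ x) = x) (n : ℕ) (hn : 1 ≤ n)
    (A : Matrix (Fin n) (Fin n) F) (hA : IsU φ A) :
    (minpoly F A).coeff 0 ≠ 0 ∧ dagger φ (minpoly F A) = minpoly F A := by
  have hbij : Function.Bijective φ :=
    ⟨fun x y h => by rw [← hφφ x, ← hφφ y, h], fun x => ⟨φ x, hφφ x⟩⟩
  let σ : RingAut F := RingEquiv.ofBijective φ hbij
  have hσ : (σ : F →+* F) = φ := RingHom.ext fun x => rfl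
  have hAσ : A.map σ = A.map φ := rfl
  have h1 : (A.map σ)ᵀ * 1 * A = 1 := by
    rw [hAσ, mul_one]
    have h2 := congrArg Matrix.transpose hA
    rw [Matrix.transpose_mul, Matrix.transpose_transpose, Matrix.transpose_one] at h2
    exact h2
  obtain ⟨h0, hst⟩ := Cfsg.Agent.Helper17.AO.minpoly_twisted σ hn A 1 (by simp) h1
  refine ⟨h0, ?_⟩
  have hmonic : (minpoly F A).Monic := minpoly.monic (Matrix.isIntegral A)
  unfold dagger
  rw [← hσ, ← hst]
  exact (Cfsg.Agent.Helper10.EO.star_facts _ h0).2.2.2 hmonic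

end mat

end Cfsg.Agent.Helper10.PU
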