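import Mathlib
import Cfsg.Agent.Lib.Helper9.PrimeGraphExt

set_option autoImplicit false

/-! Split extensions of a finite group by an elementary abelian `ℓ`-group with the same prime
graph: if every element of prime order `p ≠ ℓ` with a nontrivial fixed point on the kernel gives
an element of order `ℓ p` of the group, no new pairs of primes appear. -/

namespace Cfsg.Agent.Helper9.PrimeGraphExt

open SemidirectProduct

variable {G N : Type*} [Group G] [CommGroup N] (φ : G →* MulAut N)

/-- An element of the kernel, raised to a power. -/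
theorem pow_of_right_eq_one (x : N ⋊[φ] G) (hx : x.right = 1) (k : ℕ) :
    x ^ k = inl (x.left ^ k) := by
  have h1 : x = inl x.left := by
    ext
    · rfl
    · rw [hx]; rfl
  rw [map_pow]
  exact congrArg (· ^ k) h1

/-- The main step: an element of order `p * ℓ` of the extension, with image of order `p`. -/
theorem stepP (ℓ : ℕ) (hℓ : ℓ.Prime)
    (hfix : ∀ p : ℕ, p.Prime → p ≠ ℓ →
      (∃ g : G, orderOf g = p ∧ ∃ w : N, w ≠ 1 ∧ φ g w = w) → ∃ g : G, orderOf g = ℓ * p)
    (p q : ℕ) (hp : p.Prime) (hq : q.Prime) (hpq : p ≠ q) (h : N ⋊[φ] G)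
    (ho : orderOf h = p * q) (hm : orderOf h.right = p) (hd : p * q ∣ ℓ * p) :
    ∃ g : G, orderOf g = p * q := by
  have hq2 : q = ℓ := by
    have h1 : q ∣ ℓ := by
      rw [mul_comm ℓ p] at hd
      exact Nat.dvd_of_mul_dvd_mul_left hp.pos hd
    exact (Nat.prime_dvd_prime_iff_eq hq hℓ).1 h1
  subst hq2
  have hgp : h.right ^ p = 1 := by rw [← hm]; exact pow_orderOf_eq_one _
  have hne : h ^ p ≠ 1 := by
    intro h1
    have h2 := orderOf_dvd_of_pow_eq_one h1
    rw [ho] at h2
    have h3 : p * q ∣ p * 1 := by rwa [mul_one]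
    have := Nat.dvd_of_mul_dvd_mul_left hp.pos h3
    have := hq.two_le
    have := Nat.le_of_dvd Nat.one_pos ‹q ∣ 1›
    omega
  have hw : (h ^ p).left ≠ 1 := by
    intro h1
    apply hne
    apply eq_one_of_left_right φ _ h1
    rw [pow_right, hgp]
  obtain ⟨g, hg⟩ := hfix p hp hpq ⟨h.right, hm, (h ^ p).left, hw, fixed_of_pow φ h p hgp⟩
  exact ⟨g, by rw [hg, mul_comm]⟩

/-- The extension has the same prime graph as the group. -/
theorem same_prime_graph_of_exponent [Finite G] [Finite N] (ℓ : ℕ) (hℓ : ℓ.Prime)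
    (hN : ∀ n : N, n ^ ℓ = 1) (h2 : ℓ ∣ Nat.card G)
    (hfix : ∀ p : ℕ, p.Prime → p ≠ ℓ →
      (∃ g : G, orderOf g = p ∧ ∃ w : N, w ≠ 1 ∧ φ g w = w) → ∃ g : G, orderOf g = ℓ * p) :
    (∀ p : ℕ, p.Prime → (p ∣ Nat.card G ↔ p ∣ Nat.card (N ⋊[φ] G))) ∧
    (∀ p q : ℕ, p.Prime → q.Prime → p ≠ q →
      ((∃ g : G, orderOf g = p * q) ↔ (∃ h : N ⋊[φ] G, orderOf h = p * q))) := by
  constructor
  · intro p hp
    rw [SemidirectProduct.card]
    constructor
    · intro h
      exact Dvd.dvd.mul_left h _
    · intro h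
      rcases (Nat.Prime.dvd_mul hp).1 h with h | h
      · have hpg : IsPGroup ℓ N := by
          intro n
          refine ⟨1, ?_⟩
          rw [pow_one]
          exact hN n
        have : Fact (Nat.Prime ℓ) := ⟨hℓ⟩
        obtain ⟨k, hk⟩ := hpg.exists_card_eq
        rw [hk] at h
        have h3 := (Nat.prime_dvd_prime_iff_eq hp hℓ).1 (hp.dvd_of_dvd_pow h)
        rw [h3]
        exact h2
      · exact h
  · intro p q hp hq hpq
    constructor
    · rintro ⟨g, hg⟩
      exact ⟨inr g, by rw [orderOf_injective (inr : G →* N ⋊[φ] G) inr_injective, hg]⟩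
    · rintro ⟨h, ho⟩
      have hpqpos : 0 < p * q := Nat.mul_pos hp.pos hq.pos
      have hg1 : h.right ^ (p * q) = 1 := by
        rw [← pow_right, ← ho, pow_orderOf_eq_one]
        rfl
      have hmd : orderOf h.right ∣ p * q := orderOf_dvd_of_pow_eq_one hg1
      -- the power with exponent `ℓ` times the order of the image is trivial
      have h2m : h ^ (ℓ * orderOf h.right) = 1 := by
        rw [mul_comm, pow_mul]
        have hr : (h ^ orderOf h.right).right = 1 := by rw [pow_right, pow_orderOf_eq_one]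
        rw [pow_of_right_eq_one φ _ hr, hN, map_one]
      have hd : p * q ∣ ℓ * orderOf h.right := by
        rw [← ho]
        exact orderOf_dvd_of_pow_eq_one h2m
      rcases dvd_cases hp hq hmd with hm | hm | hm | hm
      · exfalso
        rw [hm, mul_one] at hd
        rcases (Nat.dvd_prime hℓ).1 hd with h6 | h6
        · have hp2 := hp.two_le
          have hq2 := hq.two_le
          nlinarith
        · have h7 : p ∣ ℓ := Dvd.intro _ h6
          have h8 : q ∣ ℓ := Dvd.intro_left _ h6
          have h9 := (Nat.prime_dvd_prime_iff_eq hp hℓ).1 h7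
          have h10 := (Nat.prime_dvd_prime_iff_eq hq hℓ).1 h8
          exact hpq (h9.trans h10.symm)
      · rw [hm] at hd
        exact stepP φ ℓ hℓ hfix p q hp hq hpq h ho hm hd
      · rw [hm] at hd
        have ho' : orderOf h = q * p := by rw [ho, mul_comm]
        have hd' : q * p ∣ ℓ * q := by rwa [mul_comm q p]
        obtain ⟨g, hg⟩ := stepP φ ℓ hℓ hfix q p hq hp (Ne.symm hpq) h ho' hm hd'
        exact ⟨g, by rw [hg, mul_comm]⟩
      · exact ⟨h.right, hm⟩

end Cfsg.Agent.Helper9.PrimeGraphExt
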