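import Mathlib
import Cfsg.Prelude.Def_KGroupFacts
import Cfsg.Agent.Lib.Helper9.TC2Cyc
import Cfsg.Agent.Lib.Helper20.SchurExp3

set_option autoImplicit false
set_option maxRecDepth 1000000

/-! Central extensions of a group presented on three generators `a`, `b`, `v` with `v = a b` of
order `m`: the relators of the group split into three exact ones (`v ^ m`, `v⁻¹ a b` and a relator
`X` in which `a` and `b` have exponent sums `e - 1` and `e`) and a list of relators that become
central of order dividing `q` in the covering group. The generators of the covering group lift to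
every central extension whose kernel has exponent dividing `q`, when `m` is prime to `q`. -/

namespace Cfsg.Agent.Helper9.Stem4

open Cfsg Cfsg.Agent.Helper9 Cfsg.Agent.Helper9.TC2 Cfsg.Spor
open scoped IsMulCommutative

/-- The free group. -/
abbrev FG : Type := FreeGroup (Fin 3)

/-- The first generator. -/
def a : FG := FreeGroup.of 0
/-- The second generator. -/
def b : FG := FreeGroup.of 1
/-- The third generator. -/
def v : FG := FreeGroup.of 2

/-- Commutators of words. -/
def cm (r x : FG) : FG := r * x * r⁻¹ * x⁻¹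

/-- The data of the two presentations. -/
structure Pres where
  /-- the exact relator -/
  X : FG
  /-- the relators that become central -/
  Rl : List FG
  /-- the exponent -/
  q : ℕ
  /-- the order of the third generator -/
  m : ℕ

variable (P : Pres)

/-- The relators of the group. -/
def Pres.extraG : List FG := [v ^ P.m, v⁻¹ * a * b, P.X] ++ P.Rl

/-- The relators of the covering group. -/
def Pres.extraC : List FG := [v ^ P.m, v⁻¹ * a * b, P.X] ++ P.Rl.map (fun r => r ^ P.q) ++
  P.Rl.map (fun r => cm r a) ++ P.Rl.map (fun r => cm r b)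

/-- The relators of the covering group. -/
abbrev Pres.relsC : Set FG := relSet ([] : List (Fin 3 × ℕ × Fin 3)) P.extraC

/-- The relators of the group. -/
abbrev Pres.relsG : Set FG := relSet ([] : List (Fin 3 × ℕ × Fin 3)) P.extraG

/-- The covering group. -/
abbrev Pres.PC : Type := PresentedGroup P.relsC

/-- The group. -/
abbrev Pres.PS : Type := PresentedGroup P.relsG

variable {P}

theorem mem_relsC {r : FG} (h : r ∈ P.extraC) : r ∈ P.relsC := Or.inr h

theorem mem_relsG {r : FG} (h : r ∈ P.extraG) : r ∈ P.relsG := Or.inr h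

theorem relsC_cases {r : FG} (h : r ∈ P.relsC) : r ∈ P.extraC := by
  rcases h with h | h
  · obtain ⟨x, hx, -⟩ := h
    exact absurd hx (by simp [coxNodes])
  · exact h

theorem relsG_cases {r : FG} (h : r ∈ P.relsG) : r ∈ P.extraG := by
  rcases h with h | h
  · obtain ⟨x, hx, -⟩ := h
    exact absurd hx (by simp [coxNodes])
  · exact h

theorem extraC_cases {r : FG} (h : r ∈ P.extraC) :
    r = v ^ P.m ∨ r = v⁻¹ * a * b ∨ r = P.X ∨ (∃ R ∈ P.Rl, r = R ^ P.q) ∨
      (∃ R ∈ P.Rl, r = cm R a) ∨ ∃ R ∈ P.Rl, r = cm R b := by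
  unfold Pres.extraC at h
  simp only [List.mem_append, List.mem_cons, List.not_mem_nil, or_false, List.mem_map] at h
  rcases h with (((h | h | h) | ⟨R, hR, hj⟩) | ⟨R, hR, hj⟩) | ⟨R, hR, hj⟩
  · exact Or.inl h
  · exact Or.inr (Or.inl h)
  · exact Or.inr (Or.inr (Or.inl h))
  · exact Or.inr (Or.inr (Or.inr (Or.inl ⟨R, hR, hj.symm⟩)))
  · exact Or.inr (Or.inr (Or.inr (Or.inr (Or.inl ⟨R, hR, hj.symm⟩))))
  · exact Or.inr (Or.inr (Or.inr (Or.inr (Or.inr ⟨R, hR, hj.symm⟩))))

theorem extraG_cases {r : FG} (h : r ∈ P.extraG) :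
    r = v ^ P.m ∨ r = v⁻¹ * a * b ∨ r = P.X ∨ r ∈ P.Rl := by
  unfold Pres.extraG at h
  simp only [List.mem_append, List.mem_cons, List.not_mem_nil, or_false] at h
  rcases h with (h | h | h) | h
  · exact Or.inl h
  · exact Or.inr (Or.inl h)
  · exact Or.inr (Or.inr (Or.inl h))
  · exact Or.inr (Or.inr (Or.inr h))

theorem v13_mem : v ^ P.m ∈ P.extraC := by
  unfold Pres.extraC
  simp

theorem vab_mem : v⁻¹ * a * b ∈ P.extraC := by
  unfold Pres.extraC
  simp

theorem X_mem : P.X ∈ P.extraC := by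
  unfold Pres.extraC
  simp

theorem Rpow_mem {R : FG} (hR : R ∈ P.Rl) : R ^ P.q ∈ P.extraC := by
  unfold Pres.extraC
  simp only [List.mem_append, List.mem_map]
  exact Or.inl (Or.inl (Or.inr ⟨R, hR, rfl⟩))

theorem cma_mem {R : FG} (hR : R ∈ P.Rl) : cm R a ∈ P.extraC := by
  unfold Pres.extraC
  simp only [List.mem_append, List.mem_map]
  exact Or.inl (Or.inr ⟨R, hR, rfl⟩)

theorem cmb_mem {R : FG} (hR : R ∈ P.Rl) : cm R b ∈ P.extraC := by
  unfold Pres.extraC
  simp only [List.mem_append, List.mem_map]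
  exact Or.inr ⟨R, hR, rfl⟩

theorem v13_memG : v ^ P.m ∈ P.extraG := by
  unfold Pres.extraG
  simp

theorem vab_memG : v⁻¹ * a * b ∈ P.extraG := by
  unfold Pres.extraG
  simp

theorem X_memG : P.X ∈ P.extraG := by
  unfold Pres.extraG
  simp

theorem R_memG {R : FG} (hR : R ∈ P.Rl) : R ∈ P.extraG := by
  unfold Pres.extraG
  exact List.mem_append_right _ hR

/-- The columns. -/
def cols : List (Fin 3 × Bool) :=
  [(0, true), (0, false), (1, true), (1, false), (2, true), (2, false)]

theorem colsOK : ColsOK ([] : List (Fin 3 × ℕ × Fin 3)) cols :=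
  ⟨by decide, by decide, by decide, by decide⟩

/-! ### The covering group and its map to the group -/

theorem mkG_R {R : FG} (hR : R ∈ P.Rl) : PresentedGroup.mk P.relsG R = 1 :=
  PresentedGroup.one_of_mem (mem_relsG (R_memG hR))

theorem mkG_cm {R : FG} (hR : R ∈ P.Rl) (x : FG) : PresentedGroup.mk P.relsG (cm R x) = 1 := by
  rw [cm, map_mul, map_mul, map_mul, map_inv, map_inv, mkG_R hR]
  group

theorem relsC_mkG {r : FG} (h : r ∈ P.relsC) : PresentedGroup.mk P.relsG r = 1 := by
  rcases extraC_cases (relsC_cases h) with rfl | rfl | rfl | ⟨R, hR, rfl⟩ | ⟨R, hR, rfl⟩ |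
    ⟨R, hR, rfl⟩
  · exact PresentedGroup.one_of_mem (mem_relsG v13_memG)
  · exact PresentedGroup.one_of_mem (mem_relsG vab_memG)
  · exact PresentedGroup.one_of_mem (mem_relsG X_memG)
  · rw [map_pow, mkG_R hR, one_pow]
  · exact mkG_cm hR _
  · exact mkG_cm hR _

theorem lift_of_eq_mk {rels : Set FG} (r : FG) :
    FreeGroup.lift (PresentedGroup.of (rels := rels)) r = PresentedGroup.mk rels r := by
  have h : FreeGroup.lift (PresentedGroup.of (rels := rels)) = PresentedGroup.mk rels := by
    apply FreeGroup.ext_hom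
    intro i
    rw [FreeGroup.lift_apply_of]
    rfl
  rw [h]

variable (P)

/-- The map from the covering group to the group. -/
noncomputable def nu : P.PC →* P.PS :=
  PresentedGroup.toGroup (f := PresentedGroup.of) (by
    intro r hr
    rw [lift_of_eq_mk]
    exact relsC_mkG hr)

variable {P}

theorem nu_of (i : Fin 3) : nu P (PresentedGroup.of i) = PresentedGroup.of i :=
  PresentedGroup.toGroup.of _

theorem nu_mk (r : FG) : nu P (PresentedGroup.mk P.relsC r) = PresentedGroup.mk P.relsG r := by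
  have h : (nu P).comp (PresentedGroup.mk P.relsC) = PresentedGroup.mk P.relsG := by
    apply FreeGroup.ext_hom
    intro i
    rw [MonoidHom.comp_apply]
    exact nu_of i
  exact DFunLike.congr_fun h r

theorem nu_surjective : Function.Surjective (nu P) := by
  intro g
  obtain ⟨r, rfl⟩ := PresentedGroup.mk_surjective P.relsG g
  exact ⟨PresentedGroup.mk P.relsC r, nu_mk r⟩

variable (P)

/-- The images of the words in the covering group. -/
noncomputable def z (R : FG) : P.PC := PresentedGroup.mk P.relsC R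

variable {P}

theorem nu_z {R : FG} (hR : R ∈ P.Rl) : nu P (z P R) = 1 := by
  rw [z, nu_mk]
  exact mkG_R hR

theorem z_pow {R : FG} (hR : R ∈ P.Rl) : z P R ^ P.q = 1 := by
  have h := PresentedGroup.one_of_mem (mem_relsC (Rpow_mem hR))
  rwa [map_pow] at h

/-- The third generator is the product of the first two. -/
theorem of_two : (PresentedGroup.of 2 : P.PC) = PresentedGroup.of 0 * PresentedGroup.of 1 := by
  have h := PresentedGroup.one_of_mem (mem_relsC (P := P) vab_mem)
  rw [map_mul, map_mul, map_inv] at h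
  have h0 : PresentedGroup.mk P.relsC a = PresentedGroup.of 0 := rfl
  have h1 : PresentedGroup.mk P.relsC b = PresentedGroup.of 1 := rfl
  have h2 : PresentedGroup.mk P.relsC v = PresentedGroup.of 2 := rfl
  rw [h0, h1, h2] at h
  calc (PresentedGroup.of 2 : P.PC)
      = PresentedGroup.of 2 * ((PresentedGroup.of 2)⁻¹ * PresentedGroup.of 0 *
        PresentedGroup.of 1) := by rw [h, mul_one]
    _ = PresentedGroup.of 0 * PresentedGroup.of 1 := by group

theorem of_two_pow : (PresentedGroup.of 2 : P.PC) ^ P.m = 1 := by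
  have h := PresentedGroup.one_of_mem (mem_relsC (P := P) v13_mem)
  rwa [map_pow] at h

theorem comm_of_cm {R x : FG} (h : cm R x ∈ P.relsC) :
    z P R * PresentedGroup.mk P.relsC x = PresentedGroup.mk P.relsC x * z P R := by
  have h := PresentedGroup.one_of_mem h
  rw [cm, map_mul, map_mul, map_mul, map_inv, map_inv] at h
  change z P R * PresentedGroup.mk P.relsC x * (z P R)⁻¹ * (PresentedGroup.mk P.relsC x)⁻¹ = 1 at h
  calc z P R * PresentedGroup.mk P.relsC x
      = (z P R * PresentedGroup.mk P.relsC x * (z P R)⁻¹ * (PresentedGroup.mk P.relsC x)⁻¹) *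
        (PresentedGroup.mk P.relsC x * z P R) := by group
    _ = PresentedGroup.mk P.relsC x * z P R := by rw [h, one_mul]

theorem z_comm_of {R : FG} (hR : R ∈ P.Rl) (i : Fin 3) :
    z P R * PresentedGroup.of i = PresentedGroup.of i * z P R := by
  have h0 : z P R * PresentedGroup.of 0 = PresentedGroup.of 0 * z P R :=
    comm_of_cm (mem_relsC (cma_mem hR))
  have h1 : z P R * PresentedGroup.of 1 = PresentedGroup.of 1 * z P R :=
    comm_of_cm (mem_relsC (cmb_mem hR))
  fin_cases i
  · exact h0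
  · exact h1
  · show z P R * PresentedGroup.of 2 = PresentedGroup.of 2 * z P R
    rw [of_two, ← mul_assoc, h0, mul_assoc, h1, mul_assoc]

theorem central_of_comm_of (g : P.PC)
    (h : ∀ i : Fin 3, g * PresentedGroup.of i = PresentedGroup.of i * g) :
    g ∈ Subgroup.center P.PC := by
  rw [Subgroup.mem_center_iff]
  intro x
  have hx : x ∈ Subgroup.closure (Set.range (PresentedGroup.of (rels := P.relsC))) := by
    rw [PresentedGroup.closure_range_of]
    exact Subgroup.mem_top x
  induction hx using Subgroup.closure_induction with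
  | mem y hy =>
    obtain ⟨i, rfl⟩ := hy
    exact (h i).symm
  | one => rw [one_mul, mul_one]
  | mul x y _ _ hx hy => rw [mul_assoc, hy, ← mul_assoc, hx, mul_assoc]
  | inv x _ hx =>
    calc x⁻¹ * g = x⁻¹ * (g * x) * x⁻¹ := by group
      _ = x⁻¹ * (x * g) * x⁻¹ := by rw [hx]
      _ = g * x⁻¹ := by group

theorem z_central {R : FG} (hR : R ∈ P.Rl) : z P R ∈ Subgroup.center P.PC :=
  central_of_comm_of (z P R) (z_comm_of hR)

variable (P)

/-- The subgroup generated by the images of the relators. -/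
noncomputable def Z : Subgroup P.PC := Subgroup.closure {g | ∃ R ∈ P.Rl, g = z P R}

variable {P}

theorem Z_le_center : Z P ≤ Subgroup.center P.PC := by
  rw [Z, Subgroup.closure_le]
  rintro _ ⟨R, hR, rfl⟩
  exact z_central hR

instance Z_normal : (Z P).Normal := by
  constructor
  intro n hn g
  have h := Subgroup.mem_center_iff.1 (Z_le_center hn) g
  have e : g * n * g⁻¹ = n := by
    rw [h]
    group
  rw [e]
  exact hn

theorem Z_le_ker : Z P ≤ (nu P).ker := by
  rw [Z, Subgroup.closure_le]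
  rintro _ ⟨R, hR, rfl⟩
  exact nu_z hR

variable (P)

/-- The inverse map, modulo `Z`. -/
noncomputable def psi : P.PS →* P.PC ⧸ Z P :=
  PresentedGroup.toGroup (f := fun i => ((PresentedGroup.of i : P.PC) : P.PC ⧸ Z P)) (by
    intro r hr
    have h1 : FreeGroup.lift (fun i => ((PresentedGroup.of i : P.PC) : P.PC ⧸ Z P)) r =
        ((PresentedGroup.mk P.relsC r : P.PC) : P.PC ⧸ Z P) := by
      have h : FreeGroup.lift (fun i => ((PresentedGroup.of i : P.PC) : P.PC ⧸ Z P)) =
          (QuotientGroup.mk' (Z P)).comp (PresentedGroup.mk P.relsC) := by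
        apply FreeGroup.ext_hom
        intro i
        rw [FreeGroup.lift_apply_of]
        rfl
      rw [h]
      rfl
    rw [h1]
    rcases extraG_cases (relsG_cases hr) with rfl | rfl | rfl | hR
    · rw [PresentedGroup.one_of_mem (mem_relsC v13_mem)]
      rfl
    · rw [PresentedGroup.one_of_mem (mem_relsC vab_mem)]
      rfl
    · rw [PresentedGroup.one_of_mem (mem_relsC X_mem)]
      rfl
    · rw [QuotientGroup.eq_one_iff]
      exact Subgroup.subset_closure ⟨r, hR, rfl⟩)

variable {P}

theorem psi_comp : (psi P).comp (nu P) = QuotientGroup.mk' (Z P) := by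
  apply PresentedGroup.ext
  intro i
  rw [MonoidHom.comp_apply, nu_of]
  exact PresentedGroup.toGroup.of _

theorem ker_eq : (nu P).ker = Z P := by
  apply le_antisymm _ Z_le_ker
  intro g hg
  have h1 : (psi P).comp (nu P) g = 1 := by
    rw [MonoidHom.comp_apply, MonoidHom.mem_ker.1 hg, map_one]
  rw [psi_comp] at h1
  exact (QuotientGroup.eq_one_iff g).1 h1

theorem ker_le_center : (nu P).ker ≤ Subgroup.center P.PC := ker_eq ▸ Z_le_center

/-! ### Exponent sums -/

/-- The exponent sum of the first generator. -/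
def es0 : FG →* Multiplicative ℤ :=
  FreeGroup.lift (fun i : Fin 3 => if i = 0 then Multiplicative.ofAdd (1 : ℤ) else 1)

/-- The exponent sum of the second generator. -/
def es1 : FG →* Multiplicative ℤ :=
  FreeGroup.lift (fun i : Fin 3 => if i = 1 then Multiplicative.ofAdd (1 : ℤ) else 1)

/-- The exponent sum of the third generator. -/
def es2 : FG →* Multiplicative ℤ :=
  FreeGroup.lift (fun i : Fin 3 => if i = 2 then Multiplicative.ofAdd (1 : ℤ) else 1)

theorem hom_comm {A : Type*} [CommGroup A] (ψ : FG →* A) (r : FG) :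
    ψ r = ψ a ^ (es0 r).toAdd * ψ b ^ (es1 r).toAdd * ψ v ^ (es2 r).toAdd := by
  have h : ψ = ((zpowersHom A (ψ a)).comp es0) * ((zpowersHom A (ψ b)).comp es1) *
      ((zpowersHom A (ψ v)).comp es2) := by
    apply FreeGroup.ext_hom
    intro i
    fin_cases i
    · simp [es0, es1, es2, a, zpowersHom_apply]
    · simp [es0, es1, es2, b, zpowersHom_apply]
    · simp [es0, es1, es2, v, zpowersHom_apply]
  conv_lhs => rw [h]
  rw [MonoidHom.mul_apply, MonoidHom.mul_apply, MonoidHom.comp_apply, MonoidHom.comp_apply,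
    MonoidHom.comp_apply]
  rfl

/-! ### The covering group is perfect -/

theorem trivial_of_abelian {A : Type*} [CommGroup A] (α β γ : A) (q m oa ob s t : ℕ) (e : ℤ)
    (hst : m * s = q * oa * ob * t + 1) (h1 : γ = α * β) (hm : γ ^ m = 1)
    (hX : α ^ (e - 1) * β ^ e = 1) (ha : (α ^ oa) ^ q = 1) (hb : (β ^ ob) ^ q = 1) :
    α = 1 ∧ β = 1 ∧ γ = 1 := by
  have hg1 : γ ^ (q * oa * ob * t) = 1 := by
    have e1 : α ^ (q * oa * ob * t) = 1 := by
      have h3 : q * oa * ob * t = oa * q * (ob * t) := by ring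
      have h4 : α ^ (oa * q * (ob * t)) = ((α ^ oa) ^ q) ^ (ob * t) := by
        rw [pow_mul α (oa * q) (ob * t), pow_mul α oa q]
      rw [h3, h4, ha, one_pow]
    have e2 : β ^ (q * oa * ob * t) = 1 := by
      have h3 : q * oa * ob * t = ob * q * (oa * t) := by ring
      have h4 : β ^ (ob * q * (oa * t)) = ((β ^ ob) ^ q) ^ (oa * t) := by
        rw [pow_mul β (ob * q) (oa * t), pow_mul β ob q]
      rw [h3, h4, hb, one_pow]
    rw [h1, mul_pow, e1, e2, one_mul]
  have hg : γ = 1 := by
    have h2 : γ ^ (m * s) = 1 := by rw [pow_mul, hm, one_pow]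
    rw [hst, pow_succ, hg1, one_mul] at h2
    exact h2
  have hβ : β = α⁻¹ := by
    rw [hg] at h1
    exact (inv_eq_of_mul_eq_one_right h1.symm).symm
  have hα : α = 1 := by
    rw [hβ, inv_zpow, ← zpow_neg, ← zpow_add] at hX
    have e3 : e - 1 + -e = -1 := by ring
    rw [e3, zpow_neg, zpow_one, inv_eq_one] at hX
    exact hX
  refine ⟨hα, ?_, hg⟩
  rw [hβ, hα, inv_one]

theorem commutator_eq_top (oa ob : ℕ) (ha : a ^ oa ∈ P.Rl) (hb : b ^ ob ∈ P.Rl) (e : ℤ)
    (h0 : (es0 P.X).toAdd = e - 1) (h1 : (es1 P.X).toAdd = e) (h2 : (es2 P.X).toAdd = 0)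
    (s t : ℕ) (hst : P.m * s = P.q * oa * ob * t + 1) : commutator P.PC = ⊤ := by
  rw [← Abelianization.ker_of]
  set φ : P.PC →* Abelianization P.PC := Abelianization.of with hφ
  have hX : φ (PresentedGroup.of 0) ^ (e - 1) * φ (PresentedGroup.of 1) ^ e = 1 := by
    have h := hom_comm (φ.comp (PresentedGroup.mk P.relsC)) P.X
    rw [h0, h1, h2, zpow_zero, mul_one] at h
    rw [MonoidHom.comp_apply, PresentedGroup.one_of_mem (mem_relsC X_mem), map_one] at h
    exact h.symm
  have hqa : (φ (PresentedGroup.of 0) ^ oa) ^ P.q = 1 := by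
    have h := z_pow ha
    rw [z, map_pow] at h
    rw [← map_pow, ← map_pow]
    have e' : (PresentedGroup.of 0 : P.PC) = PresentedGroup.mk P.relsC a := rfl
    rw [e', h, map_one]
  have hqb : (φ (PresentedGroup.of 1) ^ ob) ^ P.q = 1 := by
    have h := z_pow hb
    rw [z, map_pow] at h
    rw [← map_pow, ← map_pow]
    have e' : (PresentedGroup.of 1 : P.PC) = PresentedGroup.mk P.relsC b := rfl
    rw [e', h, map_one]
  obtain ⟨hu, hv, hw⟩ := trivial_of_abelian (φ (PresentedGroup.of 0)) (φ (PresentedGroup.of 1))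
    (φ (PresentedGroup.of 2)) P.q P.m oa ob s t e hst (by rw [of_two, map_mul])
    (by rw [← map_pow, of_two_pow, map_one]) hX hqa hqb
  rw [eq_top_iff, ← PresentedGroup.closure_range_of, Subgroup.closure_le]
  rintro _ ⟨i, rfl⟩
  rw [SetLike.mem_coe, MonoidHom.mem_ker]
  fin_cases i
  · exact hu
  · exact hv
  · exact hw

/-! ### Lifting the generators -/

section Abstract

variable {Γ : Type*} [Group Γ]

theorem lift_mul_central (s : Fin 3 → Γ) (c : Fin 3 → Subgroup.center Γ) (W : FG) :
    FreeGroup.lift (fun i => s i * (c i : Γ)) W =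
      FreeGroup.lift s W * ((FreeGroup.lift c W : Subgroup.center Γ) : Γ) := by
  let ψ : FG →* Γ :=
    { toFun := fun W => FreeGroup.lift s W * ((FreeGroup.lift c W : Subgroup.center Γ) : Γ)
      map_one' := by simp
      map_mul' := by
        intro x y
        rw [map_mul, map_mul, Subgroup.coe_mul]
        have h := Subgroup.mem_center_iff.1 (FreeGroup.lift c x).2 (FreeGroup.lift s y)
        calc FreeGroup.lift s x * FreeGroup.lift s y *
              (((FreeGroup.lift c x : Subgroup.center Γ) : Γ) * (FreeGroup.lift c y : Subgroup.center Γ))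
            = FreeGroup.lift s x * (FreeGroup.lift s y * (FreeGroup.lift c x : Subgroup.center Γ)) *
              (FreeGroup.lift c y : Subgroup.center Γ) := by group
          _ = FreeGroup.lift s x * ((FreeGroup.lift c x : Subgroup.center Γ) * FreeGroup.lift s y) *
              (FreeGroup.lift c y : Subgroup.center Γ) := by rw [h]
          _ = FreeGroup.lift s x * (FreeGroup.lift c x : Subgroup.center Γ) *
              (FreeGroup.lift s y * (FreeGroup.lift c y : Subgroup.center Γ)) := by group }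
  have h : FreeGroup.lift (fun i => s i * (c i : Γ)) = ψ := by
    apply FreeGroup.ext_hom
    intro i
    rw [FreeGroup.lift_apply_of]
    show _ = FreeGroup.lift s (FreeGroup.of i) * ((FreeGroup.lift c (FreeGroup.of i) :
      Subgroup.center Γ) : Γ)
    rw [FreeGroup.lift_apply_of, FreeGroup.lift_apply_of]
  rw [h]
  rfl


theorem comm_identity {A : Type*} [CommGroup A] (c r : A) (e : ℤ) :
    r * ((c ^ e * r) ^ (e - 1) * (c ^ (1 - e) * r⁻¹) ^ e) = 1 := by
  rw [mul_zpow, mul_zpow, ← zpow_mul, ← zpow_mul, inv_zpow, ← zpow_neg]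
  have h : r * (c ^ (e * (e - 1)) * r ^ (e - 1) * (c ^ ((1 - e) * e) * r ^ (-e))) =
      c ^ (e * (e - 1) + (1 - e) * e) * r ^ (1 + (e - 1) + -e) := by
    rw [zpow_add, zpow_add, zpow_add, zpow_one]
    simp only [mul_comm, mul_left_comm, mul_assoc]
  rw [h]
  have e1 : e * (e - 1) + (1 - e) * e = 0 := by ring
  have e2 : 1 + (e - 1) + -e = 0 := by ring
  rw [e1, e2, zpow_zero, zpow_zero, mul_one]

theorem lift_rels (K : Subgroup Γ) (hK : K ≤ Subgroup.center Γ) (hq : ∀ κ ∈ K, κ ^ P.q = 1)
    (t : Fin 3 → Γ) (h13 : t 2 ^ P.m = 1) (hv : t 2 = t 0 * t 1)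
    (hX : FreeGroup.lift t P.X = 1) (hR : ∀ R ∈ P.Rl, FreeGroup.lift t R ∈ K) :
    ∀ r ∈ P.relsC, FreeGroup.lift t r = 1 := by
  have hcm : ∀ R ∈ P.Rl, ∀ x : FG, FreeGroup.lift t (cm R x) = 1 := by
    intro R hR' x
    rw [cm, map_mul, map_mul, map_mul, map_inv, map_inv]
    have h := (Subgroup.mem_center_iff.1 (hK (hR R hR'))) (FreeGroup.lift t x)
    rw [← h]
    group
  intro r hr
  rcases extraC_cases (relsC_cases hr) with rfl | rfl | rfl | ⟨R, hR', rfl⟩ | ⟨R, hR', rfl⟩ |
    ⟨R, hR', rfl⟩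
  · rw [map_pow, v, FreeGroup.lift_apply_of, h13]
  · rw [map_mul, map_mul, map_inv, v, a, b, FreeGroup.lift_apply_of, FreeGroup.lift_apply_of,
      FreeGroup.lift_apply_of, hv]
    group
  · exact hX
  · rw [map_pow]
    exact hq _ (hR R hR')
  · exact hcm R hR' _
  · exact hcm R hR' _

end Abstract

/-- The exponent of a central subgroup of the commutator subgroup from its index. -/
theorem pow_eq_one_of_sq_dvd {Γ : Type*} [Group Γ] [Finite Γ] (K : Subgroup Γ)
    (hK : K ≤ Subgroup.center Γ) (hK' : K ≤ commutator Γ) (n : ℕ)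
    (hn : ∀ e : ℕ, e ^ 2 ∣ K.index → e ∣ n) : ∀ κ ∈ K, κ ^ n = 1 := by
  letI instC : CommGroup K := { (inferInstance : Group K) with
    mul_comm := fun x y => Subtype.ext ((Subgroup.mem_center_iff.1 (hK y.2)) x.1) }
  have hexp := Cfsg.Agent.Helper20.exponent_sq_dvd_index K hK hK' (A := K) (MulEquiv.refl _)
  have h1 := hn _ hexp
  have h2 := Monoid.exponent_dvd_iff_forall_pow_eq_one.1 h1
  intro κ hκ
  have h3 := congrArg Subtype.val (h2 ⟨κ, hκ⟩)
  exact h3


/-- The generators of the covering group lift to every central extension whose kernel has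
exponent dividing `q`. -/
theorem exists_lift {G : Type*} [Group G] (π : P.PC →* G)
    (hπ : ∀ R ∈ P.Rl, π (z P R) = 1) {Γ : Type*} [Group Γ] (σ : Γ →* G)
    (hs : Function.Surjective σ) (hK : σ.ker ≤ Subgroup.center Γ)
    (hq : ∀ κ ∈ σ.ker, κ ^ P.q = 1) (mm k : ℕ) (hm : P.q * k = P.m * mm + 1) (e : ℤ)
    (h0 : (es0 P.X).toAdd = e - 1) (h1 : (es1 P.X).toAdd = e) :
    ∃ t : Fin 3 → Γ, (∀ i, σ (t i) = π (PresentedGroup.of i)) ∧
      ∀ r ∈ P.relsC, FreeGroup.lift t r = 1 := by
  obtain ⟨sa, hsa⟩ := hs (π (PresentedGroup.of 0))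
  obtain ⟨sb, hsb⟩ := hs (π (PresentedGroup.of 1))
  have hg0 : σ (sa * sb) = π (PresentedGroup.of 2) := by
    rw [map_mul, hsa, hsb, of_two, map_mul]
  have hp13 : π (PresentedGroup.of 2) ^ P.m = 1 := by rw [← map_pow, of_two_pow, map_one]
  have hg13 : (sa * sb) ^ P.m ∈ σ.ker := by
    rw [MonoidHom.mem_ker, map_pow, hg0, hp13]
  set tv : Γ := (sa * sb) ^ (P.q * k) with htv
  have hσtv : σ tv = π (PresentedGroup.of 2) := by
    rw [htv, map_pow, hg0, hm, pow_succ, pow_mul, hp13, one_pow, one_mul]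
  have htv13 : tv ^ P.m = 1 := by
    have e' : tv ^ P.m = (((sa * sb) ^ P.m) ^ P.q) ^ k := by
      rw [htv, ← pow_mul, ← pow_mul, ← pow_mul]
      congr 1
      ring
    rw [e', hq _ hg13, one_pow]
  have hcker : (sa * sb)⁻¹ * tv ∈ σ.ker := by
    rw [MonoidHom.mem_ker, map_mul, map_inv, hg0, hσtv, inv_mul_cancel]
  -- the first lifts
  set s : Fin 3 → Γ := ![sa, sb, tv] with hs'
  have hσs : ∀ i, σ (s i) = π (PresentedGroup.of i) := by
    intro i
    fin_cases i
    · exact hsa
    · exact hsb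
    · exact hσtv
  have hcomp : ∀ (t : Fin 3 → Γ), (∀ i, σ (t i) = π (PresentedGroup.of i)) → ∀ r : FG,
      σ (FreeGroup.lift t r) = π (PresentedGroup.mk P.relsC r) := by
    intro t ht
    have h : σ.comp (FreeGroup.lift t) = π.comp (PresentedGroup.mk P.relsC) := by
      apply FreeGroup.ext_hom
      intro i
      rw [MonoidHom.comp_apply, MonoidHom.comp_apply, FreeGroup.lift_apply_of]
      exact ht i
    exact fun r => DFunLike.congr_fun h r
  have hr3 : FreeGroup.lift s P.X ∈ σ.ker := by
    rw [MonoidHom.mem_ker, hcomp s hσs, PresentedGroup.one_of_mem (mem_relsC X_mem), map_one]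
  -- the corrections
  set c' : Subgroup.center Γ := ⟨(sa * sb)⁻¹ * tv, hK hcker⟩ with hc'
  set r' : Subgroup.center Γ := ⟨FreeGroup.lift s P.X, hK hr3⟩ with hr'
  have hc'ker : ∀ n : ℤ, ((c' ^ n : Subgroup.center Γ) : Γ) ∈ σ.ker := by
    intro n
    rw [Subgroup.coe_zpow]
    exact Subgroup.zpow_mem _ hcker n
  set cc : Fin 3 → Subgroup.center Γ := ![c' ^ e * r', c' ^ (1 - e) * r'⁻¹, 1] with hcc
  have hccker : ∀ i, ((cc i : Subgroup.center Γ) : Γ) ∈ σ.ker := by
    intro i
    fin_cases i
    · show ((c' ^ e * r' : Subgroup.center Γ) : Γ) ∈ σ.ker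
      rw [Subgroup.coe_mul]
      exact Subgroup.mul_mem _ (hc'ker _) hr3
    · show ((c' ^ (1 - e) * r'⁻¹ : Subgroup.center Γ) : Γ) ∈ σ.ker
      rw [Subgroup.coe_mul, Subgroup.coe_inv]
      exact Subgroup.mul_mem _ (hc'ker _) (Subgroup.inv_mem _ hr3)
    · exact Subgroup.one_mem _
  set t : Fin 3 → Γ := fun i => s i * (cc i : Γ) with ht
  have hσt : ∀ i, σ (t i) = π (PresentedGroup.of i) := by
    intro i
    rw [ht]
    show σ (s i * (cc i : Γ)) = _
    rw [map_mul, hσs, MonoidHom.mem_ker.1 (hccker i), mul_one]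
  refine ⟨t, hσt, ?_⟩
  apply lift_rels σ.ker hK hq
  · show (tv * ((1 : Subgroup.center Γ) : Γ)) ^ P.m = 1
    rw [Subgroup.coe_one, mul_one, htv13]
  · show tv * ((1 : Subgroup.center Γ) : Γ) =
      sa * ((c' ^ e * r' : Subgroup.center Γ) : Γ) *
        (sb * ((c' ^ (1 - e) * r'⁻¹ : Subgroup.center Γ) : Γ))
    have hcen := Subgroup.mem_center_iff.1 (c' ^ e * r' : Subgroup.center Γ).2 sb
    have e1 : ((c' ^ e * r' : Subgroup.center Γ) : Γ) *
        ((c' ^ (1 - e) * r'⁻¹ : Subgroup.center Γ) : Γ) = (sa * sb)⁻¹ * tv := by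
      rw [← Subgroup.coe_mul]
      have e2 : c' ^ e * r' * (c' ^ (1 - e) * r'⁻¹) = c' := by
        rw [mul_mul_mul_comm, ← zpow_add, mul_inv_cancel, mul_one]
        have e3 : e + (1 - e) = 1 := by ring
        rw [e3, zpow_one]
      rw [e2]
    calc tv * ((1 : Subgroup.center Γ) : Γ) = sa * sb * ((sa * sb)⁻¹ * tv) := by
          rw [Subgroup.coe_one]
          group
      _ = sa * sb * (((c' ^ e * r' : Subgroup.center Γ) : Γ) *
          ((c' ^ (1 - e) * r'⁻¹ : Subgroup.center Γ) : Γ)) := by rw [e1]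
      _ = sa * (sb * ((c' ^ e * r' : Subgroup.center Γ) : Γ)) *
          ((c' ^ (1 - e) * r'⁻¹ : Subgroup.center Γ) : Γ) := by group
      _ = sa * (((c' ^ e * r' : Subgroup.center Γ) : Γ) * sb) *
          ((c' ^ (1 - e) * r'⁻¹ : Subgroup.center Γ) : Γ) := by rw [hcen]
      _ = _ := by group
  · rw [ht, lift_mul_central s cc P.X]
    have h := hom_comm (FreeGroup.lift cc) P.X
    rw [h0, h1] at h
    have ea : FreeGroup.lift cc a = c' ^ e * r' := by
      rw [a, FreeGroup.lift_apply_of]
      rfl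
    have eb : FreeGroup.lift cc b = c' ^ (1 - e) * r'⁻¹ := by
      rw [b, FreeGroup.lift_apply_of]
      rfl
    have ev : FreeGroup.lift cc v = 1 := by
      rw [v, FreeGroup.lift_apply_of]
      rfl
    rw [ea, eb, ev, one_zpow, mul_one] at h
    rw [h]
    have h3 := comm_identity c' r' e
    have h4 := congrArg (fun x : Subgroup.center Γ => (x : Γ)) h3
    simp only [Subgroup.coe_mul, Subgroup.coe_one] at h4
    exact h4
  · intro R hR
    rw [MonoidHom.mem_ker, hcomp t hσt]
    exact hπ R hR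

end Cfsg.Agent.Helper9.Stem4
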