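import Mathlib
import Cfsg.Prelude.Def_LieTypeChar
import Cfsg.Agent.Lib.Helper14.SylAbDefs
import Cfsg.Agent.Lib.Helper12.F4ISURJ
import Cfsg.Agent.Lib.Lead.TwReeOrder
import Cfsg.Agent.Lib.Lead.TwReeSetup

/-!
# S4625 piece SYLAB-TWF4 (helper9, for helper14): `Good` for `²F₄(q)`.

`U¹ = U ⊓ ²F₄(q)` is generated by the twisted root elements `U1 … U8` (normal form, `exists_NF`); it has order
`q¹²` and odd index.  The odd ones are involutions; the even ones satisfy `Ui(t,u)² = Ui(0, t θ(t))`, and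
`Ui(0,c) ∈ ⁅U¹,U¹⁆`: for `i = 2,4,6` as a commutator of two other root elements, for `i = 8` because the
additive span of the `s θ(t) + t θ(s)` (commutators inside `U8`) is the whole field.
-/

set_option autoImplicit false
set_option linter.unusedSectionVars false
set_option linter.unusedVariables false
set_option linter.unusedSimpArgs false

namespace Cfsg.Agent.Helper14.SylAb

open Cfsg Cfsg.Lie Cfsg.Agent.Lead.Chev Cfsg.Agent.Lead.Tw Cfsg.Agent.Helper11.F4I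
open scoped commutatorElement

/-- in a finite field of order `2^(2m+1)`, every element is `l * l^(2^m)` -/
theorem sylabtwf4_exists_norm {K : Type*} [Field K] [Fintype K] (m : ℕ)
    (hK : Fintype.card K = 2 ^ (2 * m + 1)) (c : K) : ∃ l : K, l * l ^ (2 ^ m) = c := by
  by_cases hc : c = 0
  · exact ⟨0, by rw [hc, zero_mul]⟩
  obtain ⟨b, hb⟩ : ∃ b, 2 ^ m = b + 1 := ⟨2 ^ m - 1, by have := Nat.one_le_two_pow (n := m); omega⟩
  have hcard : Fintype.card K - 1 = 2 * b ^ 2 + 4 * b + 1 := by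
    have h1 : 2 ^ (2 * m + 1) = 2 * (2 ^ m) ^ 2 := by ring
    rw [hK, h1, hb]
    have : 2 * (b + 1) ^ 2 = 2 * b ^ 2 + 4 * b + 1 + 1 := by ring
    rw [this, Nat.add_sub_cancel]
  have hn : c ^ (2 * b ^ 2 + 4 * b + 1) = 1 := by
    rw [← hcard]
    exact FiniteField.pow_card_sub_one_eq_one c hc
  refine ⟨c ^ (2 * b ^ 2 + 2 * b + 1), ?_⟩
  rw [hb, ← pow_succ', ← pow_mul]
  have : (2 * b ^ 2 + 2 * b + 1) * (b + 1 + 1) = (2 * b ^ 2 + 4 * b + 1) * (b + 1) + 1 := by ring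
  rw [this, pow_succ, pow_mul, hn, one_pow, one_mul]

/-- the additive span of the `s θ(t) + t θ(s)` is the whole field -/
theorem sylabtwf4_span {K : Type*} [Field K] [Fintype K] [CharP K 2] (m : ℕ) (hm : 1 ≤ m)
    (hK : Fintype.card K = 2 ^ (2 * m + 1)) (f : K ≃+* K) (hf : ∀ t, f t = t ^ (2 ^ m))
    (V : AddSubgroup K) (hV : ∀ s t : K, s * f t + t * f s ∈ V) (c : K) : c ∈ V := by
  set W : AddSubgroup K := AddSubgroup.closure {x | ∃ s t : K, x = s * f t + t * f s} with hW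
  have hWV : W ≤ V := (AddSubgroup.closure_le _).2 (by rintro _ ⟨s, t, rfl⟩; exact hV s t)
  have h1 : ∀ l : K, ∀ w ∈ W, l * f l * w ∈ W := by
    intro l w hw
    induction hw using AddSubgroup.closure_induction with
    | mem x hx =>
      obtain ⟨s, t, rfl⟩ := hx
      apply AddSubgroup.subset_closure
      exact ⟨l * s, l * t, by rw [map_mul, map_mul]; ring⟩
    | zero => rw [mul_zero]; exact W.zero_mem
    | add x y _ _ hx hy => rw [mul_add]; exact W.add_mem hx hy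
    | neg x _ hx => rw [mul_neg]; exact W.neg_mem hx
  have h2 : ∀ c : K, ∀ w ∈ W, c * w ∈ W := by
    intro c w hw
    obtain ⟨l, hl⟩ := sylabtwf4_exists_norm m hK c
    rw [← hl, ← hf]
    exact h1 l w hw
  obtain ⟨t, ht⟩ : ∃ t : K, t + f t ≠ 0 := by
    by_contra hcon
    have hid : ∀ t : K, t ^ (2 ^ m) = t := fun t => by
      have h := not_not.1 ((not_exists.1 hcon) t)
      rw [← hf]
      have h' : f t = f t + (t + t) := by rw [CharTwo.add_self_eq_zero, add_zero]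
      rw [h', add_comm (f t), add_assoc, h, add_zero]
    have hsq : ∀ x : K, x ^ 2 = x := fun x => by
      have h := FiniteField.pow_card x
      rw [hK, show 2 * m + 1 = m + m + 1 by ring, pow_succ, pow_add, pow_mul, pow_mul, hid, hid] at h
      exact h
    have hle : Fintype.card K ≤ 2 := by
      classical
      have : (Finset.univ : Finset K) ⊆ {0, 1} := by
        intro x _
        have h := hsq x
        have : x * (x - 1) = 0 := by rw [mul_sub, mul_one, ← pow_two, h, sub_self]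
        rcases mul_eq_zero.1 this with h0 | h0
        · simp [h0]
        · simp [sub_eq_zero.1 h0]
      exact (Finset.card_le_card this).trans Finset.card_le_two
    have : 2 ^ 3 ≤ 2 ^ (2 * m + 1) := Nat.pow_le_pow_right (by norm_num) (by omega)
    omega
  have hw0 : t + f t ∈ W := AddSubgroup.subset_closure ⟨1, t, by rw [map_one]; ring⟩
  have := h2 (c / (t + f t)) _ hw0
  rw [div_mul_cancel₀ _ ht] at this
  exact hWV this

/-- transfer: `Good` for a subgroup `T` from a subgroup `U ≤ T` -/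
theorem sylabtwf4_good_subtype {H : Type*} [Group H] (T U : Subgroup H) (hUT : U ≤ T)
    (h2 : IsPGroup 2 U) (hidx : ¬ 2 ∣ (U.subgroupOf T).index) (hsq : ∀ x ∈ U, x ^ 2 ∈ ⁅U, U⁆) :
    Good ↥T := by
  refine ⟨U.subgroupOf T, h2.comap_subtype, hidx, ?_⟩
  intro x hx
  have hx' : (x : H) ∈ U := Subgroup.mem_subgroupOf.1 hx
  have h1 := hsq _ hx'
  have h3 : (⁅U.subgroupOf T, U.subgroupOf T⁆).map T.subtype = ⁅U, U⁆ := by
    rw [Subgroup.map_commutator, Subgroup.subgroupOf_map_subtype, inf_eq_left.2 hUT]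
  rw [← h3] at h1
  obtain ⟨y, hy, hyx⟩ := h1
  have : y = x ^ 2 := Subtype.ext (by rw [Subgroup.coe_pow]; exact hyx)
  rwa [← this]

theorem sylabtwf4_odd_pred_pow (q k : ℕ) (hq : Even q) (hq0 : 0 < q) (hk : k ≠ 0) : Odd (q ^ k - 1) := by
  have h1 : Even (q ^ k) := (Nat.even_pow' hk).2 hq
  have h2 : 1 ≤ q ^ k := Nat.one_le_pow _ _ hq0
  exact Nat.Even.sub_odd h2 h1 odd_one

theorem sylabtwf4_odd_succ_pow (q k : ℕ) (hq : Even q) (hk : k ≠ 0) : Odd (q ^ k + 1) := by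
  have h1 : Even (q ^ k) := (Nat.even_pow' hk).2 hq
  exact h1.add_odd odd_one

theorem sylabtwf4_comm_of {G : Type*} [Group G] (a b z : G) (h : b * a = a * (z * b)) :
    z = ⁅a⁻¹, b⁆ := by
  rw [commutatorElement_def, inv_inv, mul_assoc a⁻¹ b a, h]
  group

section main

variable {K : Type*} [Field K]

/-- the generating set of `U¹` -/
def sylabtwf4_S (f : K ≃+* K) : Set (GL chevF4.Idx K) :=
  {g | (∃ t, g = U1 f t) ∨ (∃ t u, g = U2 f t u) ∨ (∃ t, g = U3 f t) ∨ (∃ t u, g = U4 f t u) ∨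
       (∃ t, g = U5 f t) ∨ (∃ t u, g = U6 f t u) ∨ (∃ t, g = U7 f t) ∨ (∃ t u, g = U8 f t u)}

variable (f : K ≃+* K)

theorem sylabtwf4_mem1 (t : K) : U1 f t ∈ Subgroup.closure (sylabtwf4_S f) :=
  Subgroup.subset_closure (Or.inl ⟨t, rfl⟩)
theorem sylabtwf4_mem2 (t u : K) : U2 f t u ∈ Subgroup.closure (sylabtwf4_S f) :=
  Subgroup.subset_closure (Or.inr (Or.inl ⟨t, u, rfl⟩))
theorem sylabtwf4_mem3 (t : K) : U3 f t ∈ Subgroup.closure (sylabtwf4_S f) :=
  Subgroup.subset_closure (Or.inr (Or.inr (Or.inl ⟨t, rfl⟩)))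
theorem sylabtwf4_mem4 (t u : K) : U4 f t u ∈ Subgroup.closure (sylabtwf4_S f) :=
  Subgroup.subset_closure (Or.inr (Or.inr (Or.inr (Or.inl ⟨t, u, rfl⟩))))
theorem sylabtwf4_mem5 (t : K) : U5 f t ∈ Subgroup.closure (sylabtwf4_S f) :=
  Subgroup.subset_closure (Or.inr (Or.inr (Or.inr (Or.inr (Or.inl ⟨t, rfl⟩)))))
theorem sylabtwf4_mem6 (t u : K) : U6 f t u ∈ Subgroup.closure (sylabtwf4_S f) :=
  Subgroup.subset_closure (Or.inr (Or.inr (Or.inr (Or.inr (Or.inr (Or.inl ⟨t, u, rfl⟩))))))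
theorem sylabtwf4_mem7 (t : K) : U7 f t ∈ Subgroup.closure (sylabtwf4_S f) :=
  Subgroup.subset_closure (Or.inr (Or.inr (Or.inr (Or.inr (Or.inr (Or.inr (Or.inl ⟨t, rfl⟩)))))))
theorem sylabtwf4_mem8 (t u : K) : U8 f t u ∈ Subgroup.closure (sylabtwf4_S f) :=
  Subgroup.subset_closure (Or.inr (Or.inr (Or.inr (Or.inr (Or.inr (Or.inr (Or.inr ⟨t, u, rfl⟩)))))))

section char2

variable [CharP K 2] (hff : ∀ x : K, (f (f x)) ^ 2 = x)
include hff

theorem sylabtwf4_rel2 (s t : K) :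
    U4 f t 0 * U1 f s = U1 f s * (U2 f 0 (f s * f t) * U4 f t 0) := by
  have e : U1 f s * (U2 f 0 (f s * f t) * U4 f t 0) = NF f s 0 (f s * f t) 0 t 0 0 0 0 0 0 0 := by
    simp only [NF, U3_zero, U5_zero, U6_zero, U7_zero, U8_zero, mul_one, one_mul]
  rw [e, ← NF_U4 f t 0, rmul_1 f hff]
  refine NF_congr f ?_ ?_ ?_ ?_ ?_ ?_ ?_ ?_ ?_ ?_ ?_ ?_ <;>
    first | rfl | grind | (simp only [map_zero]; grind)

theorem sylabtwf4_rel4 (s t : K) :
    U6 f t 0 * U3 f s = U3 f s * (U4 f 0 (f s * f t) * U6 f t 0) := by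
  have e : U3 f s * (U4 f 0 (f s * f t) * U6 f t 0) = NF f 0 0 0 s 0 (f s * f t) 0 t 0 0 0 0 := by
    simp only [NF, U1_zero, U2_zero, U5_zero, U7_zero, U8_zero, mul_one, one_mul]
  rw [e, ← NF_U6 f t 0, rmul_3 f hff]
  refine NF_congr f ?_ ?_ ?_ ?_ ?_ ?_ ?_ ?_ ?_ ?_ ?_ ?_ <;>
    first | rfl | grind | (simp only [map_zero]; grind)

theorem sylabtwf4_rel6 (s t : K) :
    U8 f t 0 * U5 f s = U5 f s * (U6 f 0 (f s * f t) * U8 f t 0) := by
  have e : U5 f s * (U6 f 0 (f s * f t) * U8 f t 0) = NF f 0 0 0 0 0 0 s 0 (f s * f t) 0 t 0 := by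
    simp only [NF, U1_zero, U2_zero, U3_zero, U4_zero, U7_zero, mul_one, one_mul]
  rw [e, ← NF_U8 f t 0, rmul_5 f hff]
  refine NF_congr f ?_ ?_ ?_ ?_ ?_ ?_ ?_ ?_ ?_ ?_ ?_ ?_ <;>
    first | rfl | grind | (simp only [map_zero]; grind)

theorem sylabtwf4_rel8 (s t : K) :
    ⁅U8 f t 0, U8 f s 0⁆ = U8 f 0 (s * f t + t * f s) := by
  rw [commutatorElement_def, U8_inv f hff, U8_inv f hff, U8_mul f hff, U8_mul f hff, U8_mul f hff]
  congr 1
  · grind
  · simp only [map_add]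
    grind

theorem sylabtwf4_der2 (c : K) :
    U2 f 0 c ∈ ⁅Subgroup.closure (sylabtwf4_S f), Subgroup.closure (sylabtwf4_S f)⁆ := by
  have h := sylabtwf4_rel2 f hff 1 (f.symm c)
  rw [map_one, RingEquiv.apply_symm_apply, one_mul] at h
  rw [sylabtwf4_comm_of _ _ _ h]
  exact Subgroup.commutator_mem_commutator (inv_mem (sylabtwf4_mem1 f 1)) (sylabtwf4_mem4 f _ _)

theorem sylabtwf4_der4 (c : K) :
    U4 f 0 c ∈ ⁅Subgroup.closure (sylabtwf4_S f), Subgroup.closure (sylabtwf4_S f)⁆ := by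
  have h := sylabtwf4_rel4 f hff 1 (f.symm c)
  rw [map_one, RingEquiv.apply_symm_apply, one_mul] at h
  rw [sylabtwf4_comm_of _ _ _ h]
  exact Subgroup.commutator_mem_commutator (inv_mem (sylabtwf4_mem3 f 1)) (sylabtwf4_mem6 f _ _)

theorem sylabtwf4_der6 (c : K) :
    U6 f 0 c ∈ ⁅Subgroup.closure (sylabtwf4_S f), Subgroup.closure (sylabtwf4_S f)⁆ := by
  have h := sylabtwf4_rel6 f hff 1 (f.symm c)
  rw [map_one, RingEquiv.apply_symm_apply, one_mul] at h
  rw [sylabtwf4_comm_of _ _ _ h]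
  exact Subgroup.commutator_mem_commutator (inv_mem (sylabtwf4_mem5 f 1)) (sylabtwf4_mem8 f _ _)

theorem sylabtwf4_U8_add (c d : K) : U8 f 0 (c + d) = U8 f 0 c * U8 f 0 d := by
  rw [U8_mul f hff]
  congr 1
  · rw [add_zero]
  · rw [zero_mul, add_zero]

end char2

end main

section fin

variable {K : Type*} [Field K] [Fintype K] [CharP K 2] {m : ℕ} (hm : 1 ≤ m)
  (hK : Fintype.card K = 2 ^ (2 * m + 1))
  (hperf : ∀ x : K, ∃ y : K, y ^ 2 = x) (f : K ≃+* K) (hf : ∀ t, f t = t ^ (2 ^ m))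
include hK hf

include hm in
theorem sylabtwf4_der8 (c : K) :
    U8 f 0 c ∈ ⁅Subgroup.closure (sylabtwf4_S f), Subgroup.closure (sylabtwf4_S f)⁆ := by
  have hff := hff hK f hf
  set D : Subgroup (GL chevF4.Idx K) :=
    ⁅Subgroup.closure (sylabtwf4_S f), Subgroup.closure (sylabtwf4_S f)⁆ with hD
  let V : AddSubgroup K :=
    { carrier := {c | U8 f 0 c ∈ D}
      zero_mem' := by
        show U8 f 0 0 ∈ D
        rw [U8_zero]
        exact Subgroup.one_mem _
      add_mem' := by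
        intro a b ha hb
        show U8 f 0 (a + b) ∈ D
        rw [sylabtwf4_U8_add f hff]
        exact Subgroup.mul_mem _ ha hb
      neg_mem' := by
        intro a ha
        show U8 f 0 (-a) ∈ D
        rw [CharTwo.neg_eq]
        exact ha }
  have hV : ∀ s t : K, s * f t + t * f s ∈ V := by
    intro s t
    show U8 f 0 (s * f t + t * f s) ∈ D
    rw [← sylabtwf4_rel8 f hff]
    exact Subgroup.commutator_mem_commutator (sylabtwf4_mem8 f _ _) (sylabtwf4_mem8 f _ _)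
  exact sylabtwf4_span m hm hK f hf V hV c

include hperf in
theorem sylabtwf4_closure :
    Subgroup.closure (sylabtwf4_S f) = chevF4.posUnipotent K ⊓ twistedF4 K (2 ^ m) := by
  apply le_antisymm
  · rw [Subgroup.closure_le]
    rintro g (⟨t, rfl⟩ | ⟨t, u, rfl⟩ | ⟨t, rfl⟩ | ⟨t, u, rfl⟩ | ⟨t, rfl⟩ | ⟨t, u, rfl⟩ | ⟨t, rfl⟩ | ⟨t, u, rfl⟩)
    · exact Subgroup.mem_inf.2 ⟨U1_posU f t, U1_mem f hf t⟩
    · exact Subgroup.mem_inf.2 ⟨U2_posU f t u, U2_mem hK hperf f hf t u⟩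
    · exact Subgroup.mem_inf.2 ⟨U3_posU f t, U3_mem hK hperf f hf t⟩
    · exact Subgroup.mem_inf.2 ⟨U4_posU f t u, U4_mem hK hperf f hf t u⟩
    · exact Subgroup.mem_inf.2 ⟨U5_posU f t, U5_mem hK hperf f hf t⟩
    · exact Subgroup.mem_inf.2 ⟨U6_posU f t u, U6_mem hK hperf f hf t u⟩
    · exact Subgroup.mem_inf.2 ⟨U7_posU f t, U7_mem hK hperf f hf t⟩
    · exact Subgroup.mem_inf.2 ⟨U8_posU f t u, U8_mem f hf t u⟩
  · intro u hu
    obtain ⟨t1, t2, u2, t3, t4, u4, t5, t6, u6, t7, t8, u8, rfl⟩ := exists_NF hK hperf f hf u hu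
    exact mul_mem (sylabtwf4_mem1 f _) (mul_mem (sylabtwf4_mem2 f _ _) (mul_mem (sylabtwf4_mem3 f _)
      (mul_mem (sylabtwf4_mem4 f _ _) (mul_mem (sylabtwf4_mem5 f _) (mul_mem (sylabtwf4_mem6 f _ _)
      (mul_mem (sylabtwf4_mem7 f _) (sylabtwf4_mem8 f _ _)))))))

include hm in
theorem sylabtwf4_gen_sq (s : GL chevF4.Idx K) (hs : s ∈ sylabtwf4_S f) :
    s ^ 2 ∈ ⁅Subgroup.closure (sylabtwf4_S f), Subgroup.closure (sylabtwf4_S f)⁆ := by
  have hff := hff hK f hf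
  rcases hs with ⟨t, rfl⟩ | ⟨t, u, rfl⟩ | ⟨t, rfl⟩ | ⟨t, u, rfl⟩ | ⟨t, rfl⟩ | ⟨t, u, rfl⟩ | ⟨t, rfl⟩ | ⟨t, u, rfl⟩
  · rw [pow_two, U1_mul f hff, CharTwo.add_self_eq_zero, U1_zero]
    exact Subgroup.one_mem _
  · rw [pow_two, U2_mul f hff, CharTwo.add_self_eq_zero, CharTwo.add_self_eq_zero, zero_add]
    exact sylabtwf4_der2 f hff _
  · rw [pow_two, U3_mul f hff, CharTwo.add_self_eq_zero, U3_zero]
    exact Subgroup.one_mem _
  · rw [pow_two, U4_mul f hff, CharTwo.add_self_eq_zero, CharTwo.add_self_eq_zero, zero_add]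
    exact sylabtwf4_der4 f hff _
  · rw [pow_two, U5_mul f hff, CharTwo.add_self_eq_zero, U5_zero]
    exact Subgroup.one_mem _
  · rw [pow_two, U6_mul f hff, CharTwo.add_self_eq_zero, CharTwo.add_self_eq_zero, zero_add]
    exact sylabtwf4_der6 f hff _
  · rw [pow_two, U7_mul f hff, CharTwo.add_self_eq_zero, U7_zero]
    exact Subgroup.one_mem _
  · rw [pow_two, U8_mul f hff, CharTwo.add_self_eq_zero, CharTwo.add_self_eq_zero, zero_add]
    exact sylabtwf4_der8 hm hK f hf _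

include hm hperf in
theorem sylabtwf4_main : Good ↥(twistedF4 K (2 ^ m)) := by
  classical
  set q : ℕ := 2 ^ (2 * m + 1) with hq
  have hq0 : 0 < q := pow_pos (by norm_num) _
  have hev : Even q := (Nat.even_pow' (by omega)).2 even_two
  set G := twistedF4 K (2 ^ m) with hG
  set U := Subgroup.closure (sylabtwf4_S f) with hU
  have hUeq : U = chevF4.posUnipotent K ⊓ twistedF4 K (2 ^ m) := sylabtwf4_closure hK hperf f hf
  have hle : U ≤ G := by rw [hUeq]; exact inf_le_right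
  have hcardU0 : Nat.card U = 2 ^ ((2 * m + 1) * 12) := by
    rw [hUeq, F4.card_U hK hperf f hf, pow_mul]
  have hcardU : Nat.card (U.subgroupOf G) = 2 ^ ((2 * m + 1) * 12) := by
    rw [Nat.card_congr (Subgroup.subgroupOfEquivOfLe hle).toEquiv, hcardU0]
  have hcardG : Nat.card G = q ^ 12 * (q - 1) * (q ^ 3 + 1) * (q ^ 4 - 1) * (q ^ 6 + 1) :=
    F4.card_group hK hperf f hf
  have hP : IsPGroup 2 U := IsPGroup.of_card hcardU0
  have hidx : ¬ 2 ∣ (U.subgroupOf G).index := by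
    have h1 := Subgroup.card_mul_index (U.subgroupOf G)
    rw [hcardG, hcardU, pow_mul, ← hq, mul_assoc, mul_assoc, mul_assoc] at h1
    have h3 : (U.subgroupOf G).index = (q - 1) * ((q ^ 3 + 1) * ((q ^ 4 - 1) * (q ^ 6 + 1))) :=
      Nat.eq_of_mul_eq_mul_left (pow_pos hq0 12) h1
    rw [h3, ← even_iff_two_dvd, Nat.not_even_iff_odd]
    have o1 : Odd (q - 1) := by
      have := sylabtwf4_odd_pred_pow q 1 hev hq0 (by norm_num)
      rwa [pow_one] at this
    exact o1.mul ((sylabtwf4_odd_succ_pow q 3 hev (by norm_num)).mul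
      ((sylabtwf4_odd_pred_pow q 4 hev hq0 (by norm_num)).mul (sylabtwf4_odd_succ_pow q 6 hev (by norm_num))))
  exact sylabtwf4_good_subtype G U hle hP hidx
    (sq_mem_commutator_closure _ (sylabtwf4_gen_sq hm hK f hf))

end fin

/-- PIECE TWF4 -/
theorem good_twistedF4 (K : Type*) [Field K] [Fintype K] (m : ℕ) (hm : 1 ≤ m)
    (hK : Fintype.card K = 2 ^ (2 * m + 1)) : Good (Lie.twistedF4 K (2 ^ m)) := by
  obtain ⟨hc, hperf, f, hf⟩ := exists_ree_setup 2 Nat.prime_two m hK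
  haveI := hc
  exact sylabtwf4_main hm hK hperf f hf

end Cfsg.Agent.Helper14.SylAb
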