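import Mathlib
import Cfsg.Agent.Lib.Helper9.TC2Spor

set_option autoImplicit false

/-! Further consequences of the certificates, for a presented group which is not simple: the order
of an element from the permutations, the index of a normal closure from the order of the group with
one more relator, and the elements of prime power order of a normal subgroup of index prime to
the prime. -/

namespace Cfsg.Agent.Helper9.TC2

open Cfsg.Spor

section Comm

variable {α : Type} [DecidableEq α] {edges : List (α × ℕ × α)} {extra : List (FreeGroup α)}
  {S : Set (FreeGroup α)}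

/-- The index of the normal closure of `x` is at most the order of the group with the further
relator `x`. -/
theorem index_normalClosure_le (x : FreeGroup α) (m : ℕ)
    (hfin : Finite (PresentedGroup (relSet edges (extra ++ [x]))))
    (h : Nat.card (PresentedGroup (relSet edges (extra ++ [x]))) ≤ m) :
    (Subgroup.normalClosure
      ({PresentedGroup.mk (relSet edges extra) x} : Set (PresentedGroup (relSet edges extra)))).index
      ≤ m := by
  set M := Subgroup.normalClosure
    ({PresentedGroup.mk (relSet edges extra) x} : Set (PresentedGroup (relSet edges extra))) with hM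
  let π : PresentedGroup (relSet edges extra) →* PresentedGroup (relSet edges extra) ⧸ M :=
    QuotientGroup.mk' M
  let f : α → PresentedGroup (relSet edges extra) ⧸ M :=
    fun a => π (PresentedGroup.mk (relSet edges extra) (FreeGroup.of a))
  have e : FreeGroup.lift f = π.comp (PresentedGroup.mk (relSet edges extra)) := by
    apply FreeGroup.ext_hom
    intro a
    rw [FreeGroup.lift_apply_of, MonoidHom.comp_apply]
  have hrel : ∀ r ∈ relSet edges (extra ++ [x]), FreeGroup.lift f r = 1 := by
    intro r hr
    rw [e, MonoidHom.comp_apply]
    rcases hr with hr | hr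
    · have h1 : PresentedGroup.mk (relSet edges extra) r = 1 :=
        PresentedGroup.one_of_mem (x := r) (Or.inl hr)
      exact (QuotientGroup.eq_one_iff _).2 (h1 ▸ Subgroup.one_mem _)
    · have hr' : r ∈ extra ++ [x] := hr
      rcases List.mem_append.1 hr' with hr' | hr'
      · have h1 : PresentedGroup.mk (relSet edges extra) r = 1 :=
          PresentedGroup.one_of_mem (x := r) (Or.inr hr')
        exact (QuotientGroup.eq_one_iff _).2 (h1 ▸ Subgroup.one_mem _)
      · rw [List.mem_singleton] at hr'
        subst hr'
        exact (QuotientGroup.eq_one_iff _).2 (Subgroup.subset_normalClosure rfl)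
  let ψ : PresentedGroup (relSet edges (extra ++ [x])) →* PresentedGroup (relSet edges extra) ⧸ M :=
    PresentedGroup.toGroup hrel
  have hψ : Function.Surjective ψ := by
    intro q
    obtain ⟨g, rfl⟩ := QuotientGroup.mk_surjective q
    obtain ⟨r, rfl⟩ := PresentedGroup.mk_surjective _ g
    refine ⟨PresentedGroup.mk _ r, ?_⟩
    have : ψ.comp (PresentedGroup.mk (relSet edges (extra ++ [x]))) =
        π.comp (PresentedGroup.mk (relSet edges extra)) := by
      apply FreeGroup.ext_hom
      intro a
      rw [MonoidHom.comp_apply, MonoidHom.comp_apply]
      exact PresentedGroup.toGroup.of hrel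
    exact DFunLike.congr_fun this r
  rw [Subgroup.index_eq_card]
  exact (Nat.card_le_card_of_surjective ψ hψ).trans h

/-- With a faithful action, a word whose permutation has order dividing `N` gives an element of
order dividing `N`. -/
theorem CoxCert.mk_pow_eq_one (C : CoxCert edges extra S) (hker : C.phi.ker = ⊥)
    (x : FreeGroup α) (N : ℕ)
    (hx : ∀ i < C.D.n, (runT C.D (colWord C.cols x))^[N] i = i) :
    (PresentedGroup.mk (relSet edges extra) x) ^ N = 1 := by
  have h1 : (PresentedGroup.mk (relSet edges extra) x) ^ N ∈ C.phi.ker := by
    rw [MonoidHom.mem_ker, map_pow]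
    ext i
    rw [Equiv.Perm.one_apply, ← Equiv.Perm.iterate_eq_pow]
    by_cases hi : i < C.D.n
    · have hiter : ∀ N : ℕ, ∀ j < C.D.n,
          (⇑(C.phi (PresentedGroup.mk (relSet edges extra) x)))^[N] j =
            (runT C.D (colWord C.cols x))^[N] j ∧
            (runT C.D (colWord C.cols x))^[N] j < C.D.n := by
        intro N
        induction N with
        | zero => intro j hj; exact ⟨rfl, hj⟩
        | succ N ih =>
          intro j hj
          obtain ⟨e1, e2⟩ := C.phi_mk_apply x hj
          rw [Function.iterate_succ_apply, Function.iterate_succ_apply, e1]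
          exact ih _ e2
      rw [(hiter _ i hi).1]
      exact hx i hi
    · have hfix : ∀ N : ℕ,
          (⇑(C.phi (PresentedGroup.mk (relSet edges extra) x)))^[N] i = i := by
        intro N
        induction N with
        | zero => rfl
        | succ N ih =>
          rw [Function.iterate_succ_apply, C.phi_mk_apply_ge x (not_lt.1 hi)]
          exact ih
      exact hfix _
  rw [hker] at h1
  exact h1

/-- The kernel of the action is trivial when the subgroup has no nontrivial normal subgroup of the
whole group. -/
theorem CoxCert.ker_eq_bot (C : CoxCert edges extra S)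
    (hcore : ∀ N : Subgroup (PresentedGroup (relSet edges extra)), N.Normal →
      N ≤ coxH edges extra S → N = ⊥) : C.phi.ker = ⊥ := by
  apply hcore _ inferInstance
  intro g hg
  apply C.mem_of_phi_zero
  rw [MonoidHom.mem_ker.1 hg]
  rfl

end Comm

/-- An element of `p`-power order lies in every normal subgroup of index prime to `p`. -/
theorem mem_of_not_dvd_index {G : Type*} [Group G] [Finite G] (p : ℕ) [Fact p.Prime] (x : G)
    (m : ℕ) (hx : x ^ (p ^ m) = 1) (N : Subgroup G) [N.Normal] (hN : ¬ p ∣ N.index) : x ∈ N := by
  have hcop : Nat.Coprime (p ^ m) N.index :=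
    Nat.Coprime.pow_left m ((Nat.Prime.coprime_iff_not_dvd Fact.out).2 hN)
  have h1 : orderOf (QuotientGroup.mk (s := N) x) ∣ p ^ m := by
    apply orderOf_dvd_of_pow_eq_one
    rw [← QuotientGroup.mk_pow, hx, QuotientGroup.mk_one]
  have h2 : orderOf (QuotientGroup.mk (s := N) x) ∣ N.index := by
    rw [Subgroup.index_eq_card]
    exact orderOf_dvd_natCard _
  have h3 : orderOf (QuotientGroup.mk (s := N) x) = 1 :=
    Nat.eq_one_of_dvd_coprimes hcop h1 h2
  rw [orderOf_eq_one_iff] at h3
  exact (QuotientGroup.eq_one_iff x).1 h3

end Cfsg.Agent.Helper9.TC2
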