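import Mathlib
import Cfsg.Agent.Lib.Helper9.TC2Aux

set_option autoImplicit false

/-! A word of the table has order dividing 29: the permutations of the word and of its powers with
exponents 2, 4, 8, 16 are recorded as further columns. -/

namespace Cfsg.Agent.Helper9.TC2

/-- At the point `i`: the first further column acts as the word, every next column as the square of
the one before, and the product of the columns with exponents 16, 8, 4, 1 fixes the point. -/
noncomputable def chkXP (D : Tab) (xc : ℕ → ℕ → ℕ) (xw : List ℕ) (i : ℕ) : Bool :=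
  Nat.beq (xc 0 i) (runT D xw i) && (Nat.beq (xc 1 i) (xc 0 (xc 0 i)) &&
    (Nat.beq (xc 2 i) (xc 1 (xc 1 i)) && (Nat.beq (xc 3 i) (xc 2 (xc 2 i)) &&
      (Nat.beq (xc 4 i) (xc 3 (xc 3 i)) && Nat.beq (xc 4 (xc 3 (xc 2 (xc 0 i)))) i))))

theorem iterate_of_chkXP {D : Tab} (h : PermOK D) {xc : ℕ → ℕ → ℕ} {xw : List ℕ}
    (hw : ∀ c ∈ xw, c < D.k) (hchk : ∀ i < D.n, chkXP D xc xw i = true) :
    ∀ i < D.n, (runT D xw)^[29] i = i := by
  have hf : ∀ i < D.n, runT D xw i < D.n := fun i hi => runT_lt h xw hw hi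
  have hfm : ∀ m : ℕ, ∀ i < D.n, (runT D xw)^[m] i < D.n := by
    intro m
    induction m with
    | zero => intro i hi; exact hi
    | succ m ih =>
      intro i hi
      rw [Function.iterate_succ_apply']
      exact hf _ (ih i hi)
  have e : ∀ i < D.n, xc 0 i = runT D xw i ∧ xc 1 i = xc 0 (xc 0 i) ∧ xc 2 i = xc 1 (xc 1 i) ∧
      xc 3 i = xc 2 (xc 2 i) ∧ xc 4 i = xc 3 (xc 3 i) ∧ xc 4 (xc 3 (xc 2 (xc 0 i))) = i := by
    intro i hi
    have h1 := hchk i hi
    unfold chkXP at h1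
    simp only [Bool.and_eq_true] at h1
    obtain ⟨a0, a1, a2, a3, a4, a5⟩ := h1
    exact ⟨Nat.eq_of_beq_eq_true a0, Nat.eq_of_beq_eq_true a1, Nat.eq_of_beq_eq_true a2,
      Nat.eq_of_beq_eq_true a3, Nat.eq_of_beq_eq_true a4, Nat.eq_of_beq_eq_true a5⟩
  have e0 : ∀ i < D.n, xc 0 i = (runT D xw)^[1] i := fun i hi => (e i hi).1
  have e1 : ∀ i < D.n, xc 1 i = (runT D xw)^[2] i := by
    intro i hi
    rw [(e i hi).2.1, e0 i hi, e0 _ (hfm 1 i hi), ← Function.iterate_add_apply]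
  have e2 : ∀ i < D.n, xc 2 i = (runT D xw)^[4] i := by
    intro i hi
    rw [(e i hi).2.2.1, e1 i hi, e1 _ (hfm 2 i hi), ← Function.iterate_add_apply]
  have e3 : ∀ i < D.n, xc 3 i = (runT D xw)^[8] i := by
    intro i hi
    rw [(e i hi).2.2.2.1, e2 i hi, e2 _ (hfm 4 i hi), ← Function.iterate_add_apply]
  have e4 : ∀ i < D.n, xc 4 i = (runT D xw)^[16] i := by
    intro i hi
    rw [(e i hi).2.2.2.2.1, e3 i hi, e3 _ (hfm 8 i hi), ← Function.iterate_add_apply]
  intro i hi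
  have h5 := (e i hi).2.2.2.2.2
  rw [e0 i hi, e2 _ (hfm 1 i hi), e3 _ (hfm 4 _ (hfm 1 i hi)),
    e4 _ (hfm 8 _ (hfm 4 _ (hfm 1 i hi))), ← Function.iterate_add_apply,
    ← Function.iterate_add_apply, ← Function.iterate_add_apply] at h5
  exact h5

end Cfsg.Agent.Helper9.TC2
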