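import Mathlib

set_option autoImplicit false

/-! A checker for Todd–Coxeter coset enumeration logs, with a soundness proof.

Nodes are natural numbers; node `u > 0` is defined from its parent `pnode u < u` by the column
`pcol u`.  Entries `tgt c u` (with stamp `stp c u > 0`) assert `e c • co u = co (tgt c u)` and links
`lnk u` (with stamp `lstp u > 0`) assert `co u = co (lnk u)`.  Every fact carries a certificate
referring only to facts with smaller stamps. -/

namespace Cfsg.Agent.Helper9.TC

/-- The log of a coset enumeration. -/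
structure Data where
  k : ℕ
  inv : ℕ → ℕ
  N : ℕ
  n : ℕ
  Tmax : ℕ
  rels : List (List ℕ)
  subs : List (List ℕ)
  pnode : ℕ → ℕ
  pcol : ℕ → ℕ
  tgt : ℕ → ℕ → ℕ
  stp : ℕ → ℕ → ℕ
  cty : ℕ → ℕ → ℕ
  cA : ℕ → ℕ → ℕ
  cB : ℕ → ℕ → ℕ
  cC : ℕ → ℕ → ℕ
  lnk : ℕ → ℕ
  lstp : ℕ → ℕ
  lty : ℕ → ℕ
  lA : ℕ → ℕ
  lB : ℕ → ℕ
  lC : ℕ → ℕ
  cls : ℕ → ℕ
  rep : ℕ → ℕ
  tau : ℕ → ℕ → ℕ

/-- `0 < s < T` as a boolean. -/
def inRange (s T : ℕ) : Bool := Nat.blt 0 s && Nat.blt s T

theorem blt_iff {a b : ℕ} : Nat.blt a b = true ↔ a < b := by rw [Nat.blt_eq]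

theorem inRange_iff {s T : ℕ} : inRange s T = true ↔ 0 < s ∧ s < T := by
  unfold inRange
  rw [Bool.and_eq_true, Nat.blt_eq, Nat.blt_eq]

/-- Bounded universal quantifier as a boolean. -/
def allBelow (n : ℕ) (p : ℕ → Bool) : Bool :=
  Nat.rec (motive := fun _ => Bool) true (fun i ih => p i && ih) n

theorem allBelow_succ (n : ℕ) (p : ℕ → Bool) : allBelow (n + 1) p = (p n && allBelow n p) := rfl

theorem allBelow_iff {n : ℕ} {p : ℕ → Bool} : allBelow n p = true ↔ ∀ i < n, p i = true := by
  induction n with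
  | zero => exact ⟨fun _ i hi => absurd hi (Nat.not_lt_zero i), fun _ => rfl⟩
  | succ n ih =>
    rw [allBelow_succ, Bool.and_eq_true, ih]
    constructor
    · rintro ⟨h1, h2⟩ i hi
      rcases Nat.lt_succ_iff_lt_or_eq.1 hi with h | h
      · exact h2 i h
      · rw [h]; exact h1
    · intro h
      exact ⟨h n (Nat.lt_succ_self n), fun i hi => h i (Nat.lt_succ_of_lt hi)⟩

/-- Universal quantifier over a list as a boolean, evaluated from the head. -/
def allList {α : Type} (l : List α) (p : α → Bool) : Bool :=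
  List.rec (motive := fun _ => Bool) true (fun a _ ih => p a && ih) l

theorem allList_iff {α : Type} {l : List α} {p : α → Bool} :
    allList l p = true ↔ ∀ a ∈ l, p a = true := by
  induction l with
  | nil => exact ⟨fun _ a ha => absurd ha (List.not_mem_nil), fun _ => rfl⟩
  | cons a l ih =>
    have : allList (a :: l) p = (p a && allList l p) := rfl
    rw [this, Bool.and_eq_true, ih]
    simp

/-- Follow the links with stamp below `T`. -/
def norm (D : Data) (T : ℕ) (fuel : ℕ) : ℕ → ℕ :=
  Nat.rec (motive := fun _ => ℕ → ℕ) (fun u => u)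
    (fun _ ih u => bif inRange (D.lstp u) T then ih (D.lnk u) else u) fuel

theorem norm_zero (D : Data) (T u : ℕ) : norm D T 0 u = u := rfl

theorem norm_succ (D : Data) (T f u : ℕ) :
    norm D T (f + 1) u = bif inRange (D.lstp u) T then norm D T f (D.lnk u) else u := rfl

/-- One step of a walk: follow the entry of column `c` at node `a`. -/
def step (D : Data) (T c a : ℕ) : Option ℕ :=
  bif inRange (D.stp c a) T then some (norm D T D.N (D.tgt c a)) else none

/-- Walk along a word, from its right end. -/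
def walk (D : Data) (T : ℕ) (w : List ℕ) (s : ℕ) : Option ℕ :=
  List.rec (motive := fun _ => Option ℕ) (some (norm D T D.N s))
    (fun c _ ih => Option.bind ih (step D T c)) w

theorem walk_nil (D : Data) (T s : ℕ) : walk D T [] s = some (norm D T D.N s) := rfl

theorem walk_cons (D : Data) (T c : ℕ) (w : List ℕ) (s : ℕ) :
    walk D T (c :: w) s = Option.bind (walk D T w s) (step D T c) := rfl

/-- Walk backwards along a word from its left end, from the node `a`. -/
def walkInvFrom (D : Data) (T : ℕ) (w : List ℕ) : ℕ → Option ℕ :=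
  List.rec (motive := fun _ => ℕ → Option ℕ) (fun a => some a)
    (fun c _ ih a => Option.bind (step D T (D.inv c) a) ih) w

theorem walkInvFrom_nil (D : Data) (T a : ℕ) : walkInvFrom D T [] a = some a := rfl

theorem walkInvFrom_cons (D : Data) (T c : ℕ) (w : List ℕ) (a : ℕ) :
    walkInvFrom D T (c :: w) a = Option.bind (step D T (D.inv c) a) (walkInvFrom D T w) := rfl

/-- Walk backwards along a word from its left end. -/
def walkInv (D : Data) (T : ℕ) (w : List ℕ) (s : ℕ) : Option ℕ :=
  walkInvFrom D T w (norm D T D.N s)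

/-- The word of index `r`: a relator, or a subgroup generator (only at the base node). -/
def getWord (D : Data) (r s : ℕ) : List ℕ :=
  bif Nat.blt r D.rels.length then D.rels.getD r []
  else bif Nat.beq s 0 then D.subs.getD (r - D.rels.length) [] else []

/-- Comparison of an optional node with a node. -/
def isNode (o : Option ℕ) (u : ℕ) : Bool :=
  match o with
  | some a => Nat.beq a u
  | none => false

theorem isNode_iff {o : Option ℕ} {u : ℕ} : isNode o u = true ↔ o = some u := by
  cases o with
  | none => simp [isNode]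
  | some a => simp [isNode]

/-- The two nodes `x`, `y` are the nodes `u`, `z` in some order. -/
def isPair (x y u z : ℕ) : Bool :=
  (Nat.beq x u && Nat.beq y z) || (Nat.beq x z && Nat.beq y u)

theorem isPair_iff {x y u z : ℕ} :
    isPair x y u z = true ↔ (x = u ∧ y = z) ∨ (x = z ∧ y = u) := by
  simp [isPair]

/-- The check of the entry of column `c` at node `u`. -/
def chkE (D : Data) (c u : ℕ) : Bool :=
  bif Nat.beq (D.stp c u) 0 then true else
  bif Nat.beq (D.cty c u) 0 then
    Nat.beq (D.pnode (D.tgt c u)) u && Nat.beq (D.pcol (D.tgt c u)) c && Nat.blt u (D.tgt c u)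
  else bif Nat.beq (D.cty c u) 1 then
    Nat.beq ((getWord D (D.cA c u) (D.cB c u)).getD (D.cC c u) D.k) c &&
    isNode (walk D (D.stp c u) ((getWord D (D.cA c u) (D.cB c u)).drop (D.cC c u + 1)) (D.cB c u)) u &&
    isNode (walkInv D (D.stp c u) ((getWord D (D.cA c u) (D.cB c u)).take (D.cC c u)) (D.cB c u))
      (D.tgt c u)
  else bif Nat.beq (D.cty c u) 2 then
    inRange (D.stp (D.inv c) (D.tgt c u)) (D.stp c u) && Nat.beq (D.tgt (D.inv c) (D.tgt c u)) u
  else bif Nat.beq (D.cty c u) 3 then
    inRange (D.stp c (D.cA c u)) (D.stp c u) &&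
    Nat.beq (norm D (D.stp c u) D.N (D.cA c u)) u &&
    Nat.beq (norm D (D.stp c u) D.N (D.tgt c (D.cA c u))) (D.tgt c u)
  else false

/-- The check of the link at node `u`. -/
def chkL (D : Data) (u : ℕ) : Bool :=
  bif Nat.beq (D.lstp u) 0 then true else
  bif Nat.beq (D.lty u) 0 then
    match walk D (D.lstp u) ((getWord D (D.lA u) (D.lB u)).drop (D.lC u)) (D.lB u),
      walkInv D (D.lstp u) ((getWord D (D.lA u) (D.lB u)).take (D.lC u)) (D.lB u) with
    | some a, some b => isPair a b u (D.lnk u)
    | _, _ => false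
  else bif Nat.beq (D.lty u) 1 then
    Nat.blt (D.lC u) D.k &&
    inRange (D.stp (D.lC u) (D.lA u)) (D.lstp u) && inRange (D.stp (D.lC u) (D.lB u)) (D.lstp u) &&
    Nat.beq (norm D (D.lstp u) D.N (D.lA u)) (norm D (D.lstp u) D.N (D.lB u)) &&
    isPair (norm D (D.lstp u) D.N (D.tgt (D.lC u) (D.lA u)))
      (norm D (D.lstp u) D.N (D.tgt (D.lC u) (D.lB u))) u (D.lnk u)
  else bif Nat.beq (D.lty u) 2 then
    Nat.blt (D.lC u) D.k &&
    inRange (D.stp (D.lC u) (D.lA u)) (D.lstp u) &&
    inRange (D.stp (D.inv (D.lC u)) (D.lB u)) (D.lstp u) &&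
    Nat.beq (norm D (D.lstp u) D.N (D.tgt (D.lC u) (D.lA u))) (norm D (D.lstp u) D.N (D.lB u)) &&
    isPair (norm D (D.lstp u) D.N (D.lA u))
      (norm D (D.lstp u) D.N (D.tgt (D.inv (D.lC u)) (D.lB u))) u (D.lnk u)
  else false

/-- All letters of all words are columns, and the inverse of a column is a column. -/
def chkWords (D : Data) : Bool :=
  allList (D.rels ++ D.subs) (fun w => allList w (fun c => Nat.blt c D.k)) &&
  allBelow D.k (fun c => Nat.blt (D.inv c) D.k)

/-- The check of the whole log. -/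
def chkLog (D : Data) : Bool :=
  chkWords D &&
  allBelow D.k (fun c => allBelow D.N (fun u => chkE D c u)) &&
  allBelow D.N (fun u => chkL D u)


/-- The final table: the classes are closed under the columns. -/
def chkFinal (D : Data) : Bool :=
  Nat.beq (D.rep 0) 0 &&
  allBelow D.n (fun i => allBelow D.k (fun c =>
    inRange (D.stp c (D.rep i)) D.Tmax && Nat.blt (D.tau c i) D.n &&
    Nat.beq (norm D D.Tmax D.N (D.tgt c (D.rep i))) (D.rep (D.tau c i))))

/-- The classes of the nodes follow the table. -/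
def chkCls (D : Data) : Bool :=
  allBelow D.N (fun u =>
    bif Nat.blt (D.pnode u) u then
      Nat.blt (D.pcol u) D.k && Nat.blt (D.cls (D.pnode u)) D.n &&
      Nat.beq (D.cls u) (D.tau (D.pcol u) (D.cls (D.pnode u)))
    else Nat.beq (D.cls u) 0) &&
  allBelow D.n (fun i => Nat.blt (D.rep i) D.N && Nat.beq (D.cls (D.rep i)) i)

/-! ### Soundness -/

section Sound

variable {G : Type*} [Group G]

/-- An interpretation of the columns in a group, relative to a subgroup. -/
structure Interp (H : Subgroup G) (D : Data) where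
  e : ℕ → G
  e_inv : ∀ c < D.k, e (D.inv c) = (e c)⁻¹
  rel : ∀ w ∈ D.rels, (w.map e).prod = 1
  sub : ∀ w ∈ D.subs, (w.map e).prod ∈ H

variable {H : Subgroup G} {D : Data} (I : Interp H D)

/-- The group element of a node. -/
noncomputable def ge : ℕ → G
  | u => if h : D.pnode u < u then I.e (D.pcol u) * ge (D.pnode u) else 1
termination_by u => u

theorem ge_of_lt {u : ℕ} (h : D.pnode u < u) :
    ge I u = I.e (D.pcol u) * ge I (D.pnode u) := by
  rw [ge, dif_pos h]

theorem ge_of_not_lt {u : ℕ} (h : ¬ D.pnode u < u) : ge I u = 1 := by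
  rw [ge, dif_neg h]

/-- The coset of a node. -/
noncomputable def co (u : ℕ) : G ⧸ H := ((ge I u : G) : G ⧸ H)

theorem co_of_lt {u : ℕ} (h : D.pnode u < u) :
    co I u = I.e (D.pcol u) • co I (D.pnode u) := by
  unfold co
  rw [ge_of_lt I h]
  rfl

theorem co_zero : co I 0 = ((1 : G) : G ⧸ H) := by
  unfold co
  rw [ge_of_not_lt I (Nat.not_lt_zero _)]

/-- The action of a word on a coset. -/
noncomputable def act (w : List ℕ) (q : G ⧸ H) : G ⧸ H := (w.map I.e).prod • q

theorem act_nil (q : G ⧸ H) : act I [] q = q := by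
  unfold act; simp

theorem act_cons (c : ℕ) (w : List ℕ) (q : G ⧸ H) : act I (c :: w) q = I.e c • act I w q := by
  unfold act; rw [List.map_cons, List.prod_cons, mul_smul]

theorem act_append (w₁ w₂ : List ℕ) (q : G ⧸ H) :
    act I (w₁ ++ w₂) q = act I w₁ (act I w₂ q) := by
  unfold act; rw [List.map_append, List.prod_append, mul_smul]

theorem act_injective (w : List ℕ) {q q' : G ⧸ H} (h : act I w q = act I w q') : q = q' :=
  MulAction.injective _ h

/-- All facts with stamp below `T` hold. -/
def Valid (T : ℕ) : Prop :=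
  (∀ c u, 0 < D.stp c u → D.stp c u < T → I.e c • co I u = co I (D.tgt c u)) ∧
  (∀ u, 0 < D.lstp u → D.lstp u < T → co I u = co I (D.lnk u))

variable {I}

theorem norm_sound {T : ℕ} (hV : Valid I T) (f u : ℕ) : co I (norm D T f u) = co I u := by
  induction f generalizing u with
  | zero => rfl
  | succ f ih =>
    rw [norm_succ]
    cases h : inRange (D.lstp u) T with
    | false => rfl
    | true =>
      obtain ⟨h1, h2⟩ := inRange_iff.1 h
      rw [cond_true, ih, ← hV.2 u h1 h2]

theorem step_sound {T c a b : ℕ} (hV : Valid I T) (h : step D T c a = some b) :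
    I.e c • co I a = co I b := by
  unfold step at h
  cases h' : inRange (D.stp c a) T with
  | false => rw [h'] at h; simp at h
  | true =>
    rw [h'] at h
    obtain ⟨h1, h2⟩ := inRange_iff.1 h'
    have hb : norm D T D.N (D.tgt c a) = b := by simpa using h
    rw [← hb, norm_sound hV, hV.1 c a h1 h2]

theorem walk_sound {T : ℕ} (hV : Valid I T) (w : List ℕ) (s : ℕ) {a : ℕ}
    (h : walk D T w s = some a) : co I a = act I w (co I s) := by
  induction w generalizing a with
  | nil =>
    rw [walk_nil] at h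
    have : norm D T D.N s = a := by simpa using h
    rw [← this, norm_sound hV, act_nil]
  | cons c w ih =>
    rw [walk_cons] at h
    obtain ⟨a', ha', hs⟩ := Option.bind_eq_some_iff.1 h
    rw [act_cons, ← ih ha', step_sound hV hs]

theorem walkInvFrom_sound {T : ℕ} (hV : Valid I T) (w : List ℕ) (hw : ∀ c ∈ w, c < D.k)
    {a b : ℕ} (h : walkInvFrom D T w a = some b) : co I a = act I w (co I b) := by
  induction w generalizing a with
  | nil =>
    rw [walkInvFrom_nil] at h
    have : a = b := by simpa using h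
    rw [this, act_nil]
  | cons c w ih =>
    rw [walkInvFrom_cons] at h
    obtain ⟨a', ha', hs⟩ := Option.bind_eq_some_iff.1 h
    have h1 := step_sound hV ha'
    rw [I.e_inv c (hw c (List.mem_cons_self))] at h1
    have h2 := ih (fun c' hc' => hw c' (List.mem_cons_of_mem _ hc')) hs
    rw [act_cons, ← h2, ← h1, smul_inv_smul]

theorem walkInv_sound {T : ℕ} (hV : Valid I T) (w : List ℕ) (hw : ∀ c ∈ w, c < D.k)
    {s b : ℕ} (h : walkInv D T w s = some b) : co I s = act I w (co I b) := by
  unfold walkInv at h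
  rw [← walkInvFrom_sound hV w hw h, norm_sound hV]


theorem getD_mem_or_nil (l : List (List ℕ)) (i : ℕ) : l.getD i [] ∈ l ∨ l.getD i [] = [] := by
  by_cases h : i < l.length
  · left
    rw [List.getD_eq_getElem _ _ h]
    exact List.getElem_mem h
  · right
    rw [List.getD_eq_default _ _ (not_lt.1 h)]

theorem getWord_cases (D : Data) (r s : ℕ) :
    getWord D r s ∈ D.rels ∨ (s = 0 ∧ getWord D r s ∈ D.subs) ∨ getWord D r s = [] := by
  unfold getWord
  cases h1 : Nat.blt r D.rels.length with
  | true =>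
    rw [cond_true]
    rcases getD_mem_or_nil D.rels r with h | h
    · exact Or.inl h
    · exact Or.inr (Or.inr h)
  | false =>
    rw [cond_false]
    cases h2 : Nat.beq s 0 with
    | true =>
      rw [cond_true]
      have hs : s = 0 := Nat.eq_of_beq_eq_true h2
      rcases getD_mem_or_nil D.subs (r - D.rels.length) with h | h
      · exact Or.inr (Or.inl ⟨hs, h⟩)
      · exact Or.inr (Or.inr h)
    | false =>
      rw [cond_false]
      exact Or.inr (Or.inr rfl)

theorem getWord_act (I : Interp H D) (r s : ℕ) :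
    act I (getWord D r s) (co I s) = co I s := by
  rcases getWord_cases D r s with h | ⟨hs, h⟩ | h
  · unfold act
    rw [I.rel _ h, one_smul]
  · unfold act
    rw [hs, co_zero]
    have hm := I.sub _ h
    show (((getWord D r 0).map I.e).prod • ((1 : G) : G ⧸ H)) = ((1 : G) : G ⧸ H)
    rw [hs] at hm
    rw [MulAction.Quotient.smul_mk, QuotientGroup.eq]
    simpa using H.inv_mem hm
  · rw [h, act_nil]

theorem getWord_lt (hw : chkWords D = true) (r s : ℕ) : ∀ c ∈ getWord D r s, c < D.k := by
  unfold chkWords at hw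
  rw [Bool.and_eq_true, allList_iff] at hw
  have h1 := hw.1
  intro c hc
  rcases getWord_cases D r s with h | ⟨_, h⟩ | h
  · have := allList_iff.1 (h1 _ (List.mem_append_left _ h)) c hc
    exact blt_iff.1 this
  · have := allList_iff.1 (h1 _ (List.mem_append_right _ h)) c hc
    exact blt_iff.1 this
  · rw [h] at hc
    exact absurd hc List.not_mem_nil

theorem inv_lt (hw : chkWords D = true) {c : ℕ} (hc : c < D.k) : D.inv c < D.k := by
  unfold chkWords at hw
  rw [Bool.and_eq_true, allBelow_iff] at hw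
  exact blt_iff.1 (hw.2 c hc)

theorem split_at {wd : List ℕ} {m c k : ℕ} (hc : c < k) (h : wd.getD m k = c) :
    wd = wd.take m ++ c :: wd.drop (m + 1) := by
  by_cases hm : m < wd.length
  · rw [List.getD_eq_getElem _ _ hm] at h
    rw [← h, ← List.drop_eq_getElem_cons hm, List.take_append_drop]
  · rw [List.getD_eq_default _ _ (not_lt.1 hm)] at h
    omega

/-- A scan with one gap. -/
theorem scan_gap {T : ℕ} (hV : Valid I T) (hw : chkWords D = true) {r s m c u w : ℕ}
    (hc : c < D.k) (hget : (getWord D r s).getD m D.k = c)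
    (h1 : walk D T ((getWord D r s).drop (m + 1)) s = some u)
    (h2 : walkInv D T ((getWord D r s).take m) s = some w) :
    I.e c • co I u = co I w := by
  have hsplit := split_at hc hget
  have hact := getWord_act I r s
  rw [hsplit, act_append, act_cons] at hact
  have hlt := getWord_lt hw r s
  have e1 := walk_sound hV _ _ h1
  have e2 := walkInv_sound hV _ (fun c' hc' => hlt c' (List.mem_of_mem_take hc')) h2
  rw [← e1] at hact
  rw [e2] at hact
  exact act_injective I _ hact

/-- A scan without a gap. -/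
theorem scan_nogap {T : ℕ} (hV : Valid I T) (hw : chkWords D = true) {r s m a b : ℕ}
    (h1 : walk D T ((getWord D r s).drop m) s = some a)
    (h2 : walkInv D T ((getWord D r s).take m) s = some b) :
    co I a = co I b := by
  have hact := getWord_act I r s
  rw [← List.take_append_drop m (getWord D r s), act_append] at hact
  have hlt := getWord_lt hw r s
  have e1 := walk_sound hV _ _ h1
  have e2 := walkInv_sound hV _ (fun c' hc' => hlt c' (List.mem_of_mem_take hc')) h2
  rw [← e1] at hact
  rw [e2] at hact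
  exact act_injective I _ hact

theorem chkE_sound {T : ℕ} (hV : Valid I T) (hw : chkWords D = true) {c u : ℕ} (hc : c < D.k)
    (hT : D.stp c u = T) (hpos : 0 < D.stp c u) (h : chkE D c u = true) :
    I.e c • co I u = co I (D.tgt c u) := by
  unfold chkE at h
  have h0 : Nat.beq (D.stp c u) 0 = false := by
    cases hb : Nat.beq (D.stp c u) 0 with
    | false => rfl
    | true => have := Nat.eq_of_beq_eq_true hb; omega
  rw [h0, cond_false, hT] at h
  cases t0 : Nat.beq (D.cty c u) 0 with
  | true =>
    rw [t0, cond_true, Bool.and_eq_true, Bool.and_eq_true] at h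
    obtain ⟨⟨h1, h2⟩, h3⟩ := h
    have h1' := Nat.eq_of_beq_eq_true h1
    have h2' := Nat.eq_of_beq_eq_true h2
    have h3' := blt_iff.1 h3
    have hlt : D.pnode (D.tgt c u) < D.tgt c u := by rw [h1']; exact h3'
    rw [co_of_lt I hlt, h1', h2']
  | false =>
    rw [t0, cond_false] at h
    cases t1 : Nat.beq (D.cty c u) 1 with
    | true =>
      rw [t1, cond_true, Bool.and_eq_true, Bool.and_eq_true] at h
      obtain ⟨⟨h1, h2⟩, h3⟩ := h
      exact scan_gap hV hw hc (Nat.eq_of_beq_eq_true h1) (isNode_iff.1 h2) (isNode_iff.1 h3)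
    | false =>
      rw [t1, cond_false] at h
      cases t2 : Nat.beq (D.cty c u) 2 with
      | true =>
        rw [t2, cond_true, Bool.and_eq_true] at h
        obtain ⟨h1, h2⟩ := h
        obtain ⟨h1a, h1b⟩ := inRange_iff.1 h1
        have h2' := Nat.eq_of_beq_eq_true h2
        have := hV.1 _ _ h1a h1b
        rw [I.e_inv c hc, h2'] at this
        rw [← this, smul_inv_smul]
      | false =>
        rw [t2, cond_false] at h
        cases t3 : Nat.beq (D.cty c u) 3 with
        | true =>
          rw [t3, cond_true, Bool.and_eq_true, Bool.and_eq_true] at h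
          obtain ⟨⟨h1, h2⟩, h3⟩ := h
          obtain ⟨h1a, h1b⟩ := inRange_iff.1 h1
          have h2' := Nat.eq_of_beq_eq_true h2
          have h3' := Nat.eq_of_beq_eq_true h3
          have e1 := hV.1 _ _ h1a h1b
          have e2 := norm_sound hV D.N (D.cA c u)
          have e3 := norm_sound hV D.N (D.tgt c (D.cA c u))
          rw [h2'] at e2
          rw [h3'] at e3
          rw [e2, e1, e3]
        | false =>
          rw [t3, cond_false] at h
          exact absurd h (by simp)


theorem co_eq_of_isPair {x y u z : ℕ} (h : isPair x y u z = true) (hxy : co I x = co I y) :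
    co I u = co I z := by
  rcases isPair_iff.1 h with ⟨h1, h2⟩ | ⟨h1, h2⟩
  · rw [← h1, ← h2, hxy]
  · rw [← h1, ← h2, hxy]

theorem chkL_sound {T : ℕ} (hV : Valid I T) (hw : chkWords D = true) {u : ℕ}
    (hT : D.lstp u = T) (hpos : 0 < D.lstp u) (h : chkL D u = true) :
    co I u = co I (D.lnk u) := by
  unfold chkL at h
  have h0 : Nat.beq (D.lstp u) 0 = false := by
    cases hb : Nat.beq (D.lstp u) 0 with
    | false => rfl
    | true => have := Nat.eq_of_beq_eq_true hb; omega
  rw [h0, cond_false, hT] at h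
  cases t0 : Nat.beq (D.lty u) 0 with
  | true =>
    rw [t0, cond_true] at h
    cases h1 : walk D T ((getWord D (D.lA u) (D.lB u)).drop (D.lC u)) (D.lB u) with
    | none => rw [h1] at h; simp at h
    | some a =>
      cases h2 : walkInv D T ((getWord D (D.lA u) (D.lB u)).take (D.lC u)) (D.lB u) with
      | none => rw [h1, h2] at h; simp at h
      | some b =>
        rw [h1, h2] at h
        exact co_eq_of_isPair h (scan_nogap hV hw h1 h2)
  | false =>
    rw [t0, cond_false] at h
    cases t1 : Nat.beq (D.lty u) 1 with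
    | true =>
      rw [t1, cond_true] at h
      simp only [Bool.and_eq_true] at h
      obtain ⟨⟨⟨⟨_, h2⟩, h3⟩, h4⟩, h5⟩ := h
      obtain ⟨h2a, h2b⟩ := inRange_iff.1 h2
      obtain ⟨h3a, h3b⟩ := inRange_iff.1 h3
      have h4' := Nat.eq_of_beq_eq_true h4
      have e1 := hV.1 _ _ h2a h2b
      have e2 := hV.1 _ _ h3a h3b
      have e3 : co I (D.lA u) = co I (D.lB u) := by
        rw [← norm_sound hV D.N (D.lA u), h4', norm_sound hV]
      apply co_eq_of_isPair h5
      rw [norm_sound hV, norm_sound hV, ← e1, ← e2, e3]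
    | false =>
      rw [t1, cond_false] at h
      cases t2 : Nat.beq (D.lty u) 2 with
      | true =>
        rw [t2, cond_true] at h
        simp only [Bool.and_eq_true] at h
        obtain ⟨⟨⟨⟨h1, h2⟩, h3⟩, h4⟩, h5⟩ := h
        have hg := blt_iff.1 h1
        obtain ⟨h2a, h2b⟩ := inRange_iff.1 h2
        obtain ⟨h3a, h3b⟩ := inRange_iff.1 h3
        have h4' := Nat.eq_of_beq_eq_true h4
        have e1 := hV.1 _ _ h2a h2b
        have e2 := hV.1 _ _ h3a h3b
        have e3 : co I (D.tgt (D.lC u) (D.lA u)) = co I (D.lB u) := by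
          rw [← norm_sound hV D.N (D.tgt (D.lC u) (D.lA u)), h4', norm_sound hV]
        apply co_eq_of_isPair h5
        rw [norm_sound hV, norm_sound hV, ← e2, ← e3, ← e1, I.e_inv _ hg, inv_smul_smul]
      | false =>
        rw [t2, cond_false] at h
        exact absurd h (by simp)

/-- All facts of a checked log hold. -/
theorem valid_of_chkLog (I : Interp H D) (hz1 : ∀ c u, 0 < D.stp c u → c < D.k ∧ u < D.N)
    (hz2 : ∀ u, 0 < D.lstp u → u < D.N) (h : chkLog D = true) : ∀ T, Valid I T := by
  unfold chkLog at h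
  rw [Bool.and_eq_true, Bool.and_eq_true] at h
  obtain ⟨⟨hw, hE⟩, hL⟩ := h
  rw [allBelow_iff] at hE hL
  intro T
  induction T with
  | zero => exact ⟨fun c u _ h => absurd h (Nat.not_lt_zero _), fun u _ h => absurd h (Nat.not_lt_zero _)⟩
  | succ T ih =>
    constructor
    · intro c u hpos hlt
      rcases Nat.lt_succ_iff_lt_or_eq.1 hlt with hlt' | heq
      · exact ih.1 c u hpos hlt'
      · obtain ⟨hc, hu⟩ := hz1 c u hpos
        have := allBelow_iff.1 (hE c hc) u hu
        exact chkE_sound ih hw hc heq hpos this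
    · intro u hpos hlt
      rcases Nat.lt_succ_iff_lt_or_eq.1 hlt with hlt' | heq
      · exact ih.2 u hpos hlt'
      · exact chkL_sound ih hw heq hpos (hL u (hz2 u hpos))


/-- The final table describes the action on the cosets of the representatives. -/
theorem final_sound (I : Interp H D) (hV : Valid I D.Tmax) (h : chkFinal D = true) :
    D.rep 0 = 0 ∧ ∀ i < D.n, ∀ c < D.k,
      D.tau c i < D.n ∧ I.e c • co I (D.rep i) = co I (D.rep (D.tau c i)) := by
  unfold chkFinal at h
  rw [Bool.and_eq_true, allBelow_iff] at h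
  refine ⟨Nat.eq_of_beq_eq_true h.1, fun i hi c hc => ?_⟩
  have h1 := allBelow_iff.1 (h.2 i hi) c hc
  rw [Bool.and_eq_true, Bool.and_eq_true] at h1
  obtain ⟨⟨h2, h3⟩, h4⟩ := h1
  obtain ⟨h2a, h2b⟩ := inRange_iff.1 h2
  refine ⟨blt_iff.1 h3, ?_⟩
  rw [hV.1 _ _ h2a h2b, ← norm_sound hV D.N, Nat.eq_of_beq_eq_true h4]

/-- Every coset is the coset of a representative. -/
theorem exists_rep (I : Interp H D) (hw : chkWords D = true)
    (hgen : Subgroup.closure {g : G | ∃ c < D.k, g = I.e c} = ⊤)
    (hfin : D.rep 0 = 0 ∧ ∀ i < D.n, ∀ c < D.k,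
      D.tau c i < D.n ∧ I.e c • co I (D.rep i) = co I (D.rep (D.tau c i)))
    (hn : 0 < D.n) (q : G ⧸ H) : ∃ i < D.n, q = co I (D.rep i) := by
  let P : G → Prop := fun g => ∀ i < D.n, ∃ j < D.n, g • co I (D.rep i) = co I (D.rep j)
  have hP1 : P 1 := fun i hi => ⟨i, hi, one_smul _ _⟩
  have hPmul : ∀ g h, P g → P h → P (g * h) := by
    intro g h hg hh i hi
    obtain ⟨j, hj, e1⟩ := hh i hi
    obtain ⟨l, hl, e2⟩ := hg j hj
    exact ⟨l, hl, by rw [mul_smul, e1, e2]⟩
  let K : Subgroup G :=
    { carrier := {g | P g ∧ P g⁻¹}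
      one_mem' := ⟨hP1, by rw [inv_one]; exact hP1⟩
      mul_mem' := fun {a b} ha hb => ⟨hPmul a b ha.1 hb.1, by
        rw [mul_inv_rev]; exact hPmul _ _ hb.2 ha.2⟩
      inv_mem' := fun {a} ha => ⟨ha.2, by rw [inv_inv]; exact ha.1⟩ }
  have hK : K = ⊤ := by
    rw [eq_top_iff, ← hgen, Subgroup.closure_le]
    rintro g ⟨c, hc, rfl⟩
    refine ⟨fun i hi => ⟨D.tau c i, (hfin.2 i hi c hc).1, (hfin.2 i hi c hc).2⟩, ?_⟩
    rw [← I.e_inv c hc]
    have hc' := inv_lt hw hc
    exact fun i hi => ⟨D.tau (D.inv c) i, (hfin.2 i hi _ hc').1, (hfin.2 i hi _ hc').2⟩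
  obtain ⟨g, rfl⟩ := QuotientGroup.mk_surjective q
  have hg : g ∈ K := by rw [hK]; exact Subgroup.mem_top g
  obtain ⟨j, hj, e⟩ := hg.1 0 hn
  refine ⟨j, hj, ?_⟩
  rw [← e, hfin.1, co_zero, MulAction.Quotient.smul_mk, smul_eq_mul, mul_one]

/-- A permutation model of the table. -/
structure Model (I : Interp H D) where
  Ω : Type
  φ : G →* Equiv.Perm Ω
  ω : ℕ → Ω
  ω_inj : ∀ i < D.n, ∀ j < D.n, ω i = ω j → i = j
  φ_e : ∀ c < D.k, ∀ i < D.n, φ (I.e c) (ω i) = ω (D.tau c i)
  φ_H : ∀ h ∈ H, φ h (ω 0) = ω 0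

theorem model_ge (I : Interp H D) (M : Model I) (h : chkCls D = true) :
    ∀ u < D.N, M.φ (ge I u) (M.ω 0) = M.ω (D.cls u) := by
  unfold chkCls at h
  rw [Bool.and_eq_true, allBelow_iff] at h
  have h1 := h.1
  intro u
  induction u using Nat.strong_induction_on with
  | _ u ih =>
    intro hu
    have h2 := h1 u hu
    cases hb : Nat.blt (D.pnode u) u with
    | true =>
      rw [hb, cond_true, Bool.and_eq_true, Bool.and_eq_true] at h2
      obtain ⟨⟨h3, h4⟩, h5⟩ := h2
      have hlt := blt_iff.1 hb
      have hc := blt_iff.1 h3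
      have hcl := blt_iff.1 h4
      have h5' := Nat.eq_of_beq_eq_true h5
      rw [ge_of_lt I hlt, map_mul, Equiv.Perm.mul_apply, ih _ hlt (hlt.trans hu),
        M.φ_e _ hc _ hcl, h5']
    | false =>
      rw [hb, cond_false] at h2
      have h2' := Nat.eq_of_beq_eq_true h2
      have hnlt : ¬ D.pnode u < u := by
        intro hlt
        rw [blt_iff.2 hlt] at hb
        exact absurd hb (by simp)
      rw [ge_of_not_lt I hnlt, map_one, h2']
      rfl

theorem model_rep (I : Interp H D) (M : Model I) (h : chkCls D = true) :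
    ∀ i < D.n, M.φ (ge I (D.rep i)) (M.ω 0) = M.ω i := by
  intro i hi
  have h' := h
  unfold chkCls at h'
  rw [Bool.and_eq_true, allBelow_iff, allBelow_iff] at h'
  have h2 := h'.2 i hi
  rw [Bool.and_eq_true] at h2
  rw [model_ge I M h _ (blt_iff.1 h2.1), Nat.eq_of_beq_eq_true h2.2]

/-- The value of the model at a coset. -/
noncomputable def modelMap (I : Interp H D) (M : Model I) : G ⧸ H → M.Ω :=
  Quotient.lift (fun g : G => M.φ g (M.ω 0)) (by
    intro a b hab
    have hab' : a⁻¹ * b ∈ H := QuotientGroup.leftRel_apply.1 hab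
    have := M.φ_H _ hab'
    show M.φ a (M.ω 0) = M.φ b (M.ω 0)
    have e : b = a * (a⁻¹ * b) := by group
    rw [e, map_mul, Equiv.Perm.mul_apply, this])

theorem modelMap_mk (I : Interp H D) (M : Model I) (g : G) :
    modelMap I M ((g : G) : G ⧸ H) = M.φ g (M.ω 0) := rfl

theorem modelMap_smul (I : Interp H D) (M : Model I) (g : G) (q : G ⧸ H) :
    modelMap I M (g • q) = M.φ g (modelMap I M q) := by
  obtain ⟨x, rfl⟩ := QuotientGroup.mk_surjective q
  rw [MulAction.Quotient.smul_mk, modelMap_mk, modelMap_mk, smul_eq_mul, map_mul,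
    Equiv.Perm.mul_apply]

/-- The main theorem: the subgroup has index `n`, and the model map is an equivariant injection
onto the points `ω i`, `i < n`. -/
theorem main (I : Interp H D) (M : Model I)
    (hz1 : ∀ c u, 0 < D.stp c u → c < D.k ∧ u < D.N) (hz2 : ∀ u, 0 < D.lstp u → u < D.N)
    (hgen : Subgroup.closure {g : G | ∃ c < D.k, g = I.e c} = ⊤) (hn : 0 < D.n)
    (h1 : chkLog D = true) (h2 : chkFinal D = true) (h3 : chkCls D = true) :
    H.index = D.n ∧ Function.Injective (modelMap I M) ∧
      (∀ q, ∃ i < D.n, modelMap I M q = M.ω i) ∧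
      (∀ i < D.n, ∃ q, modelMap I M q = M.ω i) := by
  have hV := valid_of_chkLog I hz1 hz2 h1 D.Tmax
  have hw : chkWords D = true := by
    unfold chkLog at h1
    rw [Bool.and_eq_true, Bool.and_eq_true] at h1
    exact h1.1.1
  have hfin := final_sound I hV h2
  have hrep := exists_rep I hw hgen hfin hn
  have hval : ∀ i < D.n, modelMap I M (co I (D.rep i)) = M.ω i := by
    intro i hi
    unfold co
    rw [modelMap_mk]
    exact model_rep I M h3 i hi
  have hinj : Function.Injective (modelMap I M) := by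
    intro q q' hqq
    obtain ⟨i, hi, rfl⟩ := hrep q
    obtain ⟨j, hj, rfl⟩ := hrep q'
    rw [hval i hi, hval j hj] at hqq
    rw [M.ω_inj i hi j hj hqq]
  have hsurj : ∀ q, ∃ i < D.n, modelMap I M q = M.ω i := by
    intro q
    obtain ⟨i, hi, rfl⟩ := hrep q
    exact ⟨i, hi, hval i hi⟩
  refine ⟨?_, hinj, hsurj, fun i hi => ⟨_, hval i hi⟩⟩
  -- a bijection between `Fin n` and the cosets
  have hbij : Function.Bijective (fun i : Fin D.n => co I (D.rep i)) := by
    constructor
    · intro i j hij
      have := congrArg (modelMap I M) hij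
      simp only at this
      rw [hval i i.2, hval j j.2] at this
      exact Fin.ext (M.ω_inj i i.2 j j.2 this)
    · intro q
      obtain ⟨i, hi, rfl⟩ := hrep q
      exact ⟨⟨i, hi⟩, rfl⟩
  unfold Subgroup.index
  rw [← Nat.card_congr (Equiv.ofBijective _ hbij), Nat.card_eq_fintype_card, Fintype.card_fin]

end Sound

end Cfsg.Agent.Helper9.TC
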