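import Mathlib
import Cfsg.Prelude.Def_SporCoxeter
import Cfsg.Agent.Lib.Helper9.TCCheck

set_option autoImplicit false

/-! Glue between checked coset enumeration logs and subgroups of groups presented by a Coxeter
graph and further relators, all of whose generators are involutions. -/

namespace Cfsg.Agent.Helper9.TC

section Hom

variable {α : Type*} {K : Type*} [Group K]

theorem hom_mk_eq_prod (ψ : FreeGroup α →* K)
    (hinv : ∀ x, (ψ (FreeGroup.of x))⁻¹ = ψ (FreeGroup.of x)) (L : List (α × Bool)) :
    ψ (FreeGroup.mk L) = (L.map (fun p => ψ (FreeGroup.of p.1))).prod := by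
  induction L with
  | nil =>
    rw [← FreeGroup.one_eq_mk, map_one, List.map_nil, List.prod_nil]
  | cons p L ih =>
    have h1 : FreeGroup.mk (p :: L) = FreeGroup.mk [p] * FreeGroup.mk L := by
      rw [FreeGroup.mul_mk]; rfl
    rw [h1, map_mul, ih, List.map_cons, List.prod_cons]
    congr 1
    obtain ⟨x, b⟩ := p
    cases b with
    | true => rfl
    | false =>
      have h2 : FreeGroup.mk [(x, false)] = (FreeGroup.of x)⁻¹ := by
        unfold FreeGroup.of; rw [FreeGroup.inv_mk]; rfl
      rw [h2, map_inv, hinv]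

theorem hom_eq_prod [DecidableEq α] (ψ : FreeGroup α →* K)
    (hinv : ∀ x, (ψ (FreeGroup.of x))⁻¹ = ψ (FreeGroup.of x)) (r : FreeGroup α) :
    ψ r = (r.toWord.map (fun p => ψ (FreeGroup.of p.1))).prod := by
  conv_lhs => rw [← FreeGroup.mk_toWord (x := r)]
  exact hom_mk_eq_prod ψ hinv _

end Hom

/-! ### The permutations of a table -/

section Perm

variable (D : Data)

/-- The column `c` as a map of all natural numbers. -/
def sig (c i : ℕ) : ℕ := bif Nat.blt i D.n then D.tau c i else i

/-- The columns of the table are involutions of `[0, n)`. -/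
def chkM1 : Bool :=
  allBelow D.k (fun c => allBelow D.n (fun i =>
    Nat.blt (D.tau c i) D.n && Nat.beq (D.tau c (D.tau c i)) i))

/-- Run a word on a point, from the right end of the word. -/
def runT (w : List ℕ) (i : ℕ) : ℕ :=
  List.rec (motive := fun _ => ℕ) i (fun c _ ih => D.tau c ih) w

theorem runT_nil (i : ℕ) : runT D [] i = i := rfl

theorem runT_cons (c : ℕ) (w : List ℕ) (i : ℕ) : runT D (c :: w) i = D.tau c (runT D w i) := rfl

/-- All words of the list fix all points. -/
def chkFix (ws : List (List ℕ)) : Bool :=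
  allList ws (fun w => allBelow D.n (fun i => Nat.beq (runT D w i) i))

/-- All words of the list fix the point `0`. -/
def chkFix0 (ws : List (List ℕ)) : Bool :=
  allList ws (fun w => Nat.beq (runT D w 0) 0)

variable {D}

theorem tau_lt (h : chkM1 D = true) {c i : ℕ} (hc : c < D.k) (hi : i < D.n) : D.tau c i < D.n := by
  unfold chkM1 at h
  have := allBelow_iff.1 (allBelow_iff.1 h c hc) i hi
  rw [Bool.and_eq_true] at this
  exact blt_iff.1 this.1

theorem tau_tau (h : chkM1 D = true) {c i : ℕ} (hc : c < D.k) (hi : i < D.n) :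
    D.tau c (D.tau c i) = i := by
  unfold chkM1 at h
  have := allBelow_iff.1 (allBelow_iff.1 h c hc) i hi
  rw [Bool.and_eq_true] at this
  exact Nat.eq_of_beq_eq_true this.2

theorem sig_of_lt {c i : ℕ} (hi : i < D.n) : sig D c i = D.tau c i := by
  unfold sig
  rw [blt_iff.2 hi, cond_true]

theorem sig_of_ge {c i : ℕ} (hi : D.n ≤ i) : sig D c i = i := by
  unfold sig
  have : Nat.blt i D.n = false := by
    cases hb : Nat.blt i D.n with
    | false => rfl
    | true => exact absurd (blt_iff.1 hb) (not_lt.2 hi)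
  rw [this, cond_false]

theorem sig_sig (h : chkM1 D = true) {c : ℕ} (hc : c < D.k) (i : ℕ) : sig D c (sig D c i) = i := by
  by_cases hi : i < D.n
  · rw [sig_of_lt hi, sig_of_lt (tau_lt h hc hi), tau_tau h hc hi]
  · rw [sig_of_ge (not_lt.1 hi), sig_of_ge (not_lt.1 hi)]

/-- The column `c` as a permutation of the natural numbers. -/
noncomputable def sigPerm (h : chkM1 D = true) (c : ℕ) : Equiv.Perm ℕ :=
  if hc : c < D.k then Function.Involutive.toPerm (sig D c) (fun i => sig_sig h hc i) else 1

theorem sigPerm_apply (h : chkM1 D = true) {c : ℕ} (hc : c < D.k) (i : ℕ) :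
    sigPerm h c i = sig D c i := by
  unfold sigPerm
  rw [dif_pos hc]
  rfl

theorem sigPerm_inv (h : chkM1 D = true) (c : ℕ) : (sigPerm h c)⁻¹ = sigPerm h c := by
  by_cases hc : c < D.k
  · apply Equiv.ext
    intro i
    rw [Equiv.Perm.inv_def, Equiv.symm_apply_eq, sigPerm_apply h hc, sigPerm_apply h hc,
      sig_sig h hc]
  · unfold sigPerm
    rw [dif_neg hc, inv_one]

theorem prod_sigPerm_apply (h : chkM1 D = true) (w : List ℕ) (hw : ∀ c ∈ w, c < D.k) {i : ℕ}
    (hi : i < D.n) : (w.map (sigPerm h)).prod i = runT D w i ∧ runT D w i < D.n := by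
  induction w with
  | nil => exact ⟨rfl, hi⟩
  | cons c w ih =>
    have hc : c < D.k := hw c List.mem_cons_self
    obtain ⟨e1, e2⟩ := ih (fun c' hc' => hw c' (List.mem_cons_of_mem _ hc'))
    rw [List.map_cons, List.prod_cons, Equiv.Perm.mul_apply, e1, sigPerm_apply h hc,
      sig_of_lt e2, runT_cons]
    exact ⟨rfl, tau_lt h hc e2⟩

theorem prod_sigPerm_apply_ge (h : chkM1 D = true) (w : List ℕ) {i : ℕ}
    (hi : D.n ≤ i) : (w.map (sigPerm h)).prod i = i := by
  induction w with
  | nil => rfl
  | cons c w ih =>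
    rw [List.map_cons, List.prod_cons, Equiv.Perm.mul_apply, ih]
    by_cases hc : c < D.k
    · rw [sigPerm_apply h hc, sig_of_ge hi]
    · unfold sigPerm
      rw [dif_neg hc]
      rfl

theorem prod_sigPerm_eq_one (h : chkM1 D = true) {ws : List (List ℕ)} (hf : chkFix D ws = true)
    {w : List ℕ} (hmem : w ∈ ws) (hw : ∀ c ∈ w, c < D.k) : (w.map (sigPerm h)).prod = 1 := by
  unfold chkFix at hf
  have h1 := allBelow_iff.1 (allList_iff.1 hf w hmem)
  apply Equiv.ext
  intro i
  by_cases hi : i < D.n
  · rw [(prod_sigPerm_apply h w hw hi).1, Nat.eq_of_beq_eq_true (h1 i hi)]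
    rfl
  · rw [prod_sigPerm_apply_ge h w (not_lt.1 hi)]
    rfl

end Perm

/-! ### Counting -/

/-- Evaluate the first argument before continuing. -/
def seqN {β : Type} (x : ℕ) (k : ℕ → β) : β :=
  Nat.rec (motive := fun _ => β) (k 0) (fun y _ => k (y + 1)) x

theorem seqN_eq {β : Type} (x : ℕ) (k : ℕ → β) : seqN x k = k x := by
  cases x <;> rfl

/-- The number of `i < n` with `p i`, with an accumulator. -/
def cntAux (p : ℕ → Bool) (n : ℕ) : ℕ → ℕ :=
  Nat.rec (motive := fun _ => ℕ → ℕ) (fun acc => acc)
    (fun i ih acc => seqN (bif p i then acc + 1 else acc) ih) n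

/-- The number of `i < n` with `p i`. -/
def cnt (p : ℕ → Bool) (n : ℕ) : ℕ := cntAux p n 0

theorem cntAux_succ (p : ℕ → Bool) (n acc : ℕ) :
    cntAux p (n + 1) acc = cntAux p n (bif p n then acc + 1 else acc) := by
  show seqN _ _ = _
  rw [seqN_eq]
  rfl

theorem cntAux_eq (p : ℕ → Bool) (n acc : ℕ) :
    cntAux p n acc = acc + ((Finset.range n).filter (fun i => p i = true)).card := by
  induction n generalizing acc with
  | zero => simp [cntAux]
  | succ n ih =>
    rw [cntAux_succ, ih, Finset.range_add_one, Finset.filter_insert]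
    cases hp : p n with
    | true =>
      rw [cond_true, if_pos rfl, Finset.card_insert_of_notMem (by simp)]
      omega
    | false =>
      rw [cond_false, if_neg (by simp)]

theorem ncard_eq_cnt (p : ℕ → Bool) (n : ℕ) :
    Set.ncard {i | i < n ∧ p i = true} = cnt p n := by
  unfold cnt
  rw [cntAux_eq, zero_add]
  have : {i | i < n ∧ p i = true} = ((Finset.range n).filter (fun i => p i = true) : Set ℕ) := by
    ext i
    simp
  rw [this, Set.ncard_coe_finset]


/-! ### Coxeter presentations -/

section Cox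

open Cfsg.Spor

variable {α : Type} [DecidableEq α] (edges : List (α × ℕ × α)) (extra : List (FreeGroup α))
  (gens : List α)

/-- The relator of an ordered pair of nodes. -/
def pairRel (x y : α) : FreeGroup α := (FreeGroup.of x * FreeGroup.of y) ^ coxLabel edges x y

/-- All relators, as a list. -/
def relList : List (FreeGroup α) :=
  gens.flatMap (fun x => gens.map (fun y => pairRel edges x y)) ++ extra

/-- The word of columns of an element of the free group: signs are dropped. -/
def colWord (r : FreeGroup α) : List ℕ := r.toWord.map (fun p => gens.idxOf p.1)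

/-- The relators, as a set. -/
abbrev relSet : Set (FreeGroup α) := coxRelators edges ∪ {r | r ∈ extra}

variable {edges extra gens}

theorem mem_relList_of_mem (hc : ∀ x, x ∈ gens) {r : FreeGroup α} (h : r ∈ relSet edges extra) :
    r ∈ relList edges extra gens := by
  unfold relList
  rcases h with ⟨x, _, y, _, rfl⟩ | h
  · apply List.mem_append_left
    rw [List.mem_flatMap]
    exact ⟨x, hc x, List.mem_map.2 ⟨y, hc y, rfl⟩⟩
  · exact List.mem_append_right _ h

theorem mem_relSet_of_mem (hn : ∀ x ∈ gens, x ∈ coxNodes edges) {r : FreeGroup α}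
    (h : r ∈ relList edges extra gens) : r ∈ relSet edges extra := by
  unfold relList at h
  rcases List.mem_append.1 h with h | h
  · rw [List.mem_flatMap] at h
    obtain ⟨x, hx, h⟩ := h
    obtain ⟨y, hy, rfl⟩ := List.mem_map.1 h
    exact Or.inl ⟨x, hn x hx, y, hn y hy, rfl⟩
  · exact Or.inr h

theorem colWord_lt (hc : ∀ x, x ∈ gens) (r : FreeGroup α) : ∀ c ∈ colWord gens r, c < gens.length := by
  intro c hcm
  unfold colWord at hcm
  obtain ⟨p, _, rfl⟩ := List.mem_map.1 hcm
  exact List.idxOf_lt_length_iff.2 (hc p.1)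

variable (edges extra gens)

/-- The interpretation of the columns in the presented group. -/
noncomputable def eCol (c : ℕ) : PresentedGroup (relSet edges extra) :=
  match gens[c]? with
  | some x => PresentedGroup.of x
  | none => 1

variable {edges extra gens}

theorem eCol_idxOf (hc : ∀ x, x ∈ gens) (x : α) :
    eCol edges extra gens (gens.idxOf x) = PresentedGroup.of x := by
  unfold eCol
  rw [List.getElem?_idxOf (hc x)]

theorem eCol_of_lt {c : ℕ} (h : c < gens.length) :
    eCol edges extra gens c = PresentedGroup.of gens[c] := by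
  unfold eCol
  rw [List.getElem?_eq_getElem h]

theorem of_mul_self {x : α} (hx : x ∈ coxNodes edges) :
    (PresentedGroup.of x : PresentedGroup (relSet edges extra)) * PresentedGroup.of x = 1 := by
  have hmem : (FreeGroup.of x * FreeGroup.of x) ^ coxLabel edges x x ∈ relSet edges extra :=
    Or.inl ⟨x, hx, x, hx, rfl⟩
  have h1 : coxLabel edges x x = 1 := by
    unfold coxLabel
    rw [if_pos rfl]
  rw [h1, pow_one] at hmem
  have := PresentedGroup.one_of_mem hmem
  rw [map_mul] at this
  exact this

theorem of_inv {x : α} (hx : x ∈ coxNodes edges) :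
    (PresentedGroup.of x : PresentedGroup (relSet edges extra))⁻¹ = PresentedGroup.of x :=
  inv_eq_of_mul_eq_one_left (of_mul_self hx)

theorem prod_colWord (hc : ∀ x, x ∈ gens) (hn : ∀ x ∈ gens, x ∈ coxNodes edges) (r : FreeGroup α) :
    ((colWord gens r).map (eCol edges extra gens)).prod = PresentedGroup.mk (relSet edges extra) r := by
  rw [hom_eq_prod (PresentedGroup.mk (relSet edges extra)) (fun x => of_inv (hn x (hc x))) r]
  unfold colWord
  rw [List.map_map]
  refine congrArg List.prod (List.map_congr_left (fun p _ => ?_))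
  exact eCol_idxOf hc p.1

/-- The interpretation of a log whose words are the words of the presentation. -/
noncomputable def coxInterp (D : Data) (S : Set (FreeGroup α)) (sgens : List (FreeGroup α))
    (hc : ∀ x, x ∈ gens) (hn : ∀ x ∈ gens, x ∈ coxNodes edges)
    (hk : D.k = gens.length) (hinv : ∀ c, D.inv c = c)
    (hrels : D.rels = (relList edges extra gens).map (colWord gens))
    (hsubs : D.subs = sgens.map (colWord gens)) (hS : ∀ s ∈ sgens, s ∈ S) :
    Interp ((Subgroup.closure S).map (PresentedGroup.mk (relSet edges extra))) D where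
  e := eCol edges extra gens
  e_inv := by
    intro c hck
    rw [hk] at hck
    rw [hinv, eCol_of_lt hck, of_inv (hn _ (List.getElem_mem hck))]
  rel := by
    intro w hw
    rw [hrels] at hw
    obtain ⟨r, hr, rfl⟩ := List.mem_map.1 hw
    rw [prod_colWord hc hn]
    exact PresentedGroup.one_of_mem (mem_relSet_of_mem hn hr)
  sub := by
    intro w hw
    rw [hsubs] at hw
    obtain ⟨s, hs, rfl⟩ := List.mem_map.1 hw
    rw [prod_colWord hc hn]
    exact Subgroup.mem_map_of_mem _ (Subgroup.subset_closure (hS s hs))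

theorem coxInterp_e (D : Data) (S : Set (FreeGroup α)) (sgens : List (FreeGroup α))
    (hc : ∀ x, x ∈ gens) (hn : ∀ x ∈ gens, x ∈ coxNodes edges)
    (hk : D.k = gens.length) (hinv : ∀ c, D.inv c = c)
    (hrels : D.rels = (relList edges extra gens).map (colWord gens))
    (hsubs : D.subs = sgens.map (colWord gens)) (hS : ∀ s ∈ sgens, s ∈ S) :
    (coxInterp D S sgens hc hn hk hinv hrels hsubs hS).e = eCol edges extra gens := rfl

theorem cox_hgen (hc : ∀ x, x ∈ gens) (k : ℕ) (hk : k = gens.length) :
    Subgroup.closure {g : PresentedGroup (relSet edges extra) |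
      ∃ c < k, g = eCol edges extra gens c} = ⊤ := by
  rw [eq_top_iff, ← PresentedGroup.closure_range_of, Subgroup.closure_le]
  rintro _ ⟨x, rfl⟩
  apply Subgroup.subset_closure
  refine ⟨gens.idxOf x, ?_, (eCol_idxOf hc x).symm⟩
  rw [hk]
  exact List.idxOf_lt_length_iff.2 (hc x)

/-- The images of the generators in the permutation model. -/
noncomputable def fPerm {D : Data} (h : chkM1 D = true) (gens : List α) (x : α) : Equiv.Perm ℕ :=
  sigPerm h (gens.idxOf x)

theorem lift_fPerm {D : Data} (h : chkM1 D = true) (r : FreeGroup α) :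
    FreeGroup.lift (fPerm h gens) r = ((colWord gens r).map (sigPerm h)).prod := by
  rw [hom_eq_prod (FreeGroup.lift (fPerm h gens)) (fun x => by
    rw [FreeGroup.lift_apply_of]; exact sigPerm_inv h _) r]
  unfold colWord
  rw [List.map_map]
  refine congrArg List.prod (List.map_congr_left (fun p _ => ?_))
  rw [FreeGroup.lift_apply_of]
  rfl

theorem lift_fPerm_eq_one {D : Data} (h : chkM1 D = true) (hc : ∀ x, x ∈ gens)
    (hk : D.k = gens.length)
    (hrels : D.rels = (relList edges extra gens).map (colWord gens))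
    (hf : chkFix D D.rels = true) :
    ∀ r ∈ relSet edges extra, FreeGroup.lift (fPerm h gens) r = 1 := by
  intro r hr
  rw [lift_fPerm]
  apply prod_sigPerm_eq_one h hf
  · rw [hrels]
    exact List.mem_map.2 ⟨r, mem_relList_of_mem hc hr, rfl⟩
  · rw [hk]
    exact colWord_lt hc r

/-- The permutation representation of the presented group on the table. -/
noncomputable def coxPhi {D : Data} (h : chkM1 D = true) (hc : ∀ x, x ∈ gens)
    (hk : D.k = gens.length)
    (hrels : D.rels = (relList edges extra gens).map (colWord gens))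
    (hf : chkFix D D.rels = true) : PresentedGroup (relSet edges extra) →* Equiv.Perm ℕ :=
  PresentedGroup.toGroup (lift_fPerm_eq_one h hc hk hrels hf)

theorem coxPhi_mk {D : Data} (h : chkM1 D = true) (hc : ∀ x, x ∈ gens)
    (hk : D.k = gens.length)
    (hrels : D.rels = (relList edges extra gens).map (colWord gens))
    (hf : chkFix D D.rels = true) (r : FreeGroup α) :
    coxPhi h hc hk hrels hf (PresentedGroup.mk (relSet edges extra) r) =
      ((colWord gens r).map (sigPerm h)).prod := by
  rw [← lift_fPerm]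
  rfl

theorem coxPhi_mk_apply {D : Data} (h : chkM1 D = true) (hc : ∀ x, x ∈ gens)
    (hk : D.k = gens.length)
    (hrels : D.rels = (relList edges extra gens).map (colWord gens))
    (hf : chkFix D D.rels = true) (r : FreeGroup α) {i : ℕ} (hi : i < D.n) :
    coxPhi h hc hk hrels hf (PresentedGroup.mk (relSet edges extra) r) i =
      runT D (colWord gens r) i ∧ runT D (colWord gens r) i < D.n := by
  rw [coxPhi_mk]
  exact prod_sigPerm_apply h _ (by rw [hk]; exact colWord_lt hc r) hi

theorem coxPhi_mk_apply_ge {D : Data} (h : chkM1 D = true) (hc : ∀ x, x ∈ gens)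
    (hk : D.k = gens.length)
    (hrels : D.rels = (relList edges extra gens).map (colWord gens))
    (hf : chkFix D D.rels = true) (r : FreeGroup α) {i : ℕ} (hi : D.n ≤ i) :
    coxPhi h hc hk hrels hf (PresentedGroup.mk (relSet edges extra) r) i = i := by
  rw [coxPhi_mk]
  exact prod_sigPerm_apply_ge h _ hi


/-- A certificate for the index of a subgroup of a Coxeter-presented group. -/
structure CoxCert (edges : List (α × ℕ × α)) (extra : List (FreeGroup α))
    (S : Set (FreeGroup α)) where
  gens : List α
  sgens : List (FreeGroup α)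
  D : Data
  hc : ∀ x, x ∈ gens
  hnd : gens.Nodup
  hn : ∀ x ∈ gens, x ∈ coxNodes edges
  hS : S = {s | s ∈ sgens}
  hk : D.k = gens.length
  hinv : ∀ c, D.inv c = c
  hrels : D.rels = (relList edges extra gens).map (colWord gens)
  hsubs : D.subs = sgens.map (colWord gens)
  hz1 : ∀ c u, 0 < D.stp c u → c < D.k ∧ u < D.N
  hz2 : ∀ u, 0 < D.lstp u → u < D.N
  hn0 : 0 < D.n
  h1 : chkLog D = true
  h2 : chkFinal D = true
  h3 : chkCls D = true
  h4 : chkM1 D = true
  h5 : chkFix D D.rels = true
  h6 : chkFix0 D D.subs = true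

variable {S : Set (FreeGroup α)}

/-- The subgroup of a certificate. -/
abbrev coxH (edges : List (α × ℕ × α)) (extra : List (FreeGroup α)) (S : Set (FreeGroup α)) :
    Subgroup (PresentedGroup (relSet edges extra)) :=
  (Subgroup.closure S).map (PresentedGroup.mk (relSet edges extra))

namespace CoxCert

variable (C : CoxCert edges extra S)

theorem mem_S {s : FreeGroup α} (hs : s ∈ C.sgens) : s ∈ S := by
  rw [C.hS]; exact hs

theorem mem_sgens {s : FreeGroup α} (hs : s ∈ S) : s ∈ C.sgens := by
  have := hs
  rw [C.hS] at this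
  exact this

/-- The interpretation. -/
noncomputable def interp : Interp (coxH edges extra S) C.D :=
  coxInterp C.D S C.sgens C.hc C.hn C.hk C.hinv C.hrels C.hsubs (fun _ hs => C.mem_S hs)

/-- The permutation representation. -/
noncomputable def phi : PresentedGroup (relSet edges extra) →* Equiv.Perm ℕ :=
  coxPhi C.h4 C.hc C.hk C.hrels C.h5

theorem phi_mk_apply (r : FreeGroup α) {i : ℕ} (hi : i < C.D.n) :
    C.phi (PresentedGroup.mk (relSet edges extra) r) i = runT C.D (colWord C.gens r) i ∧
      runT C.D (colWord C.gens r) i < C.D.n :=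
  coxPhi_mk_apply C.h4 C.hc C.hk C.hrels C.h5 r hi

theorem phi_mk_apply_ge (r : FreeGroup α) {i : ℕ} (hi : C.D.n ≤ i) :
    C.phi (PresentedGroup.mk (relSet edges extra) r) i = i :=
  coxPhi_mk_apply_ge C.h4 C.hc C.hk C.hrels C.h5 r hi

theorem phi_e {c : ℕ} (hck : c < C.D.k) {i : ℕ} (hi : i < C.D.n) :
    C.phi (eCol edges extra C.gens c) i = C.D.tau c i := by
  have hck' : c < C.gens.length := by rw [← C.hk]; exact hck
  rw [eCol_of_lt hck']
  have h1 : C.phi (PresentedGroup.of C.gens[c]) = fPerm C.h4 C.gens C.gens[c] := by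
    show FreeGroup.lift (fPerm C.h4 C.gens) (FreeGroup.of C.gens[c]) = _
    exact FreeGroup.lift_apply_of
  rw [h1]
  unfold fPerm
  rw [C.hnd.idxOf_getElem c hck', sigPerm_apply C.h4 hck, sig_of_lt hi]

theorem phi_H : ∀ g ∈ coxH edges extra S, C.phi g 0 = 0 := by
  rintro _ ⟨s, hs, rfl⟩
  induction hs using Subgroup.closure_induction with
  | mem s hs =>
    have h1 := (C.phi_mk_apply s C.hn0).1
    have h2 : colWord C.gens s ∈ C.D.subs := by
      rw [C.hsubs]
      exact List.mem_map.2 ⟨s, C.mem_sgens hs, rfl⟩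
    have h3 := C.h6
    unfold chkFix0 at h3
    have h4 := Nat.eq_of_beq_eq_true (allList_iff.1 h3 _ h2)
    exact h1.trans h4
  | one => rw [map_one, map_one]; rfl
  | mul a b _ _ iha ihb =>
    rw [map_mul, map_mul, Equiv.Perm.mul_apply]
    rw [ihb, iha]
  | inv a _ iha =>
    rw [map_inv, map_inv, Equiv.Perm.inv_eq_iff_eq]
    exact iha.symm

/-- The permutation model. -/
noncomputable def model : Model C.interp where
  Ω := ℕ
  φ := C.phi
  ω := fun i => i
  ω_inj := fun _ _ _ _ h => h
  φ_e := fun _ hck _ hi => C.phi_e hck hi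
  φ_H := C.phi_H

/-- The map from the cosets to the points of the table. -/
noncomputable def Phi :
    PresentedGroup (relSet edges extra) ⧸ coxH edges extra S → ℕ :=
  modelMap C.interp C.model

theorem main_aux :
    (coxH edges extra S).index = C.D.n ∧ Function.Injective C.Phi ∧
      (∀ q, C.Phi q < C.D.n) ∧ (∀ i < C.D.n, ∃ q, C.Phi q = i) := by
  have hgen : Subgroup.closure {g : PresentedGroup (relSet edges extra) |
      ∃ c < C.D.k, g = C.interp.e c} = ⊤ := cox_hgen C.hc C.D.k C.hk
  obtain ⟨h1, h2, h3, h4⟩ :=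
    main C.interp C.model C.hz1 C.hz2 hgen C.hn0 C.h1 C.h2 C.h3
  refine ⟨h1, h2, ?_, h4⟩
  intro q
  obtain ⟨i, hi, e⟩ := h3 q
  have : C.Phi q = i := e
  rw [this]
  exact hi

theorem index_eq : (coxH edges extra S).index = C.D.n := C.main_aux.1

theorem Phi_smul (g : PresentedGroup (relSet edges extra))
    (q : PresentedGroup (relSet edges extra) ⧸ coxH edges extra S) :
    C.Phi (g • q) = C.phi g (C.Phi q) :=
  modelMap_smul C.interp C.model g q

end CoxCert

/-! ### Orbits of the subgroup -/

theorem smul_coe {G : Type*} [Group G] {H : Subgroup G} (g : H) (q : G ⧸ H) :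
    g • q = (g : G) • q := rfl

/-- A certificate for the orbits of the subgroup on the points of the table: labels of the orbits,
a depth function, the index of a subgroup word decreasing the depth, and the roots. -/
structure OrbData where
  lab : ℕ → ℕ
  dep : ℕ → ℕ
  oj : ℕ → ℕ
  root : ℕ → ℕ

/-- The labels are invariant under the subgroup words. -/
def chkO1 (D : Data) (O : OrbData) : Bool :=
  allList D.subs (fun w => allBelow D.n (fun i => Nat.beq (O.lab (runT D w i)) (O.lab i)))

/-- Every point is the root of its label or is moved to a point of smaller depth. -/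
def chkO2 (D : Data) (O : OrbData) : Bool :=
  allBelow D.n (fun i => Nat.beq (O.root (O.lab i)) i ||
    Nat.blt (O.dep (runT D (D.subs.getD (O.oj i) []) i)) (O.dep i))

namespace CoxCert

variable (C : CoxCert edges extra S) (O : OrbData)

/-- The labels, shifted, with `0` outside the table. -/
def lab' (i : ℕ) : ℕ := if i < C.D.n then O.lab i + 1 else 0

theorem lab'_invariant (ho1 : chkO1 C.D O = true) :
    ∀ g ∈ coxH edges extra S, ∀ x, C.lab' O (C.phi g x) = C.lab' O x := by
  rintro _ ⟨s, hs, rfl⟩
  induction hs using Subgroup.closure_induction with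
  | mem s hs =>
    intro x
    by_cases hx : x < C.D.n
    · obtain ⟨h1, h2⟩ := C.phi_mk_apply s hx
      have h3 : colWord C.gens s ∈ C.D.subs := by
        rw [C.hsubs]
        exact List.mem_map.2 ⟨s, C.mem_sgens hs, rfl⟩
      unfold chkO1 at ho1
      have h4 := Nat.eq_of_beq_eq_true (allBelow_iff.1 (allList_iff.1 ho1 _ h3) x hx)
      rw [h1]
      unfold lab'
      rw [if_pos h2, if_pos hx, h4]
    · rw [C.phi_mk_apply_ge s (not_lt.1 hx)]
  | one => intro x; rw [map_one, map_one]; rfl
  | mul a b _ _ iha ihb =>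
    intro x
    rw [map_mul, map_mul, Equiv.Perm.mul_apply, iha, ihb]
  | inv a _ iha =>
    intro x
    rw [map_inv, map_inv]
    have := iha ((C.phi (PresentedGroup.mk (relSet edges extra) a))⁻¹ x)
    have e : C.phi (PresentedGroup.mk (relSet edges extra) a)
        ((C.phi (PresentedGroup.mk (relSet edges extra) a))⁻¹ x) = x := by
      rw [← Equiv.Perm.mul_apply, mul_inv_cancel]; rfl
    rw [e] at this
    exact this.symm

theorem reach (ho1 : chkO1 C.D O = true) (ho2 : chkO2 C.D O = true) {i₀ : ℕ}
    (hroot : O.root (O.lab i₀) = i₀) :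
    ∀ d, ∀ i < C.D.n, O.dep i = d → O.lab i = O.lab i₀ →
      ∃ g ∈ coxH edges extra S, C.phi g i₀ = i := by
  intro d
  induction d using Nat.strong_induction_on with
  | _ d ih =>
    intro i hi hd hl
    unfold chkO2 at ho2
    have h1 := allBelow_iff.1 ho2 i hi
    rw [Bool.or_eq_true] at h1
    rcases h1 with h1 | h1
    · have := Nat.eq_of_beq_eq_true h1
      rw [hl, hroot] at this
      exact ⟨1, Subgroup.one_mem _, by rw [map_one, this]; rfl⟩
    · have h2 := blt_iff.1 h1
      rcases getD_mem_or_nil C.D.subs (O.oj i) with h3 | h3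
      · have h3' : C.D.subs.getD (O.oj i) [] ∈ C.sgens.map (colWord C.gens) := by
          rw [← C.hsubs]; exact h3
        obtain ⟨s, hs, hs'⟩ := List.mem_map.1 h3'
        rw [← hs'] at h2
        obtain ⟨e1, e2⟩ := C.phi_mk_apply s hi
        have hsH : PresentedGroup.mk (relSet edges extra) s ∈ coxH edges extra S :=
          Subgroup.mem_map_of_mem _ (Subgroup.subset_closure (C.mem_S hs))
        have hl' : O.lab (runT C.D (colWord C.gens s) i) = O.lab i₀ := by
          have := C.lab'_invariant O ho1 _ hsH i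
          rw [e1] at this
          unfold lab' at this
          rw [if_pos e2, if_pos hi] at this
          omega
        obtain ⟨g, hg, e3⟩ := ih _ (by rw [← hd]; exact h2) _ e2 rfl hl'
        refine ⟨(PresentedGroup.mk (relSet edges extra) s)⁻¹ * g,
          Subgroup.mul_mem _ (Subgroup.inv_mem _ hsH) hg, ?_⟩
        rw [map_mul, Equiv.Perm.mul_apply, e3, map_inv, Equiv.Perm.inv_eq_iff_eq, e1]
      · rw [h3] at h2
        exact absurd h2 (lt_irrefl _)

/-- The orbits of the subgroup on its cosets are the classes of the labels. -/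
theorem orbit_image (ho1 : chkO1 C.D O = true) (ho2 : chkO2 C.D O = true) {i₀ : ℕ}
    (hi₀ : i₀ < C.D.n) (hroot : O.root (O.lab i₀) = i₀) :
    ∃ q : PresentedGroup (relSet edges extra) ⧸ coxH edges extra S, C.Phi q = i₀ ∧
      C.Phi '' (MulAction.orbit (coxH edges extra S) q) =
        {i | i < C.D.n ∧ Nat.beq (O.lab i) (O.lab i₀) = true} := by
  obtain ⟨q, hq⟩ := C.main_aux.2.2.2 i₀ hi₀
  refine ⟨q, hq, ?_⟩
  ext i
  constructor
  · rintro ⟨_, ⟨g, rfl⟩, rfl⟩
    have h1 : C.Phi (g • q) = C.phi (g : PresentedGroup (relSet edges extra)) i₀ := by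
      rw [smul_coe, C.Phi_smul, hq]
    have h2 := C.lab'_invariant O ho1 _ g.2 i₀
    rw [← h1] at h2
    unfold lab' at h2
    rw [if_pos hi₀] at h2
    by_cases h3 : C.Phi (g • q) < C.D.n
    · rw [if_pos h3] at h2
      refine ⟨h3, ?_⟩
      have : O.lab (C.Phi (g • q)) = O.lab i₀ := by omega
      rw [this]
      exact Nat.beq_refl _
    · rw [if_neg h3] at h2
      omega
  · rintro ⟨hi, hl⟩
    obtain ⟨g, hg, e⟩ := C.reach O ho1 ho2 hroot _ i hi rfl (Nat.eq_of_beq_eq_true hl)
    refine ⟨(⟨g, hg⟩ : coxH edges extra S) • q, ⟨⟨g, hg⟩, rfl⟩, ?_⟩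
    rw [smul_coe, C.Phi_smul, hq]
    exact e

theorem orbit_ncard (ho1 : chkO1 C.D O = true) (ho2 : chkO2 C.D O = true) {i₀ : ℕ}
    (hi₀ : i₀ < C.D.n) (hroot : O.root (O.lab i₀) = i₀) :
    ∃ q : PresentedGroup (relSet edges extra) ⧸ coxH edges extra S, C.Phi q = i₀ ∧
      (MulAction.orbit (coxH edges extra S) q).ncard =
        cnt (fun i => Nat.beq (O.lab i) (O.lab i₀)) C.D.n := by
  obtain ⟨q, hq, e⟩ := C.orbit_image O ho1 ho2 hi₀ hroot
  refine ⟨q, hq, ?_⟩
  rw [← Set.ncard_image_of_injective _ C.main_aux.2.1, e, ncard_eq_cnt]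

/-- Orbits of points with different labels are different. -/
theorem orbit_ne {q₁ q₂ : PresentedGroup (relSet edges extra) ⧸ coxH edges extra S}
    (ho1 : chkO1 C.D O = true) (h1 : C.Phi q₁ < C.D.n) (h2 : C.Phi q₂ < C.D.n)
    (hne : O.lab (C.Phi q₁) ≠ O.lab (C.Phi q₂)) :
    MulAction.orbit (coxH edges extra S) q₁ ≠ MulAction.orbit (coxH edges extra S) q₂ := by
  intro heq
  have hm : q₁ ∈ MulAction.orbit (coxH edges extra S) q₂ := by
    rw [← heq]; exact MulAction.mem_orbit_self q₁
  obtain ⟨g, hg⟩ := hm
  have hg' : g • q₂ = q₁ := hg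
  have h3 := C.lab'_invariant O ho1 _ g.2 (C.Phi q₂)
  rw [← C.Phi_smul, ← smul_coe, hg'] at h3
  unfold lab' at h3
  rw [if_pos h1, if_pos h2] at h3
  exact hne (by omega)

end CoxCert

end Cox

end Cfsg.Agent.Helper9.TC
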