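import Mathlib
import Cfsg.Agent.Lib.Helper9.TCCheck
import Cfsg.Agent.Lib.Helper9.TCCox

set_option autoImplicit false

/-! Packed representation of coset enumeration logs: arrays of natural numbers of a fixed bit
width stored in one natural number. -/

namespace Cfsg.Agent.Helper9.TC

/-- A packed array: entries of `w` bits. -/
structure Arr where
  w : ℕ
  v : ℕ

/-- The entry of index `i`. -/
def Arr.get (a : Arr) (i : ℕ) : ℕ := (a.v >>> (a.w * i)) % 2 ^ a.w

/-- The array has at most `N` nonzero entries. -/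
def Arr.fits (a : Arr) (N : ℕ) : Bool := Nat.blt a.v (2 ^ (a.w * N))

theorem Arr.get_eq_zero {a : Arr} {N i : ℕ} (h : a.fits N = true) (hi : N ≤ i) : a.get i = 0 := by
  unfold Arr.get
  have h1 : a.v < 2 ^ (a.w * N) := blt_iff.1 h
  have h2 : 2 ^ (a.w * N) ≤ 2 ^ (a.w * i) :=
    Nat.pow_le_pow_right (by norm_num) (Nat.mul_le_mul_left _ hi)
  rw [Nat.shiftRight_eq_div_pow, Nat.div_eq_of_lt (lt_of_lt_of_le h1 h2), Nat.zero_mod]

/-- The zero array. -/
def Arr.zero : Arr := ⟨0, 0⟩

theorem Arr.zero_get (i : ℕ) : Arr.zero.get i = 0 := by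
  unfold Arr.get Arr.zero
  simp

/-- The packed log. All columns are involutions. -/
structure Packed where
  k : ℕ
  N : ℕ
  n : ℕ
  Tmax : ℕ
  rels : List (List ℕ)
  subs : List (List ℕ)
  pnode : Arr
  pcol : Arr
  lnk : Arr
  lstp : Arr
  lty : Arr
  lA : Arr
  lB : Arr
  lC : Arr
  cls : Arr
  rep : Arr
  tgt : List Arr
  stp : List Arr
  cty : List Arr
  cA : List Arr
  cB : List Arr
  cC : List Arr
  tau : List Arr

/-- The log of a packed log. -/
def Packed.toData (P : Packed) : Data where
  k := P.k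
  inv := fun c => c
  N := P.N
  n := P.n
  Tmax := P.Tmax
  rels := P.rels
  subs := P.subs
  pnode := P.pnode.get
  pcol := P.pcol.get
  tgt := fun c => (P.tgt.getD c Arr.zero).get
  stp := fun c => (P.stp.getD c Arr.zero).get
  cty := fun c => (P.cty.getD c Arr.zero).get
  cA := fun c => (P.cA.getD c Arr.zero).get
  cB := fun c => (P.cB.getD c Arr.zero).get
  cC := fun c => (P.cC.getD c Arr.zero).get
  lnk := P.lnk.get
  lstp := P.lstp.get
  lty := P.lty.get
  lA := P.lA.get
  lB := P.lB.get
  lC := P.lC.get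
  cls := P.cls.get
  rep := P.rep.get
  tau := fun c => (P.tau.getD c Arr.zero).get

/-- The stamps vanish outside the range of nodes and columns. -/
def Packed.chkFits (P : Packed) : Bool :=
  Nat.beq P.stp.length P.k && allList P.stp (fun a => a.fits P.N) && P.lstp.fits P.N

theorem Packed.hz1 {P : Packed} (h : P.chkFits = true) :
    ∀ c u, 0 < P.toData.stp c u → c < P.toData.k ∧ u < P.toData.N := by
  unfold Packed.chkFits at h
  rw [Bool.and_eq_true, Bool.and_eq_true, allList_iff] at h
  obtain ⟨⟨h1, h2⟩, _⟩ := h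
  have h1' : P.stp.length = P.k := Nat.eq_of_beq_eq_true h1
  intro c u hpos
  show c < P.k ∧ u < P.N
  have hstp : P.toData.stp c u = (P.stp.getD c Arr.zero).get u := rfl
  rw [hstp] at hpos
  by_cases hc : c < P.k
  · refine ⟨hc, ?_⟩
    by_contra hu
    rw [not_lt] at hu
    have hmem : P.stp.getD c Arr.zero ∈ P.stp := by
      rw [List.getD_eq_getElem _ _ (by rw [h1']; exact hc)]
      exact List.getElem_mem _
    rw [Arr.get_eq_zero (h2 _ hmem) hu] at hpos
    exact absurd hpos (lt_irrefl 0)
  · exfalso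
    rw [List.getD_eq_default _ _ (by rw [h1']; exact not_lt.1 hc), Arr.zero_get] at hpos
    exact absurd hpos (lt_irrefl 0)

theorem Packed.hz2 {P : Packed} (h : P.chkFits = true) :
    ∀ u, 0 < P.toData.lstp u → u < P.toData.N := by
  unfold Packed.chkFits at h
  rw [Bool.and_eq_true] at h
  intro u hpos
  show u < P.N
  by_contra hu
  rw [not_lt] at hu
  have : P.toData.lstp u = P.lstp.get u := rfl
  rw [this, Arr.get_eq_zero h.2 hu] at hpos
  exact absurd hpos (lt_irrefl 0)

/-- Packed orbit certificates. -/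
structure OrbPacked where
  lab : Arr
  dep : Arr
  oj : Arr
  root : Arr

/-- The orbit certificate of a packed one. -/
def OrbPacked.toOrb (P : OrbPacked) : OrbData where
  lab := P.lab.get
  dep := P.dep.get
  oj := P.oj.get
  root := P.root.get

end Cfsg.Agent.Helper9.TC
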