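import Mathlib
import Cfsg.Agent.Lib.Helper9.Basic
import Cfsg.Agent.Lib.Helper9.ThompsonRepl
import Cfsg.Agent.Lib.Helper9.FrattiniElem
import Cfsg.Agent.Lib.Helper21.PGroupFrattini

set_option autoImplicit false

namespace Cfsg.Agent.Helper9

open Subgroup

variable {S : Type*} [Group S]

/-- In a 2-group, an element outside a subgroup `N` has a power outside `N` whose square is
in `N`. -/
theorem exists_sq_mem_of_notMem (hS : IsPGroup 2 S) (N : Subgroup S) {r : S} (hr : r ∉ N) :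
    ∃ k : ℕ, r ^ (2 ^ k) ∉ N ∧ r ^ (2 ^ k) * r ^ (2 ^ k) ∈ N := by
  classical
  have hex : ∃ k : ℕ, r ^ (2 ^ k) ∈ N := by
    obtain ⟨m, hm⟩ := hS r
    exact ⟨m, hm ▸ one_mem N⟩
  have hk0 : Nat.find hex ≠ 0 := by
    intro h0
    have := Nat.find_spec hex
    rw [h0, pow_zero, pow_one] at this
    exact hr this
  obtain ⟨k, hk⟩ := Nat.exists_eq_succ_of_ne_zero hk0
  refine ⟨k, ?_, ?_⟩
  · exact Nat.find_min hex (by omega)
  · have := Nat.find_spec hex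
    rw [hk, Nat.succ_eq_add_one, pow_succ, pow_mul, pow_two] at this
    exact this

/-- In a 2-group, an element with nontrivial square has a power `z = y ^ (2 ^ k)`, `k ≥ 1`, of
order two. -/
theorem exists_pow_involution (hS : IsPGroup 2 S) {y : S} (hy : y * y ≠ 1) :
    ∃ k : ℕ, 1 ≤ k ∧ y ^ (2 ^ k) ≠ 1 ∧ y ^ (2 ^ k) * y ^ (2 ^ k) = 1 := by
  classical
  have hex : ∃ m : ℕ, y ^ (2 ^ m) = 1 := hS y
  have hm0 : Nat.find hex ≠ 0 := by
    intro h0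
    have := Nat.find_spec hex
    rw [h0, pow_zero, pow_one] at this
    apply hy
    rw [this, one_mul]
  have hm1 : Nat.find hex ≠ 1 := by
    intro h1
    have := Nat.find_spec hex
    rw [h1, pow_one, pow_two] at this
    exact hy this
  obtain ⟨k, hk⟩ := Nat.exists_eq_succ_of_ne_zero hm0
  refine ⟨k, by omega, ?_, ?_⟩
  · exact Nat.find_min hex (by omega)
  · have := Nat.find_spec hex
    rw [hk, Nat.succ_eq_add_one, pow_succ, pow_mul, pow_two] at this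
    exact this

/-- Core of the TI-family lemma. -/
theorem core_normalizes (hS : IsPGroup 2 S) (R T : Subgroup S)
    (hR : ∀ t ∈ T, t ∈ normalizer (R : Set S) ∨
      ((∀ x ∈ R, ∀ x' ∈ R, x * (t * x' * t⁻¹) = (t * x' * t⁻¹) * x) ∧
        ∀ x ∈ R, t * x * t⁻¹ ∈ R → x = 1))
    (hT : ∀ r ∈ R, r ∈ normalizer (T : Set S) ∨
      ((∀ x ∈ T, ∀ x' ∈ T, x * (r * x' * r⁻¹) = (r * x' * r⁻¹) * x) ∧
        ∀ x ∈ T, r * x * r⁻¹ ∈ T → x = 1))
    (hTI : ∀ e ∈ T, e ≠ 1 → ∀ r ∈ R, r * e * r⁻¹ = e → r ∈ normalizer (T : Set S))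
    (hsqR : ∃ y ∈ R, y * y ≠ 1) :
    R ≤ normalizer (T : Set S) ∨ T ≤ normalizer (R : Set S) := by
  by_contra hcon
  rw [not_or] at hcon
  obtain ⟨r₀, hr₀, hr₀N⟩ := SetLike.not_le_iff_exists.mp hcon.1
  obtain ⟨t₀, ht₀, ht₀N⟩ := SetLike.not_le_iff_exists.mp hcon.2
  have I1 : ∀ r ∈ R, r ∉ normalizer (T : Set S) → ∀ t ∈ T, t ∉ normalizer (R : Set S) →
      r * (t * t) * r⁻¹ * (t * t)⁻¹ = (r * r) * t * (r * r)⁻¹ * t⁻¹ := by
    intro r hr hrN t ht htN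
    have hT' := (hT r hr).resolve_left hrN
    have hR' := (hR t ht).resolve_left htN
    have hc1 : t⁻¹ * (r * t * r⁻¹) = (r * t * r⁻¹) * t⁻¹ := hT'.1 t⁻¹ (inv_mem ht) t ht
    have hc2 : r * (t * r⁻¹ * t⁻¹) = (t * r⁻¹ * t⁻¹) * r := hR'.1 r hr r⁻¹ (inv_mem hr)
    have e1 : (r * t * r⁻¹ * t⁻¹) * (r * t * r⁻¹ * t⁻¹) = r * (t * t) * r⁻¹ * (t * t)⁻¹ := by
      calc (r * t * r⁻¹ * t⁻¹) * (r * t * r⁻¹ * t⁻¹)
          = (r * t * r⁻¹) * (t⁻¹ * (r * t * r⁻¹)) * t⁻¹ := by group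
        _ = (r * t * r⁻¹) * ((r * t * r⁻¹) * t⁻¹) * t⁻¹ := by rw [hc1]
        _ = r * (t * t) * r⁻¹ * (t * t)⁻¹ := by group
    have e2 : (r * t * r⁻¹ * t⁻¹) * (r * t * r⁻¹ * t⁻¹) = (r * r) * t * (r * r)⁻¹ * t⁻¹ := by
      calc (r * t * r⁻¹ * t⁻¹) * (r * t * r⁻¹ * t⁻¹)
          = r * ((t * r⁻¹ * t⁻¹) * r) * (t * r⁻¹ * t⁻¹) := by group
        _ = r * (r * (t * r⁻¹ * t⁻¹)) * (t * r⁻¹ * t⁻¹) := by rw [← hc2]
        _ = (r * r) * t * (r * r)⁻¹ * t⁻¹ := by group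
    rw [← e1, e2]
  have consA : ∀ r ∈ R, r ∉ normalizer (T : Set S) → r * r ∈ normalizer (T : Set S) →
      ∀ t ∈ T, t ∉ normalizer (R : Set S) → t * t = 1 := by
    intro r hr hrN hrr t ht htN
    have h1 := I1 r hr hrN t ht htN
    have h2 : (r * r) * t * (r * r)⁻¹ ∈ T := (mem_normalizer_iff.mp hrr t).mp ht
    have h3 : r * (t * t) * r⁻¹ * (t * t)⁻¹ ∈ T := by
      rw [h1]
      exact mul_mem h2 (inv_mem ht)
    have h4 : r * (t * t) * r⁻¹ ∈ T := by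
      have := mul_mem h3 (mul_mem ht ht)
      rwa [inv_mul_cancel_right] at this
    exact ((hT r hr).resolve_left hrN).2 (t * t) (mul_mem ht ht) h4
  have consB : ∀ t ∈ T, t ∉ normalizer (R : Set S) → t * t ∈ normalizer (R : Set S) →
      ∀ r ∈ R, r ∉ normalizer (T : Set S) → r * r = 1 := by
    intro t ht htN htt r hr hrN
    have h1 := I1 r hr hrN t ht htN
    have h2 : (t * t) * r⁻¹ * (t * t)⁻¹ ∈ R := (mem_normalizer_iff.mp htt r⁻¹).mp (inv_mem hr)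
    have h3 : (r * r) * t * (r * r)⁻¹ * t⁻¹ ∈ R := by
      rw [← h1]
      have : r * (t * t) * r⁻¹ * (t * t)⁻¹ = r * ((t * t) * r⁻¹ * (t * t)⁻¹) := by group
      rw [this]
      exact mul_mem hr h2
    have h4 : t * (r * r)⁻¹ * t⁻¹ ∈ R := by
      have := mul_mem (inv_mem (mul_mem hr hr)) h3
      have e : (r * r)⁻¹ * ((r * r) * t * (r * r)⁻¹ * t⁻¹) = t * (r * r)⁻¹ * t⁻¹ := by group
      rwa [e] at this
    have h5 := ((hR t ht).resolve_left htN).2 (r * r)⁻¹ (inv_mem (mul_mem hr hr)) h4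
    exact inv_eq_one.mp h5
  -- all elements outside the normalizers are involutions
  obtain ⟨k₀, hk₀1, hk₀2⟩ := exists_sq_mem_of_notMem hS (normalizer (T : Set S)) hr₀N
  have hTinv : ∀ t ∈ T, t ∉ normalizer (R : Set S) → t * t = 1 :=
    consA _ (pow_mem hr₀ _) hk₀1 hk₀2
  have hRinv : ∀ r ∈ R, r ∉ normalizer (T : Set S) → r * r = 1 :=
    consB t₀ ht₀ ht₀N (by rw [hTinv t₀ ht₀ ht₀N]; exact one_mem _)
  have hinvert : ∀ r ∈ R, r ∉ normalizer (T : Set S) → ∀ x ∈ R, x ∈ normalizer (T : Set S) →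
      r * x * r⁻¹ = x⁻¹ := by
    intro r hr hrN x hx hxN
    have h1 : r * x ∉ normalizer (T : Set S) := by
      intro h
      apply hrN
      have := mul_mem h (inv_mem hxN)
      rwa [mul_inv_cancel_right] at this
    have h2 := hRinv (r * x) (mul_mem hr hx) h1
    have h3 : r⁻¹ = r := inv_eq_of_mul_eq_one_left (hRinv r hr hrN)
    rw [h3]
    have : r * x * r = (r * x * (r * x)) * x⁻¹ := by group
    rw [this, h2, one_mul]
  obtain ⟨y, hyR, hy2⟩ := hsqR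
  have hyN : y ∈ normalizer (T : Set S) := by
    by_contra h
    exact hy2 (hRinv y hyR h)
  obtain ⟨k, hk1, hz1, hz2⟩ := exists_pow_involution hS hy2
  set z := y ^ (2 ^ k) with hz
  have hzR : z ∈ R := pow_mem hyR _
  have hzN : z ∈ normalizer (T : Set S) := pow_mem hyN _
  have hzinv : z⁻¹ = z := inv_eq_of_mul_eq_one_left hz2
  have hR' := (hR t₀ ht₀).resolve_left ht₀N
  have hrz : r₀ * z * r₀⁻¹ = z := by
    rw [hinvert r₀ hr₀ hr₀N z hzR hzN, hzinv]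
  set c := t₀ * y * t₀⁻¹ * y⁻¹ with hc
  have hcT : c ∈ T := by
    have h1 : y * t₀⁻¹ * y⁻¹ ∈ T := (mem_normalizer_iff.mp hyN t₀⁻¹).mp (inv_mem ht₀)
    have : c = t₀ * (y * t₀⁻¹ * y⁻¹) := by rw [hc]; group
    rw [this]
    exact mul_mem ht₀ h1
  have hcomm : Commute (t₀ * y * t₀⁻¹) y⁻¹ := (hR'.1 y⁻¹ (inv_mem hyR) y hyR).symm
  have he : c ^ (2 ^ k) = (t₀ * z * t₀⁻¹) * z⁻¹ := by
    rw [hc, hcomm.mul_pow, conj_pow, inv_pow]
  have heT : (t₀ * z * t₀⁻¹) * z⁻¹ ∈ T := he ▸ pow_mem hcT _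
  have he1 : (t₀ * z * t₀⁻¹) * z⁻¹ ≠ 1 := by
    intro h
    rw [mul_inv_eq_one] at h
    apply hz1
    apply hR'.2 z hzR
    rw [h]
    exact hzR
  have hre : r₀ * ((t₀ * z * t₀⁻¹) * z⁻¹) * r₀⁻¹ = (t₀ * z * t₀⁻¹) * z⁻¹ := by
    have h1 : r₀ * (t₀ * z * t₀⁻¹) = (t₀ * z * t₀⁻¹) * r₀ := hR'.1 r₀ hr₀ z hzR
    have h2 : r₀ * z⁻¹ * r₀⁻¹ = z⁻¹ := by
      rw [hzinv]
      exact hrz
    calc r₀ * ((t₀ * z * t₀⁻¹) * z⁻¹) * r₀⁻¹
        = (r₀ * (t₀ * z * t₀⁻¹)) * r₀⁻¹ * (r₀ * z⁻¹ * r₀⁻¹) := by group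
      _ = ((t₀ * z * t₀⁻¹) * r₀) * r₀⁻¹ * z⁻¹ := by rw [h1, h2]
      _ = (t₀ * z * t₀⁻¹) * z⁻¹ := by group
  exact hr₀N (hTI _ heT he1 r₀ hr₀ hre)

/-- In a finite 2-group, `⟨R, t R t⁻¹⟩` for `t ∈ T` is smaller than `⟨R, T⟩` unless `T ≤ R`. -/
theorem card_sup_conj_lt [Finite S] (hS : IsPGroup 2 S) (R T : Subgroup S) (hne : ¬ T ≤ R) (t : S)
    (ht : t ∈ T) :
    Nat.card ↥(R ⊔ R.map (MulAut.conj t).toMonoidHom) < Nat.card ↥(R ⊔ T) := by
  haveI : Fact (Nat.Prime 2) := ⟨Nat.prime_two⟩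
  set H := R ⊔ T with hH
  have hRH : R ≤ H := le_sup_left
  have hTH : T ≤ H := le_sup_right
  have hR' : R.subgroupOf H ≠ ⊤ := by
    intro h
    rw [subgroupOf_eq_top] at h
    exact hne (hTH.trans h)
  obtain ⟨M, hM, hRM⟩ := (eq_top_or_exists_le_coatom (R.subgroupOf H)).resolve_left hR'
  have hHp : IsPGroup 2 ↥H := hS.to_subgroup H
  have hMn : M.Normal := Cfsg.Agent.Helper21.coatom_normal_of_isPGroup hHp M hM
  have h1 : R ≤ M.map H.subtype := by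
    intro x hx
    exact ⟨⟨x, hRH hx⟩, hRM (mem_subgroupOf.mpr hx), rfl⟩
  have h2 : R.map (MulAut.conj t).toMonoidHom ≤ M.map H.subtype := by
    rintro _ ⟨x, hx, rfl⟩
    have hxM : (⟨x, hRH hx⟩ : ↥H) ∈ M := hRM (mem_subgroupOf.mpr hx)
    have := hMn.conj_mem _ hxM ⟨t, hTH ht⟩
    exact ⟨_, this, by simp [MulAut.conj_apply]⟩
  have h3 : Nat.card ↥(M.map H.subtype) = Nat.card M :=
    Subgroup.card_map_of_injective H.subtype_injective
  have h4 : Nat.card M < Nat.card ↥H := by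
    by_contra hcon
    exact hM.1 (Subgroup.eq_top_of_le_card M (not_lt.mp hcon))
  calc Nat.card ↥(R ⊔ R.map (MulAut.conj t).toMonoidHom)
      ≤ Nat.card ↥(M.map H.subtype) := Subgroup.card_le_of_le (sup_le h1 h2)
    _ = Nat.card M := h3
    _ < Nat.card ↥H := h4

/-- a finite group with a nontrivial Frattini subgroup has an element with nontrivial square -/
theorem exists_sq_ne_one_of_frattini_ne_bot (R : Subgroup S) [Finite R]
    (h : frattini ↥R ≠ ⊥) : ∃ y ∈ R, y * y ≠ 1 := by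
  by_contra hcon
  apply h
  have hsq : ∀ x : ↥R, x * x = 1 := by
    intro x
    by_contra hx
    exact hcon ⟨x, x.2, fun h' => hx (Subtype.ext h')⟩
  have hinv : ∀ x : ↥R, x⁻¹ = x := fun x => inv_eq_of_mul_eq_one_left (hsq x)
  letI : CommGroup ↥R :=
    { (inferInstance : Group ↥R) with
      mul_comm := fun a b => by
        have h1 := hsq (a * b)
        have h2 : a * b = (a * b)⁻¹ := (hinv _).symm
        rw [h2, mul_inv_rev, hinv, hinv] }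
  haveI : Fact (Nat.Prime 2) := ⟨Nat.prime_two⟩
  exact frattini_eq_bot_of_elementary (p := 2) (fun a => by rw [pow_two]; exact hsq a)

end Cfsg.Agent.Helper9
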