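import Mathlib
import Cfsg.Agent.Lib.Helper9.Basic
import Cfsg.Agent.Lib.Helper9.TIFamily
import Cfsg.Agent.Lib.Helper21.PGroupFrattini
import Cfsg.Agent.S1782

set_option autoImplicit false

namespace Cfsg.Agent.Helper9

open Subgroup

variable {X : Type*} [Group X]

/-- TI-family lemma inside a 2-subgroup `P` of an ambient finite group. -/
theorem ti_family_commute_ambient [Finite X] (P : Subgroup X) (hP : IsPGroup 2 P)
    (Δ : Set (Subgroup X)) (hle : ∀ R ∈ Δ, R ≤ P)
    (hinv : ∀ s ∈ P, ∀ R ∈ Δ, R.map (MulAut.conj s).toMonoidHom ∈ Δ)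
    (hsq : ∀ R ∈ Δ, ∃ y ∈ R, y * y ≠ 1)
    (hord : ∀ R ∈ Δ, ∀ T ∈ Δ, Nat.card R = Nat.card T)
    (hti : ∀ R ∈ Δ, ∀ T ∈ Δ, R = T ∨ R ⊓ T = ⊥) :
    ∀ R ∈ Δ, ∀ T ∈ Δ, R ≠ T → ∀ r ∈ R, ∀ t ∈ T, r * t = t * r := by
  haveI : Fact (Nat.Prime 2) := ⟨Nat.prime_two⟩
  set Δ' : Set (Subgroup ↥P) := {U | U.map P.subtype ∈ Δ} with hΔ'
  have hmem : ∀ R ∈ Δ, R.subgroupOf P ∈ Δ' := by
    intro R hR
    show (R.subgroupOf P).map P.subtype ∈ Δ
    rw [Subgroup.map_subgroupOf_eq_of_le (hle R hR)]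
    exact hR
  have hinj : Function.Injective (Subgroup.map P.subtype) :=
    Subgroup.map_injective P.subtype_injective
  have hinv' : ∀ s : ↥P, ∀ U ∈ Δ', U.map (MulAut.conj s).toMonoidHom ∈ Δ' := by
    intro s U hU
    show (U.map (MulAut.conj s).toMonoidHom).map P.subtype ∈ Δ
    have h1 : (U.map (MulAut.conj s).toMonoidHom).map P.subtype =
        (U.map P.subtype).map (MulAut.conj (s : X)).toMonoidHom := by
      rw [Subgroup.map_map, Subgroup.map_map]
      congr 1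
    rw [h1]
    exact hinv s s.2 _ hU
  have hΦ' : ∀ U ∈ Δ', frattini ↥U ≠ ⊥ := by
    intro U hU hbot
    obtain ⟨y, hy, hy2⟩ := hsq _ hU
    obtain ⟨u, hu, rfl⟩ := hy
    have hUp : IsPGroup 2 ↥U := (hP.to_subgroup U)
    have h1 := Cfsg.Agent.Helper21.pow_mem_frattini_of_isPGroup hUp (⟨u, hu⟩ : ↥U)
    rw [hbot, mem_bot] at h1
    apply hy2
    have h2 := congrArg (fun w : ↥U => ((w : ↥P) : X)) h1
    simpa [pow_two] using h2
  have hord' : ∀ U ∈ Δ', ∀ V ∈ Δ', Nat.card ↥U = Nat.card ↥V := by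
    intro U hU V hV
    rw [← Subgroup.card_map_of_injective (K := U) P.subtype_injective,
      ← Subgroup.card_map_of_injective (K := V) P.subtype_injective]
    exact hord _ hU _ hV
  have hti' : ∀ U ∈ Δ', ∀ V ∈ Δ', U = V ∨ U ⊓ V = ⊥ := by
    intro U hU V hV
    rcases hti _ hU _ hV with h | h
    · exact Or.inl (hinj h)
    · right
      rw [← Subgroup.map_eq_bot_iff_of_injective _ P.subtype_injective, eq_bot_iff, ← h]
      exact Subgroup.map_inf_le _ _ _
  have key := Cfsg.Agent.S1782.result hP Δ' hinv' hΦ' hord' hti'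
  intro R hR T hT hne r hr t ht
  have hne' : R.subgroupOf P ≠ T.subgroupOf P := by
    intro h
    apply hne
    have := congrArg (Subgroup.map P.subtype) h
    rwa [Subgroup.map_subgroupOf_eq_of_le (hle R hR),
      Subgroup.map_subgroupOf_eq_of_le (hle T hT)] at this
  have hcomm := key _ (hmem R hR) _ (hmem T hT) hne'
  rw [Subgroup.commutator_eq_bot_iff_le_centralizer] at hcomm
  have hr' : (⟨r, hle R hR hr⟩ : ↥P) ∈ R.subgroupOf P := mem_subgroupOf.mpr hr
  have ht' : (⟨t, hle T hT ht⟩ : ↥P) ∈ T.subgroupOf P := mem_subgroupOf.mpr ht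
  have := mem_centralizer_iff.mp (hcomm hr') _ ht'
  exact (congrArg (fun w : ↥P => (w : X)) this).symm

theorem map_conj_map_conj (A : Subgroup X) (s x : X) :
    (A.map (MulAut.conj x).toMonoidHom).map (MulAut.conj s).toMonoidHom =
      A.map (MulAut.conj (s * x)).toMonoidHom := by
  ext y
  rw [mem_map_conj, mem_map_conj, mem_map_conj]
  have : x⁻¹ * (s⁻¹ * y * s) * x = (s * x)⁻¹ * y * (s * x) := by group
  rw [this]

theorem map_conj_one (A : Subgroup X) : A.map (MulAut.conj (1 : X)).toMonoidHom = A := by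
  ext y
  rw [mem_map_conj]
  simp

/-- conjugates of a TI subgroup form a TI family -/
theorem ti_conj_of_ti {A : Subgroup X}
    (hti : ∀ h : X, A.map (MulAut.conj h).toMonoidHom = A ∨
      A.map (MulAut.conj h).toMonoidHom ⊓ A = ⊥) (x y : X) :
    A.map (MulAut.conj x).toMonoidHom = A.map (MulAut.conj y).toMonoidHom ∨
      A.map (MulAut.conj x).toMonoidHom ⊓ A.map (MulAut.conj y).toMonoidHom = ⊥ := by
  have hy : A.map (MulAut.conj y).toMonoidHom =
      (A.map (MulAut.conj (x⁻¹ * y)).toMonoidHom).map (MulAut.conj x).toMonoidHom := by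
    rw [map_conj_map_conj]
    congr 3
    group
  rcases hti (x⁻¹ * y) with h | h
  · left
    rw [hy, h]
  · right
    rw [hy, inf_comm, ← Subgroup.map_inf _ _ _ (MulAut.conj x).injective, h, Subgroup.map_bot]

end Cfsg.Agent.Helper9
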