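import Mathlib
import Cfsg.Agent.Lib.Helper9.TSLISOCore
import Cfsg.Agent.Lib.Helper12.TSLT
import Cfsg.Agent.Lib.Helper11.TSLKW
import Cfsg.Agent.Lib.Helper1.TSLXY
import Cfsg.Agent.Lib.Helper16.TSLNF
import Cfsg.Agent.Lib.Helper19.TSLHOM
import Cfsg.Agent.Lib.Lead.TSLKAPPAW
import Cfsg.Agent.Lib.Helper17.TSLSDP
import Cfsg.Agent.Lib.Helper17.TSLCARDSTAB

/-!
# S3366 piece ISO (helper9, for helper17): `iso_stab`, from `iso_core` and the landed pieces.
-/

set_option autoImplicit false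

namespace Cfsg.Agent.Helper17.TSL

open Cfsg.Agent.Helper2.Symp
open scoped Cfsg.Agent.Helper2.Symp

/-- PIECE ISO -/
theorem iso_stab {X : Type*} [Group X] [Finite X] (S : Setup X) :
    Nonempty (X ≃* MulAction.stabilizer G3 u0) :=
  iso_core S (exists_t S) (fun t ht hπ => exists_K S t ht hπ) (fun t ht hπ => exists_xy S t ht hπ)
    (fun x y hx hy hxy r hr => normal_form S x y hx hy hxy r hr)
    (fun x y hx hy hxy x' y' h1 h2 h3 h4 h5 => exists_hom S x y hx hy hxy x' y' h1 h2 h3 h4 h5)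
    (fun t ht hπ K h1 h2 h3 h4 x y hx hy hxt hyt hxy =>
      exists_kappa S t ht hπ K h1 h2 h3 h4 x y hx hy hxt hyt hxy)
    (fun R K hn hRK hcov ρ lam heq => sdp_hom R K hn hRK hcov ρ lam heq) card_stab

end Cfsg.Agent.Helper17.TSL
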