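import Mathlib
import Cfsg.Agent.Lib.Helper27.Tw6Defs
import Cfsg.Agent.Lib.Helper27.Tw6FIXA
import Cfsg.Agent.Lib.Helper17.InvNCONDM

/-!
S2182, piece CONDT (duplicate of Lib/Helper27/Tw6CONDT.lean, which is the one in use; names changed to
avoid a clash): for an involution of the twisted group lying in a cell which is maximal among
its conjugates under the twisted group, every class is made negative or permuted by the word of the
cell.
-/

set_option autoImplicit false
set_option linter.unusedSectionVars false
set_option linter.unusedVariables false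

namespace Cfsg.Agent.Helper27.Tw6

open Cfsg Cfsg.Lie Cfsg.Agent.Lead.Chev Cfsg.Agent.Lead.Tw Cfsg.Agent.Helper13.InvN Cfsg.Agent.Helper6.ChevL

section Ambient

variable {F : Type*} [Field F] {D : ChevalleyDatum} (hF : ChevFacts D F) (hS : CorSize D) (hI : CorInj D)
include hF hS hI

/-- conjugation by `n_i` moves an involution of the cell of `w` into the cell of `i :: w ++ [i]`, longer by
at least two, when `w α_i` is positive and different from `α_i` -/
theorem tw6condt9_step (g : GL D.Idx F) (hgg : g * g = 1) (w : List ℕ) (hw : WOK D w)
    (hcell : InCell hF g w) (i : ℕ) (hi : i < D.rank)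
    (hpos : D.IsPosRoot (reflWord D w (D.simple i)))
    (hfix : reflWord D w (D.simple i) ≠ D.simple i) :
    InCell hF (nGL D hF.xadd (D.simple i) * g * (nGL D hF.xadd (D.simple i))⁻¹) (i :: (w ++ [i])) ∧
      len D w + 2 ≤ len D (i :: (w ++ [i])) := by
  obtain ⟨hinv, hrev⟩ := invol_of_sq hF hS hI g hgg w hw hcell
  have hp := hF.simple_lt i hi
  have h1 := cell_mul_simple hF hS hI g w hw i hi hpos hcell
  have hpos2 : D.IsPosRoot (reflWord D (w ++ [i]).reverse (D.simple i)) := by
    rw [List.reverse_append, List.reverse_singleton, List.singleton_append]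
    show D.IsPosRoot (D.reflectRoot i (reflWord D w.reverse (D.simple i)))
    rw [hrev _ hp]
    exact hF.refl.refl_pos i hi _ hpos hfix
  have h2 := cell_simple_mul hF hS hI _ (w ++ [i]) (hw.snoc hi) i hi hpos2 h1
  have e : nGL D hF.xadd (D.simple i) * (g * (nGL D hF.xadd (D.simple i))⁻¹) =
      nGL D hF.xadd (D.simple i) * g * (nGL D hF.xadd (D.simple i))⁻¹ := by group
  rw [e] at h2
  have l1 := len_snoc_lt hF hS hI w hw i hi hpos
  have l2 := len_cons_lt hF hS hI (w ++ [i]) (hw.snoc hi) i hi hpos2
  exact ⟨h2, by omega⟩

end Ambient

variable {K : Type*} [Field K] [Fintype K] [CharP K 2] {D : ChevalleyDatum} {hF : ChevFacts D K}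
  {T : Twist D K hF.xadd} {π' : ℕ → ℕ} {S l₀ : List (List ℕ)} {f : K ≃+* K} (hX : Ctx hF T π' S l₀ f)
include hX

/-- PIECE CONDT: maximality among the `G₁`-conjugates: every class is made negative or permuted -/
theorem tw6condt9_condT_of_max (g : GL D.Idx K) (hg : g ∈ orthGroup hF T S) (hgg : g * g = 1) (w : List ℕ) (hw : WOK D w)
    (h : IsMaxCellT hF (orthGroup hF T S) g w) : CondT D S w := by
  have hS := hX.corS
  have hI := hX.corI
  obtain ⟨hcell, hmax⟩ := h
  have hrc : RhoComm D T.ρ w := cell_rhoComm hX g hg w hw hcell
  intro v hv
  have hcls := hX.orth.cls v hv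
  have hlen := hX.len2 v hv
  have hnil := hX.orth.ne_nil v hv
  have hnv : nWordGL D hF.xadd v ∈ orthGroup hF T S := hX.orth.s_mem v hv
  have horb := hX.orb v hv
  have horth := hX.orthRefl v hv
  rcases v with _ | ⟨i, _ | ⟨j, _ | ⟨k, l⟩⟩⟩
  · exact absurd rfl hnil
  · -- a class with one element
    have hi : i < D.rank := hcls.valid i (List.mem_singleton.2 rfl)
    have hp := hF.simple_lt i hi
    have hq : reflWord D w (D.simple i) < D.nroots := reflWord_lt D (etaOf D) hF.facts w hw _ hp
    rcases hF.sign.pos_or_neg _ hq with hpos | hneg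
    · by_cases hfix : reflWord D w (D.simple i) = D.simple i
      · right
        intro i' hi'
        rw [List.mem_singleton.1 hi']
        exact ⟨i, List.mem_singleton.2 rfl, hfix⟩
      · exfalso
        obtain ⟨hc1, hl1⟩ := tw6condt9_step hF hS hI g hgg w hw hcell i hi hpos hfix
        have e : nWordGL D hF.xadd [i] = nGL D hF.xadd (D.simple i) := by
          rw [nWordGL_cons, nWordGL_nil, mul_one]
        rw [e] at hnv
        have h3 := hmax _ hnv (i :: (w ++ [i])) (WOK.cons hi (hw.snoc hi)) hc1
        omega
    · left
      intro i' hi'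
      rw [List.mem_singleton.1 hi']
      exact hneg
  · -- a class with two elements
    have hi : i < D.rank := hcls.valid i (List.mem_cons_self)
    have hj : j < D.rank := hcls.valid j (List.mem_cons_of_mem _ (List.mem_singleton.2 rfl))
    have hmi : i ∈ [i, j] := List.mem_cons_self
    have hmj : j ∈ [i, j] := List.mem_cons_of_mem _ (List.mem_singleton.2 rfl)
    have hij : i ≠ j := by
      have hnd := hcls.nodup
      intro e
      rw [e] at hnd
      simp at hnd
    have hπi : T.π i = j := by
      rcases horb i hmi j hmj with e | e
      · exact absurd e.symm hij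
      · exact e.symm
    have hπj : T.π j = i := by
      rcases horb j hmj i hmi with e | e
      · exact absurd e hij
      · exact e.symm
    have hpi := hF.simple_lt i hi
    have hpj := hF.simple_lt j hj
    have hρi : T.ρ (D.simple i) = D.simple j := by rw [T.ρ_simple i hi, hπi]
    have hρj : T.ρ (D.simple j) = D.simple i := by rw [T.ρ_simple j hj, hπj]
    have hwj : reflWord D w (D.simple j) = T.ρ (reflWord D w (D.simple i)) := by
      rw [← hrc _ hpi, hρi]
    have hwi : reflWord D w (D.simple i) = T.ρ (reflWord D w (D.simple j)) := by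
      rw [← hrc _ hpj, hρj]
    have hqi : reflWord D w (D.simple i) < D.nroots := reflWord_lt D (etaOf D) hF.facts w hw _ hpi
    have hmem : ∀ i' ∈ [i, j], i' = i ∨ i' = j := by
      intro i' hi'
      rcases List.mem_cons.1 hi' with e | e
      · exact Or.inl e
      · exact Or.inr (List.mem_singleton.1 e)
    rcases hF.sign.pos_or_neg _ hqi with hpos | hneg
    · have hposj : D.IsPosRoot (reflWord D w (D.simple j)) := by
        rw [hwj]
        exact T.ρ_pos _ hpos
      by_cases h1 : reflWord D w (D.simple i) = D.simple i
      · right
        intro i' hi'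
        rcases hmem i' hi' with rfl | rfl
        · exact ⟨i', hmi, h1⟩
        · exact ⟨i', hmj, by rw [hwj, h1, hρi]⟩
      · by_cases h2 : reflWord D w (D.simple i) = D.simple j
        · right
          intro i' hi'
          rcases hmem i' hi' with rfl | rfl
          · exact ⟨j, hmj, h2⟩
          · exact ⟨i, hmi, by rw [hwj, h2, hρj]⟩
        · exfalso
          have h3 : reflWord D w (D.simple j) ≠ D.simple j := by
            intro e
            apply h1
            rw [hwi, e, hρj]
          -- first step: conjugation by `n_j`
          obtain ⟨hc1, hl1⟩ := tw6condt9_step hF hS hI g hgg w hw hcell j hj hposj h3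
          have hgg1 : nGL D hF.xadd (D.simple j) * g * (nGL D hF.xadd (D.simple j))⁻¹ *
              (nGL D hF.xadd (D.simple j) * g * (nGL D hF.xadd (D.simple j))⁻¹) = 1 := by
            have e : nGL D hF.xadd (D.simple j) * g * (nGL D hF.xadd (D.simple j))⁻¹ *
                (nGL D hF.xadd (D.simple j) * g * (nGL D hF.xadd (D.simple j))⁻¹) =
                nGL D hF.xadd (D.simple j) * (g * g) * (nGL D hF.xadd (D.simple j))⁻¹ := by group
            rw [e, hgg, mul_one, mul_inv_cancel]
          have hw1 : WOK D (j :: (w ++ [j])) := WOK.cons hj (hw.snoc hj)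
          -- the image of `α_i` under the new word
          have e1 : reflWord D (j :: (w ++ [j])) (D.simple i) =
              D.reflectRoot j (reflWord D w (D.simple i)) := by
            show D.reflectRoot j (reflWord D (w ++ [j]) (D.simple i)) = _
            rw [reflWord_snoc, horth j hmj i hmi hij.symm]
          have hpos1 : D.IsPosRoot (reflWord D (j :: (w ++ [j])) (D.simple i)) := by
            rw [e1]
            exact hF.refl.refl_pos j hj _ hpos h2
          have hne1 : reflWord D (j :: (w ++ [j])) (D.simple i) ≠ D.simple i := by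
            rw [e1]
            intro e
            apply h1
            have h4 := (hF.facts j hj).winv _ hqi
            rw [e, horth j hmj i hmi hij.symm] at h4
            exact h4.symm
          obtain ⟨hc2, hl2⟩ := tw6condt9_step hF hS hI _ hgg1 (j :: (w ++ [j])) hw1 hc1 i hi hpos1 hne1
          have e2 : nWordGL D hF.xadd [i, j] =
              nGL D hF.xadd (D.simple i) * nGL D hF.xadd (D.simple j) := by
            rw [nWordGL_cons, nWordGL_cons, nWordGL_nil, mul_one]
          have e3 : nGL D hF.xadd (D.simple i) *
              (nGL D hF.xadd (D.simple j) * g * (nGL D hF.xadd (D.simple j))⁻¹) *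
              (nGL D hF.xadd (D.simple i))⁻¹ =
              nWordGL D hF.xadd [i, j] * g * (nWordGL D hF.xadd [i, j])⁻¹ := by
            rw [e2]
            group
          rw [e3] at hc2
          have h5 := hmax _ hnv (i :: ((j :: (w ++ [j])) ++ [i])) (WOK.cons hi (hw1.snoc hi)) hc2
          omega
    · left
      intro i' hi'
      rcases hmem i' hi' with rfl | rfl
      · exact hneg
      · rw [hwj]
        exact T.ρ_negRoot hF _ hneg
  · -- more than two elements: excluded
    simp at hlen

end Cfsg.Agent.Helper27.Tw6
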