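import Mathlib

set_option autoImplicit false

namespace Cfsg.Agent.Helper9

/-- In a 2-group, a nontrivial element has a power of order exactly 2. -/
theorem exists_pow_order_two {A : Type*} [Group A] (hA : IsPGroup 2 A) {x : A} (hx : x ≠ 1) :
    ∃ n : ℕ, x ^ n ≠ 1 ∧ (x ^ n) ^ 2 = 1 := by
  obtain ⟨m, hm⟩ := (IsPGroup.iff_orderOf (p := 2)).mp hA x
  have hm1 : m ≠ 0 := by
    rintro rfl
    rw [pow_zero, orderOf_eq_one_iff] at hm
    exact hx hm
  obtain ⟨m', rfl⟩ := Nat.exists_eq_succ_of_ne_zero hm1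
  refine ⟨2 ^ m', ?_, ?_⟩
  · intro h
    have := orderOf_dvd_of_pow_eq_one h
    rw [hm] at this
    have h2 : 2 ^ (m' + 1) ≤ 2 ^ m' := Nat.le_of_dvd (by positivity) this
    have : 2 ^ m' < 2 ^ (m' + 1) := Nat.pow_lt_pow_right (by norm_num) (by omega)
    omega
  · rw [← pow_mul, ← pow_succ, ← hm, pow_orderOf_eq_one]

/-- An automorphism of 2-power order of a finite abelian 2-group has a nontrivial fixed point on
every nontrivial invariant subgroup. -/
theorem exists_fixed_of_two_pow {A : Type*} [CommGroup A] (hA : IsPGroup 2 A) (k : ℕ) :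
    ∀ (u : MulAut A) (I : Subgroup A), u ^ (2 ^ k) = 1 → (∀ x ∈ I, u x ∈ I) → I ≠ ⊥ →
      ∃ x ∈ I, x ≠ 1 ∧ u x = x := by
  induction k with
  | zero =>
    intro u I hu _ hI
    rw [pow_zero, pow_one] at hu
    obtain ⟨x, hxI, hx⟩ := (I.bot_or_exists_ne_one).resolve_left hI
    exact ⟨x, hxI, hx, by rw [hu]; rfl⟩
  | succ k ih =>
    intro u I hu hinv hI
    have hu2 : (u * u) ^ (2 ^ k) = 1 := by
      rw [← pow_two, ← pow_mul, ← pow_succ']; exact hu
    obtain ⟨x, hxI, hx1, hxfix⟩ := ih (u * u) I hu2 (fun x hx => hinv _ (hinv _ hx)) hI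
    have hxfix' : u (u x) = x := hxfix
    obtain ⟨n, hn1, hn2⟩ := exists_pow_order_two hA hx1
    set x' := x ^ n with hx'
    have hx'I : x' ∈ I := I.pow_mem hxI n
    have hx'fix : u (u x') = x' := by
      rw [hx', map_pow, map_pow, hxfix']
    by_cases hy : x' * u x' = 1
    · -- then u x' = x'⁻¹ = x'
      refine ⟨x', hx'I, hn1, ?_⟩
      have h1 : u x' = x'⁻¹ := eq_inv_of_mul_eq_one_right hy
      have h2 : x'⁻¹ = x' := by
        rw [inv_eq_iff_eq_inv, eq_inv_iff_mul_eq_one, ← pow_two]; exact hn2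
      rw [h1, h2]
    · refine ⟨x' * u x', I.mul_mem hx'I (hinv _ hx'I), hy, ?_⟩
      rw [map_mul, hx'fix, mul_comm]

/-- the homomorphism a ↦ t a * a⁻¹ of an abelian group -/
def commHom {A : Type*} [CommGroup A] (t : MulAut A) : A →* A where
  toFun a := t a * a⁻¹
  map_one' := by simp
  map_mul' a b := by
    rw [map_mul, mul_inv]
    exact mul_mul_mul_comm _ _ _ _

theorem commHom_apply {A : Type*} [CommGroup A] (t : MulAut A) (a : A) :
    commHom t a = t a * a⁻¹ := rfl

/-- An automorphism `t` of 2-power order of an abelian 2-group such that every fixed point of `t²` is a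
fixed point of `t` is trivial. -/
theorem aut_trivial_of_fix_sq {A : Type*} [CommGroup A]
    (hA : IsPGroup 2 A) (t : MulAut A) (ht : ∃ k : ℕ, orderOf t = 2 ^ k) (hC : ∀ a : A, t (t a) = a → t a = a) :
    ∀ a : A, t a = a := by
  by_contra hcon
  push_neg at hcon
  obtain ⟨a₀, ha₀⟩ := hcon
  obtain ⟨k, hk⟩ := ht
  have htk : t ^ (2 ^ k) = 1 := by rw [← hk]; exact pow_orderOf_eq_one t
  set N := commHom t with hN
  have hI : N.range ≠ ⊥ := by
    intro h
    have : N a₀ ∈ N.range := ⟨a₀, rfl⟩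
    rw [h, Subgroup.mem_bot, hN, commHom_apply, mul_inv_eq_one] at this
    exact ha₀ this
  have hinv : ∀ x ∈ N.range, t x ∈ N.range := by
    rintro _ ⟨a, rfl⟩
    refine ⟨t a, ?_⟩
    rw [hN, commHom_apply, commHom_apply, map_mul, map_inv]
  obtain ⟨w, ⟨a, rfl⟩, hw1, hwfix⟩ := exists_fixed_of_two_pow hA k t N.range htk hinv hI
  obtain ⟨n, hn1, hn2⟩ := exists_pow_order_two hA hw1
  have hta : t a = N a * a := by
    rw [hN, commHom_apply, inv_mul_cancel_right]
  have htan : t (a ^ n) = (N a) ^ n * a ^ n := by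
    rw [map_pow, hta, mul_pow]
  have hwn : t ((N a) ^ n) = (N a) ^ n := by rw [map_pow, hwfix]
  have h2 : t (t (a ^ n)) = a ^ n := by
    rw [htan, map_mul, hwn, htan, ← mul_assoc, ← pow_two, hn2, one_mul]
  have h3 := hC _ h2
  rw [htan] at h3
  exact hn1 (mul_eq_right.mp h3)

end Cfsg.Agent.Helper9
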