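import Mathlib
import Cfsg.Agent.Lib.Helper9.TC2Spor
import Cfsg.Agent.Lib.Helper9.TC2Cyc
import Cfsg.Agent.Lib.Helper9.TCData.U34A0.Cert
import Cfsg.Agent.Lib.Helper9.TCData.U34B0.Cert
import Cfsg.Agent.Lib.Helper9.TCData.U34CX.Cert

set_option autoImplicit false
set_option maxRecDepth 1000000

/-! The group presented by `a² = b³ = (ab)¹³ = [a,b]⁵ = [a,babab]³ = 1` is simple of order
62400. -/

namespace Cfsg.Agent.Helper9.U34Simple

open Cfsg.Agent.Helper9 Cfsg.Agent.Helper9.TC2 Cfsg.Agent.Helper9.TCData Cfsg.Spor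

/-- The presented group. -/
abbrev PU34 : Type := PresentedGroup (relSet U34B0.edges U34B0.extra)

theorem hub : Finite PU34 ∧ Nat.card PU34 ≤ 62400 := by
  have hH := card_coxH_single_le (edges := U34A0.edges) (extra := U34A0.extra)
    (FreeGroup.mk [((0 : Fin 2), true), ((1 : Fin 2), true)]) 13 (by decide) (by
      right
      show _ ∈ U34A0.extra
      decide +kernel)
  have h0 := U34A0.cert.card_le hH.1 hH.2
  rw [U34A0.cert_n] at h0
  exact h0

theorem hslp : ∀ j < U34B0.slp.length, ∀ c ∈ (U34B0.slp.getD j (0, [])).2, c < U34B0.tab.k + j := by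
  decide +kernel

theorem hok : U34B0.cert.LevsOK (U34B0.tab.k + U34B0.slp.length) U34B0.lidx U34B0.lpar U34B0.lgi 0 []
    U34B0.levs := by
  unfold U34B0.levs
  refine ⟨by decide, by decide +kernel, U34B0.hT0, by decide +kernel, ?_⟩
  refine ⟨by decide, by decide +kernel, U34B0.hT1, by decide +kernel, ?_⟩
  refine ⟨by decide, by decide +kernel, U34B0.hT2, by decide +kernel, ?_⟩
  trivial

theorem hprod : CoxCert.levProd U34B0.levs = 62400 := by decide +kernel

theorem hlab : ∀ i < U34B0.cert.D.n, U34B0.orb.lab i < 2 := by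
  intro i hi
  have := U34B0.hOL i hi
  rwa [Nat.blt_eq] at this

theorem hroot : ∀ l < 2, U34B0.orb.root l < U34B0.cert.D.n ∧ U34B0.orb.lab (U34B0.orb.root l) = l := by
  decide +kernel

theorem hsz : ∀ l < 2, cnt (fun i => Nat.beq (U34B0.orb.lab i) l) U34B0.cert.D.n =
    ([1, 64] : List ℕ).getD l 0 := by
  decide +kernel

theorem hsub : ∀ T ∈ (Finset.range 2).powerset, 0 ∈ T →
    (∑ l ∈ T, ([1, 64] : List ℕ).getD l 0) ∣ U34B0.cert.D.n →
    T = {0} ∨ T = Finset.range 2 := by
  decide +kernel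

theorem hxw : colWord U34B0.cert.cols U34CX.xelt = U34B0.xw := by decide +kernel

theorem hx : ∀ i < U34B0.cert.D.n,
    (runT U34B0.cert.D (colWord U34B0.cert.cols U34CX.xelt))^[13 ^ 1] i = i := by
  intro i hi
  rw [hxw]
  exact Nat.eq_of_beq_eq_true (U34B0.hX i hi)

/-- The presented group is simple of order 62400. -/
theorem u34_simple : IsSimpleGroup PU34 ∧ Nat.card PU34 = 62400 := by
  have : Fact (Nat.Prime 13) := ⟨by norm_num⟩
  exact U34B0.cert.isSimple_card 62400 hub U34B0.slp hslp U34B0.hSlp U34B0.lidx U34B0.lpar U34B0.lgi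
    U34B0.levs hok hprod U34B0.orb U34B0.hO1 U34B0.hO2 2 0 [1, 64] hlab hroot hsz
    (by decide +kernel) (by decide) (by decide) hsub 13 1 (by decide) (by norm_num) (by norm_num)
    U34CX.xelt 1 hx (by
      have h := (U34CX.cert.card_eq_of_nil (by intro s hs; exact absurd hs (by simp [U34CX.sgensL]))).2
      rw [U34CX.cert_n] at h
      exact h)

end Cfsg.Agent.Helper9.U34Simple
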