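import Mathlib
import Cfsg.Agent.Lib.Helper9.F16

set_option autoImplicit false
set_option maxRecDepth 100000

/-! Vectors and matrices of size 3 over the field with sixteen elements. Families of invertible
matrices and the values of words in them. -/

namespace Cfsg.Agent.Helper9.Vec3F16

open Matrix

/-- The entries of a vector. -/
structure V3 where
  x0 : F16
  x1 : F16
  x2 : F16
deriving DecidableEq

/-- The vector of the entries. -/
def V3.toVec (v : V3) : Fin 3 → F16 :=
  ![v.x0, v.x1, v.x2]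

/-- The entries of a vector. -/
def V3.ofVec (f : Fin 3 → F16) : V3 :=
  ⟨f 0, f 1, f 2⟩

/-- The difference of two vectors. -/
def V3.sub (u v : V3) : V3 :=
  ⟨u.x0 - v.x0, u.x1 - v.x1, u.x2 - v.x2⟩

/-- The product of a row and a column. -/
def dot (r v : V3) : F16 :=
  r.x0 * v.x0 + r.x1 * v.x1 + r.x2 * v.x2

/-- The rows of a matrix. -/
structure M3 where
  r0 : V3
  r1 : V3
  r2 : V3

/-- The product of a matrix and a column. -/
def M3.app (M : M3) (v : V3) : V3 :=
  ⟨dot M.r0 v, dot M.r1 v, dot M.r2 v⟩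

/-- The matrix of the rows. -/
def M3.toMat (M : M3) : Matrix (Fin 3) (Fin 3) F16 := Matrix.of
  ![M.r0.toVec, M.r1.toVec, M.r2.toVec]

theorem dot_eq (r v : V3) : dot r v = r.toVec ⬝ᵥ v.toVec := by
  simp only [dot, dotProduct, V3.toVec]
  simp only [Fin.sum_univ_succ, Fin.sum_univ_zero, Matrix.cons_val_zero, Matrix.cons_val_succ,
    add_zero]
  ring

theorem toVec_ofVec (f : Fin 3 → F16) : (V3.ofVec f).toVec = f := by
  ext i
  fin_cases i <;> rfl

theorem sub_toVec (u v : V3) : (u.sub v).toVec = u.toVec - v.toVec := by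
  ext i
  fin_cases i <;> rfl

theorem toMat_mulVec (M : M3) (v : V3) : M.toMat *ᵥ v.toVec = (M.app v).toVec := by
  ext i
  fin_cases i <;> exact (dot_eq _ _).symm

/-- The basis vectors. -/
def bas : Fin 3 → V3 := ![
  ⟨1, 0, 0⟩,
  ⟨0, 1, 0⟩,
  ⟨0, 0, 1⟩]

/-- The zero vector. -/
def vzero : V3 := ⟨0, 0, 0⟩

theorem vzero_toVec : vzero.toVec = 0 := by
  ext i
  fin_cases i <;> rfl

theorem bas_toVec (j : Fin 3) : (bas j).toVec = Pi.single j 1 := by
  ext i
  fin_cases j <;> fin_cases i <;> simp [bas, V3.toVec]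

/-- Two matrices which agree on the basis vectors are equal. -/
theorem eq_of_bas (A B : Matrix (Fin 3) (Fin 3) F16)
    (h : ∀ j : Fin 3, A *ᵥ (bas j).toVec = B *ᵥ (bas j).toVec) : A = B := by
  ext i j
  have h1 := congrFun (h j) i
  rw [bas_toVec, Matrix.mulVec_single_one, Matrix.mulVec_single_one] at h1
  exact h1

/-- A matrix which fixes the basis vectors is the identity. -/
theorem eq_one_of_bas (A : Matrix (Fin 3) (Fin 3) F16)
    (h : ∀ j : Fin 3, A *ᵥ (bas j).toVec = (bas j).toVec) : A = 1 := by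
  apply eq_of_bas
  intro j
  rw [h j, Matrix.one_mulVec]

theorem toMat_mul_eq_one (A B : M3) (h : ∀ j : Fin 3, A.app (B.app (bas j)) = bas j) :
    A.toMat * B.toMat = 1 := by
  apply eq_one_of_bas
  intro j
  rw [← Matrix.mulVec_mulVec, toMat_mulVec, toMat_mulVec, h j]

/-- A matrix `M` such that `M - 1` has a left inverse has no nonzero fixed vector. -/
theorem fpf_of (M C : M3) (h : ∀ j : Fin 3, C.app ((M.app (bas j)).sub (bas j)) = bas j)
    (v : Fin 3 → F16) (hv : M.toMat *ᵥ v = v) : v = 0 := by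
  have h1 : C.toMat * (M.toMat - 1) = 1 := by
    apply eq_one_of_bas
    intro j
    rw [← Matrix.mulVec_mulVec, Matrix.sub_mulVec, Matrix.one_mulVec, toMat_mulVec, ← sub_toVec,
      toMat_mulVec, h j]
  have h2 : (M.toMat - 1) *ᵥ v = 0 := by
    rw [Matrix.sub_mulVec, Matrix.one_mulVec, hv, sub_self]
  have h3 : (C.toMat * (M.toMat - 1)) *ᵥ v = 0 := by
    rw [← Matrix.mulVec_mulVec, h2, Matrix.mulVec_zero]
  rw [h1, Matrix.one_mulVec] at h3
  exact h3

section Family

variable {ι : Type} (g gi : ι → M3)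

/-- The value of a word in the matrices and their inverses on a vector. -/
def ev : List (ι × Bool) → V3 → V3
  | [], v => v
  | (s, true) :: L, v => (g s).app (ev L v)
  | (s, false) :: L, v => (gi s).app (ev L v)

variable (hg : ∀ s : ι, ∀ j : Fin 3, (g s).app ((gi s).app (bas j)) = bas j)
  (hgi : ∀ s : ι, ∀ j : Fin 3, (gi s).app ((g s).app (bas j)) = bas j)

/-- The matrices as units. -/
def unitOf (s : ι) : GL (Fin 3) F16 :=
  ⟨(g s).toMat, (gi s).toMat, toMat_mul_eq_one _ _ (hg s), toMat_mul_eq_one _ _ (hgi s)⟩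

theorem unitOf_val (s : ι) : (unitOf g gi hg hgi s).val = (g s).toMat := rfl

theorem unitOf_inv_val (s : ι) : ((unitOf g gi hg hgi s)⁻¹).val = (gi s).toMat := rfl

theorem lift_mulVec (L : List (ι × Bool)) (v : V3) :
    ((FreeGroup.lift (unitOf g gi hg hgi) (FreeGroup.mk L) : GL (Fin 3) F16)).val *ᵥ v.toVec =
      (ev g gi L v).toVec := by
  induction L with
  | nil =>
    have h : (FreeGroup.mk [] : FreeGroup ι) = 1 := rfl
    rw [h, map_one, ev]
    show (1 : Matrix (Fin 3) (Fin 3) F16) *ᵥ v.toVec = v.toVec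
    rw [Matrix.one_mulVec]
  | cons p L ih =>
    obtain ⟨s, b⟩ := p
    have h : (FreeGroup.mk ((s, b) :: L) : FreeGroup ι) =
        FreeGroup.mk [(s, b)] * FreeGroup.mk L := rfl
    rw [h, map_mul]
    show (((FreeGroup.lift (unitOf g gi hg hgi) (FreeGroup.mk [(s, b)]) : GL (Fin 3) F16)).val *
      ((FreeGroup.lift (unitOf g gi hg hgi) (FreeGroup.mk L) : GL (Fin 3) F16)).val) *ᵥ v.toVec = _
    rw [← Matrix.mulVec_mulVec, ih]
    cases b
    · have h3 : (FreeGroup.mk [(s, false)] : FreeGroup ι) = (FreeGroup.of s)⁻¹ := rfl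
      rw [h3, map_inv, FreeGroup.lift_apply_of, unitOf_inv_val, ev]
      exact toMat_mulVec _ _
    · have h3 : (FreeGroup.mk [(s, true)] : FreeGroup ι) = FreeGroup.of s := rfl
      rw [h3, FreeGroup.lift_apply_of, unitOf_val, ev]
      exact toMat_mulVec _ _

theorem lift_val_eq [DecidableEq ι] (r : FreeGroup ι) (B : M3)
    (h : ∀ j : Fin 3, ev g gi r.toWord (bas j) = B.app (bas j)) :
    ((FreeGroup.lift (unitOf g gi hg hgi) r : GL (Fin 3) F16)).val = B.toMat := by
  have e : r = FreeGroup.mk r.toWord := FreeGroup.mk_toWord.symm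
  rw [e]
  apply eq_of_bas
  intro j
  rw [lift_mulVec, h j, toMat_mulVec]

theorem lift_eq_one [DecidableEq ι] (r : FreeGroup ι)
    (h : ∀ j : Fin 3, ev g gi r.toWord (bas j) = bas j) :
    FreeGroup.lift (unitOf g gi hg hgi) r = 1 := by
  have e : r = FreeGroup.mk r.toWord := FreeGroup.mk_toWord.symm
  rw [e]
  apply Units.ext
  show _ = (1 : Matrix (Fin 3) (Fin 3) F16)
  apply eq_one_of_bas
  intro j
  rw [lift_mulVec, h j]

theorem lift_ne_one [DecidableEq ι] (r : FreeGroup ι) (j : Fin 3)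
    (h : ev g gi r.toWord (bas j) ≠ bas j) :
    FreeGroup.lift (unitOf g gi hg hgi) r ≠ 1 := by
  intro h1
  apply h
  have h3 := lift_mulVec g gi hg hgi r.toWord (bas j)
  rw [FreeGroup.mk_toWord, h1] at h3
  have h4 : (bas j).toVec = (ev g gi r.toWord (bas j)).toVec := by
    rw [← h3]
    show _ = (1 : Matrix (Fin 3) (Fin 3) F16) *ᵥ (bas j).toVec
    rw [Matrix.one_mulVec]
  have h5 := congrArg V3.ofVec h4
  exact h5.symm

end Family

end Cfsg.Agent.Helper9.Vec3F16
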