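import Mathlib
import Cfsg.Prelude.Def_Classical
import Cfsg.Agent.Lib.Helper9.U34Simple
import Cfsg.Agent.Lib.Helper9.Vec3F16
import Cfsg.Agent.Lib.Helper9.TC2Fin
import Cfsg.Agent.Lib.Helper11.Unitary3
import Cfsg.Agent.Lib.Helper12.PSUAdjArith

set_option autoImplicit false
set_option maxRecDepth 1000000

/-! The presented group of `U34Simple` is isomorphic to `PSU(3, 4)`, realised over any field with
sixteen elements. -/

namespace Cfsg.Agent.Helper9.U34Iso

open Matrix Cfsg Cfsg.Agent.Helper9 Cfsg.Agent.Helper9.TC2 Cfsg.Agent.Helper9.TCData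
  Cfsg.Spor Cfsg.Agent.Helper9.Vec3F16 Cfsg.Agent.Helper9.U34Simple Cfsg.Agent.Helper11.Herm

open F4 in
/-- The matrices of the two generators. -/
def g3 : Fin 2 → M3 := ![
  ⟨⟨⟨o, z⟩, ⟨z, z⟩, ⟨z, z⟩⟩,
   ⟨⟨z, z⟩, ⟨z, z⟩, ⟨o, z⟩⟩,
   ⟨⟨z, z⟩, ⟨o, z⟩, ⟨z, z⟩⟩⟩,
  ⟨⟨⟨o, z⟩, ⟨o, o⟩, ⟨w2, z⟩⟩,
   ⟨⟨z, w2⟩, ⟨w, z⟩, ⟨z, w⟩⟩,
   ⟨⟨w, z⟩, ⟨z, z⟩, ⟨w2, z⟩⟩⟩]

open F4 in
/-- The matrices of the inverses of the two generators. -/
def gi3 : Fin 2 → M3 := ![
  ⟨⟨⟨o, z⟩, ⟨z, z⟩, ⟨z, z⟩⟩,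
   ⟨⟨z, z⟩, ⟨z, z⟩, ⟨o, z⟩⟩,
   ⟨⟨z, z⟩, ⟨o, z⟩, ⟨z, z⟩⟩⟩,
  ⟨⟨⟨o, z⟩, ⟨w2, w2⟩, ⟨w, z⟩⟩,
   ⟨⟨z, o⟩, ⟨w, z⟩, ⟨z, z⟩⟩,
   ⟨⟨w2, z⟩, ⟨w, w⟩, ⟨w2, z⟩⟩⟩]

theorem g3_inv : ∀ s : Fin 2, ∀ j : Fin 3, (g3 s).app ((gi3 s).app (bas j)) = bas j := by
  decide +kernel

theorem gi3_inv : ∀ s : Fin 2, ∀ j : Fin 3, (gi3 s).app ((g3 s).app (bas j)) = bas j := by
  decide +kernel

/-- The matrices of the generators, over the field with sixteen elements. -/
def U3 : Fin 2 → GL (Fin 3) F16 := unitOf g3 gi3 g3_inv gi3_inv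

theorem rel_extra : ∀ r ∈ U34B0.extra, ∀ j : Fin 3, ev g3 gi3 r.toWord (bas j) = bas j := by
  decide +kernel

theorem rel_cox : ∀ x ∈ coxNodes U34B0.edges, ∀ y ∈ coxNodes U34B0.edges, ∀ j : Fin 3,
    ev g3 gi3 ((FreeGroup.of x * FreeGroup.of y) ^ coxLabel U34B0.edges x y).toWord (bas j) =
      bas j := by
  decide +kernel

theorem rels16 : ∀ r ∈ relSet U34B0.edges U34B0.extra, FreeGroup.lift U3 r = 1 := by
  intro r hr
  rcases hr with hr | hr
  · obtain ⟨x, hx, y, hy, rfl⟩ := hr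
    exact lift_eq_one g3 gi3 g3_inv gi3_inv _ (rel_cox x hx y hy)
  · exact lift_eq_one g3 gi3 g3_inv gi3_inv _ (rel_extra r hr)

theorem g3_unitary : ∀ s : Fin 2, ∀ i j : Fin 3,
    ∑ k, (g3 s).toMat k i * ((g3 s).toMat k j) ^ 4 = if i = j then 1 else 0 := by
  decide +kernel

theorem g3_det : ∀ s : Fin 2, (g3 s).toMat.det = 1 := by
  intro s
  rw [Matrix.det_fin_three]
  revert s
  decide +kernel

theorem g3_entry : (g3 0).toMat 1 1 = 0 := by decide +kernel

section Generic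

variable {F : Type*} [Field F] [Fintype F] (hF : Fintype.card F = 16)

/-- A ring isomorphism from the model. -/
noncomputable def eF : F16 ≃+* F := FiniteField.ringEquivOfCardEq (F16.card.trans hF.symm)

include hF in
theorem hF' : Fintype.card F = 4 ^ 2 := hF.trans (by norm_num)

theorem isU_map (s : Fin 2) (φ : F →+* F) (hφ : ∀ x, φ x = x ^ 4) :
    IsU φ ((eF hF).toRingHom.mapMatrix (g3 s).toMat) := by
  unfold IsU
  ext i j
  rw [Matrix.mul_apply]
  simp only [Matrix.transpose_apply, Matrix.map_apply, RingHom.mapMatrix_apply, hφ, ← map_pow,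
    ← map_mul, ← map_sum]
  rw [g3_unitary s i j, Matrix.one_apply]
  split_ifs <;> simp

/-- The generators, as elements of the special unitary group. -/
noncomputable def gS (s : Fin 2) : Cfsg.SU 3 F 4 :=
  mkSU (q := 4) (hF' hF) 3 ((eF hF).toRingHom.mapMatrix (g3 s).toMat)
    (by rw [← RingHom.map_det, g3_det, map_one]) (fun φ hφ => isU_map hF s φ hφ)

/-- The special unitary group in the general linear group. -/
def suToGL : Cfsg.SU 3 F 4 →* GL (Fin 3) F :=
  Matrix.SpecialLinearGroup.toGL.comp (Cfsg.SU 3 F 4).subtype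

omit [Fintype F] in
theorem suToGL_injective : Function.Injective (suToGL (F := F)) := by
  intro a b h
  apply Subtype.ext
  apply Subtype.ext
  exact congrArg Units.val h

/-- The change of field on the general linear groups. -/
noncomputable def glMap : GL (Fin 3) F16 →* GL (Fin 3) F :=
  Units.map ((eF hF).toRingHom.mapMatrix : Matrix (Fin 3) (Fin 3) F16 →+* Matrix (Fin 3) (Fin 3) F).toMonoidHom

theorem hgen (s : Fin 2) : suToGL (gS hF s) = glMap hF (U3 s) := by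
  apply Units.ext
  rfl

theorem hcomp : (suToGL (F := F)).comp (FreeGroup.lift (gS hF)) =
    (glMap hF).comp (FreeGroup.lift U3) := by
  apply FreeGroup.ext_hom
  intro s
  simp only [MonoidHom.comp_apply, FreeGroup.lift_apply_of]
  exact hgen hF s

theorem rels : ∀ r ∈ relSet U34B0.edges U34B0.extra, FreeGroup.lift (gS hF) r = 1 := by
  intro r hr
  apply suToGL_injective
  have h := DFunLike.congr_fun (hcomp hF) r
  simp only [MonoidHom.comp_apply] at h
  rw [h, rels16 r hr, map_one, map_one]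

/-- The homomorphism to the special unitary group. -/
noncomputable def theta : PU34 →* Cfsg.SU 3 F 4 := PresentedGroup.toGroup (rels hF)

theorem theta_of (s : Fin 2) : theta hF (PresentedGroup.of s) = gS hF s :=
  PresentedGroup.toGroup.of (rels hF)

theorem theta_ne : theta hF (PresentedGroup.of 0) ≠ 1 := by
  rw [theta_of]
  intro h
  have h1 : ((eF hF).toRingHom.mapMatrix (g3 0).toMat) = 1 :=
    congrArg (fun g : Cfsg.SU 3 F 4 =>
      ((g : Matrix.SpecialLinearGroup (Fin 3) F) : Matrix (Fin 3) (Fin 3) F)) h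
  have h2 := congrFun (congrFun h1 1) 1
  rw [RingHom.mapMatrix_apply, Matrix.map_apply, g3_entry, map_zero, Matrix.one_apply_eq] at h2
  exact zero_ne_one h2

theorem theta_injective : Function.Injective (theta hF) := by
  have := u34_simple.1
  exact injective_of_simple (theta hF) (PresentedGroup.of 0) (theta_ne hF)

include hF in
theorem card_SU : Nat.card (Cfsg.SU 3 F 4) = 62400 := by
  rw [Cfsg.Agent.Helper12.PSUAdj.card_SU_eq (hF' hF) 3 (by norm_num)]
  decide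

theorem theta_bijective : Function.Bijective (theta hF) := by
  have : Finite PU34 := hub.1
  apply (theta_injective hF).bijective_of_nat_card_le
  rw [card_SU hF, u34_simple.2]

include hF in
theorem center_eq_bot : Subgroup.center (Cfsg.SU 3 F 4) = ⊥ := by
  have h1 := card_center_SU (hF' hF) 3 (by norm_num)
  have h2 : Nat.gcd 3 (4 + 1) = 1 := by decide
  rw [h2] at h1
  exact Subgroup.card_eq_one.mp h1

/-- The isomorphism. -/
noncomputable def iso : Cfsg.PSU 3 F 4 ≃* PU34 :=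
  ((QuotientGroup.quotientMulEquivOfEq (center_eq_bot hF)).trans
    (QuotientGroup.quotientBot (G := Cfsg.SU 3 F 4))).trans
    (MulEquiv.ofBijective (theta hF) (theta_bijective hF)).symm

end Generic

end Cfsg.Agent.Helper9.U34Iso
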