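import Mathlib

set_option autoImplicit false
set_option maxRecDepth 100000

/-! Vectors and matrices of size 12 over the field with five elements. Families of invertible
matrices and the values of words in them. -/

namespace Cfsg.Agent.Helper9.Vec12F5

open Matrix

/-- The entries of a vector. -/
structure V12 where
  x0 : (ZMod 5)
  x1 : (ZMod 5)
  x2 : (ZMod 5)
  x3 : (ZMod 5)
  x4 : (ZMod 5)
  x5 : (ZMod 5)
  x6 : (ZMod 5)
  x7 : (ZMod 5)
  x8 : (ZMod 5)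
  x9 : (ZMod 5)
  x10 : (ZMod 5)
  x11 : (ZMod 5)
deriving DecidableEq

/-- The vector of the entries. -/
def V12.toVec (v : V12) : Fin 12 → (ZMod 5) :=
  ![v.x0, v.x1, v.x2, v.x3, v.x4, v.x5, v.x6, v.x7, v.x8, v.x9, v.x10, v.x11]

/-- The entries of a vector. -/
def V12.ofVec (f : Fin 12 → (ZMod 5)) : V12 :=
  ⟨f 0, f 1, f 2, f 3, f 4, f 5, f 6, f 7, f 8, f 9, f 10, f 11⟩

/-- The difference of two vectors. -/
def V12.sub (u v : V12) : V12 :=
  ⟨u.x0 - v.x0, u.x1 - v.x1, u.x2 - v.x2, u.x3 - v.x3, u.x4 - v.x4, u.x5 - v.x5, u.x6 - v.x6, u.x7 - v.x7, u.x8 - v.x8, u.x9 - v.x9, u.x10 - v.x10, u.x11 - v.x11⟩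

/-- The product of a row and a column. -/
def dot (r v : V12) : (ZMod 5) :=
  r.x0 * v.x0 + r.x1 * v.x1 + r.x2 * v.x2 + r.x3 * v.x3 + r.x4 * v.x4 + r.x5 * v.x5 + r.x6 * v.x6 + r.x7 * v.x7 + r.x8 * v.x8 + r.x9 * v.x9 + r.x10 * v.x10 + r.x11 * v.x11

/-- The rows of a matrix. -/
structure M12 where
  r0 : V12
  r1 : V12
  r2 : V12
  r3 : V12
  r4 : V12
  r5 : V12
  r6 : V12
  r7 : V12
  r8 : V12
  r9 : V12
  r10 : V12
  r11 : V12

/-- The product of a matrix and a column. -/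
def M12.app (M : M12) (v : V12) : V12 :=
  ⟨dot M.r0 v, dot M.r1 v, dot M.r2 v, dot M.r3 v, dot M.r4 v, dot M.r5 v, dot M.r6 v, dot M.r7 v, dot M.r8 v, dot M.r9 v, dot M.r10 v, dot M.r11 v⟩

/-- The matrix of the rows. -/
def M12.toMat (M : M12) : Matrix (Fin 12) (Fin 12) (ZMod 5) := Matrix.of
  ![M.r0.toVec, M.r1.toVec, M.r2.toVec, M.r3.toVec, M.r4.toVec, M.r5.toVec, M.r6.toVec, M.r7.toVec, M.r8.toVec, M.r9.toVec, M.r10.toVec, M.r11.toVec]

theorem dot_eq (r v : V12) : dot r v = r.toVec ⬝ᵥ v.toVec := by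
  simp only [dot, dotProduct, V12.toVec]
  simp only [Fin.sum_univ_succ, Fin.sum_univ_zero, Matrix.cons_val_zero, Matrix.cons_val_succ,
    add_zero]
  ring

theorem toVec_ofVec (f : Fin 12 → (ZMod 5)) : (V12.ofVec f).toVec = f := by
  ext i
  fin_cases i <;> rfl

theorem sub_toVec (u v : V12) : (u.sub v).toVec = u.toVec - v.toVec := by
  ext i
  fin_cases i <;> rfl

theorem toMat_mulVec (M : M12) (v : V12) : M.toMat *ᵥ v.toVec = (M.app v).toVec := by
  ext i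
  fin_cases i <;> exact (dot_eq _ _).symm

/-- The basis vectors. -/
def bas : Fin 12 → V12 := ![
  ⟨1, 0, 0, 0, 0, 0, 0, 0, 0, 0, 0, 0⟩,
  ⟨0, 1, 0, 0, 0, 0, 0, 0, 0, 0, 0, 0⟩,
  ⟨0, 0, 1, 0, 0, 0, 0, 0, 0, 0, 0, 0⟩,
  ⟨0, 0, 0, 1, 0, 0, 0, 0, 0, 0, 0, 0⟩,
  ⟨0, 0, 0, 0, 1, 0, 0, 0, 0, 0, 0, 0⟩,
  ⟨0, 0, 0, 0, 0, 1, 0, 0, 0, 0, 0, 0⟩,
  ⟨0, 0, 0, 0, 0, 0, 1, 0, 0, 0, 0, 0⟩,
  ⟨0, 0, 0, 0, 0, 0, 0, 1, 0, 0, 0, 0⟩,
  ⟨0, 0, 0, 0, 0, 0, 0, 0, 1, 0, 0, 0⟩,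
  ⟨0, 0, 0, 0, 0, 0, 0, 0, 0, 1, 0, 0⟩,
  ⟨0, 0, 0, 0, 0, 0, 0, 0, 0, 0, 1, 0⟩,
  ⟨0, 0, 0, 0, 0, 0, 0, 0, 0, 0, 0, 1⟩]

/-- The zero vector. -/
def vzero : V12 := ⟨0, 0, 0, 0, 0, 0, 0, 0, 0, 0, 0, 0⟩

theorem vzero_toVec : vzero.toVec = 0 := by
  ext i
  fin_cases i <;> rfl

theorem bas_toVec (j : Fin 12) : (bas j).toVec = Pi.single j 1 := by
  ext i
  fin_cases j <;> fin_cases i <;> simp [bas, V12.toVec]

/-- Two matrices which agree on the basis vectors are equal. -/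
theorem eq_of_bas (A B : Matrix (Fin 12) (Fin 12) (ZMod 5))
    (h : ∀ j : Fin 12, A *ᵥ (bas j).toVec = B *ᵥ (bas j).toVec) : A = B := by
  ext i j
  have h1 := congrFun (h j) i
  rw [bas_toVec, Matrix.mulVec_single_one, Matrix.mulVec_single_one] at h1
  exact h1

/-- A matrix which fixes the basis vectors is the identity. -/
theorem eq_one_of_bas (A : Matrix (Fin 12) (Fin 12) (ZMod 5))
    (h : ∀ j : Fin 12, A *ᵥ (bas j).toVec = (bas j).toVec) : A = 1 := by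
  apply eq_of_bas
  intro j
  rw [h j, Matrix.one_mulVec]

theorem toMat_mul_eq_one (A B : M12) (h : ∀ j : Fin 12, A.app (B.app (bas j)) = bas j) :
    A.toMat * B.toMat = 1 := by
  apply eq_one_of_bas
  intro j
  rw [← Matrix.mulVec_mulVec, toMat_mulVec, toMat_mulVec, h j]

/-- A matrix `M` such that `M - 1` has a left inverse has no nonzero fixed vector. -/
theorem fpf_of (M C : M12) (h : ∀ j : Fin 12, C.app ((M.app (bas j)).sub (bas j)) = bas j)
    (v : Fin 12 → (ZMod 5)) (hv : M.toMat *ᵥ v = v) : v = 0 := by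
  have h1 : C.toMat * (M.toMat - 1) = 1 := by
    apply eq_one_of_bas
    intro j
    rw [← Matrix.mulVec_mulVec, Matrix.sub_mulVec, Matrix.one_mulVec, toMat_mulVec, ← sub_toVec,
      toMat_mulVec, h j]
  have h2 : (M.toMat - 1) *ᵥ v = 0 := by
    rw [Matrix.sub_mulVec, Matrix.one_mulVec, hv, sub_self]
  have h3 : (C.toMat * (M.toMat - 1)) *ᵥ v = 0 := by
    rw [← Matrix.mulVec_mulVec, h2, Matrix.mulVec_zero]
  rw [h1, Matrix.one_mulVec] at h3
  exact h3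

section Family

variable {ι : Type} (g gi : ι → M12)

/-- The value of a word in the matrices and their inverses on a vector. -/
def ev : List (ι × Bool) → V12 → V12
  | [], v => v
  | (s, true) :: L, v => (g s).app (ev L v)
  | (s, false) :: L, v => (gi s).app (ev L v)

variable (hg : ∀ s : ι, ∀ j : Fin 12, (g s).app ((gi s).app (bas j)) = bas j)
  (hgi : ∀ s : ι, ∀ j : Fin 12, (gi s).app ((g s).app (bas j)) = bas j)

/-- The matrices as units. -/
def unitOf (s : ι) : GL (Fin 12) (ZMod 5) :=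
  ⟨(g s).toMat, (gi s).toMat, toMat_mul_eq_one _ _ (hg s), toMat_mul_eq_one _ _ (hgi s)⟩

theorem unitOf_val (s : ι) : (unitOf g gi hg hgi s).val = (g s).toMat := rfl

theorem unitOf_inv_val (s : ι) : ((unitOf g gi hg hgi s)⁻¹).val = (gi s).toMat := rfl

theorem lift_mulVec (L : List (ι × Bool)) (v : V12) :
    ((FreeGroup.lift (unitOf g gi hg hgi) (FreeGroup.mk L) : GL (Fin 12) (ZMod 5))).val *ᵥ v.toVec =
      (ev g gi L v).toVec := by
  induction L with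
  | nil =>
    have h : (FreeGroup.mk [] : FreeGroup ι) = 1 := rfl
    rw [h, map_one, ev]
    show (1 : Matrix (Fin 12) (Fin 12) (ZMod 5)) *ᵥ v.toVec = v.toVec
    rw [Matrix.one_mulVec]
  | cons p L ih =>
    obtain ⟨s, b⟩ := p
    have h : (FreeGroup.mk ((s, b) :: L) : FreeGroup ι) =
        FreeGroup.mk [(s, b)] * FreeGroup.mk L := rfl
    rw [h, map_mul]
    show (((FreeGroup.lift (unitOf g gi hg hgi) (FreeGroup.mk [(s, b)]) : GL (Fin 12) (ZMod 5))).val *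
      ((FreeGroup.lift (unitOf g gi hg hgi) (FreeGroup.mk L) : GL (Fin 12) (ZMod 5))).val) *ᵥ v.toVec = _
    rw [← Matrix.mulVec_mulVec, ih]
    cases b
    · have h3 : (FreeGroup.mk [(s, false)] : FreeGroup ι) = (FreeGroup.of s)⁻¹ := rfl
      rw [h3, map_inv, FreeGroup.lift_apply_of, unitOf_inv_val, ev]
      exact toMat_mulVec _ _
    · have h3 : (FreeGroup.mk [(s, true)] : FreeGroup ι) = FreeGroup.of s := rfl
      rw [h3, FreeGroup.lift_apply_of, unitOf_val, ev]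
      exact toMat_mulVec _ _

theorem lift_val_eq [DecidableEq ι] (r : FreeGroup ι) (B : M12)
    (h : ∀ j : Fin 12, ev g gi r.toWord (bas j) = B.app (bas j)) :
    ((FreeGroup.lift (unitOf g gi hg hgi) r : GL (Fin 12) (ZMod 5))).val = B.toMat := by
  have e : r = FreeGroup.mk r.toWord := FreeGroup.mk_toWord.symm
  rw [e]
  apply eq_of_bas
  intro j
  rw [lift_mulVec, h j, toMat_mulVec]

theorem lift_eq_one [DecidableEq ι] (r : FreeGroup ι)
    (h : ∀ j : Fin 12, ev g gi r.toWord (bas j) = bas j) :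
    FreeGroup.lift (unitOf g gi hg hgi) r = 1 := by
  have e : r = FreeGroup.mk r.toWord := FreeGroup.mk_toWord.symm
  rw [e]
  apply Units.ext
  show _ = (1 : Matrix (Fin 12) (Fin 12) (ZMod 5))
  apply eq_one_of_bas
  intro j
  rw [lift_mulVec, h j]

theorem lift_ne_one [DecidableEq ι] (r : FreeGroup ι) (j : Fin 12)
    (h : ev g gi r.toWord (bas j) ≠ bas j) :
    FreeGroup.lift (unitOf g gi hg hgi) r ≠ 1 := by
  intro h1
  apply h
  have h3 := lift_mulVec g gi hg hgi r.toWord (bas j)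
  rw [FreeGroup.mk_toWord, h1] at h3
  have h4 : (bas j).toVec = (ev g gi r.toWord (bas j)).toVec := by
    rw [← h3]
    show _ = (1 : Matrix (Fin 12) (Fin 12) (ZMod 5)) *ᵥ (bas j).toVec
    rw [Matrix.one_mulVec]
  have h5 := congrArg V12.ofVec h4
  exact h5.symm

end Family

end Cfsg.Agent.Helper9.Vec12F5
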