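import Mathlib
import Cfsg.Agent.Lib.Helper9.U34Simple
import Cfsg.Agent.Lib.Helper9.Vec12F5
import Cfsg.Agent.Lib.Helper9.PrimeGraphExtP
import Cfsg.Agent.Lib.Helper9.TC2Fin

set_option autoImplicit false
set_option maxRecDepth 1000000

/-! A representation of degree twelve over the field with five elements of the presented group of
`U34Simple`, in which the elements of order thirteen have no nonzero fixed vectors; split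
extensions of the group by powers of this module have the same prime graph. -/

namespace Cfsg.Agent.Helper9.U34Prime

open Matrix Cfsg Cfsg.Agent.Helper9 Cfsg.Agent.Helper9.TC2 Cfsg.Agent.Helper9.TCData
  Cfsg.Spor Cfsg.Agent.Helper9.Vec12F5 Cfsg.Agent.Helper9.U34Simple
  Cfsg.Agent.Helper9.PrimeGraphExt

/-- The matrices of the two generators. -/
def g12 : Fin 2 → M12 := ![
  ⟨⟨4, 1, 0, 2, 4, 0, 0, 3, 2, 0, 0, 0⟩,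
   ⟨2, 0, 4, 2, 0, 0, 4, 0, 3, 4, 2, 4⟩,
   ⟨1, 1, 0, 1, 0, 2, 0, 4, 1, 1, 4, 0⟩,
   ⟨3, 2, 1, 3, 2, 0, 1, 4, 3, 1, 3, 1⟩,
   ⟨1, 1, 0, 1, 1, 0, 0, 3, 4, 0, 3, 0⟩,
   ⟨4, 1, 1, 1, 1, 4, 1, 1, 3, 1, 1, 1⟩,
   ⟨4, 1, 1, 4, 3, 3, 1, 3, 4, 1, 4, 2⟩,
   ⟨3, 2, 1, 4, 2, 0, 1, 3, 3, 1, 3, 1⟩,
   ⟨2, 1, 3, 4, 0, 0, 3, 2, 4, 3, 3, 3⟩,
   ⟨0, 3, 2, 4, 0, 2, 1, 3, 1, 1, 0, 1⟩,
   ⟨1, 2, 0, 3, 1, 0, 0, 1, 1, 0, 2, 0⟩,
   ⟨2, 2, 3, 4, 1, 3, 4, 2, 3, 3, 1, 3⟩⟩,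
  ⟨⟨0, 1, 3, 0, 1, 2, 2, 3, 3, 3, 2, 3⟩,
   ⟨3, 4, 1, 3, 3, 2, 2, 2, 2, 2, 3, 0⟩,
   ⟨4, 1, 0, 0, 1, 3, 2, 3, 2, 2, 2, 1⟩,
   ⟨0, 1, 0, 0, 2, 3, 4, 3, 0, 4, 0, 1⟩,
   ⟨0, 4, 3, 1, 1, 0, 2, 3, 3, 3, 4, 1⟩,
   ⟨4, 2, 3, 0, 0, 1, 0, 1, 0, 0, 0, 0⟩,
   ⟨4, 1, 3, 0, 4, 3, 1, 2, 2, 2, 4, 0⟩,
   ⟨3, 4, 0, 2, 3, 2, 3, 2, 1, 2, 2, 3⟩,
   ⟨3, 1, 0, 1, 3, 4, 3, 1, 4, 4, 1, 4⟩,
   ⟨0, 3, 4, 3, 2, 2, 4, 2, 0, 0, 4, 4⟩,
   ⟨3, 3, 1, 3, 1, 4, 0, 4, 0, 0, 1, 2⟩,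
   ⟨0, 0, 1, 3, 2, 1, 0, 3, 3, 3, 1, 1⟩⟩]

/-- The matrices of the inverses of the two generators. -/
def gi12 : Fin 2 → M12 := ![
  ⟨⟨4, 1, 0, 2, 4, 0, 0, 3, 2, 0, 0, 0⟩,
   ⟨2, 0, 4, 2, 0, 0, 4, 0, 3, 4, 2, 4⟩,
   ⟨1, 1, 0, 1, 0, 2, 0, 4, 1, 1, 4, 0⟩,
   ⟨3, 2, 1, 3, 2, 0, 1, 4, 3, 1, 3, 1⟩,
   ⟨1, 1, 0, 1, 1, 0, 0, 3, 4, 0, 3, 0⟩,
   ⟨4, 1, 1, 1, 1, 4, 1, 1, 3, 1, 1, 1⟩,
   ⟨4, 1, 1, 4, 3, 3, 1, 3, 4, 1, 4, 2⟩,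
   ⟨3, 2, 1, 4, 2, 0, 1, 3, 3, 1, 3, 1⟩,
   ⟨2, 1, 3, 4, 0, 0, 3, 2, 4, 3, 3, 3⟩,
   ⟨0, 3, 2, 4, 0, 2, 1, 3, 1, 1, 0, 1⟩,
   ⟨1, 2, 0, 3, 1, 0, 0, 1, 1, 0, 2, 0⟩,
   ⟨2, 2, 3, 4, 1, 3, 4, 2, 3, 3, 1, 3⟩⟩,
  ⟨⟨0, 2, 3, 2, 2, 4, 2, 2, 4, 2, 2, 4⟩,
   ⟨3, 1, 0, 1, 2, 2, 1, 1, 2, 1, 2, 4⟩,
   ⟨4, 1, 2, 2, 4, 1, 2, 2, 0, 3, 2, 3⟩,
   ⟨0, 1, 0, 1, 0, 2, 0, 1, 2, 0, 0, 3⟩,
   ⟨2, 2, 0, 1, 1, 2, 2, 1, 4, 1, 1, 2⟩,
   ⟨0, 1, 2, 3, 1, 4, 1, 3, 3, 4, 2, 3⟩,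
   ⟨0, 2, 4, 1, 3, 2, 0, 1, 4, 1, 0, 4⟩,
   ⟨2, 1, 0, 1, 0, 4, 3, 1, 2, 2, 0, 4⟩,
   ⟨4, 4, 1, 4, 0, 3, 2, 3, 0, 0, 0, 4⟩,
   ⟨2, 0, 0, 4, 0, 0, 0, 0, 2, 1, 3, 2⟩,
   ⟨4, 0, 0, 2, 2, 2, 0, 2, 0, 1, 2, 0⟩,
   ⟨4, 1, 3, 1, 1, 2, 3, 1, 1, 1, 3, 2⟩⟩]

/-- The matrix of an element of order thirteen. -/
def m13 : M12 :=
  ⟨⟨3, 0, 0, 0, 0, 0, 1, 0, 2, 3, 0, 0⟩,
   ⟨2, 3, 0, 3, 3, 1, 4, 3, 1, 4, 3, 3⟩,
   ⟨3, 2, 3, 2, 2, 4, 2, 2, 3, 1, 2, 2⟩,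
   ⟨4, 0, 3, 4, 0, 0, 4, 1, 2, 3, 0, 0⟩,
   ⟨3, 0, 0, 3, 1, 1, 1, 3, 2, 4, 2, 1⟩,
   ⟨2, 1, 2, 3, 2, 4, 0, 3, 2, 2, 2, 2⟩,
   ⟨1, 3, 4, 2, 4, 3, 0, 2, 2, 1, 4, 4⟩,
   ⟨1, 2, 3, 2, 4, 1, 0, 2, 1, 0, 3, 3⟩,
   ⟨4, 1, 4, 3, 1, 2, 1, 0, 2, 0, 1, 1⟩,
   ⟨1, 4, 2, 2, 4, 2, 3, 0, 2, 1, 4, 4⟩,
   ⟨3, 2, 0, 1, 2, 4, 1, 0, 0, 3, 2, 3⟩,
   ⟨4, 4, 3, 0, 4, 3, 3, 1, 0, 3, 4, 4⟩⟩

/-- The inverse of the matrix of an element of order thirteen, minus one. -/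
def c13 : M12 :=
  ⟨⟨3, 0, 3, 0, 0, 4, 4, 1, 0, 4, 4, 3⟩,
   ⟨0, 1, 1, 2, 3, 4, 4, 0, 2, 4, 1, 4⟩,
   ⟨1, 1, 0, 4, 1, 4, 3, 1, 2, 0, 1, 1⟩,
   ⟨4, 4, 3, 3, 1, 1, 3, 1, 1, 3, 1, 1⟩,
   ⟨0, 2, 4, 4, 1, 1, 4, 2, 3, 3, 1, 1⟩,
   ⟨3, 2, 1, 4, 0, 2, 1, 0, 1, 2, 0, 0⟩,
   ⟨3, 3, 1, 1, 1, 3, 1, 4, 2, 0, 3, 0⟩,
   ⟨4, 1, 2, 2, 1, 3, 1, 0, 0, 3, 2, 3⟩,
   ⟨0, 3, 4, 2, 0, 2, 3, 1, 4, 1, 4, 3⟩,
   ⟨4, 2, 0, 0, 3, 0, 0, 4, 0, 0, 2, 1⟩,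
   ⟨2, 0, 4, 3, 4, 1, 4, 0, 4, 3, 2, 1⟩,
   ⟨1, 1, 3, 0, 4, 0, 0, 2, 3, 0, 1, 2⟩⟩

theorem g12_inv : ∀ s : Fin 2, ∀ j : Fin 12, (g12 s).app ((gi12 s).app (bas j)) = bas j := by
  decide +kernel

theorem gi12_inv : ∀ s : Fin 2, ∀ j : Fin 12, (gi12 s).app ((g12 s).app (bas j)) = bas j := by
  decide +kernel

/-- The matrices of the generators. -/
def R12 : Fin 2 → GL (Fin 12) (ZMod 5) := unitOf g12 gi12 g12_inv gi12_inv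

theorem rel_extra : ∀ r ∈ U34B0.extra, ∀ j : Fin 12, ev g12 gi12 r.toWord (bas j) = bas j := by
  decide +kernel

theorem rel_cox : ∀ x ∈ coxNodes U34B0.edges, ∀ y ∈ coxNodes U34B0.edges, ∀ j : Fin 12,
    ev g12 gi12 ((FreeGroup.of x * FreeGroup.of y) ^ coxLabel U34B0.edges x y).toWord (bas j) =
      bas j := by
  decide +kernel

theorem rels : ∀ r ∈ relSet U34B0.edges U34B0.extra, FreeGroup.lift R12 r = 1 := by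
  intro r hr
  rcases hr with hr | hr
  · obtain ⟨x, hx, y, hy, rfl⟩ := hr
    exact lift_eq_one g12 gi12 g12_inv gi12_inv _ (rel_cox x hx y hy)
  · exact lift_eq_one g12 gi12 g12_inv gi12_inv _ (rel_extra r hr)

/-- The representation. -/
noncomputable def rho : PU34 →* GL (Fin 12) (ZMod 5) := PresentedGroup.toGroup rels

theorem rho_mk (w : FreeGroup (Fin 2)) :
    rho (PresentedGroup.mk (relSet U34B0.edges U34B0.extra) w) = FreeGroup.lift R12 w := rfl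

/-- A word of order thirteen. -/
def w13 : FreeGroup (Fin 2) := FreeGroup.mk [((0 : Fin 2), true), ((1 : Fin 2), true)]

/-- A word of order ten. -/
def w10 : FreeGroup (Fin 2) := FreeGroup.mk [((0 : Fin 2), true), ((1 : Fin 2), true), ((0 : Fin 2), true), ((1 : Fin 2), true), ((0 : Fin 2), true), ((1 : Fin 2), false)]

/-- A word of order fifteen. -/
def w15 : FreeGroup (Fin 2) := FreeGroup.mk [((0 : Fin 2), true), ((1 : Fin 2), true), ((0 : Fin 2), true), ((1 : Fin 2), true), ((0 : Fin 2), true), ((1 : Fin 2), true), ((0 : Fin 2), true), ((1 : Fin 2), false), ((0 : Fin 2), true), ((1 : Fin 2), false)]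

/-- The element of a word. -/
noncomputable def elt (w : FreeGroup (Fin 2)) : PU34 :=
  PresentedGroup.mk (relSet U34B0.edges U34B0.extra) w

theorem elt_pow (w : FreeGroup (Fin 2)) (n : ℕ) : elt w ^ n = elt (w ^ n) :=
  (map_pow (PresentedGroup.mk (relSet U34B0.edges U34B0.extra)) w n).symm

theorem elt_eq_one (w : FreeGroup (Fin 2))
    (h : ∀ j : Fin 12, ev g12 gi12 w.toWord (bas j) = bas j) : rho (elt w) = 1 := by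
  unfold elt
  rw [rho_mk]
  exact lift_eq_one g12 gi12 g12_inv gi12_inv w h

theorem elt_ne_one (w : FreeGroup (Fin 2)) (j : Fin 12)
    (h : ev g12 gi12 w.toWord (bas j) ≠ bas j) : elt w ≠ 1 := by
  intro h1
  have h2 : rho (elt w) = 1 := by rw [h1, map_one]
  unfold elt at h2
  rw [rho_mk] at h2
  exact lift_ne_one g12 gi12 g12_inv gi12_inv w j h h2

theorem rho_injective : Function.Injective rho := by
  have := u34_simple.1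
  refine injective_of_simple rho (elt (FreeGroup.of 0)) ?_
  intro h
  unfold elt at h
  rw [rho_mk] at h
  exact lift_ne_one g12 gi12 g12_inv gi12_inv (FreeGroup.of 0) 0 (by decide +kernel) h

/-- The order of the element of a word, from the values of its powers. -/
theorem orderOf_elt (w : FreeGroup (Fin 2)) (n : ℕ) (hn : 0 < n)
    (h1 : ∀ j : Fin 12, ev g12 gi12 (w ^ n).toWord (bas j) = bas j)
    (h2 : ∀ p : ℕ, p.Prime → p ∣ n →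
      ∃ j : Fin 12, ev g12 gi12 (w ^ (n / p)).toWord (bas j) ≠ bas j) :
    orderOf (elt w) = n := by
  apply orderOf_eq_of_pow_and_pow_div_prime hn
  · rw [elt_pow]
    apply rho_injective
    rw [elt_eq_one _ h1, map_one]
  · intro p hp hpn
    rw [elt_pow]
    obtain ⟨j, hj⟩ := h2 p hp hpn
    exact elt_ne_one _ j hj

theorem prime_cases {p : ℕ} (hp : p.Prime) (h : p ∣ 62400) :
    p = 2 ∨ p = 3 ∨ p = 5 ∨ p = 13 := by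
  have e : 62400 = 2 ^ 6 * 3 * 5 ^ 2 * 13 := by norm_num
  rw [e] at h
  rcases (Nat.Prime.dvd_mul hp).1 h with h | h
  · rcases (Nat.Prime.dvd_mul hp).1 h with h | h
    · rcases (Nat.Prime.dvd_mul hp).1 h with h | h
      · left
        exact (Nat.prime_dvd_prime_iff_eq hp Nat.prime_two).1 (hp.dvd_of_dvd_pow h)
      · right; left
        exact (Nat.prime_dvd_prime_iff_eq hp Nat.prime_three).1 h
    · right; right; left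
      exact (Nat.prime_dvd_prime_iff_eq hp Nat.prime_five).1 (hp.dvd_of_dvd_pow h)
  · right; right; right
    exact (Nat.prime_dvd_prime_iff_eq hp (by norm_num)).1 h

theorem order10 : orderOf (elt w10) = 10 := by
  apply orderOf_elt w10 10 (by norm_num) (by decide +kernel)
  intro p hp hpn
  have h6 : p ∣ 2 * 5 := hpn
  rcases (Nat.Prime.dvd_mul hp).1 h6 with h | h
  · rw [(Nat.prime_dvd_prime_iff_eq hp Nat.prime_two).1 h]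
    exact ⟨0, by decide +kernel⟩
  · rw [(Nat.prime_dvd_prime_iff_eq hp Nat.prime_five).1 h]
    exact ⟨0, by decide +kernel⟩

theorem order15 : orderOf (elt w15) = 15 := by
  apply orderOf_elt w15 15 (by norm_num) (by decide +kernel)
  intro p hp hpn
  have h6 : p ∣ 3 * 5 := hpn
  rcases (Nat.Prime.dvd_mul hp).1 h6 with h | h
  · rw [(Nat.prime_dvd_prime_iff_eq hp Nat.prime_three).1 h]
    exact ⟨0, by decide +kernel⟩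
  · rw [(Nat.prime_dvd_prime_iff_eq hp Nat.prime_five).1 h]
    exact ⟨0, by decide +kernel⟩

theorem order13 : orderOf (elt w13) = 13 := by
  apply orderOf_elt w13 13 (by norm_num) (by decide +kernel)
  intro p hp hpn
  rw [(Nat.prime_dvd_prime_iff_eq hp (by norm_num)).1 hpn]
  exact ⟨0, by decide +kernel⟩

theorem m13_eq : (rho (elt w13)).val = m13.toMat :=
  lift_val_eq g12 gi12 g12_inv gi12_inv w13 m13 (by decide +kernel)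

theorem m13_fpf (v : Fin 12 → ZMod 5) (hv : m13.toMat *ᵥ v = v) : v = 0 :=
  fpf_of m13 c13 (by decide +kernel) v hv

/-- The kernel of the extension. -/
abbrev Ker (k : ℕ) : Type := Multiplicative (Fin k → Fin 12 → ZMod 5)

/-- The action. -/
noncomputable def phi (k : ℕ) : PU34 →* MulAut (Ker k) := matPhi rho k

/-- The extension. -/
abbrev Ext (k : ℕ) : Type := SemidirectProduct (Ker k) PU34 (phi k)

theorem ker_pow (k : ℕ) (n : Ker k) : n ^ 5 = 1 := by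
  apply Multiplicative.toAdd.injective
  show 5 • Multiplicative.toAdd n = 0
  funext i j
  show 5 • Multiplicative.toAdd n i j = 0
  generalize Multiplicative.toAdd n i j = x
  revert x
  decide

theorem fixed_trivial (k : ℕ) (x : PU34) (M : M12) (hM : (rho x).val = M.toMat)
    (h : ∀ v : Fin 12 → ZMod 5, M.toMat *ᵥ v = v → v = 0) (w : Ker k) (hw : phi k x w = w) :
    w = 1 := by
  unfold phi at hw
  rw [matPhi_fixed_iff] at hw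
  apply Multiplicative.toAdd.injective
  funext i
  have := hw i
  rw [hM] at this
  exact h _ this

theorem hfix (k : ℕ) : ∀ p : ℕ, p.Prime → p ≠ 5 →
    (∃ g : PU34, orderOf g = p ∧ ∃ w : Ker k, w ≠ 1 ∧ phi k g w = w) →
      ∃ g : PU34, orderOf g = 5 * p := by
  rintro p hp hp2 ⟨g, hg, w, hw1, hw⟩
  have : Finite PU34 := hub.1
  have hdvd : p ∣ 62400 := by
    rw [← u34_simple.2, ← hg]
    exact orderOf_dvd_natCard g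
  rcases prime_cases hp hdvd with rfl | rfl | rfl | rfl
  · exact ⟨elt w10, order10⟩
  · exact ⟨elt w15, order15⟩
  · exact absurd rfl hp2
  · exfalso
    apply hw1
    have : Fact (Nat.Prime 13) := ⟨hp⟩
    exact fixed_trivial_of_sylow (phi k) 13 (by rw [u34_simple.2]; norm_num) (elt w13) order13
      (fixed_trivial k (elt w13) m13 m13_eq m13_fpf) g hg w hw

/-- The extensions have the same prime graph as the group. -/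
theorem main (k : ℕ) :
    (∀ p : ℕ, p.Prime → (p ∣ Nat.card PU34 ↔ p ∣ Nat.card (Ext k))) ∧
    (∀ p q : ℕ, p.Prime → q.Prime → p ≠ q →
      ((∃ g : PU34, orderOf g = p * q) ↔ (∃ h : Ext k, orderOf h = p * q))) := by
  have : Finite PU34 := hub.1
  exact same_prime_graph_of_exponent (phi k) 5 Nat.prime_five (ker_pow k)
    (by rw [u34_simple.2]; norm_num) (hfix k)

theorem card_lt (k : ℕ) : k < Nat.card (Ext k) := by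
  have : Finite PU34 := hub.1
  rw [SemidirectProduct.card, u34_simple.2]
  have h1 : Nat.card (Ker k) = (5 ^ 12) ^ k := by
    show Nat.card (Fin k → Fin 12 → ZMod 5) = _
    rw [Nat.card_fun, Nat.card_fun, Nat.card_eq_fintype_card, Nat.card_eq_fintype_card,
      Nat.card_eq_fintype_card, Fintype.card_fin, Fintype.card_fin, ZMod.card]
  rw [h1]
  calc k < 2 ^ k := Nat.lt_two_pow_self
    _ ≤ (5 ^ 12) ^ k := Nat.pow_le_pow_left (by norm_num) k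
    _ ≤ (5 ^ 12) ^ k * 62400 := Nat.le_mul_of_pos_right _ (by norm_num)

end Cfsg.Agent.Helper9.U34Prime
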