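import Mathlib
import Cfsg.Agent.Lib.Helper9.Vec6F4
import Cfsg.Agent.Lib.Helper9.TC2Cox
import Cfsg.Agent.Lib.Helper9.TCData.U62B0.Cert

set_option autoImplicit false
set_option maxRecDepth 1000000

/-! Nine unitary matrices of size 6 over the field with four elements (the identity and eight
transvections) which satisfy, up to scalars, the relators of the presentation `U62B0`. -/

namespace Cfsg.Agent.Helper9.U62Mat

open Matrix Cfsg.Agent.Helper9 Cfsg.Agent.Helper9.TC2 Cfsg.Agent.Helper9.TCData Cfsg.Spor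
  Cfsg.Agent.Helper9.Vec6F4

open F4 in
/-- The matrices of the generators: the identity, and the transvections of eight isotropic
vectors. -/
def t : Fin 9 → M6 := ![
  ⟨⟨o, z, z, z, z, z⟩,
   ⟨z, o, z, z, z, z⟩,
   ⟨z, z, o, z, z, z⟩,
   ⟨z, z, z, o, z, z⟩,
   ⟨z, z, z, z, o, z⟩,
   ⟨z, z, z, z, z, o⟩⟩,
  ⟨⟨z, w2, w2, w2, w2, w2⟩,
   ⟨w, z, o, o, o, o⟩,
   ⟨w, o, z, o, o, o⟩,
   ⟨w, o, o, z, o, o⟩,
   ⟨w, o, o, o, z, o⟩,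
   ⟨w, o, o, o, o, z⟩⟩,
  ⟨⟨z, o, z, z, z, z⟩,
   ⟨o, z, z, z, z, z⟩,
   ⟨z, z, o, z, z, z⟩,
   ⟨z, z, z, o, z, z⟩,
   ⟨z, z, z, z, o, z⟩,
   ⟨z, z, z, z, z, o⟩⟩,
  ⟨⟨o, z, z, z, z, z⟩,
   ⟨z, z, z, z, z, o⟩,
   ⟨z, z, o, z, z, z⟩,
   ⟨z, z, z, o, z, z⟩,
   ⟨z, z, z, z, o, z⟩,
   ⟨z, o, z, z, z, z⟩⟩,
  ⟨⟨o, z, z, z, z, z⟩,
   ⟨z, o, z, z, z, z⟩,
   ⟨z, z, o, z, z, z⟩,
   ⟨z, z, z, o, z, z⟩,
   ⟨z, z, z, z, z, o⟩,
   ⟨z, z, z, z, o, z⟩⟩,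
  ⟨⟨z, o, w2, w2, w2, o⟩,
   ⟨o, z, w2, w2, w2, o⟩,
   ⟨w, w, z, o, o, w⟩,
   ⟨w, w, o, z, o, w⟩,
   ⟨w, w, o, o, z, w⟩,
   ⟨o, o, w2, w2, w2, z⟩⟩,
  ⟨⟨o, z, z, z, z, z⟩,
   ⟨z, z, z, o, o, o⟩,
   ⟨z, z, o, z, z, z⟩,
   ⟨z, o, z, z, o, o⟩,
   ⟨z, o, z, o, z, o⟩,
   ⟨z, o, z, o, o, z⟩⟩,
  ⟨⟨o, z, z, z, z, z⟩,
   ⟨z, o, z, z, z, z⟩,
   ⟨z, z, z, o, z, z⟩,
   ⟨z, z, o, z, z, z⟩,
   ⟨z, z, z, z, o, z⟩,
   ⟨z, z, z, z, z, o⟩⟩,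
  ⟨⟨z, o, w2, z, z, o⟩,
   ⟨o, z, w2, z, z, o⟩,
   ⟨w, w, z, z, z, w⟩,
   ⟨z, z, z, o, z, z⟩,
   ⟨z, z, z, z, o, z⟩,
   ⟨o, o, w2, z, z, z⟩⟩]

open F4 in
/-- The scalar matrices. -/
def scal (c : F4) : M6 :=
  ⟨⟨c, z, z, z, z, z⟩,
   ⟨z, c, z, z, z, z⟩,
   ⟨z, z, c, z, z, z⟩,
   ⟨z, z, z, c, z, z⟩,
   ⟨z, z, z, z, c, z⟩,
   ⟨z, z, z, z, z, c⟩⟩

theorem t_inv : ∀ s : Fin 9, ∀ j : Fin 6, (t s).app ((t s).app (bas j)) = bas j := by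
  decide +kernel

/-- The matrices as units. -/
def U : Fin 9 → GL (Fin 6) F4 := unitOf t t_inv

theorem rel_extra : ∀ r ∈ U62B0.extra, ∃ c ∈ [F4.o, F4.w, F4.w2], ∀ j : Fin 6,
    ev t r.toWord (bas j) = (scal c).app (bas j) := by
  decide +kernel

theorem rel_cox : ∀ x ∈ coxNodes U62B0.edges, ∀ y ∈ coxNodes U62B0.edges, ∀ j : Fin 6,
    ev t ((FreeGroup.of x * FreeGroup.of y) ^ coxLabel U62B0.edges x y).toWord (bas j) =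
      bas j := by
  decide +kernel

theorem scal_toMat : ∀ c : F4, ∀ q : Fin 6 × Fin 6,
    (scal c).toMat q.1 q.2 = if q.1 = q.2 then c else 0 := by
  decide +kernel

theorem scal_ne : ∀ c ∈ [F4.o, F4.w, F4.w2], c ≠ 0 := by decide

/-- The value of every relator is a scalar matrix. -/
theorem rels4 : ∀ r ∈ relSet U62B0.edges U62B0.extra, ∃ c : F4, c ≠ 0 ∧
    ((FreeGroup.lift U r : GL (Fin 6) F4)).val = c • (1 : Matrix (Fin 6) (Fin 6) F4) := by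
  intro r hr
  rcases hr with hr | hr
  · obtain ⟨x, hx, y, hy, rfl⟩ := hr
    refine ⟨1, one_ne_zero, ?_⟩
    rw [one_smul]
    have h := lift_eq_one t t_inv _ (rel_cox x hx y hy)
    show ((FreeGroup.lift (unitOf t t_inv) _ : GL (Fin 6) F4)).val = 1
    rw [h]
    rfl
  · obtain ⟨c, hc, h⟩ := rel_extra r hr
    refine ⟨c, scal_ne c hc, ?_⟩
    have h1 := lift_val_eq t t_inv r (scal c) h
    show ((FreeGroup.lift (unitOf t t_inv) r : GL (Fin 6) F4)).val = _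
    rw [h1]
    ext i j
    rw [scal_toMat c (i, j), Matrix.smul_apply, Matrix.one_apply, smul_eq_mul]
    split_ifs <;> simp

theorem t_unitary : ∀ s : Fin 9, ∀ q : Fin 6 × Fin 6,
    ∑ k, (t s).toMat k q.1 * ((t s).toMat k q.2) ^ 2 = if q.1 = q.2 then 1 else 0 := by
  decide +kernel

theorem sq_eq_one : ∀ x : F4, x * x = 1 → x = 1 := by decide

theorem t_det (s : Fin 9) : (t s).toMat.det = 1 := by
  apply sq_eq_one
  rw [← Matrix.det_mul, toMat_sq t t_inv s, Matrix.det_one]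

/-- The first two transvections do not commute. -/
theorem t_ncomm : (t 1).app ((t 2).app (bas 0)) ≠ (t 2).app ((t 1).app (bas 0)) := by
  decide +kernel

theorem U_ncomm : (U 1).val * (U 2).val ≠ (U 2).val * (U 1).val := by
  intro h
  apply t_ncomm
  have h1 := congrArg (fun M => M *ᵥ (bas 0).toVec) h
  simp only [← Matrix.mulVec_mulVec] at h1
  have e1 : (U 1).val = (t 1).toMat := rfl
  have e2 : (U 2).val = (t 2).toMat := rfl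
  rw [e1, e2, toMat_mulVec, toMat_mulVec, toMat_mulVec, toMat_mulVec] at h1
  have h2 := congrArg V6.ofVec h1
  have h3 : ∀ v : V6, V6.ofVec v.toVec = v := fun v => rfl
  rw [h3, h3] at h2
  exact h2

end Cfsg.Agent.Helper9.U62Mat
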