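import Mathlib
import Cfsg.Agent.Lib.Helper9.TC2Spor
import Cfsg.Agent.Lib.Helper9.TC2Cyc
import Cfsg.Agent.Lib.Helper9.TCData.U62C1.Cert
import Cfsg.Agent.Lib.Helper9.TCData.U62C2.Cert
import Cfsg.Agent.Lib.Helper9.TCData.U62C3.Cert
import Cfsg.Agent.Lib.Helper9.TCData.U62C4.Cert
import Cfsg.Agent.Lib.Helper9.TCData.U62B0.Cert
import Cfsg.Agent.Lib.Helper9.TCData.U62Q1.Cert
import Cfsg.Agent.Lib.Helper9.TCData.U62CX.Cert

set_option autoImplicit false
set_option maxRecDepth 1000000

/-! Two presented groups on `a, c, d, e, f, g, h, i, x` (the generators of a subgroup of the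
presented group Fi22): the first has order at most 18393661440, and the second, its quotient by
the normal closure of `a`, is simple of order 9196830720. -/

namespace Cfsg.Agent.Helper9.U62Simple

open Cfsg.Agent.Helper9 Cfsg.Agent.Helper9.TC2 Cfsg.Agent.Helper9.TCData Cfsg.Spor

/-- The first presented group. -/
abbrev P1 : Type := PresentedGroup (relSet U62C1.edges U62C1.extra)

/-- The second presented group. -/
abbrev PU62 : Type := PresentedGroup (relSet U62B0.edges U62B0.extra)

theorem sub1 : SubPres U62C1.edges U62C1.extra U62C2.edges U62C2.extra U62C1.iota :=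
  ⟨by decide +kernel, by decide +kernel⟩

theorem sub2 : SubPres U62C2.edges U62C2.extra U62C3.edges U62C3.extra U62C2.iota :=
  ⟨by decide +kernel, by decide +kernel⟩

theorem sub3 : SubPres U62C3.edges U62C3.extra U62C4.edges U62C4.extra U62C3.iota :=
  ⟨by decide +kernel, by decide +kernel⟩

theorem cardP1 : Finite P1 ∧ Nat.card P1 ≤ 18393661440 := by
  have h4 := U62C4.cert.card_eq_of_empty
  have hH3 := card_coxH_le sub3 rfl h4.1 (le_of_eq h4.2)
  have h3 := U62C3.cert.card_le hH3.1 hH3.2
  have hH2 := card_coxH_le sub2 rfl h3.1 h3.2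
  have h2 := U62C2.cert.card_le hH2.1 hH2.2
  have hH1 := card_coxH_le sub1 rfl h2.1 h2.2
  have h1 := U62C1.cert.card_le hH1.1 hH1.2
  refine ⟨h1.1, h1.2.trans ?_⟩
  rw [U62C1.cert_n, U62C2.cert_n, U62C3.cert_n, U62C4.cert_n]

theorem subQ1 : SubPres U62Q1.edges U62Q1.extra U62C2.edges U62C2.extra U62Q1.iota :=
  ⟨by decide +kernel, by decide +kernel⟩

theorem hub : Finite PU62 ∧ Nat.card PU62 ≤ 9196830720 := by
  have h4 := U62C4.cert.card_eq_of_empty
  have hH3 := card_coxH_le sub3 rfl h4.1 (le_of_eq h4.2)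
  have h3 := U62C3.cert.card_le hH3.1 hH3.2
  have hH2 := card_coxH_le sub2 rfl h3.1 h3.2
  have h2 := U62C2.cert.card_le hH2.1 hH2.2
  have hH1 := card_coxH_le subQ1 rfl h2.1 h2.2
  have h1 := U62Q1.cert.card_le hH1.1 hH1.2
  refine ⟨h1.1, h1.2.trans ?_⟩
  rw [U62Q1.cert_n, U62C2.cert_n, U62C3.cert_n, U62C4.cert_n]

/-- The identity of the generators. -/
def idmap : Fin 9 → Fin 9 := ![0, 1, 2, 3, 4, 5, 6, 7, 8]

theorem subQ : SubPres U62B0.edges U62B0.extra U62C1.edges U62C1.extra idmap :=
  ⟨by decide +kernel, by decide +kernel⟩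

/-- The homomorphism from the first group onto the second. -/
noncomputable def pi : P1 →* PU62 := subPresHom subQ

theorem pi_of (s : Fin 9) : pi (PresentedGroup.of s) = PresentedGroup.of s := by
  unfold pi
  rw [subPresHom_of]
  have : idmap s = s := by revert s; decide
  rw [this]
  rfl

theorem pi_surj : Function.Surjective pi := by
  rw [← MonoidHom.range_eq_top, eq_top_iff, ← PresentedGroup.closure_range_of, Subgroup.closure_le]
  rintro _ ⟨s, rfl⟩
  exact ⟨PresentedGroup.of s, pi_of s⟩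

theorem pi_a : pi (PresentedGroup.of 0) = 1 := by
  rw [pi_of]
  have hm : (FreeGroup.of (0 : Fin 9)) ∈ relSet U62B0.edges U62B0.extra := by
    right
    show _ ∈ U62B0.extra
    decide +kernel
  exact PresentedGroup.one_of_mem hm

theorem hslp : ∀ j < U62B0.slp.length, ∀ c ∈ (U62B0.slp.getD j (0, [])).2, c < U62B0.tab.k + j := by
  decide +kernel

theorem hok : U62B0.cert.LevsOK (U62B0.tab.k + U62B0.slp.length) U62B0.lidx U62B0.lpar U62B0.lgi 0 []
    U62B0.levs := by
  unfold U62B0.levs
  refine ⟨by decide, by decide +kernel, U62B0.hT0, by decide +kernel, ?_⟩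
  refine ⟨by decide, by decide +kernel, U62B0.hT1, by decide +kernel, ?_⟩
  refine ⟨by decide, by decide +kernel, U62B0.hT2, by decide +kernel, ?_⟩
  refine ⟨by decide, by decide +kernel, U62B0.hT3, by decide +kernel, ?_⟩
  refine ⟨by decide, by decide +kernel, U62B0.hT4, by decide +kernel, ?_⟩
  refine ⟨by decide, by decide +kernel, U62B0.hT5, by decide +kernel, ?_⟩
  trivial

theorem hprod : CoxCert.levProd U62B0.levs = 9196830720 := by decide +kernel

theorem hlab : ∀ i < U62B0.cert.D.n, U62B0.orb.lab i < 3 := by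
  intro i hi
  have := U62B0.hOL i hi
  rwa [Nat.blt_eq] at this

theorem hroot : ∀ l < 3, U62B0.orb.root l < U62B0.cert.D.n ∧ U62B0.orb.lab (U62B0.orb.root l) = l := by
  decide +kernel

theorem hsz : ∀ l < 3, cnt (fun i => Nat.beq (U62B0.orb.lab i) l) U62B0.cert.D.n =
    ([1, 567, 840] : List ℕ).getD l 0 := by
  decide +kernel

theorem hsub : ∀ T ∈ (Finset.range 3).powerset, 0 ∈ T →
    (∑ l ∈ T, ([1, 567, 840] : List ℕ).getD l 0) ∣ U62B0.cert.D.n →
    T = {0} ∨ T = Finset.range 3 := by
  decide +kernel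

theorem hxw : colWord U62B0.cert.cols U62CX.xelt = U62B0.xw := by decide +kernel

theorem hx : ∀ i < U62B0.cert.D.n,
    (runT U62B0.cert.D (colWord U62B0.cert.cols U62CX.xelt))^[11 ^ 1] i = i := by
  intro i hi
  rw [hxw]
  exact Nat.eq_of_beq_eq_true (U62B0.hX i hi)

/-- The second presented group is simple of order 9196830720. -/
theorem u62_simple : IsSimpleGroup PU62 ∧ Nat.card PU62 = 9196830720 := by
  have : Fact (Nat.Prime 11) := ⟨by norm_num⟩
  exact U62B0.cert.isSimple_card 9196830720 hub U62B0.slp hslp U62B0.hSlp U62B0.lidx U62B0.lpar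
    U62B0.lgi U62B0.levs hok hprod U62B0.orb U62B0.hO1 U62B0.hO2 3 0 [1, 567, 840] hlab hroot
    hsz (by decide +kernel) (by decide) (by decide) hsub 11 1 (by decide) (by norm_num)
    (by norm_num) U62CX.xelt 1 hx (by
      have h := (U62CX.cert.card_eq_of_nil (by intro s hs; exact absurd hs (by simp [U62CX.sgensL]))).2
      rw [U62CX.cert_n] at h
      exact h)

end Cfsg.Agent.Helper9.U62Simple
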