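import Mathlib
import Cfsg.Prelude.Def_Classical
import Cfsg.Agent.Lib.Helper9.U62Simple
import Cfsg.Agent.Lib.Helper9.U62Mat
import Cfsg.Agent.Lib.Helper9.TC2Fin
import Cfsg.Agent.Lib.Helper11.Unitary3
import Cfsg.Agent.Lib.Helper12.PSUAdjArith

set_option autoImplicit false
set_option maxRecDepth 1000000

/-! The presented group of `U62Simple` is isomorphic to `PSU(6, 2)`, realised over any field with
four elements. -/

namespace Cfsg.Agent.Helper9.U62Iso

open Matrix Cfsg Cfsg.Agent.Helper9 Cfsg.Agent.Helper9.TC2 Cfsg.Agent.Helper9.TCData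
  Cfsg.Spor Cfsg.Agent.Helper9.Vec6F4 Cfsg.Agent.Helper9.U62Simple Cfsg.Agent.Helper9.U62Mat
  Cfsg.Agent.Helper11.Herm

section Generic

variable {F : Type*} [Field F] [Fintype F] (hF : Fintype.card F = 4)

/-- A ring isomorphism from the model. -/
noncomputable def eF : F4 ≃+* F := FiniteField.ringEquivOfCardEq (F4.card.trans hF.symm)

omit [Field F] in
include hF in
theorem hF' : Fintype.card F = 2 ^ 2 := hF.trans (by norm_num)

theorem isU_map (s : Fin 9) (φ : F →+* F) (hφ : ∀ x, φ x = x ^ 2) :
    IsU φ ((eF hF).toRingHom.mapMatrix (t s).toMat) := by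
  unfold IsU
  ext i j
  rw [Matrix.mul_apply]
  simp only [Matrix.transpose_apply, Matrix.map_apply, RingHom.mapMatrix_apply, hφ, ← map_pow,
    ← map_mul, ← map_sum]
  rw [t_unitary s (i, j), Matrix.one_apply]
  split_ifs <;> simp

/-- The generators, as elements of the special unitary group. -/
noncomputable def gS (s : Fin 9) : Cfsg.SU 6 F 2 :=
  mkSU (q := 2) (hF' hF) 6 ((eF hF).toRingHom.mapMatrix (t s).toMat)
    (by rw [← RingHom.map_det, t_det, map_one]) (fun φ hφ => isU_map hF s φ hφ)

/-- The special unitary group in the general linear group. -/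
def suToGL : Cfsg.SU 6 F 2 →* GL (Fin 6) F :=
  Matrix.SpecialLinearGroup.toGL.comp (Cfsg.SU 6 F 2).subtype

omit [Fintype F] in
theorem suToGL_injective : Function.Injective (suToGL (F := F)) := by
  intro a b h
  apply Subtype.ext
  apply Subtype.ext
  exact congrArg Units.val h

/-- The change of field on the general linear groups. -/
noncomputable def glMap : GL (Fin 6) F4 →* GL (Fin 6) F :=
  Units.map ((eF hF).toRingHom.mapMatrix : Matrix (Fin 6) (Fin 6) F4 →+* Matrix (Fin 6) (Fin 6) F).toMonoidHom

theorem glMap_val (M : GL (Fin 6) F4) :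
    (glMap hF M).val = (eF hF).toRingHom.mapMatrix M.val := rfl

theorem hgen (s : Fin 9) : suToGL (gS hF s) = glMap hF (U s) := by
  apply Units.ext
  rfl

theorem hcomp : (suToGL (F := F)).comp (FreeGroup.lift (gS hF)) =
    (glMap hF).comp (FreeGroup.lift U) := by
  apply FreeGroup.ext_hom
  intro s
  simp only [MonoidHom.comp_apply, FreeGroup.lift_apply_of]
  exact hgen hF s

omit [Fintype F] in
/-- An element of the special unitary group whose matrix is a scalar matrix is central. -/
theorem mem_center_of_scalar (z : Cfsg.SU 6 F 2) (c : F)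
    (hz : (suToGL z).val = c • (1 : Matrix (Fin 6) (Fin 6) F)) :
    z ∈ Subgroup.center (Cfsg.SU 6 F 2) := by
  rw [Subgroup.mem_center_iff]
  intro g
  apply suToGL_injective
  rw [map_mul, map_mul]
  apply Units.ext
  rw [Units.val_mul, Units.val_mul, hz, Matrix.mul_smul, Matrix.smul_mul, Matrix.mul_one,
    Matrix.one_mul]

theorem rels_center : ∀ r ∈ relSet U62B0.edges U62B0.extra,
    FreeGroup.lift (gS hF) r ∈ Subgroup.center (Cfsg.SU 6 F 2) := by
  intro r hr
  obtain ⟨c, -, hc⟩ := rels4 r hr
  apply mem_center_of_scalar _ ((eF hF) c)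
  have h := DFunLike.congr_fun (hcomp hF) r
  simp only [MonoidHom.comp_apply] at h
  rw [h, glMap_val, hc]
  ext i j
  rw [RingHom.mapMatrix_apply, Matrix.map_apply, Matrix.smul_apply, Matrix.smul_apply,
    Matrix.one_apply, Matrix.one_apply, smul_eq_mul, smul_eq_mul]
  split_ifs
  · simp
  · simp

/-- The images of the generators in the projective special unitary group. -/
noncomputable def gP (s : Fin 9) : Cfsg.PSU 6 F 2 :=
  QuotientGroup.mk' (Subgroup.center (Cfsg.SU 6 F 2)) (gS hF s)

theorem lift_gP : FreeGroup.lift (gP hF) =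
    (QuotientGroup.mk' (Subgroup.center (Cfsg.SU 6 F 2))).comp (FreeGroup.lift (gS hF)) := by
  apply FreeGroup.ext_hom
  intro s
  rw [FreeGroup.lift_apply_of, MonoidHom.comp_apply, FreeGroup.lift_apply_of]
  rfl

theorem rels : ∀ r ∈ relSet U62B0.edges U62B0.extra, FreeGroup.lift (gP hF) r = 1 := by
  intro r hr
  rw [lift_gP, MonoidHom.comp_apply]
  exact (QuotientGroup.eq_one_iff _).2 (rels_center hF r hr)

/-- The homomorphism to the projective special unitary group. -/
noncomputable def theta : PU62 →* Cfsg.PSU 6 F 2 := PresentedGroup.toGroup (rels hF)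

theorem theta_of (s : Fin 9) : theta hF (PresentedGroup.of s) = gP hF s :=
  PresentedGroup.toGroup.of (rels hF)

theorem theta_ne : theta hF (PresentedGroup.of 1) ≠ 1 := by
  rw [theta_of]
  intro h
  have h1 : gS hF 1 ∈ Subgroup.center (Cfsg.SU 6 F 2) := (QuotientGroup.eq_one_iff _).1 h
  rw [Subgroup.mem_center_iff] at h1
  have h2 := congrArg (fun g => (suToGL g).val) (h1 (gS hF 2))
  simp only [map_mul, hgen, Units.val_mul, glMap_val] at h2
  rw [← map_mul, ← map_mul] at h2
  have h3 : (U 2).val * (U 1).val = (U 1).val * (U 2).val := by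
    ext i j
    have h4 := congrFun (congrFun h2 i) j
    rw [RingHom.mapMatrix_apply, RingHom.mapMatrix_apply, Matrix.map_apply, Matrix.map_apply] at h4
    exact (eF hF).injective h4
  exact U_ncomm h3.symm

theorem theta_injective : Function.Injective (theta hF) := by
  have := u62_simple.1
  exact injective_of_simple (theta hF) (PresentedGroup.of 1) (theta_ne hF)

include hF in
theorem card_SU : Nat.card (Cfsg.SU 6 F 2) = 27590492160 := by
  rw [Cfsg.Agent.Helper12.PSUAdj.card_SU_eq (hF' hF) 6 (by norm_num)]
  decide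

include hF in
theorem card_center : Nat.card (Subgroup.center (Cfsg.SU 6 F 2)) = 3 := by
  rw [card_center_SU (hF' hF) 6 (by norm_num)]
  decide

include hF in
theorem card_PSU : Nat.card (Cfsg.PSU 6 F 2) = 9196830720 := by
  have h := Subgroup.card_eq_card_quotient_mul_card_subgroup (Subgroup.center (Cfsg.SU 6 F 2))
  rw [card_SU hF, card_center hF] at h
  show Nat.card (Cfsg.SU 6 F 2 ⧸ Subgroup.center (Cfsg.SU 6 F 2)) = 9196830720
  omega

theorem theta_bijective : Function.Bijective (theta hF) := by
  have : Finite PU62 := hub.1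
  apply (theta_injective hF).bijective_of_nat_card_le
  rw [card_PSU hF, u62_simple.2]

/-- The isomorphism. -/
noncomputable def iso : PU62 ≃* Cfsg.PSU 6 F 2 :=
  MulEquiv.ofBijective (theta hF) (theta_bijective hF)

include hF in
/-- The centre of the projective special unitary group is trivial. -/
theorem center_PSU : Subgroup.center (Cfsg.PSU 6 F 2) = ⊥ := by
  have hs : IsSimpleGroup (Cfsg.PSU 6 F 2) := by
    have := u62_simple.1
    exact (iso hF).symm.isSimpleGroup
  have hn : (Subgroup.center (Cfsg.PSU 6 F 2)).Normal := inferInstance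
  rcases hn.eq_bot_or_eq_top with h | h
  · exact h
  · exfalso
    have hp := @IsSimpleGroup.prime_card (Cfsg.PSU 6 F 2) (Group.commGroupOfCenterEqTop h) hs
    rw [card_PSU hF] at hp
    exact absurd hp (by norm_num)

end Generic

end Cfsg.Agent.Helper9.U62Iso
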