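import Mathlib
import Cfsg.Agent.Lib.Helper9.Basic
import Cfsg.Agent.Lib.Helper9.SylowLemmas
import Cfsg.Agent.Lib.Helper9.ThompsonRepl
import Cfsg.Agent.Lib.Helper9.CentricRadical
import Cfsg.Agent.S0035

set_option autoImplicit false

namespace Cfsg.Agent.Helper9

open Subgroup

variable {G : Type*} [Group G]

/-- If `x ∈ S` is the only conjugate of itself in the Sylow subgroup `S`, every conjugate of `x`
commuting with `x` equals `x`. -/
theorem eq_of_commute_conj [Finite G] {p : ℕ} [Fact p.Prime] (S : Sylow p G) (x : G) (hx : x ∈ S)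
    (hU : ∀ g : G, g⁻¹ * x * g ∈ S → g⁻¹ * x * g = x) (g : G)
    (hc : x * (g⁻¹ * x * g) = (g⁻¹ * x * g) * x) : g⁻¹ * x * g = x := by
  set y := g⁻¹ * x * g with hy
  have hxp : IsPGroup p (zpowers x) := S.2.to_le ((zpowers_le).mpr hx)
  have hyp : IsPGroup p (zpowers y) := by
    have e : zpowers y = (zpowers x).map (MulAut.conj g⁻¹).toMonoidHom := by
      rw [MonoidHom.map_zpowers]
      congr 1
      simp [hy, MulAut.conj_apply]
    rw [e]
    exact hxp.map _
  have hnorm : zpowers x ≤ normalizer ((zpowers y : Subgroup G) : Set G) := by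
    rw [zpowers_le]
    apply Subgroup.centralizer_le_normalizer
    rw [mem_centralizer_iff]
    intro h hh
    obtain ⟨k, rfl⟩ := mem_zpowers_iff.mp hh
    have : Commute y x := hc.symm
    exact (this.zpow_left k).eq
  have hA : IsPGroup p ↥(zpowers x ⊔ zpowers y) := hxp.to_sup_of_normal_right' hyp hnorm
  obtain ⟨c, hc'⟩ := exists_conj_le_sylow S _ hA
  have h1 : c * x * c⁻¹ ∈ S := hc' x (le_sup_left (a := zpowers x) (mem_zpowers x))
  have h2 : c * y * c⁻¹ ∈ S := hc' y (le_sup_right (b := zpowers y) (mem_zpowers y))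
  have h3 : c * x * c⁻¹ = x := by
    have := hU c⁻¹ (by simpa using h1)
    simpa using this
  have h4 : c * y * c⁻¹ = x := by
    have e : c * y * c⁻¹ = (g * c⁻¹)⁻¹ * x * (g * c⁻¹) := by rw [hy]; group
    rw [e] at h2 ⊢
    exact hU _ h2
  calc y = c⁻¹ * (c * y * c⁻¹) * c := by group
    _ = c⁻¹ * (c * x * c⁻¹) * c := by rw [h4, h3]
    _ = x := by group

/-- The two hypotheses pass to any subgroup containing `x`. -/
theorem weaklyClosed_inherit_subgroup [Finite G] {p : ℕ} [Fact p.Prime] (S : Sylow p G) (x : G)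
    (hx : x ∈ S) (hU : ∀ g : G, g⁻¹ * x * g ∈ S → g⁻¹ * x * g = x)
    (hb : ∀ H : Subgroup G, (Nat.card H).Coprime p → (∀ h ∈ H, x * h * x⁻¹ ∈ H) →
      ∀ h ∈ H, x * h = h * x)
    (K : Subgroup G) (hxK : x ∈ K) :
    ∃ SK : Sylow p ↥K, (⟨x, hxK⟩ : ↥K) ∈ SK ∧
      (∀ k : ↥K, k⁻¹ * ⟨x, hxK⟩ * k ∈ SK → k⁻¹ * ⟨x, hxK⟩ * k = ⟨x, hxK⟩) ∧
      (∀ H : Subgroup ↥K, (Nat.card H).Coprime p → (∀ h ∈ H, ⟨x, hxK⟩ * h * (⟨x, hxK⟩ : ↥K)⁻¹ ∈ H) →
        ∀ h ∈ H, (⟨x, hxK⟩ : ↥K) * h = h * ⟨x, hxK⟩) := by
  have hxp : IsPGroup p (zpowers (⟨x, hxK⟩ : ↥K)) := by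
    have h1 : IsPGroup p (zpowers x) := S.2.to_le ((zpowers_le).mpr hx)
    have e : (zpowers (⟨x, hxK⟩ : ↥K)).map K.subtype = zpowers x := by
      rw [MonoidHom.map_zpowers]; rfl
    have h2 : IsPGroup p ((zpowers (⟨x, hxK⟩ : ↥K)).map K.subtype) := by rw [e]; exact h1
    exact h2.of_equiv
      ((zpowers (⟨x, hxK⟩ : ↥K)).equivMapOfInjective K.subtype K.subtype_injective).symm
  obtain ⟨SK, hSK⟩ := hxp.exists_le_sylow
  have hxSK : (⟨x, hxK⟩ : ↥K) ∈ SK := hSK (mem_zpowers _)
  have hQ : IsPGroup p ((SK : Subgroup ↥K).map K.subtype) := SK.2.map _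
  obtain ⟨c, hc⟩ := exists_conj_le_sylow S _ hQ
  have h1 : c * x * c⁻¹ = x := by
    have h2 : c * x * c⁻¹ ∈ S := hc x ⟨⟨x, hxK⟩, hxSK, rfl⟩
    have := hU c⁻¹ (by simpa using h2)
    simpa using this
  refine ⟨SK, hxSK, ?_, ?_⟩
  · intro k hk
    have h2 : c * ((k : G)⁻¹ * x * k) * c⁻¹ ∈ S := hc _ ⟨_, hk, by simp⟩
    have e : c * ((k : G)⁻¹ * x * k) * c⁻¹ = ((k : G) * c⁻¹)⁻¹ * x * ((k : G) * c⁻¹) := by group
    rw [e] at h2
    have h3 := hU _ h2
    rw [← e] at h3
    have h4 : (k : G)⁻¹ * x * k = x := by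
      calc (k : G)⁻¹ * x * k = c⁻¹ * (c * ((k : G)⁻¹ * x * k) * c⁻¹) * c := by group
        _ = c⁻¹ * (c * x * c⁻¹) * c := by rw [h3, h1]
        _ = x := by group
    apply Subtype.ext
    simpa using h4
  · intro H hH hinv h hh
    have hcard : Nat.card (H.map K.subtype) = Nat.card H :=
      Subgroup.card_map_of_injective K.subtype_injective
    have := hb (H.map K.subtype) (by rw [hcard]; exact hH) (by
      rintro _ ⟨h', hh', rfl⟩
      exact ⟨_, hinv h' hh', by simp⟩) (h : G) ⟨h, hh, rfl⟩
    exact Subtype.ext this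

/-- A group with a central `p`-subgroup of index prime to `p` acts as a `p`-group modulo its
`p'`-core. -/
theorem exists_pow_mem_pPrimeCore_of_central [Finite G] {p : ℕ} [Fact p.Prime]
    (hidx : ¬ p ∣ (center G).index) (c : G) : ∃ k : ℕ, c ^ (p ^ k) ∈ Cfsg.pPrimeCore p G := by
  classical
  obtain ⟨PZ⟩ : Nonempty (Sylow p ↥(center G)) := inferInstance
  set Z₁ := (PZ : Subgroup ↥(center G)).map (center G).subtype with hZ₁
  have hZ₁c : Z₁ ≤ center G := Subgroup.map_subtype_le _
  have hZ₁p : IsPGroup p Z₁ := PZ.2.map _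
  have hZ₁i : ¬ p ∣ Z₁.index := by
    rw [hZ₁, Subgroup.index_map_subtype]
    intro h
    rcases (Nat.Prime.dvd_mul Fact.out).mp h with h | h
    · exact PZ.not_dvd_index h
    · exact hidx h
  have := powCond_pPrimeCore_of_central_sylow (N := G) (p := p) ⊤ Z₁ le_top
    (by rw [Subgroup.coe_top, Subgroup.centralizer_univ]; exact hZ₁c) hZ₁p
    (by rw [Subgroup.relIndex_top_right]; exact hZ₁i)
  exact this c (Subgroup.mem_top c)

/-- The two hypotheses pass to the quotient by the centre. -/
theorem weaklyClosed_inherit_quotient [Finite G] {p : ℕ} [Fact p.Prime] (S : Sylow p G) (x : G)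
    (hx : x ∈ S) (hU : ∀ g : G, g⁻¹ * x * g ∈ S → g⁻¹ * x * g = x)
    (hb : ∀ H : Subgroup G, (Nat.card H).Coprime p → (∀ h ∈ H, x * h * x⁻¹ ∈ H) →
      ∀ h ∈ H, x * h = h * x) :
    ∃ SQ : Sylow p (G ⧸ center G), (QuotientGroup.mk x : G ⧸ center G) ∈ SQ ∧
      (∀ k : G ⧸ center G, k⁻¹ * QuotientGroup.mk x * k ∈ SQ →
        k⁻¹ * QuotientGroup.mk x * k = QuotientGroup.mk x) ∧
      (∀ H : Subgroup (G ⧸ center G), (Nat.card H).Coprime p →
        (∀ h ∈ H, QuotientGroup.mk x * h * (QuotientGroup.mk x : G ⧸ center G)⁻¹ ∈ H) →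
        ∀ h ∈ H, (QuotientGroup.mk x : G ⧸ center G) * h = h * QuotientGroup.mk x) := by
  classical
  have hpp : p.Prime := Fact.out
  set Z := center G with hZ
  let SQ : Sylow p (G ⧸ Z) := S.mapSurjective (QuotientGroup.mk'_surjective Z)
  have hSQ : (SQ : Subgroup (G ⧸ Z)) = (S : Subgroup G).map (QuotientGroup.mk' Z) := rfl
  refine ⟨SQ, ?_, ?_, ?_⟩
  · show _ ∈ (SQ : Subgroup (G ⧸ Z))
    rw [hSQ]
    exact ⟨x, hx, rfl⟩
  · intro k hk
    obtain ⟨g, rfl⟩ := QuotientGroup.mk_surjective k
    have hk' : (QuotientGroup.mk (g⁻¹ * x * g) : G ⧸ Z) ∈ (SQ : Subgroup (G ⧸ Z)) := by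
      rw [QuotientGroup.mk_mul, QuotientGroup.mk_mul, QuotientGroup.mk_inv]
      exact hk
    rw [hSQ] at hk'
    obtain ⟨s, hs, hsg⟩ := hk'
    have hz : s⁻¹ * (g⁻¹ * x * g) ∈ Z := QuotientGroup.eq.mp hsg
    set z := s⁻¹ * (g⁻¹ * x * g) with hzdef
    obtain ⟨a, ha⟩ := S.2.exists_card_eq
    have hpow : ∀ u ∈ (S : Subgroup G), u ^ (p ^ a) = 1 := by
      intro u hu
      have h1 : (⟨u, hu⟩ : ↥(S : Subgroup G)) ^ (Nat.card (S : Subgroup G)) = 1 := pow_card_eq_one'
      rw [ha] at h1
      have := congrArg Subtype.val h1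
      simpa using this
    have e1 : g⁻¹ * x * g = s * z := by rw [hzdef]; group
    have hzq : z ^ (p ^ a) = 1 := by
      have e2 : (g⁻¹ * x * g) ^ (p ^ a) = 1 := by
        have e3 : g⁻¹ * x * g = g⁻¹ * x * g⁻¹⁻¹ := by rw [inv_inv]
        rw [e3, conj_pow, hpow x hx]
        group
      have hcomm : Commute s z := ((mem_center_iff.mp hz) s)
      rw [e1, hcomm.mul_pow, hpow s hs, one_mul] at e2
      exact e2
    have hzS : z ∈ (S : Subgroup G) := by
      have hzn : (zpowers z).Normal := by
        constructor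
        intro n hn g'
        have hnc : n ∈ Z := (zpowers_le.mpr hz) hn
        have : g' * n * g'⁻¹ = n := by
          rw [(mem_center_iff.mp hnc) g']; group
        rw [this]; exact hn
      have hzp : IsPGroup p (zpowers z) := by
        have hdvd : orderOf z ∣ p ^ a := orderOf_dvd_of_pow_eq_one hzq
        obtain ⟨b, -, hb'⟩ := (Nat.dvd_prime_pow hpp).mp hdvd
        apply IsPGroup.of_card (n := b)
        rw [Nat.card_zpowers, hb']
      exact hzp.le_sylow_of_normal S (mem_zpowers z)
    have hmem : g⁻¹ * x * g ∈ S := by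
      rw [e1]; exact (S : Subgroup G).mul_mem hs hzS
    have := hU g hmem
    rw [← QuotientGroup.mk_inv, ← QuotientGroup.mk_mul, ← QuotientGroup.mk_mul, this]
  · intro Hbar hcop hinv hbar hhbar
    obtain ⟨h, rfl⟩ := QuotientGroup.mk_surjective hbar
    set H := Hbar.comap (QuotientGroup.mk' Z) with hH
    have hhH : h ∈ H := hhbar
    have hZH : Z ≤ H := by
      intro z hz
      show QuotientGroup.mk' Z z ∈ Hbar
      have : QuotientGroup.mk' Z z = 1 := (QuotientGroup.eq_one_iff z).mpr hz
      rw [this]; exact one_mem _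
    -- x normalizes H
    have hxH : ∀ u ∈ H, x * u * x⁻¹ ∈ H := by
      intro u hu
      show QuotientGroup.mk' Z (x * u * x⁻¹) ∈ Hbar
      have := hinv _ hu
      simpa using this
    have hxN : x ∈ normalizer (H : Set G) := mem_normalizer_of_conj_mem hxH
    have hxH' : ∀ u ∈ H, x⁻¹ * u * x ∈ H := by
      intro u hu
      have := (mem_normalizer_iff.mp (inv_mem hxN) u).mp hu
      simpa using this
    -- the index of the centre of H
    have hidx : ¬ p ∣ (center ↥H).index := by
      have h1 : (Z.subgroupOf H) ≤ center ↥H := by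
        intro u hu
        rw [mem_subgroupOf] at hu
        rw [mem_center_iff]
        intro v
        exact Subtype.ext ((mem_center_iff.mp hu) v)
      have h2 : (Z.subgroupOf H).index = Nat.card Hbar := by
        show Z.relIndex H = Nat.card Hbar
        have e : Z = (⊥ : Subgroup (G ⧸ Z)).comap (QuotientGroup.mk' Z) := by
          rw [MonoidHom.comap_bot, QuotientGroup.ker_mk']
        rw [e, hH, Subgroup.relIndex_comap,
          Subgroup.map_comap_eq_self_of_surjective (QuotientGroup.mk'_surjective Z),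
          Subgroup.relIndex_bot_left]
      intro hdvd
      have h3 : p ∣ Nat.card Hbar := h2 ▸ (hdvd.trans (Subgroup.index_dvd_of_le h1))
      have h4 : p ∣ Nat.gcd (Nat.card Hbar) p := Nat.dvd_gcd h3 dvd_rfl
      rw [hcop] at h4
      exact hpp.one_lt.ne' (Nat.dvd_one.mp h4)
    obtain ⟨k, hk⟩ := exists_pow_mem_pPrimeCore_of_central hidx (⟨h, hhH⟩ : ↥H)
    -- the p'-core of H is x-invariant
    let φ : ↥H ≃* ↥H :=
      { toFun := fun u => ⟨x * u * x⁻¹, hxH u u.2⟩
        invFun := fun u => ⟨x⁻¹ * u * x, hxH' u u.2⟩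
        left_inv := fun u => Subtype.ext (by simp only []; group)
        right_inv := fun u => Subtype.ext (by simp only []; group)
        map_mul' := fun u v => Subtype.ext (by simp only [Subgroup.coe_mul]; group) }
    set K₀ := Cfsg.pPrimeCore p ↥H with hK₀
    have hφK : K₀.map φ.toMonoidHom = K₀ := Cfsg.Agent.Helper22.pPrimeCore_map_equiv p φ
    have hKcop : (Nat.card (K₀.map H.subtype)).Coprime p := by
      rw [Subgroup.card_map_of_injective H.subtype_injective]
      exact Cfsg.Agent.Helper22.card_pPrimeCore_coprime p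
    have hKinv : ∀ u ∈ K₀.map H.subtype, x * u * x⁻¹ ∈ K₀.map H.subtype := by
      rintro _ ⟨u, hu, rfl⟩
      have : φ u ∈ K₀ := by
        rw [← hφK]; exact ⟨u, hu, rfl⟩
      exact ⟨φ u, this, rfl⟩
    have hcent := hb (K₀.map H.subtype) hKcop hKinv (h ^ (p ^ k)) ⟨_, hk, by simp⟩
    -- conclude in the quotient
    have e1 : (x * h * x⁻¹) ^ (p ^ k) = h ^ (p ^ k) := by
      rw [conj_pow]
      calc x * h ^ (p ^ k) * x⁻¹ = h ^ (p ^ k) * x * x⁻¹ := by rw [hcent]
        _ = h ^ (p ^ k) := by group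
    have hmem1 : (QuotientGroup.mk (x * h * x⁻¹) : G ⧸ Z) ∈ Hbar := hxH h hhH
    have hinj := (Nat.Coprime.pow_left_bijective (G := ↥Hbar) (n := p ^ k)
      (Nat.Coprime.pow_right k hcop)).1
    have e2 : (⟨QuotientGroup.mk (x * h * x⁻¹), hmem1⟩ : ↥Hbar) = ⟨QuotientGroup.mk h, hhbar⟩ := by
      apply hinj
      apply Subtype.ext
      show (QuotientGroup.mk (x * h * x⁻¹) : G ⧸ Z) ^ (p ^ k) = (QuotientGroup.mk h) ^ (p ^ k)
      rw [← QuotientGroup.mk_pow, ← QuotientGroup.mk_pow, e1]
    have e3 : (QuotientGroup.mk (x * h * x⁻¹) : G ⧸ Z) = QuotientGroup.mk h :=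
      congrArg Subtype.val e2
    have e4 : x * h = (x * h * x⁻¹) * x := by group
    calc (QuotientGroup.mk x : G ⧸ Z) * QuotientGroup.mk h = QuotientGroup.mk (x * h) := rfl
      _ = QuotientGroup.mk ((x * h * x⁻¹) * x) := by rw [← e4]
      _ = QuotientGroup.mk (x * h * x⁻¹) * QuotientGroup.mk x := rfl
      _ = QuotientGroup.mk h * QuotientGroup.mk x := by rw [e3]

universe u

/-- Glauberman-type criterion: a `p`-element that is the only conjugate of itself in a Sylow
`p`-subgroup and centralizes every `p'`-subgroup it normalizes is central. Induction on `|G|`;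
the minimal case is settled by Frobenius' theorem. -/
theorem mem_center_of_weaklyClosed_aux (n : ℕ) :
    ∀ (G : Type u) [Group G] [Finite G], Nat.card G = n →
    ∀ (p : ℕ) [Fact p.Prime] (S : Sylow p G) (x : G), x ∈ S →
      (∀ g : G, g⁻¹ * x * g ∈ S → g⁻¹ * x * g = x) →
      (∀ H : Subgroup G, (Nat.card H).Coprime p → (∀ h ∈ H, x * h * x⁻¹ ∈ H) →
        ∀ h ∈ H, x * h = h * x) →
      x ∈ center G := by
  induction n using Nat.strong_induction_on with
  | _ n ih =>
    intro G _ _ hcard p _ S x hx hU hb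
    classical
    have hpp : p.Prime := Fact.out
    -- Step A: a conjugate of x either equals x or generates G with x
    have stepA : ∀ g : G, g⁻¹ * x * g = x ∨ closure {x, g⁻¹ * x * g} = ⊤ := by
      intro g
      by_cases htop : closure {x, g⁻¹ * x * g} = ⊤
      · right; exact htop
      · left
        set K := closure {x, g⁻¹ * x * g} with hK
        have hxK : x ∈ K := Subgroup.subset_closure (by simp)
        have hyK : g⁻¹ * x * g ∈ K := Subgroup.subset_closure (by simp)
        have hlt : Nat.card K < n := by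
          rw [← hcard]
          exact lt_of_le_of_ne (Subgroup.card_le_card_group K)
            (fun h => htop ((Subgroup.card_eq_iff_eq_top K).mp h))
        obtain ⟨SK, hxSK, hUK, hbK⟩ := weaklyClosed_inherit_subgroup S x hx hU hb K hxK
        have hcen := ih (Nat.card K) hlt ↥K rfl p SK ⟨x, hxK⟩ hxSK hUK hbK
        have hcomm : x * (g⁻¹ * x * g) = (g⁻¹ * x * g) * x := by
          have := (mem_center_iff.mp hcen) ⟨g⁻¹ * x * g, hyK⟩
          exact (congrArg Subtype.val this).symm
        exact eq_of_commute_conj S x hx hU g hcomm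
    by_cases hZ : center G = ⊥
    · -- Frobenius case
      by_contra hxc
      set M := centralizer ({x} : Set G) with hM
      have hxM : x ∈ M := by rw [hM, mem_centralizer_singleton_iff]
      have hM1 : M ≠ ⊥ := by
        intro h
        apply hxc
        have : x = 1 := by
          have := hxM
          rw [h, mem_bot] at this
          exact this
        rw [this]; exact one_mem _
      have hM2 : M ≠ ⊤ := by
        intro h
        apply hxc
        rw [mem_center_iff]
        intro g
        have : g ∈ M := by rw [h]; exact mem_top g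
        rw [hM, mem_centralizer_singleton_iff] at this
        exact this
      have hfrob : Cfsg.IsFrobeniusComplement M := by
        refine ⟨hM1, hM2, ?_⟩
        intro g hg
        rw [eq_bot_iff]
        intro u hu
        rw [mem_bot]
        have hne : (g⁻¹)⁻¹ * x * g⁻¹ ≠ x := by
          intro h
          apply hg
          rw [hM, mem_centralizer_singleton_iff]
          calc g * x = ((g⁻¹)⁻¹ * x * g⁻¹) * g := by group
            _ = x * g := by rw [h]
        have htop := (stepA g⁻¹).resolve_left hne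
        have hu' := Subgroup.mem_inf.mp hu
        have hu1 : u * x = x * u := by
          have := hu'.1
          rw [hM, mem_centralizer_singleton_iff] at this
          exact this
        have hu2 : u * ((g⁻¹)⁻¹ * x * g⁻¹) = ((g⁻¹)⁻¹ * x * g⁻¹) * u := by
          have h2 := hu'.2
          rw [Subgroup.mem_pointwise_smul_iff_inv_smul_mem] at h2
          have h3 : g⁻¹ * u * g ∈ M := by simpa [MulAut.smul_def, MulAut.conj_apply] using h2
          rw [hM, mem_centralizer_singleton_iff] at h3
          calc u * ((g⁻¹)⁻¹ * x * g⁻¹) = g * ((g⁻¹ * u * g) * x) * g⁻¹ := by group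
            _ = g * (x * (g⁻¹ * u * g)) * g⁻¹ := by rw [h3]
            _ = ((g⁻¹)⁻¹ * x * g⁻¹) * u := by group
        have hucen : u ∈ centralizer ((closure {x, (g⁻¹)⁻¹ * x * g⁻¹} : Subgroup G) : Set G) := by
          rw [centralizer_closure, mem_centralizer_iff]
          intro w hw
          rcases hw with rfl | hw
          · exact hu1.symm
          · rw [Set.mem_singleton_iff] at hw
            rw [hw]; exact hu2.symm
        rw [htop, coe_top, centralizer_univ, hZ, mem_bot] at hucen
        exact hucen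
      obtain ⟨N, -, hNn, hcompl⟩ := Cfsg.Agent.S0035.result M hfrob
      have hcardNM : Nat.card N * Nat.card M = Nat.card G := hcompl.card_mul_card
      have hSM : (S : Subgroup G) ≤ M := by
        intro s hs
        rw [hM, mem_centralizer_singleton_iff]
        have h1 : s⁻¹ * x * s ∈ S :=
          (S : Subgroup G).mul_mem ((S : Subgroup G).mul_mem (inv_mem hs) hx) hs
        have h2 := hU s h1
        calc s * x = s * (s⁻¹ * x * s) := by rw [h2]
          _ = x * s := by group
      have hNcop : (Nat.card N).Coprime p := by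
        rw [Nat.coprime_comm, Nat.Prime.coprime_iff_not_dvd hpp]
        intro hdvd
        have h1 : Nat.card (S : Subgroup G) ∣ Nat.card M := Subgroup.card_dvd_of_le hSM
        have h2 : p * Nat.card (S : Subgroup G) ∣ Nat.card G := by
          rw [← hcardNM]; exact Nat.mul_dvd_mul hdvd h1
        have h3 : Nat.card (S : Subgroup G) * (S : Subgroup G).index = Nat.card G :=
          (S : Subgroup G).card_mul_index
        rw [← h3, mul_comm p] at h2
        exact S.not_dvd_index (Nat.dvd_of_mul_dvd_mul_left Nat.card_pos h2)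
      have hNM : N ≤ M := by
        intro v hv
        rw [hM, mem_centralizer_singleton_iff]
        exact (hb N hNcop (fun h hh => hNn.conj_mem h hh x) v hv).symm
      have hNbot : N = ⊥ := by
        have := hcompl.disjoint
        rw [disjoint_iff, inf_eq_left.mpr hNM] at this
        exact this
      apply hM2
      apply (Subgroup.card_eq_iff_eq_top M).mp
      rw [← hcardNM, hNbot, Subgroup.card_bot, one_mul]
    · -- quotient by the centre
      have hlt : Nat.card (G ⧸ center G) < n := by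
        rw [← hcard, Subgroup.card_eq_card_quotient_mul_card_subgroup (center G)]
        have h2 : 1 < Nat.card (center G) := by
          rw [Subgroup.one_lt_card_iff_ne_bot]; exact hZ
        have h1 : 0 < Nat.card (G ⧸ center G) := Nat.card_pos
        nlinarith
      obtain ⟨SQ, hxSQ, hUQ, hbQ⟩ := weaklyClosed_inherit_quotient S x hx hU hb
      have hcen := ih _ hlt (G ⧸ center G) rfl p SQ _ hxSQ hUQ hbQ
      rw [mem_center_iff]
      intro g
      have h1 := (mem_center_iff.mp hcen) (QuotientGroup.mk g)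
      have h2 : (g * x)⁻¹ * (x * g) ∈ center G := by
        apply QuotientGroup.eq.mp
        exact h1
      have hcomm : x * (g⁻¹ * x * g) = (g⁻¹ * x * g) * x := by
        have e : g⁻¹ * x * g = x * ((g * x)⁻¹ * (x * g)) := by group
        have hw := (mem_center_iff.mp h2) x
        rw [e, mul_assoc x _ x, ← hw]
      have h3 := eq_of_commute_conj S x hx hU g hcomm
      calc g * x = g * (g⁻¹ * x * g) := by rw [h3]
        _ = x * g := by group

/-- Glauberman-type criterion (see `mem_center_of_weaklyClosed_aux`). -/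
theorem mem_center_of_weaklyClosed {G : Type u} [Group G] [Finite G] {p : ℕ} [Fact p.Prime]
    (S : Sylow p G) (x : G) (hx : x ∈ S)
    (hU : ∀ g : G, g⁻¹ * x * g ∈ S → g⁻¹ * x * g = x)
    (hb : ∀ H : Subgroup G, (Nat.card H).Coprime p → (∀ h ∈ H, x * h * x⁻¹ ∈ H) →
      ∀ h ∈ H, x * h = h * x) : x ∈ center G :=
  mem_center_of_weaklyClosed_aux (Nat.card G) G rfl p S x hx hU hb

end Cfsg.Agent.Helper9
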